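/-
S5630 / module M8.3, piece M83-C (helper21): algebra of pure tensors `pureT`, position
embeddings `posEmb` and factor permutations `permMat` on the index type `Fin t → Fin m`.
Exact signatures of tools/blueprints/S5630_M83_sigs.lean.
-/
import Cfsg.Agent.Lib.H16.AschM83Defs
import Cfsg.Agent.Lib.Lead.AschDefs2

set_option autoImplicit false

namespace Cfsg.Agent.Lib.H21.Asch

open Cfsg Cfsg.Geo Cfsg.Agent.Lib.Lead.Asch Cfsg.Agent.Lib.H16.Asch
open scoped MatrixGroups Matrix Kronecker

variable {F : Type*} [Field F] {n : ℕ}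

section ring

variable {R : Type*} [CommRing R] {m t : ℕ}

theorem pureT_apply (gs : Fin t → Matrix (Fin m) (Fin m) R) (x y : Fin t → Fin m) :
    pureT gs x y = ∏ i, gs i (x i) (y i) := rfl

theorem pureT_mul (gs hs : Fin t → Matrix (Fin m) (Fin m) R) :
    pureT (fun i => gs i * hs i) = pureT gs * pureT hs := by
  ext x y
  rw [Matrix.mul_apply, pureT_apply]
  simp only [pureT_apply, Matrix.mul_apply]
  rw [Finset.prod_univ_sum]
  simp only [Fintype.piFinset_univ, Finset.prod_mul_distrib]

theorem pureT_one :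
    pureT (fun _ : Fin t => (1 : Matrix (Fin m) (Fin m) R)) = 1 := by
  ext x y
  rw [pureT_apply]
  by_cases h : x = y
  · subst h
    simp
  · rw [Matrix.one_apply_ne h]
    obtain ⟨i, hi⟩ := Function.ne_iff.mp h
    exact Finset.prod_eq_zero (Finset.mem_univ i) (Matrix.one_apply_ne hi)

theorem pureT_transpose (gs : Fin t → Matrix (Fin m) (Fin m) R) :
    (pureT gs)ᵀ = pureT (fun i => (gs i)ᵀ) := by
  ext x y
  simp [pureT_apply, Matrix.transpose_apply]

theorem pureT_update_apply (gs : Fin t → Matrix (Fin m) (Fin m) R) (i : Fin t)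
    (c : Matrix (Fin m) (Fin m) R) (x y : Fin t → Fin m) :
    pureT (Function.update gs i c) x y =
      c (x i) (y i) * ∏ j ∈ Finset.univ.erase i, gs j (x j) (y j) := by
  rw [pureT_apply, ← Finset.mul_prod_erase Finset.univ _ (Finset.mem_univ i), Function.update_self]
  congr 1
  refine Finset.prod_congr rfl fun j hj => ?_
  rw [Function.update_of_ne (Finset.ne_of_mem_erase hj)]

theorem pureT_update_add (gs : Fin t → Matrix (Fin m) (Fin m) R)
    (i : Fin t) (a b : Matrix (Fin m) (Fin m) R) :
    pureT (Function.update gs i (a + b)) =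
      pureT (Function.update gs i a) + pureT (Function.update gs i b) := by
  ext x y
  rw [Matrix.add_apply, pureT_update_apply, pureT_update_apply, pureT_update_apply,
    Matrix.add_apply, add_mul]

theorem pureT_update_smul (gs : Fin t → Matrix (Fin m) (Fin m) R)
    (i : Fin t) (c : R) (a : Matrix (Fin m) (Fin m) R) :
    pureT (Function.update gs i (c • a)) = c • pureT (Function.update gs i a) := by
  ext x y
  rw [Matrix.smul_apply, pureT_update_apply, pureT_update_apply, Matrix.smul_apply, smul_eq_mul,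
    smul_eq_mul, mul_assoc]

theorem posEmb_def (i : Fin t) (a : Matrix (Fin m) (Fin m) R) :
    posEmb i a = pureT (Function.update (fun _ => (1 : Matrix (Fin m) (Fin m) R)) i a) := rfl

theorem posEmb_mul (i : Fin t) (a b : Matrix (Fin m) (Fin m) R) :
    posEmb i (a * b) = posEmb i a * posEmb i b := by
  rw [posEmb_def, posEmb_def, posEmb_def, ← pureT_mul]
  congr 1
  funext j
  by_cases hj : j = i
  · subst hj
    simp
  · simp [Function.update_of_ne hj]

theorem posEmb_one (i : Fin t) :
    posEmb i (1 : Matrix (Fin m) (Fin m) R) = 1 := by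
  rw [posEmb_def, Function.update_eq_self_iff.mpr rfl, pureT_one]

theorem posEmb_add (i : Fin t) (a b : Matrix (Fin m) (Fin m) R) :
    posEmb i (a + b) = posEmb i a + posEmb i b :=
  pureT_update_add _ i a b

theorem posEmb_smul (i : Fin t) (c : R)
    (a : Matrix (Fin m) (Fin m) R) : posEmb i (c • a) = c • posEmb i a :=
  pureT_update_smul _ i c a

theorem posEmb_comm (i j : Fin t) (hij : i ≠ j)
    (a b : Matrix (Fin m) (Fin m) R) : posEmb i a * posEmb j b = posEmb j b * posEmb i a := by
  rw [posEmb_def, posEmb_def, ← pureT_mul, ← pureT_mul]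
  congr 1
  funext k
  by_cases hk : k = i
  · subst hk
    simp [Function.update_of_ne hij]
  · by_cases hk' : k = j
    · subst hk'
      simp [Function.update_of_ne hk]
    · simp [Function.update_of_ne hk, Function.update_of_ne hk']

/-- conjugating a position embedding by a pure tensor of invertible matrices -/
theorem pureT_mul_posEmb (gs gs' : Fin t → Matrix (Fin m) (Fin m) R)
    (hgs : ∀ j, gs j * gs' j = 1) (i : Fin t) (a : Matrix (Fin m) (Fin m) R) :
    pureT gs * posEmb i a * pureT gs' = posEmb i (gs i * a * gs' i) := by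
  rw [posEmb_def, posEmb_def, ← pureT_mul, ← pureT_mul]
  congr 1
  funext k
  by_cases hk : k = i
  · subst hk
    simp
  · simp [Function.update_of_ne hk, hgs k]

/-- every matrix unit is a pure tensor of matrix units -/
theorem single_eq_pureT (x y : Fin t → Fin m) :
    (Matrix.single x y (1 : R) : Matrix (Fin t → Fin m) (Fin t → Fin m) R) =
      pureT (fun i => Matrix.single (x i) (y i) (1 : R)) := by
  ext x' y'
  rw [pureT_apply, Matrix.single_apply]
  by_cases h : x = x' ∧ y = y'
  · obtain ⟨rfl, rfl⟩ := h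
    simp
  · rw [if_neg h]
    symm
    rw [not_and_or] at h
    rcases h with h | h
    · obtain ⟨i, hi⟩ := Function.ne_iff.mp h
      refine Finset.prod_eq_zero (Finset.mem_univ i) ?_
      rw [Matrix.single_apply, if_neg (fun hh => hi hh.1)]
    · obtain ⟨i, hi⟩ := Function.ne_iff.mp h
      refine Finset.prod_eq_zero (Finset.mem_univ i) ?_
      rw [Matrix.single_apply, if_neg (fun hh => hi hh.2)]

theorem posEmb_injective [Nontrivial R] (hm : 0 < m) (i : Fin t) :
    Function.Injective (posEmb (R := R) (m := m) i) := by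
  intro a b hab
  ext p q
  have h := congrFun (congrFun hab (Function.update (fun _ => (⟨0, hm⟩ : Fin m)) i p))
    (Function.update (fun _ => (⟨0, hm⟩ : Fin m)) i q)
  rw [posEmb_def, posEmb_def, pureT_update_apply, pureT_update_apply] at h
  have hprod : ∏ j ∈ Finset.univ.erase i, (1 : Matrix (Fin m) (Fin m) R)
      (Function.update (fun _ => (⟨0, hm⟩ : Fin m)) i p j)
      (Function.update (fun _ => (⟨0, hm⟩ : Fin m)) i q j) = 1 := by
    refine Finset.prod_eq_one fun j hj => ?_
    rw [Function.update_of_ne (Finset.ne_of_mem_erase hj),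
      Function.update_of_ne (Finset.ne_of_mem_erase hj), Matrix.one_apply_eq]
  rw [hprod, mul_one, mul_one, Function.update_self, Function.update_self] at h
  exact h

theorem permMat_apply (σ : Equiv.Perm (Fin t)) (x y : Fin t → Fin m) :
    (permMat σ : Matrix (Fin t → Fin m) (Fin t → Fin m) R) x y = if y = x ∘ σ then 1 else 0 := rfl

theorem permMat_mul_apply (σ : Equiv.Perm (Fin t)) (M : Matrix (Fin t → Fin m) (Fin t → Fin m) R)
    (x y : Fin t → Fin m) :
    ((permMat σ : Matrix (Fin t → Fin m) (Fin t → Fin m) R) * M) x y = M (x ∘ σ) y := by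
  rw [Matrix.mul_apply, Finset.sum_eq_single (x ∘ σ)]
  · rw [permMat_apply, if_pos rfl, one_mul]
  · intro z _ hz
    rw [permMat_apply, if_neg hz, zero_mul]
  · intro h
    exact absurd (Finset.mem_univ _) h

theorem mul_permMat_apply (σ : Equiv.Perm (Fin t)) (M : Matrix (Fin t → Fin m) (Fin t → Fin m) R)
    (x y : Fin t → Fin m) :
    (M * (permMat σ : Matrix (Fin t → Fin m) (Fin t → Fin m) R)) x y = M x (y ∘ σ.symm) := by
  rw [Matrix.mul_apply, Finset.sum_eq_single (y ∘ σ.symm)]
  · rw [permMat_apply, if_pos, mul_one]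
    funext k
    simp
  · intro z _ hz
    rw [permMat_apply, if_neg, mul_zero]
    intro hy
    apply hz
    rw [hy]
    funext k
    simp
  · intro h
    exact absurd (Finset.mem_univ _) h

theorem permMat_mul (σ τ : Equiv.Perm (Fin t)) :
    (permMat (σ * τ) : Matrix (Fin t → Fin m) (Fin t → Fin m) R) = permMat σ * permMat τ := by
  ext x y
  rw [permMat_mul_apply, permMat_apply, permMat_apply]
  rfl

theorem permMat_one :
    (permMat (1 : Equiv.Perm (Fin t)) : Matrix (Fin t → Fin m) (Fin t → Fin m) R) = 1 := by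
  ext x y
  rw [permMat_apply, Matrix.one_apply]
  have : x ∘ (1 : Equiv.Perm (Fin t)) = x := rfl
  rw [this]
  by_cases h : x = y
  · rw [if_pos h, if_pos h.symm]
  · rw [if_neg h, if_neg (fun hh => h hh.symm)]

theorem permMat_mul_pureT (σ : Equiv.Perm (Fin t)) (gs : Fin t → Matrix (Fin m) (Fin m) R) :
    (permMat σ : Matrix (Fin t → Fin m) (Fin t → Fin m) R) * pureT gs =
      pureT (fun k => gs (σ.symm k)) * permMat σ := by
  ext x y
  rw [permMat_mul_apply, mul_permMat_apply, pureT_apply, pureT_apply]
  rw [← Equiv.prod_comp σ (fun k => gs (σ.symm k) (x k) ((y ∘ σ.symm) k))]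
  refine Finset.prod_congr rfl fun j _ => ?_
  simp

theorem permMat_mul_posEmb (σ : Equiv.Perm (Fin t)) (i : Fin t)
    (a : Matrix (Fin m) (Fin m) R) :
    (permMat σ : Matrix (Fin t → Fin m) (Fin t → Fin m) R) * posEmb i a =
      posEmb (σ i) a * permMat σ := by
  rw [posEmb_def, posEmb_def, permMat_mul_pureT]
  congr 2
  funext k
  by_cases hk : k = σ i
  · subst hk
    simp
  · have : σ.symm k ≠ i := fun h => hk (by rw [← h]; simp)
    rw [Function.update_of_ne hk, Function.update_of_ne this]

end ring

/-- membership in the class-7 group from the normal form `Q (perm * pure) Q⁻¹`. -/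
theorem mem_tensorWreathSubgroup_of_eq {m t : ℕ} (e : Fin n ≃ (Fin t → Fin m))
    (Q h : GL (Fin n) F) (σ : Equiv.Perm (Fin t)) (gs : Fin t → GL (Fin m) F)
    (hh : (h : Matrix (Fin n) (Fin n) F) =
      (Q : Matrix (Fin n) (Fin n) F) *
        Matrix.reindex e.symm e.symm
          (permMat σ * pureT (fun i => ((gs i : GL (Fin m) F) : Matrix (Fin m) (Fin m) F))) *
        ((Q⁻¹ : GL (Fin n) F) : Matrix (Fin n) (Fin n) F)) :
    h ∈ tensorWreathSubgroup m t e Q := by
  -- the two generators
  let gP : GL (Fin t → Fin m) F :=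
    ⟨permMat σ, permMat σ⁻¹, by rw [← permMat_mul, mul_inv_cancel, permMat_one],
      by rw [← permMat_mul, inv_mul_cancel, permMat_one]⟩
  let gT : GL (Fin t → Fin m) F :=
    ⟨pureT (fun i => ((gs i : GL (Fin m) F) : Matrix (Fin m) (Fin m) F)),
      pureT (fun i => (((gs i)⁻¹ : GL (Fin m) F) : Matrix (Fin m) (Fin m) F)),
      by
        rw [← pureT_mul]
        have : (fun i => ((gs i : GL (Fin m) F) : Matrix (Fin m) (Fin m) F) *
            (((gs i)⁻¹ : GL (Fin m) F) : Matrix (Fin m) (Fin m) F)) = fun _ => 1 := by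
          funext i
          rw [← Units.val_mul, mul_inv_cancel, Units.val_one]
        rw [this, pureT_one],
      by
        rw [← pureT_mul]
        have : (fun i => (((gs i)⁻¹ : GL (Fin m) F) : Matrix (Fin m) (Fin m) F) *
            ((gs i : GL (Fin m) F) : Matrix (Fin m) (Fin m) F)) = fun _ => 1 := by
          funext i
          rw [← Units.val_mul, inv_mul_cancel, Units.val_one]
        rw [this, pureT_one]⟩
  have hP : gP ∈ tensorWreathStandard m t F :=
    Subgroup.subset_closure (Or.inr ⟨σ, fun x y => rfl⟩)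
  have hT : gT ∈ tensorWreathStandard m t F :=
    Subgroup.subset_closure (Or.inl ⟨gs, fun x y => rfl⟩)
  have hg : gP * gT ∈ tensorWreathStandard m t F := Subgroup.mul_mem _ hP hT
  unfold tensorWreathSubgroup
  refine ⟨glReindex e.symm (gP * gT), ⟨gP * gT, hg, rfl⟩, ?_⟩
  apply Units.ext
  rw [hh]
  simp only [MulEquiv.coe_toMonoidHom, MulAut.conj_apply, Units.val_mul]
  rfl

theorem two_transpose_J_mul (a : Matrix (Fin 2) (Fin 2) F) (ha : a.det = 1) :
    aᵀ * (!![0, 1; -1, 0] : Matrix (Fin 2) (Fin 2) F) * a = !![0, 1; -1, 0] := by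
  rw [Matrix.det_fin_two] at ha
  ext i j
  fin_cases i <;> fin_cases j <;>
    simp [Matrix.mul_apply, Fin.sum_univ_two] <;>
    first | ring1 | linear_combination ha | linear_combination (-1 : F) * ha

/-- the `t`-fold tensor power of the alternating 2 × 2 form is fixed by a factor of determinant 1. -/
theorem posEmb_fixes_pureT_J {t : ℕ} (i : Fin t) (a : Matrix (Fin 2) (Fin 2) F) (ha : a.det = 1) :
    (posEmb i a)ᵀ * pureT (fun _ : Fin t => (!![0, 1; -1, 0] : Matrix (Fin 2) (Fin 2) F)) * posEmb i a =
      pureT (fun _ : Fin t => (!![0, 1; -1, 0] : Matrix (Fin 2) (Fin 2) F)) := by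
  rw [posEmb_def, pureT_transpose, ← pureT_mul, ← pureT_mul]
  congr 1
  funext k
  by_cases hk : k = i
  · subst hk
    simp only [Function.update_self]
    exact two_transpose_J_mul a ha
  · simp [Function.update_of_ne hk]

theorem pureT_J_ne_zero {t : ℕ} :
    pureT (fun _ : Fin t => (!![0, 1; -1, 0] : Matrix (Fin 2) (Fin 2) F)) ≠ 0 := by
  intro h
  have := congrFun (congrFun h (fun _ => 0)) (fun _ => 1)
  rw [pureT_apply] at this
  simp at this

end Cfsg.Agent.Lib.H21.Asch
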