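import Mathlib
import Cfsg.Agent.Lib.H8.Nilpotent

set_option autoImplicit false

open Subgroup

namespace Cfsg.Agent.Lib.H21.Ito

variable {G : Type*} [Group G]

/-- centralizer of an element -/
abbrev Cx (x : G) : Subgroup G := centralizer ({x} : Set G)

lemma mem_Cx {x g : G} : g ∈ Cx x ↔ g * x = x * g := mem_centralizer_singleton_iff

lemma self_mem_Cx (x : G) : x ∈ Cx x := mem_Cx.2 rfl

lemma center_le_Cx (x : G) : center G ≤ Cx x := by
  intro z hz
  rw [mem_Cx]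
  exact (Subgroup.mem_center_iff.1 hz x).symm

lemma Cx_eq_top_iff {x : G} : Cx x = ⊤ ↔ x ∈ center G := by
  constructor
  · intro h
    rw [Subgroup.mem_center_iff]
    intro g
    have : g ∈ Cx x := h ▸ Subgroup.mem_top g
    exact mem_Cx.1 this
  · intro h
    rw [eq_top_iff]
    intro g _
    rw [mem_Cx]
    exact Subgroup.mem_center_iff.1 h g

lemma Cx_le_of_mem_zpowers {u v : G} (h : v ∈ zpowers u) : Cx u ≤ Cx v := by
  intro g hg
  rw [mem_Cx] at hg ⊢
  obtain ⟨k, rfl⟩ := Subgroup.mem_zpowers_iff.1 h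
  have hc : Commute g u := hg
  exact (hc.zpow_right k).eq

lemma zpowers_le_Cx {x a : G} (ha : a ∈ Cx x) : zpowers a ≤ Cx x := by
  rw [Subgroup.zpowers_le]; exact ha

/-- Two class sizes `1` and `n`. -/
structure Two (G : Type*) [Group G] (n : ℕ) : Prop where
  two : ∀ x : G, (Cx x).index = 1 ∨ (Cx x).index = n
  one_lt : 1 < n

variable [Finite G] {n : ℕ}

lemma Two.index_eq (h : Two G n) {x : G} (hx : x ∉ center G) : (Cx x).index = n := by
  rcases h.two x with h1 | h1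
  · exact absurd (Cx_eq_top_iff.1 (Subgroup.index_eq_one.1 h1)) hx
  · exact h1

lemma Two.card_Cx (h : Two G n) {x : G} (hx : x ∉ center G) :
    Nat.card (Cx x) * n = Nat.card G := by
  rw [← h.index_eq hx]; exact Subgroup.card_mul_index _

lemma Two.card_Cx_eq (h : Two G n) {u v : G} (hu : u ∉ center G) (hv : v ∉ center G) :
    Nat.card (Cx u) = Nat.card (Cx v) := by
  have h1 := h.card_Cx hu
  have h2 := h.card_Cx hv
  have hn : 0 < n := by have := h.one_lt; omega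
  exact Nat.eq_of_mul_eq_mul_right hn (h1.trans h2.symm)

lemma Two.Cx_eq_of_le (h : Two G n) {u v : G} (hu : u ∉ center G) (hv : v ∉ center G)
    (hle : Cx u ≤ Cx v) : Cx u = Cx v :=
  Subgroup.eq_of_le_of_card_ge hle (h.card_Cx_eq hu hv).ge

/-- noncentral `x`, `y` commuting with `x`, coprime orders: `C(x) ≤ C(y)`. -/
lemma Two.Cx_le_of_coprime (h : Two G n) {x y : G} (hx : x ∉ center G) (hxy : y * x = x * y)
    (hcop : (orderOf x).Coprime (orderOf y)) : Cx x ≤ Cx y := by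
  have hc : Commute x y := hxy.symm
  -- x and y are powers of x*y
  have hx' : x ∈ zpowers (x * y) := by
    obtain ⟨m, hm⟩ := exists_pow_eq_self_of_coprime (x := x) (n := orderOf y) hcop.symm
    have e : (x * y) ^ orderOf y = x ^ orderOf y := by
      rw [hc.mul_pow, pow_orderOf_eq_one, mul_one]
    have hmem : ((x * y) ^ orderOf y) ^ m ∈ zpowers (x * y) :=
      Subgroup.pow_mem _ (Subgroup.pow_mem _ (Subgroup.mem_zpowers _) _) _
    rwa [e, hm] at hmem
  have hy' : y ∈ zpowers (x * y) := by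
    obtain ⟨m, hm⟩ := exists_pow_eq_self_of_coprime (x := y) (n := orderOf x) hcop
    have e : (x * y) ^ orderOf x = y ^ orderOf x := by
      rw [hc.mul_pow, pow_orderOf_eq_one, one_mul]
    have hmem : ((x * y) ^ orderOf x) ^ m ∈ zpowers (x * y) :=
      Subgroup.pow_mem _ (Subgroup.pow_mem _ (Subgroup.mem_zpowers _) _) _
    rwa [e, hm] at hmem
  have hxyZ : x * y ∉ center G := by
    intro hz
    apply hx
    have : zpowers (x * y) ≤ center G := by rw [Subgroup.zpowers_le]; exact hz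
    exact this hx'
  have h1 : Cx (x * y) ≤ Cx x := Cx_le_of_mem_zpowers hx'
  have h2 : Cx (x * y) ≤ Cx y := Cx_le_of_mem_zpowers hy'
  have h3 := h.Cx_eq_of_le hxyZ hx h1
  rw [← h3]; exact h2

omit [Finite G] in
lemma orderOf_dvd_of_pow_prime_pow {p : ℕ} {x : G} (hx : ∃ k, x ^ (p ^ k) = 1) :
    ∃ k, orderOf x ∣ p ^ k := by
  obtain ⟨k, hk⟩ := hx
  exact ⟨k, orderOf_dvd_of_pow_eq_one hk⟩

/-- If a noncentral `p`-element commutes with a noncentral `q`-element then their common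
centralizer is abelian. -/
lemma Two.comm_of_two (h : Two G n) {p q : ℕ} (hp : p.Prime) (hq : q.Prime) (hpq : p ≠ q)
    {x y : G} (hx : x ∉ center G) (hy : y ∉ center G) (hxp : ∃ k, x ^ (p ^ k) = 1)
    (hyq : ∃ k, y ^ (q ^ k) = 1) (hxy : y * x = x * y) :
    ∀ a ∈ Cx x, ∀ b ∈ Cx x, a * b = b * a := by
  obtain ⟨k, hk⟩ := orderOf_dvd_of_pow_prime_pow hxp
  obtain ⟨j, hj⟩ := orderOf_dvd_of_pow_prime_pow hyq
  have hpq' : Nat.Coprime p q := (Nat.coprime_primes hp hq).2 hpq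
  have hcop : (orderOf x).Coprime (orderOf y) :=
    Nat.Coprime.coprime_dvd_left hk (Nat.Coprime.coprime_dvd_right hj
      (Nat.Coprime.pow k j hpq'))
  have hle : Cx x ≤ Cx y := h.Cx_le_of_coprime hx hxy hcop
  have heq : Cx x = Cx y := h.Cx_eq_of_le hx hy hle
  intro a ha b hb
  have hao : orderOf a ≠ 0 := (orderOf_pos a).ne'
  obtain ⟨c₁, c₂, hc₁, hc₂, hac, ⟨i, hi⟩, hc₂cop⟩ :=
    Cfsg.Agent.Lib.H8.exists_p_decomp a hao p hp
  have hc₁C : c₁ ∈ Cx x := zpowers_le_Cx ha hc₁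
  have hc₂C : c₂ ∈ Cx x := zpowers_le_Cx ha hc₂
  -- b commutes with c₂
  have hb2 : b * c₂ = c₂ * b := by
    have hcop2 : (orderOf x).Coprime (orderOf c₂) :=
      Nat.Coprime.coprime_dvd_left hk (Nat.Coprime.pow_left k hc₂cop.symm)
    have := h.Cx_le_of_coprime hx (mem_Cx.1 hc₂C) hcop2
    exact mem_Cx.1 (this hb)
  -- b commutes with c₁
  have hb1 : b * c₁ = c₁ * b := by
    have hc1o : orderOf c₁ ∣ p ^ i := orderOf_dvd_of_pow_eq_one hi
    have hcop1 : (orderOf y).Coprime (orderOf c₁) :=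
      Nat.Coprime.coprime_dvd_left hj (Nat.Coprime.coprime_dvd_right hc1o
        (Nat.Coprime.pow j i hpq'.symm))
    have hc₁y : c₁ ∈ Cx y := heq ▸ hc₁C
    have := h.Cx_le_of_coprime hy (mem_Cx.1 hc₁y) hcop1
    exact mem_Cx.1 (this (heq ▸ hb))
  rw [hac]
  calc c₁ * c₂ * b = c₁ * (c₂ * b) := mul_assoc _ _ _
    _ = c₁ * (b * c₂) := by rw [hb2]
    _ = (c₁ * b) * c₂ := (mul_assoc _ _ _).symm
    _ = (b * c₁) * c₂ := by rw [hb1]
    _ = b * (c₁ * c₂) := mul_assoc _ _ _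

/-- A noncentral element has a noncentral power of prime power order. -/
lemma exists_prime_pow_part (u : G) (hu : u ∉ center G) :
    ∃ p : ℕ, p.Prime ∧ ∃ x ∈ zpowers u, x ∉ center G ∧ ∃ k, x ^ (p ^ k) = 1 := by
  induction' hN : orderOf u using Nat.strong_induction_on with N ih generalizing u
  have hN1 : N ≠ 1 := by
    intro h1
    rw [h1] at hN
    rw [orderOf_eq_one_iff] at hN
    exact hu (hN ▸ (center G).one_mem)
  have hN0 : orderOf u ≠ 0 := (orderOf_pos u).ne'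
  set p := N.minFac with hp_def
  have hp : p.Prime := Nat.minFac_prime hN1
  have hpN : p ∣ N := Nat.minFac_dvd N
  obtain ⟨c₁, c₂, hc₁, hc₂, hac, hc₁p, hc₂cop⟩ :=
    Cfsg.Agent.Lib.H8.exists_p_decomp u hN0 p hp
  by_cases h1 : c₁ ∈ center G
  · have h2 : c₂ ∉ center G := by
      intro h2
      apply hu
      rw [hac]
      exact (center G).mul_mem h1 h2
    have hdvd : orderOf c₂ ∣ N := hN ▸ orderOf_dvd_of_mem_zpowers hc₂
    have hlt : orderOf c₂ < N := by
      rcases (Nat.le_of_dvd (by rw [← hN]; exact orderOf_pos u) hdvd).lt_or_eq with hlt | heq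
      · exact hlt
      · exfalso
        rw [heq] at hc₂cop
        have := Nat.Coprime.eq_one_of_dvd hc₂cop.symm hpN
        exact hp.one_lt.ne' this
    obtain ⟨r, hr, x, hx, hxZ, hxr⟩ := ih _ hlt c₂ h2 rfl
    refine ⟨r, hr, x, ?_, hxZ, hxr⟩
    have : zpowers c₂ ≤ zpowers u := by rw [Subgroup.zpowers_le]; exact hc₂
    exact this hx
  · exact ⟨p, hp, c₁, hc₁, h1, hc₁p⟩

/-- `q`-part counting: a noncentral `q`-element forces `q^(v_q|Z|+1)` to divide `|C(u)|`. -/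
lemma Two.pow_dvd_card_Cx (h : Two G n) {q : ℕ} (hq : q.Prime) {y : G} (hy : y ∉ center G)
    (hyq : ∃ k, y ^ (q ^ k) = 1) {u : G} (hu : u ∉ center G) :
    q ^ ((Nat.card (center G)).factorization q + 1) ∣ Nat.card (Cx u) := by
  rw [h.card_Cx_eq hu hy]
  set Z := center G with hZ
  have hle : Z ⊔ zpowers y ≤ Cx y := sup_le (center_le_Cx y) (zpowers_le_Cx (self_mem_Cx y))
  have h1 : Nat.card (Z ⊔ zpowers y : Subgroup G) ∣ Nat.card (Cx y) := Subgroup.card_dvd_of_le hle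
  have h2 : Nat.card Z * Z.relIndex (Z ⊔ zpowers y) = Nat.card (Z ⊔ zpowers y : Subgroup G) := by
    have := Subgroup.relIndex_mul_relIndex ⊥ Z (Z ⊔ zpowers y) bot_le le_sup_left
    simpa [Subgroup.relIndex_bot_left] using this
  have h3 : Z.relIndex (Z ⊔ zpowers y) = Z.relIndex (zpowers y) := Subgroup.relIndex_sup_left _ _
  have h4 : Z.relIndex (zpowers y) ∣ Nat.card (zpowers y) := Subgroup.relIndex_dvd_card _ _
  obtain ⟨k, hk⟩ := orderOf_dvd_of_pow_prime_pow hyq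
  have h5 : Z.relIndex (zpowers y) ∣ q ^ k := by
    rw [Nat.card_zpowers] at h4; exact h4.trans hk
  have h6 : Z.relIndex (zpowers y) ≠ 1 := by
    intro h1'
    rw [Subgroup.relIndex_eq_one] at h1'
    exact hy (h1' (Subgroup.mem_zpowers y))
  obtain ⟨i, -, hi⟩ := (Nat.dvd_prime_pow hq).1 h5
  have hi0 : i ≠ 0 := by
    intro h0; rw [h0, pow_zero] at hi; exact h6 hi
  have hq_dvd : q ∣ Z.relIndex (zpowers y) := by
    rw [hi]; exact dvd_pow_self q hi0
  have h7 : q ^ ((Nat.card Z).factorization q) ∣ Nat.card Z := Nat.ordProj_dvd _ _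
  have : q ^ ((Nat.card Z).factorization q + 1) ∣ Nat.card Z * Z.relIndex (Z ⊔ zpowers y) := by
    rw [pow_succ, h3]
    exact mul_dvd_mul h7 hq_dvd
  rw [h2] at this
  exact this.trans h1

/-- If `q^(v_q|Z|+1)` divides `|C(u)|` then `C(u)` contains a noncentral `q`-element. -/
lemma exists_q_elt_of_dvd {q : ℕ} (hq : q.Prime) (H : Subgroup G)
    (hdvd : q ^ ((Nat.card (center G)).factorization q + 1) ∣ Nat.card H) :
    ∃ y ∈ H, y ∉ center G ∧ ∃ k, y ^ (q ^ k) = 1 := by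
  have : Fact q.Prime := ⟨hq⟩
  obtain ⟨S⟩ : Nonempty (Sylow q H) := inferInstance
  have hS : Nat.card S = q ^ (Nat.card H).factorization q := S.card_eq_multiplicity
  by_contra hcon
  push Not at hcon
  have hSZ : (S : Subgroup H).map H.subtype ≤ center G := by
    rintro _ ⟨s, hs, rfl⟩
    by_contra hsZ
    obtain ⟨k, hk⟩ := (S.isPGroup' : IsPGroup q (S : Subgroup H)) ⟨s, hs⟩
    have hk' : (s : G) ^ (q ^ k) = 1 := by
      have := congrArg (fun t : (S : Subgroup H) => ((t : H) : G)) hk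
      simpa using this
    exact hcon (s : G) s.2 hsZ k hk'
  have hcard : Nat.card ((S : Subgroup H).map H.subtype) = Nat.card S :=
    Nat.card_congr ((S : Subgroup H).equivMapOfInjective H.subtype H.subtype_injective).symm.toEquiv
  have h1 : q ^ (Nat.card H).factorization q ∣ Nat.card (center G) := by
    rw [← hS, ← hcard]; exact Subgroup.card_dvd_of_le hSZ
  have h2 : (Nat.card (center G)).factorization q + 1 ≤ (Nat.card H).factorization q := by
    have hH0 : Nat.card H ≠ 0 := Nat.card_pos.ne'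
    exact (hq.pow_dvd_iff_le_factorization hH0).1 hdvd
  have h3 : q ^ ((Nat.card (center G)).factorization q + 1) ∣ Nat.card (center G) :=
    (pow_dvd_pow q h2).trans h1
  exact Nat.pow_succ_factorization_not_dvd Nat.card_pos.ne' hq h3

/-- Itô dichotomy. -/
theorem Two.dichotomy (h : Two G n) :
    (∃ p : ℕ, p.Prime ∧ ∀ g : G, ∃ k, g ^ (p ^ k) ∈ center G) ∨
    ((∀ u : G, u ∉ center G → ∀ a ∈ Cx u, ∀ b ∈ Cx u, a * b = b * a) ∧
      ∃ p q : ℕ, p.Prime ∧ q.Prime ∧ p ≠ q ∧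
        (∃ x : G, x ∉ center G ∧ ∃ k, x ^ (p ^ k) = 1) ∧
        (∃ y : G, y ∉ center G ∧ ∃ k, y ^ (q ^ k) = 1)) := by
  by_cases h2 : ∃ p q : ℕ, p.Prime ∧ q.Prime ∧ p ≠ q ∧
        (∃ x : G, x ∉ center G ∧ ∃ k, x ^ (p ^ k) = 1) ∧
        (∃ y : G, y ∉ center G ∧ ∃ k, y ^ (q ^ k) = 1)
  · right
    refine ⟨?_, h2⟩
    obtain ⟨p, q, hp, hq, hpq, ⟨x, hx, hxp⟩, ⟨y, hy, hyq⟩⟩ := h2
    intro u hu
    obtain ⟨r, hr, x', hx'u, hx'Z, hx'r⟩ := exists_prime_pow_part u hu
    have hCeq : Cx u = Cx x' := h.Cx_eq_of_le hu hx'Z (Cx_le_of_mem_zpowers hx'u)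
    rw [hCeq]
    by_cases hrq : r = q
    · -- use p
      subst hrq
      have hd := h.pow_dvd_card_Cx hp hx hxp hx'Z
      obtain ⟨y', hy'C, hy'Z, hy'p⟩ := exists_q_elt_of_dvd hp (Cx x') hd
      exact h.comm_of_two hr hp (Ne.symm hpq) hx'Z hy'Z hx'r hy'p (mem_Cx.1 hy'C)
    · have hd := h.pow_dvd_card_Cx hq hy hyq hx'Z
      obtain ⟨y', hy'C, hy'Z, hy'q⟩ := exists_q_elt_of_dvd hq (Cx x') hd
      exact h.comm_of_two hr hq hrq hx'Z hy'Z hx'r hy'q (mem_Cx.1 hy'C)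
  · left
    -- there is a noncentral element
    by_cases hall : ∀ g : G, g ∈ center G
    · exact ⟨2, Nat.prime_two, fun g => ⟨0, by simpa using hall g⟩⟩
    push Not at hall
    obtain ⟨u₀, hu₀⟩ := hall
    obtain ⟨p, hp, x₀, -, hx₀Z, hx₀p⟩ := exists_prime_pow_part u₀ hu₀
    refine ⟨p, hp, fun g => ?_⟩
    have hgo : orderOf g ≠ 0 := (orderOf_pos g).ne'
    obtain ⟨c₁, c₂, hc₁, hc₂, hgc, ⟨k, hk⟩, hc₂cop⟩ :=
      Cfsg.Agent.Lib.H8.exists_p_decomp g hgo p hp
    have hc₂Z : c₂ ∈ center G := by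
      by_contra hc₂Z
      obtain ⟨q, hq, y, hy, hyZ, hyq⟩ := exists_prime_pow_part c₂ hc₂Z
      apply h2
      refine ⟨p, q, hp, hq, ?_, ⟨x₀, hx₀Z, hx₀p⟩, ⟨y, hyZ, hyq⟩⟩
      rintro rfl
      -- orderOf y divides orderOf c₂ (coprime to p) and is a power of p, so y = 1
      have h1 : orderOf y ∣ orderOf c₂ := orderOf_dvd_of_mem_zpowers hy
      obtain ⟨j, hj⟩ := orderOf_dvd_of_pow_prime_pow hyq
      have h3 : (orderOf y).Coprime (orderOf y) :=
        Nat.Coprime.coprime_dvd_left h1 (Nat.Coprime.coprime_dvd_right hj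
          (Nat.Coprime.pow_right j hc₂cop))
      have h4 : orderOf y = 1 := (Nat.coprime_self _).1 h3
      rw [orderOf_eq_one_iff] at h4
      exact hyZ (h4 ▸ (center G).one_mem)
    refine ⟨k, ?_⟩
    have hcomm : Commute c₁ c₂ := by
      have := Subgroup.mem_center_iff.1 hc₂Z c₁
      exact this
    rw [hgc, hcomm.mul_pow, hk, one_mul]
    exact (center G).pow_mem hc₂Z _

end Cfsg.Agent.Lib.H21.Ito
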