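import Mathlib

set_option autoImplicit false

namespace Cfsg.Agent.Lib.H21

/-- If `k` divides the index of every point stabilizer (i.e. every orbit length) on a finite
invariant set `X`, then `k` divides the size of `X`. -/
theorem dvd_ncard_of_forall_dvd_index_stabilizer {G α : Type*} [Group G] [MulAction G α] (k : ℕ)
    (X : Set α) (hfin : X.Finite) (hinv : ∀ g : G, ∀ x ∈ X, g • x ∈ X)
    (hk : ∀ x ∈ X, k ∣ (MulAction.stabilizer G x).index) : k ∣ X.ncard := by
  induction' hn : X.ncard using Nat.strong_induction_on with n ih generalizing X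
  by_cases hne : X = ∅
  · subst hne; rw [← hn]; simp
  obtain ⟨x, hx⟩ := Set.nonempty_iff_ne_empty.2 hne
  set O := MulAction.orbit G x with hO
  have hOX : O ⊆ X := by
    rintro y ⟨g, rfl⟩
    exact hinv g x hx
  have hOcard : k ∣ O.ncard := by
    rw [← MulAction.index_stabilizer]
    exact hk x hx
  have hsplit : (X \ O).ncard + O.ncard = X.ncard := Set.ncard_sdiff_add_ncard_of_subset hOX hfin
  have hOpos : 0 < O.ncard := by
    rw [Set.ncard_pos (hfin.subset hOX)]
    exact ⟨x, MulAction.mem_orbit_self x⟩
  have hlt : (X \ O).ncard < n := by omega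
  have hinv' : ∀ g : G, ∀ y ∈ X \ O, g • y ∈ X \ O := by
    intro g y hy
    refine ⟨hinv g y hy.1, fun hmem => hy.2 ?_⟩
    have : g • y ∈ MulAction.orbit G x := hmem
    rw [MulAction.mem_orbit_iff] at this ⊢
    obtain ⟨h, hh⟩ := this
    refine ⟨g⁻¹ * h, ?_⟩
    rw [mul_smul, hh, inv_smul_smul]
  have := ih _ hlt (X \ O) (hfin.subset Set.diff_subset) hinv' (fun y hy => hk y hy.1) rfl
  rw [← hn, ← hsplit]
  exact dvd_add this hOcard

/-- A finite group acting on a finite invariant set with trivial point stabilizers has order
dividing the size of the set. -/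
theorem card_dvd_ncard_of_free {G α : Type*} [Group G] [MulAction G α]
    (X : Set α) (hfin : X.Finite) (hinv : ∀ g : G, ∀ x ∈ X, g • x ∈ X)
    (hfree : ∀ x ∈ X, MulAction.stabilizer G x = ⊥) : Nat.card G ∣ X.ncard := by
  apply dvd_ncard_of_forall_dvd_index_stabilizer (G := G) _ X hfin hinv
  intro x hx
  rw [hfree x hx, Subgroup.index_bot]

/-- a finite `p`-group of order `p ^ r` is generated by `r` elements -/
theorem exists_generators_of_card_eq_prime_pow {Q : Type*} [Group Q] [Finite Q] (p r : ℕ)
    [Fact p.Prime] (hQ : Nat.card Q = p ^ r) :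
    ∃ y : Fin r → Q, Subgroup.closure (Set.range y) = ⊤ := by
  have hp := (Fact.out : p.Prime)
  have hPG : IsPGroup p Q := IsPGroup.of_card hQ
  -- by induction: k elements generating a subgroup of order ≥ min (p^k) ...
  have key : ∀ k : ℕ, k ≤ r → ∃ y : Fin k → Q, p ^ k ≤ Nat.card (Subgroup.closure (Set.range y)) := by
    intro k
    induction k with
    | zero =>
      intro _
      exact ⟨Fin.elim0, by simpa using Nat.card_pos⟩
    | succ k ih =>
      intro hk
      obtain ⟨y, hy⟩ := ih (by omega)
      set H := Subgroup.closure (Set.range y) with hH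
      by_cases hHtop : H = ⊤
      · -- already everything
        refine ⟨Fin.snoc y 1, ?_⟩
        have hle : H ≤ Subgroup.closure (Set.range (Fin.snoc y 1 : Fin (k + 1) → Q)) := by
          rw [hH]
          apply Subgroup.closure_mono
          rintro _ ⟨i, rfl⟩
          exact ⟨Fin.castSucc i, by simp⟩
        rw [hHtop, top_le_iff] at hle
        rw [hle, Subgroup.card_top, hQ]
        exact Nat.pow_le_pow_right hp.pos hk
      · obtain ⟨g, hg⟩ : ∃ g : Q, g ∉ H := by
          by_contra hcon
          push Not at hcon
          exact hHtop (eq_top_iff.2 fun g _ => hcon g)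
        refine ⟨Fin.snoc y g, ?_⟩
        set H' := Subgroup.closure (Set.range (Fin.snoc y g : Fin (k + 1) → Q)) with hH'
        have hle : H ≤ H' := by
          rw [hH, hH']
          apply Subgroup.closure_mono
          rintro _ ⟨i, rfl⟩
          exact ⟨Fin.castSucc i, by simp⟩
        have hgH' : g ∈ H' := Subgroup.subset_closure ⟨Fin.last k, by simp⟩
        have hlt : H < H' := lt_of_le_of_ne hle (fun e => hg (e ▸ hgH'))
        -- |H'| = |H| * relIndex, relIndex a nontrivial power of p
        have hmul : Nat.card H * H.relIndex H' = Nat.card H' := by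
          have h1 := Subgroup.card_mul_index (H.subgroupOf H')
          have h2 : Nat.card (H.subgroupOf H') = Nat.card H :=
            Nat.card_congr (Subgroup.subgroupOfEquivOfLe hle).toEquiv
          rw [h2] at h1
          exact h1
        have hne1 : H.relIndex H' ≠ 1 := by
          intro e
          exact (not_le_of_gt hlt) (Subgroup.relIndex_eq_one.1 e)
        have hpdvd : p ∣ H.relIndex H' := by
          have hPG' : IsPGroup p H' := hPG.to_subgroup H'
          obtain ⟨e, he⟩ := hPG'.index (H.subgroupOf H')
          have he' : H.relIndex H' = p ^ e := he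
          rw [he']
          apply dvd_pow_self
          rintro rfl
          exact hne1 (by rw [he', pow_zero])
        obtain ⟨c, hc⟩ := hpdvd
        have hcpos : 0 < c := by
          rcases Nat.eq_zero_or_pos c with h0 | h0
          · rw [h0, mul_zero] at hc
            rw [hc, mul_zero] at hmul
            have : 0 < Nat.card H' := Nat.card_pos
            omega
          · exact h0
        calc p ^ (k + 1) = p ^ k * p := pow_succ p k
          _ ≤ Nat.card H * p := Nat.mul_le_mul_right _ hy
          _ ≤ Nat.card H * (p * c) := Nat.mul_le_mul_left _ (Nat.le_mul_of_pos_right _ hcpos)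
          _ = Nat.card H' := by rw [← hc, hmul]
  obtain ⟨y, hy⟩ := key r le_rfl
  refine ⟨y, ?_⟩
  apply Subgroup.eq_top_of_card_eq
  apply le_antisymm (Subgroup.card_le_card_group _)
  rw [hQ]; exact hy

end Cfsg.Agent.Lib.H21
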