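import Mathlib
import Cfsg.Agent.Lib.H21.Ito1
import Cfsg.Agent.Lib.H21.OrbitCount

set_option autoImplicit false

open Subgroup
open scoped commutatorElement

namespace Cfsg.Agent.Lib.H21.Ito

/-- cross inequalities give a strict inequality of products (via a derangement) -/
lemma prod_lt_prod_of_cross {ι : Type*} [DecidableEq ι] (s : Finset ι) (a b : ι → ℕ)
    (hs : 2 ≤ s.card) (ha : ∀ i ∈ s, 0 < a i)
    (h : ∀ i ∈ s, ∀ j ∈ s, i ≠ j → a i < b j) : ∏ i ∈ s, a i < ∏ i ∈ s, b i := by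
  obtain ⟨m, hm⟩ : ∃ m, s.card = m + 2 := ⟨s.card - 2, by omega⟩
  let e : s ≃ Fin (m + 2) := s.equivFin.trans (finCongr hm)
  let σ : s ≃ s := e.trans ((finRotate (m + 2)).trans e.symm)
  have hσ : ∀ i : s, σ i ≠ i := by
    intro i hi
    have h1 : e.symm (finRotate (m + 2) (e i)) = i := hi
    have h2 : finRotate (m + 2) (e i) = e i := by
      have := congrArg e h1
      simpa using this
    rw [finRotate_succ_apply] at h2
    have h3 : (1 : Fin (m + 2)) = 0 := by
      have := add_left_cancel (a := e i) (b := (1 : Fin (m+2))) (c := 0) (by rw [h2, add_zero])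
      exact this
    exact absurd h3 (by simp [Fin.ext_iff])
  have hne : (Finset.univ : Finset s).Nonempty := by
    have : 0 < s.card := by omega
    obtain ⟨i, hi⟩ := Finset.card_pos.1 this
    exact ⟨⟨i, hi⟩, Finset.mem_univ _⟩
  calc ∏ i ∈ s, a i = ∏ i : s, a i := (Finset.prod_coe_sort s a).symm
    _ < ∏ i : s, b (σ i) := by
        apply Finset.prod_lt_prod_of_nonempty
        · intro i _; exact ha i i.2
        · intro i _
          exact h i i.2 (σ i) (σ i).2 (fun hij => hσ i (Subtype.ext hij.symm))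
        · exact hne
    _ = ∏ i : s, b i := Equiv.prod_comp σ (fun i : s => b i)
    _ = ∏ i ∈ s, b i := Finset.prod_coe_sort s b

/-- if all fibers of `f` on `s` have `k` elements then `k ∣ s.card` -/
lemma dvd_card_of_fibers {α β : Type*} [DecidableEq β] (s : Finset α) (f : α → β) (k : ℕ)
    (hk : ∀ y ∈ s, (s.filter (fun x => f x = f y)).card = k) : k ∣ s.card := by
  rw [Finset.card_eq_sum_card_fiberwise (f := f) (t := s.image f)
    (fun x hx => Finset.mem_image_of_mem f hx)]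
  apply Finset.dvd_sum
  intro b hb
  obtain ⟨y, hy, rfl⟩ := Finset.mem_image.1 hb
  rw [hk y hy]

/-- set version -/
lemma dvd_ncard_of_fibers {α β : Type*} [Finite α] (s : Set α) (f : α → β) (k : ℕ)
    (hk : ∀ y ∈ s, {x | x ∈ s ∧ f x = f y}.ncard = k) : k ∣ s.ncard := by
  classical
  haveI := Fintype.ofFinite α
  rw [Set.ncard_eq_toFinset_card' s]
  apply dvd_card_of_fibers s.toFinset f k
  intro y hy
  rw [← hk y (Set.mem_toFinset.1 hy), Set.ncard_eq_toFinset_card']
  congr 1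
  ext x
  simp

variable {G : Type*} [Group G] [Finite G] {n : ℕ}

omit [Finite G] in
lemma ncard_coe (H : Subgroup G) : (H : Set G).ncard = Nat.card H :=
  (Nat.card_coe_set_eq (H : Set G)).symm

/-- abelian centralizers: commuting noncentral elements have the same centralizer -/
lemma Two.Cx_eq_of_mem (h : Two G n)
    (hab : ∀ u : G, u ∉ center G → ∀ a ∈ Cx u, ∀ b ∈ Cx u, a * b = b * a)
    {u v : G} (hu : u ∉ center G) (hv : v ∉ center G) (hvu : v ∈ Cx u) : Cx v = Cx u := by
  symm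
  apply h.Cx_eq_of_le hu hv
  intro g hg
  rw [mem_Cx]
  exact hab u hu g hg v hvu

/-- The partition count: `(c - z) ∣ (|G| - z)`. -/
lemma Two.partition_dvd (h : Two G n)
    (hab : ∀ u : G, u ∉ center G → ∀ a ∈ Cx u, ∀ b ∈ Cx u, a * b = b * a)
    {u₀ : G} (hu₀ : u₀ ∉ center G) :
    (Nat.card (Cx u₀) - Nat.card (center G)) ∣ (Nat.card G - Nat.card (center G)) := by
  have h1 : ((center G : Set G)ᶜ).ncard = Nat.card G - Nat.card (center G) := by
    rw [Set.ncard_compl, ncard_coe]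
  rw [← h1]
  apply dvd_ncard_of_fibers _ (fun g => Cx g)
  intro y hy
  have hyZ : y ∉ center G := hy
  have : {x | x ∈ (center G : Set G)ᶜ ∧ Cx x = Cx y} = (Cx y : Set G) \ (center G : Set G) := by
    ext g
    simp only [Set.mem_ofPred_eq, Set.mem_compl_iff, SetLike.mem_coe, Set.mem_sdiff]
    constructor
    · rintro ⟨hgZ, hg⟩
      exact ⟨hg ▸ self_mem_Cx g, hgZ⟩
    · rintro ⟨hg, hgZ⟩
      exact ⟨hgZ, h.Cx_eq_of_mem hab hyZ hgZ hg⟩
  rw [this, Set.ncard_sdiff (fun g hg => center_le_Cx y hg) (Set.toFinite _),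
    ← h.card_Cx_eq hyZ hu₀, ncard_coe, ncard_coe]


lemma card_mul_relIndex'' {K L : Subgroup G} (h : K ≤ L) :
    Nat.card K * K.relIndex L = Nat.card L := by
  have := Subgroup.relIndex_mul_relIndex ⊥ K L bot_le h
  simpa [Subgroup.relIndex_bot_left] using this

/-- `c̄ ≤ n` -/
lemma Two.cbar_le (h : Two G n)
    (hab : ∀ u : G, u ∉ center G → ∀ a ∈ Cx u, ∀ b ∈ Cx u, a * b = b * a)
    {u₀ : G} (hu₀ : u₀ ∉ center G) : (center G).relIndex (Cx u₀) ≤ n := by
  set z := Nat.card (center G) with hz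
  set c := Nat.card (Cx u₀) with hc
  set cb := (center G).relIndex (Cx u₀) with hcb
  have e1 : z * cb = c := card_mul_relIndex'' (center_le_Cx u₀)
  have e2 : c * n = Nat.card G := h.card_Cx hu₀
  have hdvd := h.partition_dvd hab hu₀
  have hzpos : 0 < z := Nat.card_pos
  have hcb0 : cb ≠ 0 := by
    intro h0; rw [h0, mul_zero] at e1
    have : 0 < c := Nat.card_pos
    omega
  have hcb1 : cb ≠ 1 := by
    intro h1
    rw [hcb, Subgroup.relIndex_eq_one] at h1
    exact hu₀ (h1 (self_mem_Cx u₀))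
  obtain ⟨d, hd⟩ : ∃ d, cb = d + 1 := ⟨cb - 1, by omega⟩
  obtain ⟨m, hm⟩ : ∃ m, n = m + 1 := ⟨n - 1, by have := h.one_lt; omega⟩
  have hd0 : 0 < d := by omega
  have hm0 : 0 < m := by have := h.one_lt; omega
  rw [← hc, ← hz, ← e2, ← e1, hd, hm] at hdvd
  have h3 : z * (d + 1) - z = z * d := by
    rw [Nat.mul_succ]; omega
  have h4 : z * (d + 1) * (m + 1) - z = z * ((m + 1) * d + m) := by
    have : z * (d + 1) * (m + 1) = z * ((m + 1) * d + m) + z := by ring
    rw [this]; omega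
  rw [h3, h4] at hdvd
  have h5 : d ∣ (m + 1) * d + m := Nat.dvd_of_mul_dvd_mul_left hzpos hdvd
  have h6 : d ∣ m := (Nat.dvd_add_right (dvd_mul_left d (m + 1))).1 h5
  have h7 : d ≤ m := Nat.le_of_dvd hm0 h6
  omega


/-- For a prime `p ∣ n`, a Sylow `p`-subgroup `P` contains a noncentral element `x` with
`[x, P] ≤ Z(G)`. -/
lemma Two.exists_sylow_elt (h : Two G n) {u₀ : G} (hu₀ : u₀ ∉ center G)
    {p : ℕ} [Fact p.Prime] (hpn : p ∣ n) (P : Sylow p G) :
    ∃ x ∈ (P : Subgroup G), x ∉ center G ∧ ∀ g ∈ (P : Subgroup G), ⁅x, g⁆ ∈ center G := by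
  have hPidx : ¬ p ∣ (P : Subgroup G).index := P.not_dvd_index
  have hnotle : ∀ u : G, u ∉ center G → ¬ (P : Subgroup G) ≤ Cx u := by
    intro u hu hle
    apply hPidx
    have := Subgroup.index_dvd_of_le hle
    rw [h.index_eq hu] at this
    exact hpn.trans this
  have hcent : ∀ z ∈ (P : Subgroup G), (∀ g ∈ (P : Subgroup G), g * z = z * g) → z ∈ center G := by
    intro z _ hzc
    by_contra hzZ
    exact hnotle z hzZ (fun g hg => mem_Cx.2 (hzc g hg))
  set Q := ↥(P : Subgroup G) with hQdef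
  have hQ : IsPGroup p Q := P.isPGroup'
  have hnt : Nontrivial (Q ⧸ center Q) := by
    by_contra hnt
    rw [not_nontrivial_iff_subsingleton] at hnt
    have htop : center Q = ⊤ := by
      rw [eq_top_iff]
      intro g _
      rw [← QuotientGroup.eq_one_iff]
      exact Subsingleton.elim _ _
    apply hnotle u₀ hu₀
    intro g hg
    apply center_le_Cx u₀
    apply hcent g hg
    intro g' hg'
    have hmem : (⟨g, hg⟩ : Q) ∈ center Q := htop ▸ Subgroup.mem_top _
    have := Subgroup.mem_center_iff.1 hmem ⟨g', hg'⟩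
    exact congrArg Subtype.val this
  have hQZ : IsPGroup p (Q ⧸ center Q) := hQ.to_quotient (center Q)
  have hcn : Nontrivial (center (Q ⧸ center Q)) := hQZ.center_nontrivial
  obtain ⟨⟨xb, hxb⟩, hne⟩ := exists_ne (1 : center (Q ⧸ center Q))
  obtain ⟨x, rfl⟩ := QuotientGroup.mk_surjective xb
  have hxZQ : x ∉ center Q := by
    intro hx
    apply hne
    apply Subtype.ext
    exact (QuotientGroup.eq_one_iff x).2 hx
  have hcomm : ∀ g : Q, ⁅x, g⁆ ∈ center Q := by
    intro g
    rw [← QuotientGroup.eq_one_iff]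
    have : ((⁅x, g⁆ : Q) : Q ⧸ center Q) = ⁅(x : Q ⧸ center Q), (g : Q ⧸ center Q)⁆ := by
      simp only [commutatorElement_def, QuotientGroup.mk_mul, QuotientGroup.mk_inv]
    rw [this, commutatorElement_eq_one_iff_mul_comm]
    exact (Subgroup.mem_center_iff.1 hxb (g : Q ⧸ center Q)).symm
  refine ⟨x.1, x.2, ?_, ?_⟩
  · intro hxZ
    apply hxZQ
    rw [Subgroup.mem_center_iff]
    intro g
    apply Subtype.ext
    exact Subgroup.mem_center_iff.1 hxZ g.1
  · intro g hg
    have h1 := hcomm ⟨g, hg⟩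
    have h2 : ((⁅x, (⟨g, hg⟩ : Q)⁆ : Q) : G) = ⁅x.1, g⁆ := by
      simp only [commutatorElement_def]
      push_cast
      rfl
    rw [← h2]
    apply hcent _ (Subtype.property _)
    intro g' hg'
    have := Subgroup.mem_center_iff.1 h1 ⟨g', hg'⟩
    exact congrArg Subtype.val this


omit [Finite G] in
/-- elements `g` with `[x,g]` central normalize `C(x)` -/
lemma conj_mem_Cx_of_comm_central {x g w : G} (hg : ⁅x, g⁆ ∈ center G) (hw : w ∈ Cx x) :
    g * w * g⁻¹ ∈ Cx x := by
  rw [mem_Cx] at hw ⊢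
  have hz := Subgroup.mem_center_iff.1 hg
  -- g⁻¹ * x * g = ⁅x,g⁆⁻¹ ... we use: x * g = ⁅x,g⁆ * g * x
  have h1 : x * g = ⁅x, g⁆ * (g * x) := by
    rw [commutatorElement_def]; group
  have h2 : g⁻¹ * x * g = ⁅x, g⁆ * x := by
    calc g⁻¹ * x * g = g⁻¹ * (x * g) := by group
      _ = g⁻¹ * (⁅x, g⁆ * (g * x)) := by rw [h1]
      _ = g⁻¹ * ((⁅x, g⁆ * g) * x) := by group
      _ = g⁻¹ * ((g * ⁅x, g⁆) * x) := by rw [hz g]
      _ = ⁅x, g⁆ * x := by group
  have h3 : w * (g⁻¹ * x * g) = (g⁻¹ * x * g) * w := by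
    rw [h2]
    calc w * (⁅x, g⁆ * x) = (w * ⁅x, g⁆) * x := by group
      _ = (⁅x, g⁆ * w) * x := by rw [hz w]
      _ = ⁅x, g⁆ * (w * x) := by group
      _ = ⁅x, g⁆ * (x * w) := by rw [hw]
      _ = ⁅x, g⁆ * x * w := by group
  calc g * w * g⁻¹ * x = g * (w * (g⁻¹ * x * g)) * g⁻¹ := by group
    _ = g * ((g⁻¹ * x * g) * w) * g⁻¹ := by rw [h3]
    _ = x * (g * w * g⁻¹) := by group

omit [Finite G] in
/-- the `q`-torsion subgroup of an abelian subgroup -/
def qTor (q : ℕ) (C : Subgroup G) (hC : ∀ a ∈ C, ∀ b ∈ C, a * b = b * a) : Subgroup G where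
  carrier := {y | y ∈ C ∧ ∃ k, y ^ (q ^ k) = 1}
  one_mem' := ⟨C.one_mem, 0, by simp⟩
  mul_mem' := by
    rintro a b ⟨ha, k, hk⟩ ⟨hb, j, hj⟩
    refine ⟨C.mul_mem ha hb, k + j, ?_⟩
    have hc : Commute a b := hC a ha b hb
    have e1 : a ^ (q ^ (k + j)) = 1 := by rw [pow_add, pow_mul, hk, one_pow]
    have e2 : b ^ (q ^ (k + j)) = 1 := by rw [pow_add, mul_comm, pow_mul, hj, one_pow]
    rw [hc.mul_pow, e1, e2, one_mul]
  inv_mem' := by
    rintro a ⟨ha, k, hk⟩
    exact ⟨C.inv_mem ha, k, by rw [inv_pow, hk, inv_one]⟩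

omit [Finite G] in
lemma mem_qTor {q : ℕ} {C : Subgroup G} {hC : ∀ a ∈ C, ∀ b ∈ C, a * b = b * a} {y : G} :
    y ∈ qTor q C hC ↔ y ∈ C ∧ ∃ k, y ^ (q ^ k) = 1 := Iff.rfl

omit [Finite G] in
lemma isPGroup_qTor {q : ℕ} {C : Subgroup G} {hC : ∀ a ∈ C, ∀ b ∈ C, a * b = b * a} :
    IsPGroup q (qTor q C hC) := by
  rintro ⟨y, hy, k, hk⟩
  exact ⟨k, Subtype.ext (by simpa using hk)⟩


/-- Key inequality: `n_p < c̄_q` for primes `p ∣ n`, `q ∣ c̄`, `p ≠ q`. -/
lemma Two.key_lt (h : Two G n)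
    (hab : ∀ u : G, u ∉ center G → ∀ a ∈ Cx u, ∀ b ∈ Cx u, a * b = b * a)
    {u₀ : G} (hu₀ : u₀ ∉ center G) {p q : ℕ} (hp : p.Prime) (hq : q.Prime) (hpq : p ≠ q)
    (hpn : p ∣ n) (hqc : q ∣ (center G).relIndex (Cx u₀)) :
    p ^ (n.factorization p) < q ^ (((center G).relIndex (Cx u₀)).factorization q) := by
  haveI : Fact p.Prime := ⟨hp⟩
  haveI : Fact q.Prime := ⟨hq⟩
  obtain ⟨P⟩ : Nonempty (Sylow p G) := inferInstance
  obtain ⟨x, hxP, hxZ, hxc⟩ := h.exists_sylow_elt hu₀ hpn P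
  set Z := center G with hZ
  set C := Cx x with hC
  set cb := Z.relIndex (Cx u₀) with hcb
  have hCab : ∀ a ∈ C, ∀ b ∈ C, a * b = b * a := hab x hxZ
  have hcardC : Nat.card C = Nat.card (Cx u₀) := h.card_Cx_eq hxZ hu₀
  have hn0 : n ≠ 0 := by have := h.one_lt; omega
  have hc0 : Nat.card C ≠ 0 := Nat.card_pos.ne'
  have hcb' : Z.relIndex C = cb := by
    have e1 : Nat.card Z * Z.relIndex C = Nat.card C := card_mul_relIndex'' (center_le_Cx x)
    have e2 : Nat.card Z * cb = Nat.card (Cx u₀) := card_mul_relIndex'' (center_le_Cx u₀)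
    have hzpos : 0 < Nat.card Z := Nat.card_pos
    exact Nat.eq_of_mul_eq_mul_left hzpos (by rw [e1, e2, hcardC])
  have hcb0 : cb ≠ 0 := by
    intro h0
    have e2 : Nat.card Z * cb = Nat.card (Cx u₀) := card_mul_relIndex'' (center_le_Cx u₀)
    rw [h0, mul_zero] at e2
    exact (Nat.card_pos (α := Cx u₀)).ne' e2.symm
  set a := C.relIndex (P : Subgroup G) with ha
  -- (α) p^{v_p n} ≤ a
  have halpha : p ^ (n.factorization p) ≤ a := by
    have hP : Nat.card (P : Subgroup G) = p ^ (Nat.card G).factorization p :=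
      P.card_eq_multiplicity
    have e1 : Nat.card (C ⊓ (P : Subgroup G) : Subgroup G) * a = Nat.card (P : Subgroup G) := by
      have := card_mul_relIndex'' (inf_le_right : C ⊓ (P : Subgroup G) ≤ (P : Subgroup G))
      rwa [Subgroup.inf_relIndex_right] at this
    have e2 : Nat.card (C ⊓ (P : Subgroup G) : Subgroup G) ∣ Nat.card C :=
      Subgroup.card_dvd_of_le inf_le_left
    have e3 : Nat.card (C ⊓ (P : Subgroup G) : Subgroup G) ∣ p ^ (Nat.card G).factorization p := by
      rw [← hP]; exact Subgroup.card_dvd_of_le inf_le_right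
    obtain ⟨i, -, hi⟩ := (Nat.dvd_prime_pow hp).1 e3
    have e4 : i ≤ (Nat.card C).factorization p := by
      rw [hi] at e2
      exact (hp.pow_dvd_iff_le_factorization hc0).1 e2
    have e5 : (Nat.card G).factorization p = (Nat.card C).factorization p + n.factorization p := by
      rw [← h.card_Cx hxZ, Nat.factorization_mul hc0 hn0]; rfl
    rw [hi, hP, e5, pow_add] at e1
    by_contra hlt
    push Not at hlt
    have : p ^ i * a < p ^ (Nat.card C).factorization p * p ^ n.factorization p :=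
      Nat.mul_lt_mul_of_le_of_lt (Nat.pow_le_pow_right hp.pos e4) hlt (pow_pos hp.pos _)
    omega
  -- (β) a < q^{v_q cb}
  have hbeta : a < q ^ (cb.factorization q) := by
    set Y := qTor q C hCab with hY
    have hYC : Y ≤ C := fun y hy => hy.1
    have hYp : IsPGroup q Y := isPGroup_qTor
    obtain ⟨j, hj⟩ := IsPGroup.iff_card.1 hYp
    set r := Z.relIndex Y with hr
    have e1 : Nat.card (Y ⊓ Z : Subgroup G) * r = Nat.card Y := by
      have := card_mul_relIndex'' (inf_le_left : Y ⊓ Z ≤ Y)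
      rwa [Subgroup.inf_relIndex_left] at this
    -- noncentral q-element in C
    have hdvd : q ^ ((Nat.card Z).factorization q + 1) ∣ Nat.card C := by
      have e2 : Nat.card Z * cb = Nat.card C := by
        rw [← hcb']; exact card_mul_relIndex'' (center_le_Cx x)
      rw [← e2, pow_succ]
      exact mul_dvd_mul (Nat.ordProj_dvd _ _) hqc
    obtain ⟨y, hyC, hyZ, hyq⟩ := exists_q_elt_of_dvd hq C hdvd
    have hyY : y ∈ Y := ⟨hyC, hyq⟩
    have hr1 : r ≠ 1 := by
      intro h1
      rw [hr, Subgroup.relIndex_eq_one] at h1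
      exact hyZ (h1 hyY)
    have hr0 : r ≠ 0 := by
      intro h0
      rw [h0, mul_zero] at e1
      exact (Nat.card_pos (α := Y)).ne' e1.symm
    -- r divides cb and is a q-power
    have hrcb : r ∣ cb := by
      have e3 : Z.relIndex (Y ⊔ Z) = r := Subgroup.relIndex_sup_right Y Z
      have e4 := Subgroup.relIndex_mul_relIndex Z (Y ⊔ Z) C le_sup_right
        (sup_le hYC (center_le_Cx x))
      rw [e3, hcb'] at e4
      exact Dvd.intro _ e4
    have hrq : r ∣ q ^ j := by
      rw [← hj]; exact Subgroup.relIndex_dvd_card _ _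
    obtain ⟨t, -, ht⟩ := (Nat.dvd_prime_pow hq).1 hrq
    have hrle : r ≤ q ^ (cb.factorization q) := by
      rw [ht] at hrcb ⊢
      exact Nat.pow_le_pow_right hq.pos ((hq.pow_dvd_iff_le_factorization hcb0).1 hrcb)
    -- the orbit count
    set W : Set G := (Y : Set G) \ (Z : Set G) with hW
    have hWcard : W.ncard = Nat.card (Y ⊓ Z : Subgroup G) * (r - 1) := by
      have : W = (Y : Set G) \ ((Y ⊓ Z : Subgroup G) : Set G) := by
        ext g
        simp only [hW, Set.mem_sdiff, SetLike.mem_coe, Subgroup.mem_inf, not_and]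
        constructor
        · rintro ⟨h1, h2⟩; exact ⟨h1, fun _ => h2⟩
        · rintro ⟨h1, h2⟩; exact ⟨h1, h2 h1⟩
      rw [this, Set.ncard_sdiff (fun g hg => hg.1) (Set.toFinite _), ncard_coe, ncard_coe, ← e1,
        Nat.mul_sub, mul_one]
    have hadvd : a ∣ W.ncard := by
      let _ : MulAction (P : Subgroup G) G :=
        MulAction.compHom G ((MulAut.conj (G := G)).comp (P : Subgroup G).subtype)
      have hsm : ∀ (g : (P : Subgroup G)) (w : G), g • w = (g : G) * w * (g : G)⁻¹ :=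
        fun _ _ => rfl
      apply dvd_ncard_of_forall_dvd_index_stabilizer (G := (P : Subgroup G)) a W (Set.toFinite _)
      · rintro g w ⟨hwY, hwZ⟩
        rw [hsm]
        refine ⟨⟨conj_mem_Cx_of_comm_central (hxc g g.2) hwY.1, ?_⟩, ?_⟩
        · obtain ⟨k, hk⟩ := hwY.2
          exact ⟨k, by rw [conj_pow, hk, mul_one, mul_inv_cancel]⟩
        · intro hc
          apply hwZ
          have hn : (center G).Normal := inferInstance
          have := hn.conj_mem _ hc (g : G)⁻¹
          rw [show (g : G)⁻¹ * ((g : G) * w * (g : G)⁻¹) * ((g : G)⁻¹)⁻¹ = w by group] at this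
          exact this
      · rintro w ⟨hwY, hwZ⟩
        have hst : MulAction.stabilizer (P : Subgroup G) w = C.subgroupOf (P : Subgroup G) := by
          ext g
          rw [MulAction.mem_stabilizer_iff, hsm, Subgroup.mem_subgroupOf, hC,
            ← h.Cx_eq_of_mem hab hxZ hwZ hwY.1, mem_Cx, mul_inv_eq_iff_eq_mul]
        rw [hst]
        exact dvd_refl _
    rw [hWcard] at hadvd
    -- coprimality
    have hacop : Nat.Coprime a (Nat.card (Y ⊓ Z : Subgroup G)) := by
      have h1 : a ∣ Nat.card (P : Subgroup G) := Subgroup.relIndex_dvd_card _ _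
      rw [P.card_eq_multiplicity] at h1
      have h2 : Nat.card (Y ⊓ Z : Subgroup G) ∣ q ^ j := by
        rw [← hj]; exact Subgroup.card_dvd_of_le inf_le_left
      exact Nat.Coprime.coprime_dvd_left h1 (Nat.Coprime.coprime_dvd_right h2
        (Nat.Coprime.pow _ _ ((Nat.coprime_primes hp hq).2 hpq)))
    have hadvd' : a ∣ r - 1 := hacop.dvd_of_dvd_mul_left hadvd
    have : a ≤ r - 1 := Nat.le_of_dvd (by omega) hadvd'
    omega
  exact lt_of_le_of_lt halpha hbeta


/-- Part II: abelian centralizers and two primes with noncentral elements is impossible. -/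
theorem Two.false_of_abelian (h : Two G n)
    (hab : ∀ u : G, u ∉ center G → ∀ a ∈ Cx u, ∀ b ∈ Cx u, a * b = b * a)
    {p₀ q₀ : ℕ} (hp₀ : p₀.Prime) (hq₀ : q₀.Prime) (hne : p₀ ≠ q₀)
    (hx : ∃ x : G, x ∉ center G ∧ ∃ k, x ^ (p₀ ^ k) = 1)
    (hy : ∃ y : G, y ∉ center G ∧ ∃ k, y ^ (q₀ ^ k) = 1) : False := by
  obtain ⟨u₀, hu₀, hu₀p⟩ := hx
  set cb := (center G).relIndex (Cx u₀) with hcb
  have e2 : Nat.card (center G) * cb = Nat.card (Cx u₀) := card_mul_relIndex'' (center_le_Cx u₀)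
  have hcb0 : cb ≠ 0 := by
    intro h0
    rw [h0, mul_zero] at e2
    exact (Nat.card_pos (α := Cx u₀)).ne' e2.symm
  have hn0 : n ≠ 0 := by have := h.one_lt; omega
  have hz0 : Nat.card (center G) ≠ 0 := Nat.card_pos.ne'
  have hmem : ∀ q : ℕ, q.Prime → (∃ y : G, y ∉ center G ∧ ∃ k, y ^ (q ^ k) = 1) → q ∣ cb := by
    rintro q hq ⟨y, hyZ, hyq⟩
    have hd := h.pow_dvd_card_Cx hq hyZ hyq hu₀
    rw [← e2] at hd
    have h1 := (hq.pow_dvd_iff_le_factorization (mul_ne_zero hz0 hcb0)).1 hd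
    rw [Nat.factorization_mul hz0 hcb0] at h1
    have h2 : 1 ≤ cb.factorization q := by
      have : (Nat.card (center G)).factorization q + cb.factorization q =
          ((Nat.card (center G)).factorization + cb.factorization) q := rfl
      omega
    exact (hq.dvd_iff_one_le_factorization hcb0).2 h2
  have hsub : n.primeFactors ⊆ cb.primeFactors := by
    intro p hp
    have hpp : p.Prime := Nat.prime_of_mem_primeFactors hp
    have hpn : p ∣ n := Nat.dvd_of_mem_primeFactors hp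
    haveI : Fact p.Prime := ⟨hpp⟩
    obtain ⟨P⟩ : Nonempty (Sylow p G) := inferInstance
    obtain ⟨x, hxP, hxZ, -⟩ := h.exists_sylow_elt hu₀ hpn P
    obtain ⟨k, hk⟩ := (P.isPGroup' : IsPGroup p (P : Subgroup G)) ⟨x, hxP⟩
    have hk' : x ^ (p ^ k) = 1 := by
      have := congrArg Subtype.val hk
      simpa using this
    exact Nat.mem_primeFactors.2 ⟨hpp, hmem p hpp ⟨x, hxZ, k, hk'⟩, hcb0⟩
  have hp₀mem : p₀ ∈ cb.primeFactors :=
    Nat.mem_primeFactors.2 ⟨hp₀, hmem p₀ hp₀ ⟨u₀, hu₀, hu₀p⟩, hcb0⟩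
  have hq₀mem : q₀ ∈ cb.primeFactors := Nat.mem_primeFactors.2 ⟨hq₀, hmem q₀ hq₀ hy, hcb0⟩
  have hcard : 2 ≤ cb.primeFactors.card :=
    Finset.one_lt_card.2 ⟨p₀, hp₀mem, q₀, hq₀mem, hne⟩
  have hlt := prod_lt_prod_of_cross cb.primeFactors (fun p => p ^ n.factorization p)
    (fun q => q ^ cb.factorization q) hcard
    (fun p hp => pow_pos (Nat.prime_of_mem_primeFactors hp).pos _)
    (by
      intro p hp q hq hpq
      have hpp := Nat.prime_of_mem_primeFactors hp
      have hqp := Nat.prime_of_mem_primeFactors hq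
      have hqc : q ∣ cb := Nat.dvd_of_mem_primeFactors hq
      by_cases hpn : p ∣ n
      · exact h.key_lt hab hu₀ hpp hqp hpq hpn hqc
      · show p ^ n.factorization p < q ^ cb.factorization q
        rw [Nat.factorization_eq_zero_of_not_dvd hpn, pow_zero]
        have h1 : 1 ≤ cb.factorization q := (hqp.dvd_iff_one_le_factorization hcb0).1 hqc
        calc 1 < q := hqp.one_lt
          _ = q ^ 1 := (pow_one q).symm
          _ ≤ q ^ cb.factorization q := Nat.pow_le_pow_right hqp.pos h1)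
  have hprodn : ∏ p ∈ cb.primeFactors, p ^ n.factorization p = n := by
    have h1 := Nat.prod_factorization_pow_eq_self hn0
    rw [Finsupp.prod_of_support_subset (s := cb.primeFactors) n.factorization
      (by rw [Nat.support_factorization]; exact hsub) (fun p k => p ^ k)
      (fun i _ => pow_zero i)] at h1
    exact h1
  have hprodc : ∏ q ∈ cb.primeFactors, q ^ cb.factorization q = cb := by
    have h1 := Nat.prod_factorization_pow_eq_self hcb0
    rw [Finsupp.prod_of_support_subset (s := cb.primeFactors) cb.factorization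
      (by rw [Nat.support_factorization]) (fun p k => p ^ k)
      (fun i _ => pow_zero i)] at h1
    exact h1
  rw [hprodn, hprodc] at hlt
  have hle := h.cbar_le hab hu₀
  omega

end Cfsg.Agent.Lib.H21.Ito
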