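import Mathlib

set_option autoImplicit false

open Subgroup
open scoped commutatorElement

namespace Cfsg.Agent.Lib.H21.SmallClasses

variable {G : Type*} [Group G]

lemma card_mul_relIndex' {K L : Subgroup G} (h : K ≤ L) :
    Nat.card K * K.relIndex L = Nat.card L := by
  have := Subgroup.relIndex_mul_relIndex ⊥ K L bot_le h
  simpa [Subgroup.relIndex_bot_left] using this

/-- Orbit-stabilizer for a subgroup acting by conjugation. -/
lemma relIndex_centralizer_eq_ncard (C : Subgroup G) (d : G) :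
    (centralizer ({d} : Set G)).relIndex C = {e : G | ∃ c ∈ C, c * d * c⁻¹ = e}.ncard := by
  let _ : MulAction C G := MulAction.compHom G ((MulAut.conj (G := G)).comp C.subtype)
  have hsm : ∀ (c : C) (g : G), c • g = (c : G) * g * (c : G)⁻¹ := fun c g => rfl
  have h1 := MulAction.index_stabilizer C d
  have h2 : MulAction.stabilizer C d = (centralizer ({d} : Set G)).subgroupOf C := by
    ext c
    rw [MulAction.mem_stabilizer_iff, hsm, Subgroup.mem_subgroupOf,
      Subgroup.mem_centralizer_singleton_iff, mul_inv_eq_iff_eq_mul]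
  have h3 : MulAction.orbit C d = {e : G | ∃ c ∈ C, c * d * c⁻¹ = e} := by
    ext e
    constructor
    · rintro ⟨c, rfl⟩
      exact ⟨c, c.2, rfl⟩
    · rintro ⟨c, hc, rfl⟩
      exact ⟨⟨c, hc⟩, rfl⟩
  rw [Subgroup.relIndex, ← h2, h1, h3]

lemma comm_central_left {z x y : G} (hz : z ∈ center G) : ⁅z * x, y⁆ = ⁅x, y⁆ := by
  have hz' := Subgroup.mem_center_iff.1 hz
  rw [commutatorElement_def, commutatorElement_def]
  calc z * x * y * (z * x)⁻¹ * y⁻¹ = (z * (x * y * x⁻¹)) * z⁻¹ * y⁻¹ := by group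
    _ = ((x * y * x⁻¹) * z) * z⁻¹ * y⁻¹ := by rw [hz' (x * y * x⁻¹)]
    _ = x * y * x⁻¹ * y⁻¹ := by group

lemma comm_central_right {z x y : G} (hz : z ∈ center G) : ⁅x, z * y⁆ = ⁅x, y⁆ := by
  have hz' := Subgroup.mem_center_iff.1 hz
  rw [commutatorElement_def, commutatorElement_def]
  calc x * (z * y) * x⁻¹ * (z * y)⁻¹ = (x * z) * y * x⁻¹ * y⁻¹ * z⁻¹ := by group
    _ = (z * x) * y * x⁻¹ * y⁻¹ * z⁻¹ := by rw [hz' x]
    _ = z * (x * y * x⁻¹ * y⁻¹) * z⁻¹ := by group
    _ = (x * y * x⁻¹ * y⁻¹) * z * z⁻¹ := by rw [hz' (x * y * x⁻¹ * y⁻¹)]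
    _ = x * y * x⁻¹ * y⁻¹ := by group

/-- The subgroup of elements acting trivially on `A` modulo the centre. -/
def T (A : Subgroup G) : Subgroup G where
  carrier := {x | ∀ a ∈ A, ⁅a, x⁆ ∈ center G}
  one_mem' := by
    intro a _
    simp
  mul_mem' := by
    intro x y hx hy a ha
    have h1 : ⁅a, x * y⁆ = ⁅a, x⁆ * (x * ⁅a, y⁆ * x⁻¹) := by
      simp only [commutatorElement_def]; group
    have h2 : x * ⁅a, y⁆ * x⁻¹ = ⁅a, y⁆ := by
      rw [Subgroup.mem_center_iff.1 (hy a ha) x]; group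
    rw [h1, h2]
    exact (center G).mul_mem (hx a ha) (hy a ha)
  inv_mem' := by
    intro x hx a ha
    have h1 : ⁅a, x⁻¹⁆ = x⁻¹ * (⁅a, x⁆)⁻¹ * x := by
      simp only [commutatorElement_def]; group
    have hc : (⁅a, x⁆)⁻¹ ∈ center G := (center G).inv_mem (hx a ha)
    have h2 : x⁻¹ * (⁅a, x⁆)⁻¹ * x = (⁅a, x⁆)⁻¹ := by
      rw [Subgroup.mem_center_iff.1 hc x⁻¹]; group
    rw [h1, h2]
    exact hc

lemma mem_T {A : Subgroup G} {x : G} : x ∈ T A ↔ ∀ a ∈ A, ⁅a, x⁆ ∈ center G := Iff.rfl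

/-- Commutators of elements of `T A` centralize `A`. -/
lemma comm_mem_centralizer {A : Subgroup G} {x y : G} (hx : x ∈ T A) (hy : y ∈ T A) :
    ⁅x, y⁆ ∈ centralizer (A : Set G) := by
  rw [Subgroup.mem_centralizer_iff]
  intro a ha
  have h1 : a * ⁅x, y⁆ * a⁻¹ = ⁅⁅a, x⁆ * x, ⁅a, y⁆ * y⁆ := by
    simp only [commutatorElement_def]; group
  rw [comm_central_left (hx a ha), comm_central_right (hy a ha)] at h1
  calc a * ⁅x, y⁆ = a * ⁅x, y⁆ * a⁻¹ * a := by group
    _ = ⁅x, y⁆ * a := by rw [h1]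

/-- If `C_G(A) ≤ A` then any four elements of `T A` have trivial iterated commutator. -/
lemma comm4_eq_one {A : Subgroup G} (hCA : centralizer (A : Set G) ≤ A) {x y z w : G}
    (hx : x ∈ T A) (hy : y ∈ T A) (hz : z ∈ T A) : ⁅⁅⁅x, y⁆, z⁆, w⁆ = 1 := by
  have h1 : ⁅x, y⁆ ∈ A := hCA (comm_mem_centralizer hx hy)
  have h2 : ⁅⁅x, y⁆, z⁆ ∈ center G := hz _ h1
  rw [commutatorElement_eq_one_iff_mul_comm]
  exact (Subgroup.mem_center_iff.1 h2 w).symm

/-- Any subgroup of `T A` has class at most 3 if `C_G(A) ≤ A`. -/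
theorem upperCentralSeries_three_eq_top {A : Subgroup G} (hCA : centralizer (A : Set G) ≤ A)
    (M : Subgroup G) (hM : M ≤ T A) : Subgroup.upperCentralSeries M 3 = ⊤ := by
  rw [eq_top_iff]
  intro x _
  rw [Subgroup.mem_upperCentralSeries_succ_iff]
  intro y
  rw [Subgroup.mem_upperCentralSeries_succ_iff]
  intro z
  rw [Subgroup.mem_upperCentralSeries_succ_iff]
  intro w
  rw [Subgroup.upperCentralSeries_zero, Subgroup.mem_bot]
  apply Subtype.ext
  have := comm4_eq_one hCA (w := (w : G)) (hM x.2) (hM y.2) (hM z.2)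
  simp only [commutatorElement_def] at this ⊢
  push_cast
  exact this

/-- Isaacs' lemma: if `x` has the minimal noncentral class size then `[A, x] ≤ Z(G)` for every
abelian normal subgroup `A`. -/
theorem comm_mem_center_of_min [Finite G] (A : Subgroup G) [A.Normal]
    (hA : ∀ a ∈ A, ∀ b ∈ A, a * b = b * a) (x : G)
    (hmin : ∀ y : G, 1 < (centralizer ({y} : Set G)).index →
      (centralizer ({x} : Set G)).index ≤ (centralizer ({y} : Set G)).index)
    (a₀ : G) (ha₀ : a₀ ∈ A) : ⁅a₀, x⁆ ∈ center G := by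
  by_contra hd
  set d := ⁅a₀, x⁆ with hd_def
  have hdA : d ∈ A := by
    have : d = a₀ * (x * a₀⁻¹ * x⁻¹) := by rw [hd_def, commutatorElement_def]; group
    rw [this]
    exact A.mul_mem ha₀ (‹A.Normal›.conj_mem _ (A.inv_mem ha₀) x)
  have hd1 : d ≠ 1 := by
    intro h; apply hd; rw [h]; exact (center G).one_mem
  set C := centralizer ({x} : Set G) with hC
  set Cd := centralizer ({d} : Set G) with hCd
  -- index of Cd is > 1
  have hidx : 1 < Cd.index := by
    have h0 : Cd.index ≠ 0 := Subgroup.index_ne_zero_of_finite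
    have h1 : Cd.index ≠ 1 := by
      intro h
      rw [Subgroup.index_eq_one] at h
      apply hd
      rw [Subgroup.mem_center_iff]
      intro g
      have : g ∈ Cd := h ▸ Subgroup.mem_top g
      rw [hCd, Subgroup.mem_centralizer_singleton_iff] at this
      exact this
    omega
  have hle := hmin d hidx
  -- A ≤ Cd
  have hACd : A ≤ Cd := by
    intro a ha
    rw [hCd, Subgroup.mem_centralizer_singleton_iff]
    exact hA a ha d hdA
  set K := Cd ⊓ C with hK
  have hKC : K ≤ C := inf_le_right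
  have hKCd : K ≤ Cd := inf_le_left
  have hHCd : A ⊔ K ≤ Cd := sup_le hACd hKCd
  -- card (A ⊔ K) * card (A ⊓ K) = card A * card K
  have e1 : Nat.card A * A.relIndex (A ⊔ K) = Nat.card (A ⊔ K : Subgroup G) :=
    card_mul_relIndex' le_sup_left
  have e2 : A.relIndex (A ⊔ K) = A.relIndex K := Subgroup.relIndex_sup_left K A
  have e3 : Nat.card (A ⊓ K : Subgroup G) * (A ⊓ K).relIndex K = Nat.card K :=
    card_mul_relIndex' inf_le_right
  have e4 : (A ⊓ K).relIndex K = A.relIndex K := Subgroup.inf_relIndex_right A K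
  have hAK : A ⊓ K = A ⊓ C := by
    rw [hK, ← inf_assoc, inf_eq_left.2 hACd]
  have e5 : Nat.card (A ⊓ C : Subgroup G) * (A ⊓ C).relIndex A = Nat.card A :=
    card_mul_relIndex' inf_le_left
  have e6 : (A ⊓ C).relIndex A = C.relIndex A := Subgroup.inf_relIndex_left A C
  have e7 : Nat.card K * K.relIndex C = Nat.card C := card_mul_relIndex' hKC
  have e8 : K.relIndex C = Cd.relIndex C := Subgroup.inf_relIndex_right Cd C
  -- orbit sizes
  have o1 : C.relIndex A = {e : G | ∃ a ∈ A, a * x * a⁻¹ = e}.ncard :=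
    relIndex_centralizer_eq_ncard A x
  have o2 : Cd.relIndex C = {e : G | ∃ c ∈ C, c * d * c⁻¹ = e}.ncard :=
    relIndex_centralizer_eq_ncard C d
  -- injection
  have hlt : Cd.relIndex C < C.relIndex A := by
    rw [o1, o2]
    have hfin : ({e : G | ∃ a ∈ A, a * x * a⁻¹ = e}).Finite := Set.toFinite _
    have hsub : (fun e => e * x) '' {e : G | ∃ c ∈ C, c * d * c⁻¹ = e} ⊆
        {e : G | ∃ a ∈ A, a * x * a⁻¹ = e} \ {x} := by
      rintro _ ⟨_, ⟨c, hc, rfl⟩, rfl⟩
      have hcx : c * x = x * c := by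
        rw [hC, Subgroup.mem_centralizer_singleton_iff] at hc; exact hc
      have hcx' : c⁻¹ * x = x * c⁻¹ := by
        have := congrArg (fun g => c⁻¹ * g * c⁻¹) hcx
        beta_reduce at this
        rw [show c⁻¹ * (c * x) * c⁻¹ = x * c⁻¹ by group,
          show c⁻¹ * (x * c) * c⁻¹ = c⁻¹ * x by group] at this
        exact this.symm
      refine ⟨⟨c * a₀ * c⁻¹, ‹A.Normal›.conj_mem _ ha₀ c, ?_⟩, ?_⟩
      · -- c a₀ c⁻¹ x (c a₀ c⁻¹)⁻¹ = c d c⁻¹ x
        show c * a₀ * c⁻¹ * x * (c * a₀ * c⁻¹)⁻¹ = c * d * c⁻¹ * x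
        rw [hd_def, commutatorElement_def]
        calc c * a₀ * c⁻¹ * x * (c * a₀ * c⁻¹)⁻¹
            = c * a₀ * (c⁻¹ * x) * c * a₀⁻¹ * c⁻¹ := by group
          _ = c * a₀ * (x * c⁻¹) * c * a₀⁻¹ * c⁻¹ := by rw [hcx']
          _ = c * (a₀ * x * a₀⁻¹ * x⁻¹) * (x * c⁻¹) := by group
          _ = c * (a₀ * x * a₀⁻¹ * x⁻¹) * (c⁻¹ * x) := by rw [hcx']
          _ = c * (a₀ * x * a₀⁻¹ * x⁻¹) * c⁻¹ * x := by group
      · intro h
        rw [Set.mem_singleton_iff] at h
        apply hd1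
        have : c * d * c⁻¹ = 1 := by
          have := congrArg (fun g => g * x⁻¹) h
          simpa using this
        have := congrArg (fun g => c⁻¹ * g * c) this
        beta_reduce at this
        rw [show c⁻¹ * (c * d * c⁻¹) * c = d by group, show c⁻¹ * 1 * c = 1 by group] at this
        exact this
    have hinj : Set.InjOn (fun e : G => e * x) {e : G | ∃ c ∈ C, c * d * c⁻¹ = e} := by
      intro e₁ _ e₂ _ h
      exact mul_right_cancel h
    have hx_mem : x ∈ {e : G | ∃ a ∈ A, a * x * a⁻¹ = e} := ⟨1, A.one_mem, by group⟩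
    calc {e : G | ∃ c ∈ C, c * d * c⁻¹ = e}.ncard
        = ((fun e => e * x) '' {e : G | ∃ c ∈ C, c * d * c⁻¹ = e}).ncard :=
          (Set.InjOn.ncard_image hinj).symm
      _ ≤ ({e : G | ∃ a ∈ A, a * x * a⁻¹ = e} \ {x}).ncard :=
          Set.ncard_le_ncard hsub (hfin.subset Set.sdiff_subset)
      _ < {e : G | ∃ a ∈ A, a * x * a⁻¹ = e}.ncard :=
          Set.ncard_sdiff_singleton_lt_of_mem hx_mem hfin
  -- arithmetic
  have hcardK : 0 < Nat.card K := Nat.card_pos
  have hcardAC : 0 < Nat.card (A ⊓ C : Subgroup G) := Nat.card_pos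
  have hHK : Nat.card (A ⊔ K : Subgroup G) = C.relIndex A * Nat.card K := by
    have : Nat.card (A ⊔ K : Subgroup G) * Nat.card (A ⊓ C : Subgroup G)
        = C.relIndex A * Nat.card K * Nat.card (A ⊓ C : Subgroup G) := by
      rw [← e1, e2, ← e5, e6, ← e3, e4, hAK]
      ring
    exact Nat.eq_of_mul_eq_mul_right hcardAC this
  have hlt2 : Nat.card C < Nat.card Cd := by
    calc Nat.card C = Nat.card K * Cd.relIndex C := by rw [← e7, e8]
      _ < Nat.card K * C.relIndex A := Nat.mul_lt_mul_of_pos_left hlt hcardK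
      _ = Nat.card (A ⊔ K : Subgroup G) := by rw [hHK, mul_comm]
      _ ≤ Nat.card Cd := Nat.le_of_dvd Nat.card_pos (Subgroup.card_dvd_of_le hHCd)
  -- index comparison
  have i1 : Nat.card C * C.index = Nat.card G := Subgroup.card_mul_index C
  have i2 : Nat.card Cd * Cd.index = Nat.card G := Subgroup.card_mul_index Cd
  have hpos : 0 < C.index := Nat.pos_of_ne_zero Subgroup.index_ne_zero_of_finite
  have : Nat.card C * C.index < Nat.card Cd * Cd.index := by
    calc Nat.card C * C.index < Nat.card Cd * C.index := Nat.mul_lt_mul_of_pos_right hlt2 hpos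
      _ ≤ Nat.card Cd * Cd.index := Nat.mul_le_mul_left _ hle
  rw [i1, i2] at this
  exact lt_irrefl _ this

end Cfsg.Agent.Lib.H21.SmallClasses
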