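import Mathlib

set_option autoImplicit false

namespace Cfsg.Agent.Lib.H21

open Subgroup

theorem card_mul_relIndex' {G : Type*} [Group G] {A B : Subgroup G} (h : A ≤ B) :
    Nat.card A * A.relIndex B = Nat.card B := by
  have h1 := Subgroup.card_mul_index (A.subgroupOf B)
  have h2 : Nat.card (A.subgroupOf B) = Nat.card A :=
    Nat.card_congr (Subgroup.subgroupOfEquivOfLe h).toEquiv
  rw [h2] at h1
  exact h1

/-- for `H` normal, `|KH : K| = |H : H ∩ K|` -/
theorem relIndex_sup_of_normal {G : Type*} [Group G] [Finite G] (H K : Subgroup G) [H.Normal] :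
    K.relIndex (K ⊔ H) = K.relIndex H := by
  have e1 := card_mul_relIndex' (le_sup_right : H ≤ K ⊔ H)
  rw [Subgroup.relIndex_sup_right] at e1
  have e2 := card_mul_relIndex' (inf_le_right : H ⊓ K ≤ K)
  rw [Subgroup.inf_relIndex_right] at e2
  have e3 := card_mul_relIndex' (le_sup_left : K ≤ K ⊔ H)
  have e4 := card_mul_relIndex' (inf_le_left : H ⊓ K ≤ H)
  rw [Subgroup.inf_relIndex_left] at e4
  have hpos : 0 < Nat.card (H ⊓ K : Subgroup G) * H.relIndex K := by
    rw [e2]; exact Nat.card_pos
  have : Nat.card (H ⊓ K : Subgroup G) * H.relIndex K * K.relIndex H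
      = Nat.card (H ⊓ K : Subgroup G) * H.relIndex K * K.relIndex (K ⊔ H) := by
    calc Nat.card (H ⊓ K : Subgroup G) * H.relIndex K * K.relIndex H
        = (Nat.card (H ⊓ K : Subgroup G) * K.relIndex H) * H.relIndex K := by ring
      _ = Nat.card H * H.relIndex K := by rw [e4]
      _ = Nat.card (K ⊔ H : Subgroup G) := e1
      _ = Nat.card K * K.relIndex (K ⊔ H) := e3.symm
      _ = Nat.card (H ⊓ K : Subgroup G) * H.relIndex K * K.relIndex (K ⊔ H) := by rw [e2]
  exact (Nat.eq_of_mul_eq_mul_left hpos this).symm

/-- If a normal subgroup `N` contains a Sylow `p`-subgroup of `G`, then `N` and `G` have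
the same number of Sylow `p`-subgroups. -/
theorem card_sylow_eq_of_le_normal {G : Type*} [Group G] [Finite G] {p : ℕ} [Fact p.Prime]
    (N : Subgroup G) [N.Normal] (P : Sylow p G) (hP : (P : Subgroup G) ≤ N) :
    Nat.card (Sylow p G) = Nat.card (Sylow p N) := by
  rw [P.card_eq_index_normalizer, (P.subtype hP).card_eq_index_normalizer]
  have h1 : normalizer (P : Set G) ⊔ N = ⊤ := Sylow.normalizer_sup_eq_top' P hP
  have h2 := relIndex_sup_of_normal N (normalizer (P : Set G))
  rw [h1, Subgroup.relIndex_top_right] at h2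
  rw [h2]
  have h3 := Subgroup.subgroupOf_normalizer_eq hP
  show ((normalizer (P : Set G)).subgroupOf N).index = _
  exact congrArg Subgroup.index h3

/-- A Sylow `p`-subgroup lies in every normal subgroup of index prime to `p`. -/
theorem sylow_le_of_normal_of_not_dvd_index {G : Type*} [Group G] [Finite G] {p : ℕ} [Fact p.Prime]
    (N : Subgroup G) [N.Normal] (hp : ¬ p ∣ N.index) (P : Sylow p G) : (P : Subgroup G) ≤ N := by
  have hpg : IsPGroup p ((P : Subgroup G).map (QuotientGroup.mk' N)) := P.isPGroup'.map _
  rcases hpg.card_eq_or_dvd with h1 | h1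
  · rw [Subgroup.card_eq_one, Subgroup.map_eq_bot_iff, QuotientGroup.ker_mk'] at h1
    exact h1
  · exfalso
    apply hp
    rw [Subgroup.index_eq_card]
    exact h1.trans (Subgroup.card_subgroup_dvd_card _)

/-- For a surjective homomorphism with central kernel, Sylow subgroups correspond bijectively. -/
theorem mapSurjective_bijective_of_ker_le_center {G G' : Type*} [Group G] [Finite G] [Group G']
    {p : ℕ} [Fact p.Prime] {f : G →* G'} (hf : Function.Surjective f)
    (hker : f.ker ≤ Subgroup.center G) :
    Function.Bijective (Sylow.mapSurjective hf : Sylow p G → Sylow p G') := by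
  refine ⟨?_, Sylow.mapSurjective_surjective hf p⟩
  intro P Q hPQ
  have h1 : (P : Subgroup G).map f = (Q : Subgroup G).map f := by
    have := congrArg (fun S : Sylow p G' => (S : Subgroup G')) hPQ
    simpa using this
  have h2 : (P : Subgroup G) ⊔ f.ker = (Q : Subgroup G) ⊔ f.ker := by
    rw [← Subgroup.comap_map_eq, ← Subgroup.comap_map_eq, h1]
  set M : Subgroup G := (P : Subgroup G) ⊔ f.ker with hM
  have hPM : (P : Subgroup G) ≤ M := le_sup_left
  have hQM : (Q : Subgroup G) ≤ M := by rw [h2]; exact le_sup_left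
  -- P is normal in M
  have hnorm : ((P.subtype hPM : Sylow p M) : Subgroup M).Normal := by
    rw [P.coe_subtype, Subgroup.normal_subgroupOf_iff_le_normalizer hPM]
    apply sup_le Subgroup.le_normalizer
    intro k hk
    have hc := hker hk
    rw [Subgroup.mem_normalizer_iff]
    intro h
    have : k * h * k⁻¹ = h := by
      rw [(Subgroup.mem_center_iff.mp hc h).symm]; group
    rw [this]
  have := Sylow.unique_of_normal (P.subtype hPM) hnorm
  have heq : P.subtype hPM = Q.subtype hQM := Subsingleton.elim _ _
  exact Sylow.subtype_injective heq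

theorem card_sylow_eq_of_surjective_of_ker_le_center {G G' : Type*} [Group G] [Finite G] [Group G']
    {p : ℕ} [Fact p.Prime] {f : G →* G'} (hf : Function.Surjective f)
    (hker : f.ker ≤ Subgroup.center G) :
    Nat.card (Sylow p G) = Nat.card (Sylow p G') :=
  Nat.card_congr (Equiv.ofBijective _ (mapSurjective_bijective_of_ker_le_center hf hker))

end Cfsg.Agent.Lib.H21
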