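import Mathlib
import Cfsg.Agent.Lib.H21.Ito2
import Cfsg.Agent.Lib.H21.SmallClasses
import Cfsg.Agent.Lib.H21.SylowCount
import Cfsg.Agent.Lib.H8.PGroup
import Cfsg.Agent.Lib.H25.ExponentUCS

set_option autoImplicit false

open Subgroup
open scoped commutatorElement

namespace Cfsg.Agent.Lib.H21.Ito

variable {G : Type*} [Group G] [Finite G] {n : ℕ}

/-- Itô: with two class sizes, `G / Z(G)` is a `p`-group. -/
theorem Two.exists_prime (h : Two G n) :
    ∃ p : ℕ, p.Prime ∧ ∀ g : G, ∃ k, g ^ (p ^ k) ∈ center G := by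
  rcases h.dichotomy with h1 | ⟨hab, p, q, hp, hq, hpq, hx, hy⟩
  · exact h1
  · exact (h.false_of_abelian hab hp hq hpq hx hy).elim

omit [Finite G] in
lemma comm_pow_right' {a y : G} (hz : ⁅a, y⁆ ∈ center G) (m : ℕ) : ⁅a, y ^ m⁆ = ⁅a, y⁆ ^ m := by
  have hz' : ⁅y, a⁆ ∈ center G := by
    rw [← commutatorElement_inv]; exact (center G).inv_mem hz
  have hc : Commute y ⁅y, a⁆ := (Subgroup.mem_center_iff.1 hz' y)
  have := Cfsg.Agent.Lib.H25.comm_pow_of_commute y a hc m
  rw [← commutatorElement_inv, this, ← commutatorElement_inv a y, inv_pow, inv_inv]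

omit [Finite G] in
lemma comm_pow_left' {a y : G} (hz : ⁅a, y⁆ ∈ center G) (m : ℕ) : ⁅a ^ m, y⁆ = ⁅a, y⁆ ^ m :=
  Cfsg.Agent.Lib.H25.comm_pow_of_commute a y (Subgroup.mem_center_iff.1 hz a) m

/-- A `p`-group with class sizes in `{1, n}` has an abelian normal subgroup with quotient of
exponent dividing `p`. -/
theorem exists_abelian_normal_exponent {Q : Type*} [Group Q] [Finite Q] {p : ℕ} [Fact p.Prime]
    (hQ : IsPGroup p Q) (n : ℕ) (h : ∀ y : Q, (Cx y).index = 1 ∨ (Cx y).index = n) :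
    ∃ A : Subgroup Q, A.Normal ∧ IsMulCommutative A ∧ ∀ y : Q, y ^ p ∈ A := by
  have hp : p.Prime := Fact.out
  have : IsMulCommutative (⊥ : Subgroup Q) := ⟨⟨fun a b => Subsingleton.elim _ _⟩⟩
  obtain ⟨A, -, hAn, hAc, hCA⟩ := Cfsg.Agent.Lib.H8.exists_normal_selfCentralizing hQ ⊥
  have hA' : ∀ a ∈ A, ∀ b ∈ A, a * b = b * a := by
    intro a ha b hb
    have := hAc.is_comm.comm ⟨a, ha⟩ ⟨b, hb⟩
    exact congrArg Subtype.val this
  refine ⟨A, hAn, hAc, ?_⟩
  -- step a
  have stepa : ∀ a ∈ A, ∀ y : Q, ⁅a, y⁆ ∈ center Q := by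
    intro a ha y
    rcases h y with hy | hy
    · have hyZ : y ∈ center Q := Cx_eq_top_iff.1 (Subgroup.index_eq_one.1 hy)
      have : ⁅a, y⁆ = 1 := by
        rw [commutatorElement_eq_one_iff_mul_comm]
        exact Subgroup.mem_center_iff.1 hyZ a
      rw [this]; exact (center Q).one_mem
    · refine Cfsg.Agent.Lib.H21.SmallClasses.comm_mem_center_of_min A hA' y (fun y' hy' => ?_) a ha
      rcases h y' with h1 | h1
      · change 1 < (Cx y').index at hy'
        omega
      · change (Cx y).index ≤ (Cx y').index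
        rw [hy, h1]
  -- step b
  have stepb : ∀ a ∈ A, a ^ p ∈ center Q := by
    intro a ha
    by_contra hap
    have haZ : a ∉ center Q := fun haZ => hap ((center Q).pow_mem haZ p)
    have hn1 : (Cx a).index = n := by
      rcases h a with h1 | h1
      · exact absurd (Cx_eq_top_iff.1 (Subgroup.index_eq_one.1 h1)) haZ
      · exact h1
    have hone : 1 < n := by
      have h0 : (Cx a).index ≠ 0 := Subgroup.index_ne_zero_of_finite
      have h1 : (Cx a).index ≠ 1 := by
        intro h1; exact haZ (Cx_eq_top_iff.1 (Subgroup.index_eq_one.1 h1))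
      omega
    have hTwo : Two Q n := ⟨h, hone⟩
    have hCeq : Cx a = Cx (a ^ p) :=
      hTwo.Cx_eq_of_le haZ hap (Cx_le_of_mem_zpowers (Subgroup.pow_mem _ (Subgroup.mem_zpowers a) p))
    -- find y₀
    have : ∃ y₀ : Q, ⁅a, y₀⁆ ≠ 1 := by
      by_contra hcon
      push Not at hcon
      apply haZ
      rw [Subgroup.mem_center_iff]
      intro g
      have := hcon g
      rw [commutatorElement_eq_one_iff_mul_comm] at this
      exact this.symm
    obtain ⟨y₀, hy₀⟩ := this
    set z₀ := ⁅a, y₀⁆ with hz₀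
    have hz₀Z : z₀ ∈ center Q := stepa a ha y₀
    obtain ⟨k, hk⟩ := IsPGroup.iff_orderOf.1 hQ z₀
    have hk0 : k ≠ 0 := by
      intro h0
      rw [h0, pow_zero, orderOf_eq_one_iff] at hk
      exact hy₀ hk
    obtain ⟨k', rfl⟩ : ∃ k', k = k' + 1 := ⟨k - 1, by omega⟩
    set y := y₀ ^ (p ^ k') with hy
    have h1 : ⁅a, y⁆ = z₀ ^ (p ^ k') := comm_pow_right' hz₀Z _
    have h2 : ⁅a, y⁆ ≠ 1 := by
      rw [h1]
      intro h3
      have := orderOf_dvd_of_pow_eq_one h3
      rw [hk, pow_succ] at this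
      have hpos : 0 < p ^ k' := pow_pos hp.pos _
      have := Nat.le_of_dvd hpos this
      have : 1 < p := hp.one_lt
      nlinarith
    have h3 : ⁅a ^ p, y⁆ = 1 := by
      have hzy : ⁅a, y⁆ ∈ center Q := stepa a ha y
      rw [comm_pow_left' hzy, h1, ← pow_mul, ← pow_succ, ← hk, pow_orderOf_eq_one]
    have h4 : y ∈ Cx (a ^ p) := by
      rw [mem_Cx]
      rw [commutatorElement_eq_one_iff_mul_comm] at h3
      exact h3.symm
    rw [← hCeq, mem_Cx] at h4
    apply h2
    rw [commutatorElement_eq_one_iff_mul_comm]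
    exact h4.symm
  -- conclusion
  intro y
  have : y ^ p ∈ centralizer (A : Set Q) := by
    rw [Subgroup.mem_centralizer_iff]
    intro a ha
    have hz : ⁅a, y⁆ ∈ center Q := stepa a ha y
    have h1 : ⁅a, y ^ p⁆ = 1 := by
      rw [comm_pow_right' hz, ← comm_pow_left' hz, commutatorElement_eq_one_iff_mul_comm]
      exact (Subgroup.mem_center_iff.1 (stepb a ha) y).symm
    rw [commutatorElement_eq_one_iff_mul_comm] at h1
    exact h1
  rw [hCA] at this
  exact this

end Cfsg.Agent.Lib.H21.Ito
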