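import Mathlib

set_option autoImplicit false

namespace Cfsg.Agent.Lib.H21

open MulAction

/-- orbit-stabilizer for conjugation, in `Nat.card` form -/
theorem card_conj_mul_card_centralizer {G : Type*} [Group G] [Finite G] (g : G) :
    Nat.card {h : G // IsConj g h} * Nat.card (Subgroup.centralizer ({g} : Set G)) = Nat.card G := by
  classical
  have e1 : {h : G // IsConj g h} ≃ orbit (ConjAct G) g :=
    Equiv.subtypeEquivRight (fun h => by rw [ConjAct.mem_orbit_conjAct, isConj_comm])
  have e2 : Subgroup.centralizer ({g} : Set G) ≃ stabilizer (ConjAct G) g :=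
    (ConjAct.toConjAct (G := G)).toEquiv.subtypeEquiv (fun a => by
      rw [Subgroup.centralizer_eq_comap_stabilizer]; rfl)
  have e3 := orbitProdStabilizerEquivGroup (ConjAct G) g
  rw [Nat.card_congr e1, Nat.card_congr e2, ← Nat.card_prod, Nat.card_congr e3]
  exact Nat.card_congr (ConjAct.toConjAct (G := G)).toEquiv.symm

/-- class size equals index of the centralizer -/
theorem card_conj_eq_index_centralizer {G : Type*} [Group G] [Finite G] (g : G) :
    Nat.card {h : G // IsConj g h} = (Subgroup.centralizer ({g} : Set G)).index := by
  have h1 := card_conj_mul_card_centralizer g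
  have h2 := Subgroup.index_mul_card (Subgroup.centralizer ({g} : Set G))
  have hpos : 0 < Nat.card (Subgroup.centralizer ({g} : Set G)) := Nat.card_pos
  exact Nat.eq_of_mul_eq_mul_right hpos (h1.trans h2.symm)

theorem card_carrier_eq_index_centralizer {G : Type*} [Group G] [Finite G] (g : G) :
    Nat.card (ConjClasses.mk g).carrier = (Subgroup.centralizer ({g} : Set G)).index := by
  rw [← card_conj_eq_index_centralizer]
  apply Nat.card_congr
  apply Equiv.subtypeEquivRight
  intro h
  rw [ConjClasses.mem_carrier_iff_mk_eq, ConjClasses.mk_eq_mk_iff_isConj, isConj_comm]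

end Cfsg.Agent.Lib.H21
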