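import Cfsg.Agent.Lib.H1.G85.Defs
import Cfsg.Agent.Lib.H1.PCore

/-!
# S4385, piece (DIH): the dihedral facts

`H / O_2(H) ≃ D_n`, `O_2(H) ≠ 1`, `P` a 2-subgroup of odd index in `H`: then `n` is odd, `O_2(H) ≤ P` has index 2,
and for a preimage `x` of the rotation `r 1` the subgroups `P`, `x P x⁻¹` generate `H` and meet in `O_2(H)`.
-/

set_option autoImplicit false
set_option maxHeartbeats 800000

open scoped Pointwise

namespace Cfsg.Agent.Lib.H21.G85

open DihedralGroup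

section dihedral

variable {n : ℕ}

theorem dih_r_pow (a : ZMod n) (k : ℕ) : (r a : DihedralGroup n) ^ k = r ((k : ZMod n) * a) := by
  induction k with
  | zero => rw [pow_zero, Nat.cast_zero, zero_mul, DihedralGroup.r_zero]
  | succ k ih =>
    rw [pow_succ, ih, DihedralGroup.r_mul_r]
    congr 1
    push_cast
    ring

theorem dih_zmod_cancel (hn : Odd n) (k : ℕ) (j : ZMod n) (h : ((2 ^ k : ℕ) : ZMod n) * j = 0) : j = 0 := by
  have hcop : Nat.Coprime (2 ^ k) n := Nat.Coprime.pow_left k (Nat.coprime_two_left.2 hn)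
  have hu : IsUnit ((2 ^ k : ℕ) : ZMod n) := (ZMod.isUnit_iff_coprime _ _).2 hcop
  exact (hu.mul_right_eq_zero).1 h

/-- in `D_n`, `n` odd, an element of 2-power order is `1` or a reflection -/
theorem dih_two_elt (hn : Odd n) (d : DihedralGroup n) (k : ℕ) (h : d ^ (2 ^ k) = 1) :
    d = 1 ∨ ∃ j, d = sr j := by
  cases d with
  | r a =>
    left
    rw [dih_r_pow, DihedralGroup.one_def] at h
    have h' : ((2 ^ k : ℕ) : ZMod n) * a = 0 := by
      have := DihedralGroup.r.inj h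
      simpa using this
    rw [dih_zmod_cancel hn k a h', DihedralGroup.one_def]
  | sr a => exact Or.inr ⟨a, rfl⟩

theorem dih_two_ne_zero (hn : Odd n) (h3 : 3 ≤ n) : (2 : ZMod n) ≠ 0 := by
  intro h
  have h2 : ((2 : ℕ) : ZMod n) = 0 := by simpa using h
  have := (ZMod.natCast_eq_zero_iff 2 n).1 h2
  have := Nat.le_of_dvd (by norm_num) this
  omega

theorem dih_sr_ne (hn : Odd n) (h3 : 3 ≤ n) (i : ZMod n) : (sr (i - 2) : DihedralGroup n) ≠ sr i := by
  intro h
  have h1 : i - 2 = i := DihedralGroup.sr.inj h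
  have : (2 : ZMod n) = 0 := by
    have := sub_eq_self.1 h1
    exact this
  exact dih_two_ne_zero hn h3 this

theorem dih_sr_ne_one (i : ZMod n) : (sr i : DihedralGroup n) ≠ 1 := by
  rw [DihedralGroup.one_def]
  intro h
  cases h

/-- every rotation is a power of `r (-2)` when `n` is odd -/
theorem dih_exists_pow (hn : Odd n) (j : ZMod n) : ∃ k : ℕ, (r (-2) : DihedralGroup n) ^ k = r j := by
  have hcop : Nat.Coprime 2 n := Nat.coprime_two_left.2 hn
  have hinv : ((2 : ℕ) : ZMod n) * ((2 : ℕ) : ZMod n)⁻¹ = 1 := ZMod.coe_mul_inv_eq_one 2 hcop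
  have : NeZero n := ⟨by rintro rfl; simp at hn⟩
  refine ⟨(-j * ((2 : ℕ) : ZMod n)⁻¹).val, ?_⟩
  rw [dih_r_pow]
  congr 1
  rw [ZMod.natCast_zmod_val]
  have h2 : ((2 : ℕ) : ZMod n) = 2 := by norm_num
  rw [h2] at hinv ⊢
  calc -j * (2 : ZMod n)⁻¹ * -2 = j * ((2 : ZMod n) * (2 : ZMod n)⁻¹) := by ring
    _ = j := by rw [hinv, mul_one]

end dihedral

variable {G : Type*} [Group G] [Finite G]

/-- (DIH) dihedral facts: `x` = a preimage of the rotation `r 1`. -/
theorem dih (H : Subgroup G) (hO : Cfsg.pCore 2 ↥H ≠ ⊥) (n : ℕ) (hn : 2 ≤ n)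
    (hdih : Nonempty (↥H ⧸ Cfsg.pCore 2 ↥H ≃* DihedralGroup n))
    (P : Subgroup G) (hPH : P ≤ H) (hP : IsPGroup 2 P) (hPsyl : ¬ 2 ∣ P.relIndex H) :
    ∃ x ∈ H, P ⊔ MulAut.conj x • P = H ∧
      (P ⊓ MulAut.conj x • P).relIndex (MulAut.conj x • P) = 2 ∧
      H ≤ Subgroup.normalizer ((P ⊓ MulAut.conj x • P : Subgroup G) : Set G) ∧
      P ⊓ MulAut.conj x • P ≠ ⊥ := by
  classical
  have : Fact (Nat.Prime 2) := ⟨Nat.prime_two⟩
  obtain ⟨e⟩ := hdih
  set N : Subgroup ↥H := Cfsg.pCore 2 ↥H with hNdef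
  have hNn : N.Normal := Cfsg.Agent.Lib.H1.pCore_normal 2 ↥H
  have hNp : IsPGroup 2 N := Cfsg.Agent.Lib.H1.pCore_isPGroup 2 ↥H
  let φ : ↥H →* DihedralGroup n := e.toMonoidHom.comp (QuotientGroup.mk' N)
  have hφsurj : Function.Surjective φ := e.surjective.comp (QuotientGroup.mk'_surjective N)
  have hφker : ∀ g : ↥H, φ g = 1 ↔ g ∈ N := by
    intro g
    change e (QuotientGroup.mk' N g) = 1 ↔ g ∈ N
    rw [MulEquiv.map_eq_one_iff]
    exact QuotientGroup.eq_one_iff g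
  -- STEP A: `n` is odd
  have hodd : Odd n := by
    by_contra hne
    rw [Nat.not_odd_iff_even] at hne
    obtain ⟨m, hm⟩ := hne
    have hm1 : 1 ≤ m := by omega
    set c : DihedralGroup n := r (m : ZMod n) with hc
    have h2m : ((m : ZMod n) + (m : ZMod n)) = 0 := by
      have : ((m + m : ℕ) : ZMod n) = 0 := by rw [← hm]; exact ZMod.natCast_self n
      simpa using this
    have hcc : c * c = 1 := by
      rw [hc, DihedralGroup.r_mul_r, h2m, DihedralGroup.one_def]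
    have hcne : c ≠ 1 := by
      rw [hc, DihedralGroup.one_def]
      intro h
      have h0 : (m : ZMod n) = 0 := DihedralGroup.r.inj h
      have := (ZMod.natCast_eq_zero_iff m n).1 h0
      have := Nat.le_of_dvd (by omega) this
      omega
    have hccomm : ∀ d : DihedralGroup n, d * c = c * d := by
      intro d
      cases d with
      | r a => rw [hc, DihedralGroup.r_mul_r, DihedralGroup.r_mul_r, add_comm]
      | sr a =>
        rw [hc, DihedralGroup.sr_mul_r, DihedralGroup.r_mul_sr]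
        congr 1
        have : (m : ZMod n) = -(m : ZMod n) := eq_neg_of_add_eq_zero_left h2m
        rw [sub_eq_add_neg, ← this]
    -- the subgroup `{1, c}`
    have hmemZ : ∀ d : DihedralGroup n, d ∈ Subgroup.zpowers c → d * d = 1 := by
      intro d hd
      obtain ⟨k, rfl⟩ := Subgroup.mem_zpowers_iff.1 hd
      rw [← zpow_add, ← two_mul, zpow_mul, zpow_ofNat, pow_two, hcc, one_zpow]
    have hZn : (Subgroup.zpowers c).Normal := by
      refine ⟨fun d hd g => ?_⟩
      have : g * d * g⁻¹ = d := by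
        obtain ⟨k, rfl⟩ := Subgroup.mem_zpowers_iff.1 hd
        have hcomm : Commute g c := hccomm g
        have := (hcomm.zpow_right k).eq
        rw [this, mul_inv_cancel_right]
      rw [this]; exact hd
    set M : Subgroup ↥H := (Subgroup.zpowers c).comap φ with hM
    have hMn : M.Normal := Subgroup.Normal.comap hZn φ
    have hMp : IsPGroup 2 M := by
      intro ⟨g, hg⟩
      have hg' : φ g ∈ Subgroup.zpowers c := hg
      have h1 : φ (g * g) = 1 := by rw [map_mul]; exact hmemZ _ hg'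
      have h2 : g * g ∈ N := (hφker _).1 h1
      obtain ⟨k, hk⟩ := hNp ⟨g * g, h2⟩
      refine ⟨k + 1, ?_⟩
      apply Subtype.ext
      have hk' : (g * g) ^ (2 ^ k) = 1 := by
        have := congrArg Subtype.val hk
        simpa using this
      show (g : ↥H) ^ (2 ^ (k + 1)) = 1
      calc (g : ↥H) ^ (2 ^ (k + 1)) = g ^ (2 ^ k * 2) := by rw [pow_succ]
        _ = (g ^ 2) ^ (2 ^ k) := pow_mul' g (2 ^ k) 2
        _ = (g * g) ^ (2 ^ k) := by rw [pow_two]
        _ = 1 := hk'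
    have hMN : M ≤ N := Cfsg.Agent.Lib.H1.le_pCore hMn hMp
    obtain ⟨g0, hg0⟩ := hφsurj c
    have : g0 ∈ M := by
      show φ g0 ∈ Subgroup.zpowers c
      rw [hg0]; exact Subgroup.mem_zpowers c
    have := (hφker g0).2 (hMN this)
    rw [hg0] at this
    exact hcne this
  have h3 : 3 ≤ n := by
    obtain ⟨m, hm⟩ := hodd
    omega
  -- STEP B: `N ≤ P' := P.subgroupOf H`
  set P' : Subgroup ↥H := P.subgroupOf H with hP'
  have hP'p : IsPGroup 2 P' := hP.comap_of_injective H.subtype H.subtype_injective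
  have hP'idx : ¬ 2 ∣ P'.index := hPsyl
  have hNP' : N ≤ P' := by
    have := Cfsg.Agent.Lib.H1.pCore_le_sylow (hP'p.toSylow hP'idx)
    exact this
  -- STEP C: the image of `P'` is `{1, sr i}`
  have hC1 : ∀ g ∈ P', φ g = 1 ∨ ∃ j, φ g = sr j := by
    intro g hg
    obtain ⟨k, hk⟩ := hP'p ⟨g, hg⟩
    have hk' : g ^ (2 ^ k) = 1 := by
      have := congrArg Subtype.val hk
      simpa using this
    apply dih_two_elt hodd (φ g) k
    rw [← map_pow, hk', map_one]
  have hC2 : ∃ s ∈ P', φ s ≠ 1 := by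
    by_contra hcon
    have hcon' : ∀ g ∈ P', φ g = 1 := fun g hg => by_contra (fun h => hcon ⟨g, hg, h⟩)
    have hle : P' ≤ N := fun g hg => (hφker g).1 (hcon' g hg)
    have heq : P' = N := le_antisymm hle hNP'
    have hidx : N.index = 2 * n := by
      rw [Subgroup.index_eq_card, Nat.card_congr e.toEquiv, DihedralGroup.nat_card]
    rw [heq, hidx] at hP'idx
    exact hP'idx (dvd_mul_right 2 n)
  obtain ⟨s, hsP', hsne⟩ := hC2
  obtain ⟨i, hsi⟩ : ∃ i, φ s = sr i := by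
    rcases hC1 s hsP' with h | h
    · exact absurd h hsne
    · exact h
  have hC3 : ∀ g ∈ P', φ g = 1 ∨ φ g = sr i := by
    intro g hg
    rcases hC1 g hg with h | ⟨j, hj⟩
    · exact Or.inl h
    · right
      have hsg : s * g ∈ P' := P'.mul_mem hsP' hg
      have hφsg : φ (s * g) = r (j - i) := by rw [map_mul, hsi, hj, DihedralGroup.sr_mul_sr]
      rcases hC1 _ hsg with h | ⟨j', hj'⟩
      · rw [hφsg, DihedralGroup.one_def] at h
        have : j - i = 0 := DihedralGroup.r.inj h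
        rw [hj, sub_eq_zero.1 this]
      · rw [hφsg] at hj'
        cases hj'
  -- STEP D: the element `x`
  obtain ⟨x, hx⟩ := hφsurj (r 1)
  have hxH : (x : G) ∈ H := x.2
  refine ⟨(x : G), hxH, ?_⟩
  -- `ph g hg = φ ⟨g, hg⟩`
  have hmk_mul : ∀ (a b : G) (ha : a ∈ H) (hb : b ∈ H),
      φ ⟨a * b, H.mul_mem ha hb⟩ = φ ⟨a, ha⟩ * φ ⟨b, hb⟩ := by
    intro a b ha hb
    rw [← map_mul]; rfl
  have hmk_inv : ∀ (a : G) (ha : a ∈ H), φ ⟨a⁻¹, H.inv_mem ha⟩ = (φ ⟨a, ha⟩)⁻¹ := by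
    intro a ha
    rw [← map_inv]; rfl
  have hxeq : φ ⟨(x : G), hxH⟩ = r 1 := hx
  -- elements of `P` and `conj x • P`
  have hPφ : ∀ (g : G) (hg : g ∈ P), φ ⟨g, hPH hg⟩ = 1 ∨ φ ⟨g, hPH hg⟩ = sr i := by
    intro g hg
    exact hC3 ⟨g, hPH hg⟩ (Subgroup.mem_subgroupOf.2 hg)
  have hcPH : MulAut.conj (x : G) • P ≤ H := by
    intro g hg
    rw [Cfsg.Agent.Lib.H5.Glaub.mem_conj_smul] at hg
    have h1 := hPH hg
    have : g = (x : G) * ((x : G)⁻¹ * g * (x : G)) * (x : G)⁻¹ := by group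
    rw [this]
    exact H.mul_mem (H.mul_mem hxH h1) (H.inv_mem hxH)
  have hcPφ : ∀ (g : G) (hg : g ∈ MulAut.conj (x : G) • P),
      φ ⟨g, hcPH hg⟩ = 1 ∨ φ ⟨g, hcPH hg⟩ = sr (i - 2) := by
    intro g hg
    have hg' := hg
    rw [Cfsg.Agent.Lib.H5.Glaub.mem_conj_smul] at hg'
    have hgH := hcPH hg
    have hpH := hPH hg'
    have hdec : (⟨g, hgH⟩ : ↥H) = x * ⟨(x : G)⁻¹ * g * (x : G), hpH⟩ * x⁻¹ := by
      apply Subtype.ext
      show g = (x : G) * ((x : G)⁻¹ * g * (x : G)) * (x : G)⁻¹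
      group
    rw [hdec, map_mul, map_mul, map_inv, hx]
    rcases hPφ _ hg' with h | h
    · left; rw [h, mul_one, mul_inv_cancel]
    · right
      rw [h, DihedralGroup.r_mul_sr]
      have : (r 1 : DihedralGroup n)⁻¹ = r (-1) := rfl
      rw [this, DihedralGroup.sr_mul_r]
      congr 1
      ring
  -- `Q := N.map H.subtype`
  set Q : Subgroup G := N.map H.subtype with hQ
  have hmemQ : ∀ q : G, q ∈ Q ↔ ∃ hq : q ∈ H, (⟨q, hq⟩ : ↥H) ∈ N := by
    intro q
    rw [hQ, Subgroup.mem_map]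
    constructor
    · rintro ⟨⟨a, ha⟩, haN, rfl⟩
      exact ⟨ha, haN⟩
    · rintro ⟨hq, hqN⟩
      exact ⟨⟨q, hq⟩, hqN, rfl⟩
  have hmemQφ : ∀ (q : G) (hq : q ∈ H), q ∈ Q ↔ φ ⟨q, hq⟩ = 1 := by
    intro q hq
    rw [hmemQ, hφker]
    exact ⟨fun ⟨_, h⟩ => h, fun h => ⟨hq, h⟩⟩
  have hQH : Q ≤ H := fun q hq => ((hmemQ q).1 hq).1
  have hQP : Q ≤ P := by
    intro q hq
    obtain ⟨hqH, hqN⟩ := (hmemQ q).1 hq
    exact Subgroup.mem_subgroupOf.1 (hNP' hqN)
  -- `Q` is normalised by `H`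
  have hQnorm : ∀ g ∈ H, ∀ q ∈ Q, g * q * g⁻¹ ∈ Q := by
    intro g hg q hq
    obtain ⟨hqH, hqN⟩ := (hmemQ q).1 hq
    rw [hmemQ]
    refine ⟨H.mul_mem (H.mul_mem hg hqH) (H.inv_mem hg), ?_⟩
    exact hNn.conj_mem ⟨q, hqH⟩ hqN ⟨g, hg⟩
  have hQcP : Q ≤ MulAut.conj (x : G) • P := by
    intro q hq
    rw [Cfsg.Agent.Lib.H5.Glaub.mem_conj_smul]
    apply hQP
    have := hQnorm (x : G)⁻¹ (H.inv_mem hxH) q hq
    simpa using this
  have hsrne : (sr (i - 2) : DihedralGroup n) ≠ sr i := dih_sr_ne hodd h3 i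
  have hQeq : P ⊓ MulAut.conj (x : G) • P = Q := by
    apply le_antisymm
    · intro g hg
      obtain ⟨hg1, hg2⟩ := Subgroup.mem_inf.1 hg
      have e1 : φ ⟨g, hPH hg1⟩ = 1 ∨ φ ⟨g, hPH hg1⟩ = sr i := hPφ g hg1
      have e2 : φ ⟨g, hPH hg1⟩ = 1 ∨ φ ⟨g, hPH hg1⟩ = sr (i - 2) := hcPφ g hg2
      rw [hmemQφ g (hPH hg1)]
      rcases e1 with h | h
      · exact h
      · rcases e2 with h' | h'
        · exact h'
        · rw [h] at h'
          exact absurd h'.symm hsrne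
    · exact le_inf hQP hQcP
  rw [hQeq]
  -- the element `s' = x s x⁻¹`
  set sG : G := (s : G) with hsG
  have hsP : sG ∈ P := Subgroup.mem_subgroupOf.1 hsP'
  set s' : G := (x : G) * sG * (x : G)⁻¹ with hs'
  have hs'cP : s' ∈ MulAut.conj (x : G) • P := Cfsg.Agent.Lib.H5.Glaub.conj_mem_conj_smul hsP
  have hs'H : s' ∈ H := hcPH hs'cP
  have hφs : φ ⟨sG, hPH hsP⟩ = sr i := hsi
  have hφs' : φ ⟨s', hs'H⟩ = sr (i - 2) := by
    rcases hcPφ s' hs'cP with h | h
    · exfalso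
      have h1 : (⟨s', hs'H⟩ : ↥H) = x * s * x⁻¹ := by
        apply Subtype.ext; rfl
      rw [h1, map_mul, map_mul, map_inv, hx, hsi] at h
      have : (sr i : DihedralGroup n) = 1 := by
        have h2 := congrArg (fun d => (r 1 : DihedralGroup n)⁻¹ * d * r 1) h
        simp only [mul_one, inv_mul_cancel] at h2
        rw [← h2]
        group
      exact dih_sr_ne_one i this
    · exact h
  refine ⟨?_, ?_, ?_, ?_⟩
  · -- generation
    apply le_antisymm (sup_le hPH hcPH)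
    intro g hg
    set A : Subgroup G := P ⊔ MulAut.conj (x : G) • P with hA
    have hAH : A ≤ H := sup_le hPH hcPH
    have hsA : sG ∈ A := (le_sup_left : P ≤ A) hsP
    have hs'A : s' ∈ A := (le_sup_right : MulAut.conj (x : G) • P ≤ A) hs'cP
    -- every element of `D_n` is the image of an element of `A`
    have hcover : ∀ d : DihedralGroup n, ∃ (a : G) (ha : a ∈ A), φ ⟨a, hAH ha⟩ = d := by
      have hrot : ∀ j : ZMod n, ∃ (a : G) (ha : a ∈ A), φ ⟨a, hAH ha⟩ = r j := by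
        intro j
        obtain ⟨k, hk⟩ := dih_exists_pow hodd j
        have hρA : sG * s' ∈ A := A.mul_mem hsA hs'A
        refine ⟨(sG * s') ^ k, A.pow_mem hρA k, ?_⟩
        have h1 : (⟨(sG * s') ^ k, hAH (A.pow_mem hρA k)⟩ : ↥H) = (⟨sG * s', hAH hρA⟩ : ↥H) ^ k := by
          apply Subtype.ext; simp
        have h2 : φ ⟨sG * s', hAH hρA⟩ = r (-2) := by
          rw [hmk_mul sG s' (hPH hsP) hs'H, hφs, hφs', DihedralGroup.sr_mul_sr]
          congr 1
          ring
        rw [h1, map_pow, h2, hk]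
      intro d
      cases d with
      | r j => exact hrot j
      | sr j =>
        obtain ⟨a, ha, hφa⟩ := hrot (j - i)
        refine ⟨sG * a, A.mul_mem hsA ha, ?_⟩
        rw [hmk_mul sG a (hPH hsP) (hAH ha), hφs, hφa, DihedralGroup.sr_mul_r]
        congr 1
        ring
    obtain ⟨a, ha, hφa⟩ := hcover (φ ⟨g, hg⟩)
    have haH := hAH ha
    have hq : a⁻¹ * g ∈ Q := by
      rw [hmemQφ _ (H.mul_mem (H.inv_mem haH) hg), hmk_mul _ _ (H.inv_mem haH) hg, hmk_inv a haH, hφa,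
        inv_mul_cancel]
    have : g = a * (a⁻¹ * g) := by group
    rw [this]
    exact A.mul_mem ha ((le_sup_left : P ≤ A) (hQP hq))
  · -- index 2
    rw [Subgroup.relIndex_eq_two_iff]
    refine ⟨s', hs'cP, ?_⟩
    intro b hb
    have hbH := hcPH hb
    have hbs : φ ⟨b * s', H.mul_mem hbH hs'H⟩ = φ ⟨b, hbH⟩ * sr (i - 2) := by
      rw [hmk_mul b s' hbH hs'H, hφs']
    rw [hmemQφ _ (H.mul_mem hbH hs'H), hmemQφ _ hbH, hbs]
    rcases hcPφ b hb with h | h
    · right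
      rw [h, one_mul]
      exact ⟨rfl, dih_sr_ne_one _⟩
    · left
      rw [h, DihedralGroup.sr_mul_self]
      exact ⟨rfl, dih_sr_ne_one _⟩
  · -- normalised by `H`
    intro g hg
    rw [Subgroup.mem_normalizer_iff]
    intro q
    constructor
    · intro hq
      exact hQnorm g hg q hq
    · intro hq
      have := hQnorm g⁻¹ (H.inv_mem hg) _ hq
      have h2 : g⁻¹ * (g * q * g⁻¹) * g⁻¹⁻¹ = q := by group
      rwa [h2] at this
  · -- nontrivial
    intro hbot
    apply hO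
    rw [hQ] at hbot
    exact (Subgroup.map_eq_bot_iff_of_injective N H.subtype_injective).1 hbot

end Cfsg.Agent.Lib.H21.G85
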