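import Mathlib

/-!
# M. Hall's theorem on 4-transitive groups with odd 4-point stabilizer: definitions

`G` is a subgroup of `Equiv.Perm α`.  `st G s` is the pointwise stabilizer in `G` of the four points
`s 0, s 1, s 2, s 3`.  `Hyp G` : `G` is 4-transitive and every `st G s` has odd order.
-/

set_option autoImplicit false

namespace Cfsg.Agent.Lib.H21.Hall4

open Equiv

section
variable {α : Type*}

/-- The pointwise stabilizer in `G` of the four points of `s`. -/
def st (G : Subgroup (Perm α)) (s : Fin 4 ↪ α) : Subgroup (Perm α) where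
  carrier := {g | g ∈ G ∧ ∀ i, g (s i) = s i}
  one_mem' := ⟨G.one_mem, fun _ => rfl⟩
  mul_mem' := by
    rintro g h ⟨hg, hg'⟩ ⟨hh, hh'⟩
    refine ⟨G.mul_mem hg hh, fun i => ?_⟩
    rw [Perm.mul_apply, hh', hg']
  inv_mem' := by
    rintro g ⟨hg, hg'⟩
    refine ⟨G.inv_mem hg, fun i => ?_⟩
    rw [Perm.inv_eq_iff_eq, hg']

theorem mem_st {G : Subgroup (Perm α)} {s : Fin 4 ↪ α} {g : Perm α} :
    g ∈ st G s ↔ g ∈ G ∧ ∀ i, g (s i) = s i := Iff.rfl

theorem st_le (G : Subgroup (Perm α)) (s : Fin 4 ↪ α) : st G s ≤ G := fun _ h => h.1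

/-- The hypotheses: `G` is 4-transitive and all 4-point stabilizers have odd order. -/
structure Hyp (G : Subgroup (Perm α)) : Prop where
  trans : ∀ s s' : Fin 4 ↪ α, ∃ g ∈ G, ∀ i, g (s i) = s' i
  odd : ∀ s : Fin 4 ↪ α, Odd (Nat.card (st G s))

theorem Hyp.odd_orderOf {G : Subgroup (Perm α)} (hG : Hyp G) {s : Fin 4 ↪ α} {g : Perm α}
    (hg : g ∈ st G s) : Odd (orderOf g) := by
  have h1 : orderOf (⟨g, hg⟩ : st G s) ∣ Nat.card (st G s) := orderOf_dvd_natCard _
  have h2 : orderOf (⟨g, hg⟩ : st G s) = orderOf g := by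
    rw [← Subgroup.orderOf_coe]
  rw [h2] at h1
  exact Odd.of_dvd_nat (hG.odd s) h1

/-- `a` acts on the tuple `s` through the permutation `σ` of the indices. -/
def Pat (a : Perm α) (s : Fin 4 ↪ α) (σ : Perm (Fin 4)) : Prop := ∀ i, a (s i) = s (σ i)

/-- The index patterns. -/
def σ01 : Perm (Fin 4) := swap 0 1
def σ23 : Perm (Fin 4) := swap 2 3
def σa : Perm (Fin 4) := swap 0 1 * swap 2 3
def σb : Perm (Fin 4) := swap 0 2 * swap 1 3

end

section
variable {α : Type*} [Fintype α] [DecidableEq α]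

/-- Number of fixed points. -/
def nfix (a : Perm α) : ℕ := (Finset.univ.filter (fun x => a x = x)).card

/-- The points on which the four-group `{1, a, b, a * b}` acts regularly. -/
def reg (a b : Perm α) : Finset α :=
  Finset.univ.filter (fun x => a x ≠ x ∧ b x ≠ x ∧ (a * b) x ≠ x)

theorem mem_reg {a b : Perm α} {x : α} :
    x ∈ reg a b ↔ a x ≠ x ∧ b x ≠ x ∧ (a * b) x ≠ x := by
  unfold reg
  rw [Finset.mem_filter]
  simp

end

end Cfsg.Agent.Lib.H21.Hall4
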