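import Mathlib
import Cfsg.Prelude.Def_Solvable
import Cfsg.Agent.Lib.H20.Frobenius

set_option autoImplicit false

/-!
Helper library (helper21): a fixed-point-free action gives a Frobenius group `N ⋊ G` whose
complement `range inr` is isomorphic to `G`.
-/

namespace Cfsg.Agent.Lib.H21

open SemidirectProduct

/-- If every nontrivial element of `G` acts fixed-point-freely on `N`, then `G` (as `range inr`)
is a Frobenius complement in `N ⋊[φ] G`. -/
theorem isFrobeniusComplement_range_inr {N G : Type*} [Group N] [Group G] [Finite N] [Finite G]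
    [Nontrivial N] [Nontrivial G] (φ : G →* MulAut N)
    (hfpf : ∀ g : G, g ≠ 1 → ∀ n : N, φ g n = n → n = 1) :
    Cfsg.IsFrobeniusComplement (inr : G →* N ⋊[φ] G).range := by
  haveI : Finite (N ⋊[φ] G) := Finite.of_equiv _ (SemidirectProduct.equivProd (φ := φ)).symm
  haveI : ((inl : N →* N ⋊[φ] G).range).Normal := by
    rw [range_inl_eq_ker_rightHom]; infer_instance
  refine (Cfsg.Agent.Lib.H20.frobenius_of_fpf (inl : N →* N ⋊[φ] G).range
    (inr : G →* N ⋊[φ] G).range ?_ ?_ ?_ ?_ ?_).1
  · rw [eq_top_iff]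
    intro x _
    rw [← inl_left_mul_inr_right x]
    exact Subgroup.mul_mem _ (Subgroup.mem_sup_left ⟨_, rfl⟩) (Subgroup.mem_sup_right ⟨_, rfl⟩)
  · rw [eq_bot_iff]
    rintro x ⟨⟨n, rfl⟩, ⟨g, hg⟩⟩
    have h1 : (inr g : N ⋊[φ] G).left = (inl n : N ⋊[φ] G).left := by rw [hg]
    rw [left_inr, left_inl] at h1
    rw [Subgroup.mem_bot, ← h1, map_one]
  · obtain ⟨n, hn⟩ := exists_ne (1 : N)
    intro h
    have h1 : (inl n : N ⋊[φ] G) ∈ (inl : N →* N ⋊[φ] G).range := ⟨n, rfl⟩
    rw [h, Subgroup.mem_bot] at h1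
    exact hn (inl_injective (by rw [h1, map_one]))
  · obtain ⟨g, hg⟩ := exists_ne (1 : G)
    intro h
    have h1 : (inr g : N ⋊[φ] G) ∈ (inr : G →* N ⋊[φ] G).range := ⟨g, rfl⟩
    rw [h, Subgroup.mem_bot] at h1
    exact hg (inr_injective (by rw [h1, map_one]))
  · rintro _ ⟨g, rfl⟩ hg1 _ ⟨n, rfl⟩ hcomm
    have hg : g ≠ 1 := by
      rintro rfl
      exact hg1 (map_one _)
    have h1 : (inl n * inr g : N ⋊[φ] G).left = (inr g * inl n : N ⋊[φ] G).left := by rw [hcomm]
    simp only [mul_left, left_inl, right_inl, left_inr, right_inr, map_one, MulAut.one_apply,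
      mul_one, one_mul] at h1
    rw [hfpf g hg n h1.symm, map_one]

/-- A finite group acting on a finite nontrivial additive group, such that nontrivial elements
fix only `0`, occurs as a Frobenius complement. -/
theorem exists_frobenius_of_fpf_distribMulAction {V G : Type} [AddGroup V] [Group G] [Finite V]
    [Finite G] [Nontrivial V] [Nontrivial G] [DistribMulAction G V]
    (hfpf : ∀ g : G, g ≠ 1 → ∀ v : V, g • v = v → v = 0) :
    ∃ (L : Type) (_ : Group L) (_ : Finite L) (H : Subgroup L),
      Cfsg.IsFrobeniusComplement H ∧ Nonempty (H ≃* G) := by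
  let φ : G →* MulAut (Multiplicative V) :=
    (MulAutMultiplicative V).symm.toMonoidHom.comp (DistribMulAction.toAddAut G V)
  have hφ : ∀ (g : G) (v : Multiplicative V),
      φ g v = Multiplicative.ofAdd (g • Multiplicative.toAdd v) := fun _ _ => rfl
  haveI : Finite (Multiplicative V ⋊[φ] G) :=
    Finite.of_equiv _ (SemidirectProduct.equivProd (φ := φ)).symm
  refine ⟨Multiplicative V ⋊[φ] G, inferInstance, inferInstance,
    (inr : G →* Multiplicative V ⋊[φ] G).range, ?_, ?_⟩
  · apply isFrobeniusComplement_range_inr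
    intro g hg n hn
    rw [hφ] at hn
    have := hfpf g hg (Multiplicative.toAdd n) (by
      have := congrArg Multiplicative.toAdd hn
      simpa using this)
    exact Multiplicative.toAdd.injective this
  · exact ⟨(MonoidHom.ofInjective inr_injective).symm⟩

end Cfsg.Agent.Lib.H21
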