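import Mathlib
import Cfsg.Prelude.Def_Solvable
import Cfsg.Agent.Lib.H21.FrobSemidirect
import Cfsg.Agent.Lib.H1.Frobenius

set_option autoImplicit false

/-!
Helper library (helper21): transporting Frobenius complements along isomorphisms, and a
universe-free version of `exists_frobenius_of_fpf_distribMulAction`.
-/

namespace Cfsg.Agent.Lib.H21

open scoped Pointwise

universe u v

/-- Frobenius complements are preserved by group isomorphisms. -/
theorem isFrobeniusComplement_map {L₀ : Type u} {L : Type v} [Group L₀] [Group L] (f : L₀ ≃* L)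
    {C₀ : Subgroup L₀} (h : Cfsg.IsFrobeniusComplement C₀) :
    Cfsg.IsFrobeniusComplement (C₀.map f.toMonoidHom) := by
  have hmem : ∀ y : L, y ∈ C₀.map f.toMonoidHom ↔ f.symm y ∈ C₀ := by
    intro y
    constructor
    · rintro ⟨x, hx, rfl⟩
      simpa using hx
    · intro hy
      exact ⟨f.symm y, hy, by simp⟩
  refine ⟨?_, ?_, ?_⟩
  · intro hb
    apply h.1
    rw [eq_bot_iff]
    intro x hx
    have : f x ∈ C₀.map f.toMonoidHom := ⟨x, hx, rfl⟩
    rw [hb, Subgroup.mem_bot] at this
    rw [Subgroup.mem_bot]
    exact f.injective (by rw [this, map_one])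
  · intro ht
    apply h.2.1
    rw [eq_top_iff]
    intro x _
    have : f x ∈ C₀.map f.toMonoidHom := by rw [ht]; trivial
    rw [hmem] at this
    simpa using this
  · intro g hg
    rw [eq_bot_iff]
    rintro y ⟨hy1, hy2⟩
    rw [Subgroup.mem_bot]
    have hg' : f.symm g ∉ C₀ := fun hc => hg ((hmem g).2 hc)
    have h0 := h.2.2 (f.symm g) hg'
    have hy1' : f.symm y ∈ C₀ := (hmem y).1 hy1
    have hy2'' : y ∈ MulAut.conj g • C₀.map f.toMonoidHom := hy2
    have hy2' : f.symm y ∈ MulAut.conj (f.symm g) • C₀ := by
      rw [Cfsg.Agent.Lib.H1.mem_conj_smul_iff] at hy2'' ⊢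
      have := (hmem _).1 hy2''
      simpa using this
    have : f.symm y ∈ C₀ ⊓ MulAut.conj (f.symm g) • C₀ := ⟨hy1', hy2'⟩
    rw [h0, Subgroup.mem_bot] at this
    exact f.symm.injective (by rw [this, map_one])

/-- Universe-free version: a finite group acting fixed-point-freely on a finite nontrivial additive
group is (isomorphic to) a Frobenius complement of a finite group living in `Type`. -/
theorem exists_frobenius_of_fpf_distribMulAction' {V : Type u} {G : Type v} [AddGroup V] [Group G]
    [Finite V] [Finite G] [Nontrivial V] [Nontrivial G] [DistribMulAction G V]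
    (hfpf : ∀ g : G, g ≠ 1 → ∀ x : V, g • x = x → x = 0) :
    ∃ (L : Type) (_ : Group L) (_ : Finite L) (C : Subgroup L),
      Cfsg.IsFrobeniusComplement C ∧ Nonempty (G ≃* C) := by
  let φ : G →* MulAut (Multiplicative V) :=
    (MulAutMultiplicative V).symm.toMonoidHom.comp (DistribMulAction.toAddAut G V)
  have hφ : ∀ (g : G) (x : Multiplicative V),
      φ g x = Multiplicative.ofAdd (g • Multiplicative.toAdd x) := fun _ _ => rfl
  haveI : Finite (Multiplicative V ⋊[φ] G) :=
    Finite.of_equiv _ (SemidirectProduct.equivProd (φ := φ)).symm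
  have hC₀ : Cfsg.IsFrobeniusComplement
      (SemidirectProduct.inr : G →* Multiplicative V ⋊[φ] G).range := by
    apply isFrobeniusComplement_range_inr
    intro g hg n hn
    rw [hφ] at hn
    have := hfpf g hg (Multiplicative.toAdd n) (by
      have := congrArg Multiplicative.toAdd hn
      simpa using this)
    exact Multiplicative.toAdd.injective this
  haveI : Small.{0} (Multiplicative V ⋊[φ] G) := Countable.toSmall _
  let e : Shrink.{0} (Multiplicative V ⋊[φ] G) ≃* (Multiplicative V ⋊[φ] G) := Shrink.mulEquiv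
  haveI : Finite (Shrink.{0} (Multiplicative V ⋊[φ] G)) := Finite.of_equiv _ e.symm.toEquiv
  refine ⟨Shrink.{0} (Multiplicative V ⋊[φ] G), inferInstance, inferInstance,
    (SemidirectProduct.inr : G →* Multiplicative V ⋊[φ] G).range.map e.symm.toMonoidHom,
    isFrobeniusComplement_map e.symm hC₀, ?_⟩
  exact ⟨(MonoidHom.ofInjective SemidirectProduct.inr_injective).trans
    (e.symm.subgroupMap _)⟩

end Cfsg.Agent.Lib.H21
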