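import Mathlib
/-!
S4429 piece (F4) `degrees11` (helper21): PURE arithmetic of the degrees of the characters in the
"principal 11-block" of a simple group of order 7920.  Exact signature of
`tools/blueprints/S4429_sigs.lean`.
-/
set_option autoImplicit false
namespace Cfsg.Agent.Lib.H21.M7920
open scoped BigOperators
universe u

/-- the possible pairs (value at `x`, degree) of a non-exceptional character. -/
theorem class_ad (a : ℤ) (d c : ℕ) (hd : d ∣ 7920) (hle : d ≤ 88) (h : (d : ℤ) = a + 11 * c)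
    (ha : a ^ 2 ≤ 4) (hd1 : d ≠ 1) :
    a = 0 ∨ (a = 1 ∧ d = 12) ∨ (a = 1 ∧ d = 45) ∨ (a = -1 ∧ d = 10) ∨ (a = 2 ∧ d = 2) ∨
      (a = 2 ∧ d = 24) ∨ (a = -2 ∧ d = 9) ∨ (a = -2 ∧ d = 20) := by
  have h1 : -2 ≤ a := by nlinarith
  have h2 : a ≤ 2 := by nlinarith
  interval_cases d <;> omega

/-- the possible exceptional degrees. -/
theorem class_D (δ : ℤ) (D c : ℕ) (hδ : δ = 1 ∨ δ = -1) (hD : D ∣ 7920)
    (h : (D : ℤ) = 6 * δ + 11 * c) (hle : D ≤ 62) :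
    (δ = 1 ∧ D = 6) ∨ (δ = -1 ∧ (D = 5 ∨ D = 16 ∨ D = 60)) := by
  interval_cases D <;> omega

/-- the arithmetic of the seven counts. -/
theorem counts7 (n12 n45 n10 m2 m24 m9 m20 : ℕ) (E : ℤ)
    (h1 : (n12 : ℤ) + n45 + n10 + 4 * m2 + 4 * m24 + 4 * m9 + 4 * m20 = 4)
    (h2 : 1 + (12 * (n12 : ℤ) + 45 * n45 + (-10) * n10 + 4 * m2 + 48 * m24 + (-18) * m9 + (-40) * m20) + E = 0)
    (hE : E = 6 ∨ E = -5 ∨ E = -16 ∨ E = -60) :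
    (E = -5 ∧ n12 = 2 ∧ n45 = 0 ∧ n10 = 2 ∧ m2 = 0 ∧ m24 = 0 ∧ m9 = 0 ∧ m20 = 0) ∨
    (E = -5 ∧ n12 = 0 ∧ n45 = 0 ∧ n10 = 0 ∧ m2 = 1 ∧ m24 = 0 ∧ m9 = 0 ∧ m20 = 0) ∨
    (E = -16 ∧ n12 = 0 ∧ n45 = 1 ∧ n10 = 3 ∧ m2 = 0 ∧ m24 = 0 ∧ m9 = 0 ∧ m20 = 0) ∨
    (E = -60 ∧ n12 = 2 ∧ n45 = 1 ∧ n10 = 1 ∧ m2 = 0 ∧ m24 = 0 ∧ m9 = 0 ∧ m20 = 0) := by
  have b1 : m2 ≤ 1 := by omega
  have b2 : m24 ≤ 1 := by omega
  have b3 : m9 ≤ 1 := by omega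
  have b4 : m20 ≤ 1 := by omega
  have b5 : n12 ≤ 4 := by omega
  have b6 : n45 ≤ 4 := by omega
  rcases hE with rfl | rfl | rfl | rfl <;>
  interval_cases m2 <;> interval_cases m24 <;> interval_cases m9 <;> interval_cases m20 <;>
    interval_cases n12 <;> interval_cases n45 <;> omega

/-- a member of a filter makes its cardinality positive. -/
theorem filter_card_pos {ι : Type u} (T : Finset ι) (p : ι → Prop) [DecidablePred p] (i : ι)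
    (hi : i ∈ T) (hp : p i) : 1 ≤ (T.filter p).card :=
  Finset.card_pos.mpr ⟨i, Finset.mem_filter.mpr ⟨hi, hp⟩⟩

theorem degrees11 {ι : Type u} [DecidableEq ι] (S : Finset ι) (a : ι → ℤ) (d : ι → ℕ) (i₁ : ι) (hi₁ : i₁ ∈ S)
    (ha1 : a i₁ = 1) (hd1 : d i₁ = 1)
    (hdvd : ∀ i ∈ S, d i ∣ 7920) (hne1 : ∀ i ∈ S, i ≠ i₁ → d i ≠ 1)
    (hcong : ∀ i ∈ S, ∃ c : ℕ, (d i : ℤ) = a i + 11 * c)
    (hsq : ∑ i ∈ S, a i ^ 2 = 5)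
    (δ : ℤ) (hδ : δ = 1 ∨ δ = -1) (D : ℕ) (hD : D ∣ 7920) (hDc : ∃ c : ℕ, (D : ℤ) = 6 * δ + 11 * c)
    (hlin : ∑ i ∈ S, (d i : ℤ) * a i + δ * D = 0)
    (hbound : ∑ i ∈ S, d i ^ 2 + 2 * D ^ 2 ≤ 7920) :
    δ = -1 ∧
    ((D = 16 ∧ ∃ k₁ k₂ k₃ k₄ : ι, k₁ ∈ S ∧ k₂ ∈ S ∧ k₃ ∈ S ∧ k₄ ∈ S ∧
        k₁ ≠ i₁ ∧ k₂ ≠ i₁ ∧ k₃ ≠ i₁ ∧ k₄ ≠ i₁ ∧ k₁ ≠ k₂ ∧ k₁ ≠ k₃ ∧ k₁ ≠ k₄ ∧ k₂ ≠ k₃ ∧ k₂ ≠ k₄ ∧ k₃ ≠ k₄ ∧
        a k₁ = -1 ∧ a k₂ = -1 ∧ a k₃ = -1 ∧ a k₄ = 1 ∧ d k₁ = 10 ∧ d k₂ = 10 ∧ d k₃ = 10 ∧ d k₄ = 45 ∧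
        ∀ i ∈ S, i ≠ i₁ → i ≠ k₁ → i ≠ k₂ → i ≠ k₃ → i ≠ k₄ → a i = 0) ∨
     (D = 5 ∧ ∃ k₁ k₂ k₃ k₄ : ι, k₁ ∈ S ∧ k₂ ∈ S ∧ k₃ ∈ S ∧ k₄ ∈ S ∧ k₁ ≠ k₂ ∧
        a k₁ = 1 ∧ a k₂ = 1 ∧ a k₃ = -1 ∧ a k₄ = -1 ∧ d k₁ = 12 ∧ d k₂ = 12 ∧ d k₃ = 10 ∧ d k₄ = 10 ∧
        ∀ i ∈ S, i ≠ i₁ → i ≠ k₁ → i ≠ k₂ → i ≠ k₃ → i ≠ k₄ → a i = 0) ∨
     (D = 5 ∧ ∃ k : ι, k ∈ S ∧ a k = 2 ∧ d k = 2 ∧ ∀ i ∈ S, i ≠ i₁ → i ≠ k → a i = 0)) := by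
  classical
  set T := S.erase i₁ with hT
  have hTS : ∀ i ∈ T, i ∈ S := fun i hi => Finset.mem_of_mem_erase hi
  have hTne : ∀ i ∈ T, i ≠ i₁ := fun i hi => Finset.ne_of_mem_erase hi
  have hST : ∀ i ∈ S, i ≠ i₁ → i ∈ T := fun i hi hne => Finset.mem_erase.mpr ⟨hne, hi⟩
  have hsqT : ∑ i ∈ T, a i ^ 2 = 4 := by
    have := Finset.add_sum_erase S (fun i => a i ^ 2) hi₁
    simp only [ha1] at this
    linarith
  have hlinT : 1 + ∑ i ∈ T, (d i : ℤ) * a i + δ * D = 0 := by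
    have := Finset.add_sum_erase S (fun i => (d i : ℤ) * a i) hi₁
    simp only [ha1, hd1] at this
    push_cast at this
    linarith
  have hdsq : ∀ i ∈ S, d i ^ 2 ≤ ∑ j ∈ S, d j ^ 2 := fun i hi =>
    Finset.single_le_sum (f := fun j => d j ^ 2) (fun j _ => Nat.zero_le _) hi
  have hd88 : ∀ i ∈ S, d i ≤ 88 := by
    intro i hi
    have h1 := hdsq i hi
    nlinarith
  have hD62 : D ≤ 62 := by
    nlinarith [Nat.zero_le (∑ i ∈ S, d i ^ 2)]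
  have ha4 : ∀ i ∈ T, a i ^ 2 ≤ 4 := by
    intro i hi
    have := Finset.single_le_sum (f := fun j => a j ^ 2) (fun j _ => sq_nonneg (a j)) hi
    linarith
  have hcls : ∀ i ∈ T, a i = 0 ∨ (a i = 1 ∧ d i = 12) ∨ (a i = 1 ∧ d i = 45) ∨ (a i = -1 ∧ d i = 10) ∨
      (a i = 2 ∧ d i = 2) ∨ (a i = 2 ∧ d i = 24) ∨ (a i = -2 ∧ d i = 9) ∨ (a i = -2 ∧ d i = 20) := by
    intro i hi
    obtain ⟨c, hc⟩ := hcong i (hTS i hi)
    exact class_ad (a i) (d i) c (hdvd i (hTS i hi)) (hd88 i (hTS i hi)) hc (ha4 i hi)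
      (hne1 i (hTS i hi) (hTne i hi))
  -- the counts
  have hpt1 : ∀ i ∈ T, a i ^ 2 =
      (if a i = 1 ∧ d i = 12 then (1 : ℤ) else 0) + (if a i = 1 ∧ d i = 45 then (1 : ℤ) else 0) +
      (if a i = -1 ∧ d i = 10 then (1 : ℤ) else 0) + 4 * (if a i = 2 ∧ d i = 2 then (1 : ℤ) else 0) +
      4 * (if a i = 2 ∧ d i = 24 then (1 : ℤ) else 0) + 4 * (if a i = -2 ∧ d i = 9 then (1 : ℤ) else 0) +
      4 * (if a i = -2 ∧ d i = 20 then (1 : ℤ) else 0) := by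
    intro i hi
    rcases hcls i hi with h | ⟨h1, h2⟩ | ⟨h1, h2⟩ | ⟨h1, h2⟩ | ⟨h1, h2⟩ | ⟨h1, h2⟩ | ⟨h1, h2⟩ | ⟨h1, h2⟩ <;>
      simp [*]
  have hpt2 : ∀ i ∈ T, (d i : ℤ) * a i =
      12 * (if a i = 1 ∧ d i = 12 then (1 : ℤ) else 0) + 45 * (if a i = 1 ∧ d i = 45 then (1 : ℤ) else 0) +
      (-10) * (if a i = -1 ∧ d i = 10 then (1 : ℤ) else 0) + 4 * (if a i = 2 ∧ d i = 2 then (1 : ℤ) else 0) +
      48 * (if a i = 2 ∧ d i = 24 then (1 : ℤ) else 0) + (-18) * (if a i = -2 ∧ d i = 9 then (1 : ℤ) else 0) +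
      (-40) * (if a i = -2 ∧ d i = 20 then (1 : ℤ) else 0) := by
    intro i hi
    rcases hcls i hi with h | ⟨h1, h2⟩ | ⟨h1, h2⟩ | ⟨h1, h2⟩ | ⟨h1, h2⟩ | ⟨h1, h2⟩ | ⟨h1, h2⟩ | ⟨h1, h2⟩ <;>
      simp [*]
  rw [Finset.sum_congr rfl hpt1] at hsqT
  rw [Finset.sum_congr rfl hpt2] at hlinT
  simp only [Finset.sum_add_distrib, ← Finset.mul_sum, Finset.sum_boole] at hsqT hlinT
  set F12 := T.filter (fun i => a i = 1 ∧ d i = 12) with hF12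
  set F45 := T.filter (fun i => a i = 1 ∧ d i = 45) with hF45
  set F10 := T.filter (fun i => a i = -1 ∧ d i = 10) with hF10
  set G2 := T.filter (fun i => a i = 2 ∧ d i = 2) with hG2
  set G24 := T.filter (fun i => a i = 2 ∧ d i = 24) with hG24
  set G9 := T.filter (fun i => a i = -2 ∧ d i = 9) with hG9
  set G20 := T.filter (fun i => a i = -2 ∧ d i = 20) with hG20
  have hin : ∀ i ∈ T, a i ≠ 0 → i ∈ F12 ∨ i ∈ F45 ∨ i ∈ F10 ∨ i ∈ G2 ∨ i ∈ G24 ∨ i ∈ G9 ∨ i ∈ G20 := by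
    intro i hi hne
    rcases hcls i hi with h | h | h | h | h | h | h | h
    · exact absurd h hne
    · exact Or.inl (Finset.mem_filter.mpr ⟨hi, h⟩)
    · exact Or.inr (Or.inl (Finset.mem_filter.mpr ⟨hi, h⟩))
    · exact Or.inr (Or.inr (Or.inl (Finset.mem_filter.mpr ⟨hi, h⟩)))
    · exact Or.inr (Or.inr (Or.inr (Or.inl (Finset.mem_filter.mpr ⟨hi, h⟩))))
    · exact Or.inr (Or.inr (Or.inr (Or.inr (Or.inl (Finset.mem_filter.mpr ⟨hi, h⟩)))))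
    · exact Or.inr (Or.inr (Or.inr (Or.inr (Or.inr (Or.inl (Finset.mem_filter.mpr ⟨hi, h⟩))))))
    · exact Or.inr (Or.inr (Or.inr (Or.inr (Or.inr (Or.inr (Finset.mem_filter.mpr ⟨hi, h⟩))))))
  have hempty : ∀ (F : Finset ι) (i : ι), F.card = 0 → i ∈ F → False := by
    intro F i hF hi
    rw [Finset.card_eq_zero] at hF
    rw [hF] at hi
    exact absurd hi (Finset.notMem_empty i)
  obtain ⟨c, hc⟩ := hDc
  have hE : δ * (D : ℤ) = 6 ∨ δ * (D : ℤ) = -5 ∨ δ * (D : ℤ) = -16 ∨ δ * (D : ℤ) = -60 := by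
    rcases class_D δ D c hδ hD hc hD62 with ⟨h1, h2⟩ | ⟨h1, h2 | h2 | h2⟩ <;> subst h1 h2 <;> norm_num
  have hDval : ∀ E : ℤ, δ * (D : ℤ) = E → E < 0 → δ = -1 ∧ (D : ℤ) = -E := by
    intro E hE' hneg
    rcases hδ with h | h
    · exfalso
      subst h
      have : (0 : ℤ) ≤ (D : ℤ) := Int.natCast_nonneg D
      linarith
    · subst h
      exact ⟨rfl, by linarith⟩
  rcases counts7 F12.card F45.card F10.card G2.card G24.card G9.card G20.card (δ * D) hsqT hlinT hE with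
    ⟨e, c1, c2, c3, c4, c5, c6, c7⟩ | ⟨e, c1, c2, c3, c4, c5, c6, c7⟩ |
    ⟨e, c1, c2, c3, c4, c5, c6, c7⟩ | ⟨e, c1, c2, c3, c4, c5, c6, c7⟩
  · -- pattern (B)
    obtain ⟨hδ1, hD5⟩ := hDval _ e (by norm_num)
    have hD5' : D = 5 := by omega
    refine ⟨hδ1, Or.inr (Or.inl ⟨hD5', ?_⟩)⟩
    obtain ⟨k₁, k₂, hk12, hk⟩ := Finset.card_eq_two.mp c1
    obtain ⟨k₃, k₄, hk34, hk'⟩ := Finset.card_eq_two.mp c3
    have m1 : k₁ ∈ F12 := by rw [hk]; simp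
    have m2 : k₂ ∈ F12 := by rw [hk]; simp
    have m3 : k₃ ∈ F10 := by rw [hk']; simp
    have m4 : k₄ ∈ F10 := by rw [hk']; simp
    rw [hF12, Finset.mem_filter] at m1 m2
    rw [hF10, Finset.mem_filter] at m3 m4
    refine ⟨k₁, k₂, k₃, k₄, hTS _ m1.1, hTS _ m2.1, hTS _ m3.1, hTS _ m4.1, hk12,
      m1.2.1, m2.2.1, m3.2.1, m4.2.1, m1.2.2, m2.2.2, m3.2.2, m4.2.2, ?_⟩
    intro i hi hi1 e1 e2 e3 e4
    by_contra hne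
    rcases hin i (hST i hi hi1) hne with h | h | h | h | h | h | h
    · rw [hk] at h; simp at h; tauto
    · exact hempty _ i c2 h
    · rw [hk'] at h; simp at h; tauto
    · exact hempty _ i c4 h
    · exact hempty _ i c5 h
    · exact hempty _ i c6 h
    · exact hempty _ i c7 h
  · -- pattern (b)
    obtain ⟨hδ1, hD5⟩ := hDval _ e (by norm_num)
    have hD5' : D = 5 := by omega
    refine ⟨hδ1, Or.inr (Or.inr ⟨hD5', ?_⟩)⟩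
    obtain ⟨k, hk⟩ := Finset.card_eq_one.mp c4
    have m1 : k ∈ G2 := by rw [hk]; simp
    rw [hG2, Finset.mem_filter] at m1
    refine ⟨k, hTS _ m1.1, m1.2.1, m1.2.2, ?_⟩
    intro i hi hi1 e1
    by_contra hne
    rcases hin i (hST i hi hi1) hne with h | h | h | h | h | h | h
    · exact hempty _ i c1 h
    · exact hempty _ i c2 h
    · exact hempty _ i c3 h
    · rw [hk] at h; simp at h; tauto
    · exact hempty _ i c5 h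
    · exact hempty _ i c6 h
    · exact hempty _ i c7 h
  · -- pattern (A)
    obtain ⟨hδ1, hD16⟩ := hDval _ e (by norm_num)
    have hD16' : D = 16 := by omega
    refine ⟨hδ1, Or.inl ⟨hD16', ?_⟩⟩
    obtain ⟨k₁, k₂, k₃, hk12, hk13, hk23, hk⟩ := Finset.card_eq_three.mp c3
    obtain ⟨k₄, hk'⟩ := Finset.card_eq_one.mp c2
    have m1 : k₁ ∈ F10 := by rw [hk]; simp
    have m2 : k₂ ∈ F10 := by rw [hk]; simp
    have m3 : k₃ ∈ F10 := by rw [hk]; simp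
    have m4 : k₄ ∈ F45 := by rw [hk']; simp
    rw [hF10, Finset.mem_filter] at m1 m2 m3
    rw [hF45, Finset.mem_filter] at m4
    have ne4 : ∀ k, a k = -1 → k ≠ k₄ := by
      intro k hk1 hk2
      rw [hk2, m4.2.1] at hk1
      omega
    refine ⟨k₁, k₂, k₃, k₄, hTS _ m1.1, hTS _ m2.1, hTS _ m3.1, hTS _ m4.1,
      hTne _ m1.1, hTne _ m2.1, hTne _ m3.1, hTne _ m4.1, hk12, hk13, ne4 _ m1.2.1, hk23,
      ne4 _ m2.2.1, ne4 _ m3.2.1,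
      m1.2.1, m2.2.1, m3.2.1, m4.2.1, m1.2.2, m2.2.2, m3.2.2, m4.2.2, ?_⟩
    intro i hi hi1 e1 e2 e3 e4
    by_contra hne
    rcases hin i (hST i hi hi1) hne with h | h | h | h | h | h | h
    · exact hempty _ i c1 h
    · rw [hk'] at h; simp at h; tauto
    · rw [hk] at h; simp at h; tauto
    · exact hempty _ i c4 h
    · exact hempty _ i c5 h
    · exact hempty _ i c6 h
    · exact hempty _ i c7 h
  · -- D = 60 dies by hbound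
    exfalso
    obtain ⟨hδ1, hD60⟩ := hDval _ e (by norm_num)
    have hD60' : D = 60 := by omega
    obtain ⟨k, hk⟩ := Finset.card_eq_one.mp c2
    have m1 : k ∈ F45 := by rw [hk]; simp
    rw [hF45, Finset.mem_filter] at m1
    have := hdsq k (hTS _ m1.1)
    rw [m1.2.2] at this
    subst hD60'
    omega

end Cfsg.Agent.Lib.H21.M7920
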