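import Mathlib
/-!
S4429 piece (F12a) `extra11` (helper21): PURE arithmetic of the characters outside the
"principal 11-block" in pattern (A) of a simple group of order 7920.  Exact signature of
`tools/blueprints/S4429_sigs.lean`.
-/
set_option autoImplicit false
namespace Cfsg.Agent.Lib.H21.M7920
open scoped BigOperators
universe u

/-- the possible pairs (value at `y`, degree) of a character outside the block. -/
theorem class_Bd (B : ℤ) (d c : ℕ) (h11 : 11 ∣ d) (hd : d ∣ 7920) (hpos : 0 < d) (hle : d ≤ 71)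
    (h : (d : ℤ) = B + 5 * c) (hB : B ^ 2 ≤ 2) :
    (B = 1 ∧ d = 11) ∨ (B = -1 ∧ d = 44) ∨ (B = 0 ∧ d = 55) ∨ (B = 1 ∧ d = 66) := by
  have h1 : -1 ≤ B := by nlinarith
  have h2 : B ≤ 1 := by nlinarith
  interval_cases d <;> omega

/-- the arithmetic of the four counts. -/
theorem counts4 (n11 n44 n55 n66 : ℕ)
    (h1 : (n11 : ℤ) + n44 + n66 = 2)
    (h2 : 11 * (n11 : ℤ) + (-44) * n44 + 66 * n66 = -33)
    (h3 : 121 * n11 + 1936 * n44 + 3025 * n55 + 4356 * n66 = 5082) :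
    n11 = 1 ∧ n44 = 1 ∧ n55 = 1 ∧ n66 = 0 := by
  have b1 : n11 ≤ 2 := by omega
  have b2 : n44 ≤ 2 := by omega
  have b3 : n66 ≤ 2 := by omega
  have b4 : n55 ≤ 1 := by omega
  interval_cases n11 <;> interval_cases n44 <;> interval_cases n66 <;> interval_cases n55 <;> omega

theorem extra11 {ι : Type u} [DecidableEq ι] (T : Finset ι) (B : ι → ℤ) (d : ι → ℕ)
    (h11 : ∀ i ∈ T, 11 ∣ d i) (hdvd : ∀ i ∈ T, d i ∣ 7920) (hpos : ∀ i ∈ T, 0 < d i)
    (hcong : ∀ i ∈ T, ∃ c : ℕ, (d i : ℤ) = B i + 5 * c)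
    (hB2 : ∑ i ∈ T, B i ^ 2 = 2) (hlin : ∑ i ∈ T, (d i : ℤ) * B i = -33)
    (hsq : ∑ i ∈ T, d i ^ 2 = 5082) :
    ∃ t₁ t₂ t₃ : ι, t₁ ∈ T ∧ t₂ ∈ T ∧ t₃ ∈ T ∧ t₁ ≠ t₂ ∧ t₁ ≠ t₃ ∧ t₂ ≠ t₃ ∧
      d t₁ = 11 ∧ d t₂ = 44 ∧ d t₃ = 55 ∧ ∀ i ∈ T, i = t₁ ∨ i = t₂ ∨ i = t₃ := by
  classical
  have hd71 : ∀ i ∈ T, d i ≤ 71 := by
    intro i hi
    have h1 : d i ^ 2 ≤ ∑ j ∈ T, d j ^ 2 :=
      Finset.single_le_sum (f := fun j => d j ^ 2) (fun j _ => Nat.zero_le _) hi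
    nlinarith
  have hB2' : ∀ i ∈ T, B i ^ 2 ≤ 2 := by
    intro i hi
    have := Finset.single_le_sum (f := fun j => B j ^ 2) (fun j _ => sq_nonneg (B j)) hi
    linarith
  have hcls : ∀ i ∈ T, (B i = 1 ∧ d i = 11) ∨ (B i = -1 ∧ d i = 44) ∨ (B i = 0 ∧ d i = 55) ∨
      (B i = 1 ∧ d i = 66) := by
    intro i hi
    obtain ⟨c, hc⟩ := hcong i hi
    exact class_Bd (B i) (d i) c (h11 i hi) (hdvd i hi) (hpos i hi) (hd71 i hi) hc (hB2' i hi)
  have hpt1 : ∀ i ∈ T, B i ^ 2 =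
      (if B i = 1 ∧ d i = 11 then (1 : ℤ) else 0) + (if B i = -1 ∧ d i = 44 then (1 : ℤ) else 0) +
      (if B i = 1 ∧ d i = 66 then (1 : ℤ) else 0) := by
    intro i hi
    rcases hcls i hi with ⟨h1, h2⟩ | ⟨h1, h2⟩ | ⟨h1, h2⟩ | ⟨h1, h2⟩ <;> simp [*]
  have hpt2 : ∀ i ∈ T, (d i : ℤ) * B i =
      11 * (if B i = 1 ∧ d i = 11 then (1 : ℤ) else 0) +
      (-44) * (if B i = -1 ∧ d i = 44 then (1 : ℤ) else 0) +
      66 * (if B i = 1 ∧ d i = 66 then (1 : ℤ) else 0) := by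
    intro i hi
    rcases hcls i hi with ⟨h1, h2⟩ | ⟨h1, h2⟩ | ⟨h1, h2⟩ | ⟨h1, h2⟩ <;> simp [*]
  have hpt3 : ∀ i ∈ T, d i ^ 2 =
      121 * (if B i = 1 ∧ d i = 11 then (1 : ℕ) else 0) +
      1936 * (if B i = -1 ∧ d i = 44 then (1 : ℕ) else 0) +
      3025 * (if B i = 0 ∧ d i = 55 then (1 : ℕ) else 0) +
      4356 * (if B i = 1 ∧ d i = 66 then (1 : ℕ) else 0) := by
    intro i hi
    rcases hcls i hi with ⟨h1, h2⟩ | ⟨h1, h2⟩ | ⟨h1, h2⟩ | ⟨h1, h2⟩ <;> simp [*]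
  rw [Finset.sum_congr rfl hpt1] at hB2
  rw [Finset.sum_congr rfl hpt2] at hlin
  rw [Finset.sum_congr rfl hpt3] at hsq
  simp only [Finset.sum_add_distrib, ← Finset.mul_sum, Finset.sum_boole] at hB2 hlin hsq
  simp only [Nat.cast_id] at hsq
  set F11 := T.filter (fun i => B i = 1 ∧ d i = 11) with hF11
  set F44 := T.filter (fun i => B i = -1 ∧ d i = 44) with hF44
  set F55 := T.filter (fun i => B i = 0 ∧ d i = 55) with hF55
  set F66 := T.filter (fun i => B i = 1 ∧ d i = 66) with hF66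
  obtain ⟨c1, c2, c3, c4⟩ := counts4 F11.card F44.card F55.card F66.card hB2 hlin hsq
  obtain ⟨t₁, hk1⟩ := Finset.card_eq_one.mp c1
  obtain ⟨t₂, hk2⟩ := Finset.card_eq_one.mp c2
  obtain ⟨t₃, hk3⟩ := Finset.card_eq_one.mp c3
  have m1 : t₁ ∈ F11 := by rw [hk1]; simp
  have m2 : t₂ ∈ F44 := by rw [hk2]; simp
  have m3 : t₃ ∈ F55 := by rw [hk3]; simp
  have m1' := m1
  have m2' := m2
  have m3' := m3
  rw [hF11, Finset.mem_filter] at m1'
  rw [hF44, Finset.mem_filter] at m2'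
  rw [hF55, Finset.mem_filter] at m3'
  refine ⟨t₁, t₂, t₃, m1'.1, m2'.1, m3'.1, ?_, ?_, ?_, m1'.2.2, m2'.2.2, m3'.2.2, ?_⟩
  · intro h
    have := m1'.2.2
    rw [h, m2'.2.2] at this
    omega
  · intro h
    have := m1'.2.2
    rw [h, m3'.2.2] at this
    omega
  · intro h
    have := m2'.2.2
    rw [h, m3'.2.2] at this
    omega
  · intro i hi
    rcases hcls i hi with h | h | h | h
    · left
      have : i ∈ F11 := Finset.mem_filter.mpr ⟨hi, h⟩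
      rw [hk1] at this
      simpa using this
    · right; left
      have : i ∈ F44 := Finset.mem_filter.mpr ⟨hi, h⟩
      rw [hk2] at this
      simpa using this
    · right; right
      have : i ∈ F55 := Finset.mem_filter.mpr ⟨hi, h⟩
      rw [hk3] at this
      simpa using this
    · exfalso
      have : i ∈ F66 := Finset.mem_filter.mpr ⟨hi, h⟩
      rw [Finset.card_eq_zero] at c4
      rw [c4] at this
      exact absurd this (Finset.notMem_empty i)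

end Cfsg.Agent.Lib.H21.M7920
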