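import Mathlib
import Cfsg.Prelude.Def_PLocal
import Cfsg.Agent.Lib.H1.PGroupBasic

set_option autoImplicit false
open scoped commutatorElement

namespace Cfsg.Agent.Lib.H21

open Subgroup

variable {G : Type*} [Group G]

/-- If `W` is normalized by `closure S` and contains all commutators of elements of `S`, then it
contains the derived subgroup of `closure S`. -/
theorem commutator_closure_le_of_normalized (W : Subgroup G) (S : Set G)
    (hW : ∀ h ∈ closure S, ∀ w ∈ W, h * w * h⁻¹ ∈ W)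
    (hS : ∀ s ∈ S, ∀ t ∈ S, ⁅s, t⁆ ∈ W) : ⁅closure S, closure S⁆ ≤ W := by
  rw [Subgroup.commutator_le]
  -- first step: second argument a generator
  have step1 : ∀ t ∈ S, ∀ g ∈ closure S, ⁅g, t⁆ ∈ W := by
    intro t ht g hg
    induction hg using Subgroup.closure_induction with
    | mem s hs => exact hS s hs t ht
    | one => rw [commutatorElement_one_left]; exact W.one_mem
    | mul a b ha _ iha ihb =>
      have : ⁅a * b, t⁆ = a * ⁅b, t⁆ * a⁻¹ * ⁅a, t⁆ := by
        simp only [commutatorElement_def]; group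
      rw [this]
      exact W.mul_mem (hW a ha _ ihb) iha
    | inv a ha iha =>
      have : ⁅a⁻¹, t⁆ = a⁻¹ * ⁅a, t⁆⁻¹ * a⁻¹⁻¹ := by
        simp only [commutatorElement_def]; group
      rw [this]
      exact hW a⁻¹ ((closure S).inv_mem ha) _ (W.inv_mem iha)
  intro g₁ hg₁ g₂ hg₂
  induction hg₂ using Subgroup.closure_induction with
  | mem t ht => exact step1 t ht g₁ hg₁
  | one => rw [commutatorElement_one_right]; exact W.one_mem
  | mul a b ha _ iha ihb =>
    have : ⁅g₁, a * b⁆ = ⁅g₁, a⁆ * (a * ⁅g₁, b⁆ * a⁻¹) := by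
      simp only [commutatorElement_def]; group
    rw [this]
    exact W.mul_mem iha (hW a ha _ ihb)
  | inv a ha iha =>
    have : ⁅g₁, a⁻¹⁆ = a⁻¹ * ⁅g₁, a⁆⁻¹ * a⁻¹⁻¹ := by
      simp only [commutatorElement_def]; group
    rw [this]
    exact hW a⁻¹ ((closure S).inv_mem ha) _ (W.inv_mem iha)

/-- In a finite `p`-group, a proper subgroup `K < H` lies in a proper subgroup `M < H` which is
normalized by `H` and contains the derived subgroup of `H`. -/
theorem exists_normal_proper_of_lt [Finite G] {p : ℕ} [Fact p.Prime] (hG : IsPGroup p G)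
    (H K : Subgroup G) (hKH : K < H) :
    ∃ M : Subgroup G, K ≤ M ∧ M < H ∧ (∀ h ∈ H, ∀ m ∈ M, h * m * h⁻¹ ∈ M) ∧ ⁅H, H⁆ ≤ M := by
  have hK' : K.subgroupOf H ≠ ⊤ := by
    intro e
    exact (not_le_of_gt hKH) (Subgroup.subgroupOf_eq_top.1 e)
  obtain ⟨M', hM', hKM'⟩ := (eq_top_or_exists_le_coatom _).resolve_left hK'
  have hHp : IsPGroup p H := hG.to_subgroup H
  have hM'n : M'.Normal := Cfsg.Agent.Lib.H1.isPGroup_coatom_normal hHp hM'
  refine ⟨M'.map H.subtype, ?_, ?_, ?_, ?_⟩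
  · intro k hk
    exact ⟨⟨k, hKH.le hk⟩, hKM' (Subgroup.mem_subgroupOf.2 hk), rfl⟩
  · refine lt_of_le_of_ne (Subgroup.map_subtype_le M') ?_
    intro e
    apply hM'.1
    rw [eq_top_iff]
    intro x _
    have hx : (x : G) ∈ M'.map H.subtype := by rw [e]; exact x.2
    obtain ⟨y, hy, hyx⟩ := hx
    have : y = x := Subtype.ext hyx
    rw [← this]; exact hy
  · rintro h hh _ ⟨m, hm, rfl⟩
    exact ⟨⟨h, hh⟩ * m * ⟨h, hh⟩⁻¹, hM'n.conj_mem m hm ⟨h, hh⟩, rfl⟩
  · rw [← Subgroup.map_subtype_commutator]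
    apply Subgroup.map_mono
    exact le_trans (Cfsg.Agent.Lib.H1.isPGroup_commutator_le_frattini hHp) (frattini_le_coatom hM')

/-- if every element of `K` has `q`-th power `1` then the `q`-th power closure of `K` is trivial -/
theorem powerClosure_eq_bot (p n : ℕ) (K : Subgroup G) (h : ∀ x ∈ K, x ^ (p ^ n) = 1) :
    Cfsg.powerClosure p n K = ⊥ := by
  unfold Cfsg.powerClosure
  rw [eq_bot_iff, Subgroup.closure_le]
  rintro y ⟨x, hx, rfl⟩
  rw [h x hx]
  exact Subgroup.mem_bot.2 rfl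

theorem card_lt_of_lt' [Finite G] {H K : Subgroup G} (h : H < K) : Nat.card H < Nat.card K := by
  have h1 : Nat.card H = (H : Set G).ncard := Nat.card_coe_set_eq _
  have h2 : Nat.card K = (K : Set G).ncard := Nat.card_coe_set_eq _
  rw [h1, h2]
  exact Set.ncard_lt_ncard (SetLike.coe_ssubset_coe.2 h) (Set.toFinite _)

theorem commutator_self_le (H : Subgroup G) : ⁅H, H⁆ ≤ H := by
  rw [Subgroup.commutator_le]
  intro g₁ h₁ g₂ h₂
  exact H.mul_mem (H.mul_mem (H.mul_mem h₁ h₂) (H.inv_mem h₁)) (H.inv_mem h₂)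

theorem conj_mem_commutator_self (H : Subgroup G) {h w : G} (hh : h ∈ H) (hw : w ∈ ⁅H, H⁆) :
    h * w * h⁻¹ ∈ ⁅H, H⁆ := by
  have h1 : ⁅h, w⁆ ∈ ⁅H, H⁆ := Subgroup.commutator_mem_commutator hh (commutator_self_le H hw)
  have h2 : h * w * h⁻¹ = ⁅h, w⁆ * w := by rw [commutatorElement_def]; group
  rw [h2]
  exact Subgroup.mul_mem _ h1 hw

section regular

variable [Finite G] {p : ℕ} [Fact p.Prime]

/-- key consequence of regularity used below: if all elements of `⁅⟨a,b⟩,⟨a,b⟩⁆` have `q`-th power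
one then `(ab)^q = a^q b^q`. -/
theorem regular_mul_pow (hG : Cfsg.IsRegularPGroup p G) (a b : G) (n : ℕ)
    (h : ∀ x ∈ ⁅closure ({a, b} : Set G), closure ({a, b} : Set G)⁆, x ^ (p ^ n) = 1) :
    (a * b) ^ (p ^ n) = a ^ (p ^ n) * b ^ (p ^ n) := by
  obtain ⟨c, hc, hab⟩ := hG.2 a b n
  rw [powerClosure_eq_bot p n _ h, Subgroup.mem_bot] at hc
  rw [hab, hc, mul_one]

/-- In a regular `p`-group the product of two elements of order dividing `q = p^n` has order
dividing `q` (statement relative to subgroups, for the induction). -/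
theorem regular_mul_mem_aux (hG : Cfsg.IsRegularPGroup p G) (n : ℕ) :
    ∀ (m : ℕ) (H : Subgroup G), Nat.card H = m → ∀ x ∈ H, ∀ y ∈ H,
      x ^ (p ^ n) = 1 → y ^ (p ^ n) = 1 → (x * y) ^ (p ^ n) = 1 := by
  intro m
  induction' m using Nat.strong_induction_on with m ih
  intro H hH x hx y hy hxq hyq
  set L := closure ({x, y} : Set G) with hL
  have hLH : L ≤ H := by
    rw [hL, Subgroup.closure_le]
    rintro z (rfl | rfl)
    · exact hx
    · exact hy
  have hxL : x ∈ L := Subgroup.subset_closure (by simp)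
  have hyL : y ∈ L := Subgroup.subset_closure (by simp)
  by_cases hLne : L ≠ H
  · have hlt : Nat.card L < m := by
      rw [← hH]
      exact card_lt_of_lt' (lt_of_le_of_ne hLH hLne)
    exact ih _ hlt L rfl x hxL y hyL hxq hyq
  · push Not at hLne
    by_cases hcyc : zpowers x = H
    · -- y is a power of x
      have hyx : y ∈ zpowers x := by rw [hcyc]; exact hy
      obtain ⟨k, rfl⟩ := Subgroup.mem_zpowers_iff.1 hyx
      have hc : Commute x (x ^ k) := (Commute.refl x).zpow_right k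
      rw [hc.mul_pow, hxq, hyq, mul_one]
    · have hxH : zpowers x < H :=
        lt_of_le_of_ne (by rw [Subgroup.zpowers_le]; exact hx) hcyc
      obtain ⟨M, hxM, hMH, hMn, hcomm⟩ := exists_normal_proper_of_lt hG.1 H (zpowers x) hxH
      have hMcard : Nat.card M < m := by
        rw [← hH]; exact card_lt_of_lt' hMH
      have hxM' : x ∈ M := hxM (Subgroup.mem_zpowers x)
      -- the commutator x⁻¹ y⁻¹ x y has q-th power 1
      have hc0 : (x⁻¹ * (y⁻¹ * x * y⁻¹⁻¹)) ^ (p ^ n) = 1 := by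
        apply ih _ hMcard M rfl _ (M.inv_mem hxM') _ (hMn y⁻¹ (H.inv_mem hy) x hxM')
        · rw [inv_pow, hxq, inv_one]
        · rw [conj_pow, hxq]; group
      -- the derived subgroup
      set H' := ⁅H, H⁆ with hH'
      have hH'card : Nat.card H' < m := lt_of_le_of_lt (Subgroup.card_le_of_le hcomm) hMcard
      -- W = elements of H' of order dividing q
      let W : Subgroup G :=
        { carrier := {w | w ∈ H' ∧ w ^ (p ^ n) = 1}
          mul_mem' := fun {a b} ha hb =>
            ⟨H'.mul_mem ha.1 hb.1, ih _ hH'card H' rfl a ha.1 b hb.1 ha.2 hb.2⟩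
          one_mem' := ⟨H'.one_mem, one_pow _⟩
          inv_mem' := fun {a} ha => ⟨H'.inv_mem ha.1, by rw [inv_pow, ha.2, inv_one]⟩ }
      have hWn : ∀ h ∈ closure ({x⁻¹, y⁻¹} : Set G), ∀ w ∈ W, h * w * h⁻¹ ∈ W := by
        intro h hh w hw
        have hhH : h ∈ H := by
          have : closure ({x⁻¹, y⁻¹} : Set G) ≤ H := by
            rw [Subgroup.closure_le]
            rintro z (rfl | rfl)
            · exact H.inv_mem hx
            · exact H.inv_mem hy
          exact this hh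
        exact ⟨conj_mem_commutator_self H hhH hw.1, by rw [conj_pow, hw.2]; group⟩
      have hc0W : ⁅x⁻¹, y⁻¹⁆ ∈ W := by
        refine ⟨Subgroup.commutator_mem_commutator (H.inv_mem hx) (H.inv_mem hy), ?_⟩
        have : ⁅x⁻¹, y⁻¹⁆ = x⁻¹ * (y⁻¹ * x * y⁻¹⁻¹) := by rw [commutatorElement_def]; group
        rw [this]; exact hc0
      have hSW : ∀ s ∈ ({x⁻¹, y⁻¹} : Set G), ∀ t ∈ ({x⁻¹, y⁻¹} : Set G), ⁅s, t⁆ ∈ W := by
        rintro s (rfl | rfl) t (rfl | rfl)
        · rw [commutatorElement_self]; exact W.one_mem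
        · exact hc0W
        · rw [← commutatorElement_inv]; exact W.inv_mem hc0W
        · rw [commutatorElement_self]; exact W.one_mem
      have hder := commutator_closure_le_of_normalized W _ hWn hSW
      have hcl : closure ({x⁻¹, y⁻¹} : Set G) = closure ({x, y} : Set G) := by
        apply le_antisymm
        · rw [Subgroup.closure_le]
          rintro z (rfl | rfl)
          · exact Subgroup.inv_mem _ hxL
          · exact Subgroup.inv_mem _ hyL
        · rw [Subgroup.closure_le]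
          rintro z (rfl | rfl)
          · have := Subgroup.inv_mem _ (Subgroup.subset_closure (show z⁻¹ ∈ ({z⁻¹, y⁻¹} : Set G) by simp))
            simpa using this
          · have := Subgroup.inv_mem _ (Subgroup.subset_closure (show z⁻¹ ∈ ({x⁻¹, z⁻¹} : Set G) by simp))
            simpa using this
      rw [hcl] at hder
      have := regular_mul_pow hG x y n (fun w hw => (hder hw).2)
      rw [this, hxq, hyq, mul_one]

/-- In a regular `p`-group the elements of order dividing `p^n` are closed under products. -/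
theorem regular_mul_pow_eq_one (hG : Cfsg.IsRegularPGroup p G) (n : ℕ) (x y : G)
    (hx : x ^ (p ^ n) = 1) (hy : y ^ (p ^ n) = 1) : (x * y) ^ (p ^ n) = 1 :=
  regular_mul_mem_aux hG n _ ⊤ rfl x (Subgroup.mem_top x) y (Subgroup.mem_top y) hx hy

/-- the subgroup `Ω_n` of a regular `p`-group: elements of order dividing `p^n` -/
def omegaSub (hG : Cfsg.IsRegularPGroup p G) (n : ℕ) : Subgroup G where
  carrier := {x | x ^ (p ^ n) = 1}
  mul_mem' := fun {a b} ha hb => regular_mul_pow_eq_one hG n a b ha hb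
  one_mem' := one_pow _
  inv_mem' := fun {a} ha => by
    show a⁻¹ ^ (p ^ n) = 1
    rw [inv_pow, show a ^ (p ^ n) = 1 from ha, inv_one]

theorem mem_omegaSub (hG : Cfsg.IsRegularPGroup p G) (n : ℕ) (x : G) :
    x ∈ omegaSub hG n ↔ x ^ (p ^ n) = 1 := Iff.rfl

theorem conj_mem_omegaSub (hG : Cfsg.IsRegularPGroup p G) (n : ℕ) (h x : G)
    (hx : x ∈ omegaSub hG n) : h * x * h⁻¹ ∈ omegaSub hG n := by
  rw [mem_omegaSub] at hx ⊢
  rw [conj_pow, hx]; group

/-- if `⁅a, b⁆` has order dividing `q` then `(ab)^q = a^q b^q`. -/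
theorem regular_mul_pow_of_commutator (hG : Cfsg.IsRegularPGroup p G) (n : ℕ) (a b : G)
    (h : ⁅a, b⁆ ^ (p ^ n) = 1) : (a * b) ^ (p ^ n) = a ^ (p ^ n) * b ^ (p ^ n) := by
  apply regular_mul_pow hG a b n
  have hSW : ∀ s ∈ ({a, b} : Set G), ∀ t ∈ ({a, b} : Set G), ⁅s, t⁆ ∈ omegaSub hG n := by
    rintro s (rfl | rfl) t (rfl | rfl)
    · rw [commutatorElement_self]; exact Subgroup.one_mem _
    · exact h
    · rw [← commutatorElement_inv]; exact Subgroup.inv_mem _ h
    · rw [commutatorElement_self]; exact Subgroup.one_mem _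
  have := commutator_closure_le_of_normalized (omegaSub hG n) ({a, b} : Set G)
    (fun h _ w hw => conj_mem_omegaSub hG n h w hw) hSW
  intro x hx
  exact this hx

/-- auxiliary induction: `a^q = b^q → (a b⁻¹)^q = 1` in a regular `p`-group -/
theorem regular_pow_eq_imp_aux (hG : Cfsg.IsRegularPGroup p G) (n : ℕ) :
    ∀ (m : ℕ) (H : Subgroup G), Nat.card H = m → ∀ a ∈ H, ∀ b ∈ H,
      a ^ (p ^ n) = b ^ (p ^ n) → (a * b⁻¹) ^ (p ^ n) = 1 := by
  intro m
  induction' m using Nat.strong_induction_on with m ih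
  intro H hH a ha b hb hab
  set L := closure ({a, b} : Set G) with hL
  have hLH : L ≤ H := by
    rw [hL, Subgroup.closure_le]
    rintro z (rfl | rfl)
    · exact ha
    · exact hb
  have haL : a ∈ L := Subgroup.subset_closure (by simp)
  have hbL : b ∈ L := Subgroup.subset_closure (by simp)
  by_cases hLne : L ≠ H
  · have hlt : Nat.card L < m := by
      rw [← hH]
      exact card_lt_of_lt' (lt_of_le_of_ne hLH hLne)
    exact ih _ hlt L rfl a haL b hbL hab
  · push Not at hLne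
    by_cases hcyc : zpowers a = H
    · have hba : b ∈ zpowers a := by rw [hcyc]; exact hb
      obtain ⟨k, rfl⟩ := Subgroup.mem_zpowers_iff.1 hba
      have hc : Commute a (a ^ k)⁻¹ := ((Commute.refl a).zpow_right k).inv_right
      rw [hc.mul_pow, inv_pow, ← hab, mul_inv_cancel]
    · have haH : zpowers a < H :=
        lt_of_le_of_ne (by rw [Subgroup.zpowers_le]; exact ha) hcyc
      obtain ⟨M, haM, hMH, hMn, _⟩ := exists_normal_proper_of_lt hG.1 H (zpowers a) haH
      have hMcard : Nat.card M < m := by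
        rw [← hH]; exact card_lt_of_lt' hMH
      have haM' : a ∈ M := haM (Subgroup.mem_zpowers a)
      have hconj : (b⁻¹ * a * b⁻¹⁻¹) ^ (p ^ n) = a ^ (p ^ n) := by
        rw [conj_pow, hab]; group
      have h1 : (a * (b⁻¹ * a * b⁻¹⁻¹)⁻¹) ^ (p ^ n) = 1 :=
        ih _ hMcard M rfl a haM' _ (hMn b⁻¹ (H.inv_mem hb) a haM') hconj.symm
      have h2 : ⁅a, b⁻¹⁆ = a * (b⁻¹ * a * b⁻¹⁻¹)⁻¹ := by
        rw [commutatorElement_def]; group
      have h3 : ⁅a, b⁻¹⁆ ^ (p ^ n) = 1 := by rw [h2]; exact h1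
      rw [regular_mul_pow_of_commutator hG n a b⁻¹ h3, inv_pow, ← hab, mul_inv_cancel]

/-- In a regular `p`-group: `a^q = b^q ↔ (a b⁻¹)^q = 1` for `q = p^n`. -/
theorem regular_pow_eq_iff (hG : Cfsg.IsRegularPGroup p G) (n : ℕ) (a b : G) :
    a ^ (p ^ n) = b ^ (p ^ n) ↔ (a * b⁻¹) ^ (p ^ n) = 1 := by
  constructor
  · intro h
    exact regular_pow_eq_imp_aux hG n _ ⊤ rfl a (Subgroup.mem_top a) b (Subgroup.mem_top b) h
  · intro h
    set u := a * b⁻¹ with hu
    have huΩ : u ∈ omegaSub hG n := h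
    have hcomm : ⁅u, b⁆ ∈ omegaSub hG n := by
      have : ⁅u, b⁆ = u * (b * u⁻¹ * b⁻¹) := by rw [commutatorElement_def]; group
      rw [this]
      exact Subgroup.mul_mem _ huΩ (conj_mem_omegaSub hG n b _ (Subgroup.inv_mem _ huΩ))
    have h1 := regular_mul_pow_of_commutator hG n u b hcomm
    have h2 : u * b = a := by rw [hu]; group
    rw [h2, h, one_mul] at h1
    exact h1

/-- In a regular `p`-group: `a^q` commutes with `b` iff `(a⁻¹ b⁻¹ a b)^q = 1`. -/
theorem regular_pow_commute_iff (hG : Cfsg.IsRegularPGroup p G) (n : ℕ) (a b : G) :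
    a ^ (p ^ n) * b = b * a ^ (p ^ n) ↔ (a⁻¹ * b⁻¹ * a * b) ^ (p ^ n) = 1 := by
  have h1 : a ^ (p ^ n) * b = b * a ^ (p ^ n) ↔ (b⁻¹ * a * b⁻¹⁻¹) ^ (p ^ n) = a ^ (p ^ n) := by
    rw [conj_pow]
    constructor
    · intro h
      calc b⁻¹ * a ^ (p ^ n) * b⁻¹⁻¹ = b⁻¹ * (a ^ (p ^ n) * b) := by group
        _ = b⁻¹ * (b * a ^ (p ^ n)) := by rw [h]
        _ = a ^ (p ^ n) := by group
    · intro h
      calc a ^ (p ^ n) * b = b * (b⁻¹ * a ^ (p ^ n) * b⁻¹⁻¹) := by group
        _ = b * a ^ (p ^ n) := by rw [h]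
  rw [h1, regular_pow_eq_iff hG n]
  have h2 : a⁻¹ * b⁻¹ * a * b = a⁻¹ * (b⁻¹ * a * b⁻¹⁻¹ * a⁻¹) * a⁻¹⁻¹ := by group
  rw [h2, conj_pow]
  constructor
  · intro h; rw [h]; group
  · intro h
    have : (b⁻¹ * a * b⁻¹⁻¹ * a⁻¹) ^ (p ^ n)
        = a * (a⁻¹ * (b⁻¹ * a * b⁻¹⁻¹ * a⁻¹) ^ (p ^ n) * a⁻¹⁻¹) * a⁻¹ := by group
    rw [this, h]; group

end regular

end Cfsg.Agent.Lib.H21
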