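import Cfsg.Agent.Lib.H8.S3571SSDefs
import Cfsg.Agent.Lib.H28.S3571SS12

/-!
helper21: S3571, block NT (Sylvester–Schur), piece (SS7): the theorem for `k ≤ 36`, from (SS1) and
(SS2).  For `n ≤ 210` a finite check with the criterion `p > k`, `n % p < k ⟹ p ∣ C(n,k)` over the
primes `≤ 199`; for `n ≥ 211` smoothness gives `n ^ (k - π(k)) ≤ k ^ k`, false for every `k ≤ 36`.
-/

set_option autoImplicit false

namespace Cfsg.Agent.Lib.H21.S3571SS7

open Cfsg.Agent.Lib.H8.S3571SS

/-- The criterion (SS0): a prime `p > k` with `n % p < k` divides `C(n,k)`. -/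
theorem crit (n k p : ℕ) (hp : p.Prime) (hkp : k < p) (h : n % p < k) : p ∣ n.choose k := by
  have h1 : p ∣ n.descFactorial k := by
    rw [Nat.descFactorial_eq_prod_range]
    exact dvd_trans (Nat.dvd_sub_mod n)
      (Finset.dvd_prod_of_mem (fun i => n - i) (Finset.mem_range.mpr h))
  rw [Nat.descFactorial_eq_factorial_mul_choose] at h1
  rcases (Nat.Prime.dvd_mul hp).mp h1 with h2 | h2
  · exact absurd ((Nat.Prime.dvd_factorial hp).mp h2) (by omega)
  · exact h2

/-- The primes up to `199`. -/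
def ps : List ℕ := [2,3,5,7,11,13,17,19,23,29,31,37,41,43,47,53,59,61,67,71,73,79,83,89,97,101,
  103,107,109,113,127,131,137,139,149,151,157,163,167,173,179,181,191,193,197,199]

set_option maxRecDepth 100000 in
theorem ps_prime : ∀ p ∈ ps, p.Prime := by decide +kernel

/-- Some prime `p > k` of the list has `n % p < k`. -/
def ok (n k : ℕ) : Bool := ps.any (fun p => decide (k < p) && decide (n % p < k))

/-- The check for all `n ≤ 210` with `2k ≤ n`. -/
def chk (k : ℕ) : Bool := (List.range 211).all (fun n => decide (n < 2 * k) || ok n k)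

set_option maxRecDepth 100000 in
theorem chk_all : (List.range 37).all (fun k => decide (k = 0) || chk k) = true := by
  decide +kernel

theorem small (n k : ℕ) (hk : 1 ≤ k) (hk36 : k ≤ 36) (hn : 2 * k ≤ n) (hn210 : n < 211) :
    ∃ p : ℕ, p.Prime ∧ k < p ∧ p ∣ n.choose k := by
  have h1 := List.all_eq_true.mp chk_all k (List.mem_range.mpr (by omega))
  have hk0 : k ≠ 0 := by omega
  have h2 : chk k = true := by simpa [hk0] using h1
  have h3 := List.all_eq_true.mp h2 n (List.mem_range.mpr hn210)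
  have hnk : ¬ n < 2 * k := by omega
  have h4 : ok n k = true := by simpa [hnk] using h3
  obtain ⟨p, hp, hpk⟩ := List.any_eq_true.mp h4
  simp only [Bool.and_eq_true, decide_eq_true_eq] at hpk
  exact ⟨p, ps_prime p hp, hpk.1, crit n k p (ps_prime p hp) hpk.1 hpk.2⟩

theorem pi_check : ∀ k, k < 37 → 1 ≤ k →
    Nat.primeCounting k ≤ k ∧ k ^ k < 211 ^ (k - Nat.primeCounting k) := by
  decide

theorem large (h1 : SS1Stmt) (h2 : SS2Stmt) (n k : ℕ) (hk : 1 ≤ k) (hk36 : k ≤ 36)
    (hn : 211 ≤ n) : ¬ Smooth n k := by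
  intro hsm
  have hkn : k ≤ n := by omega
  have hn0 : 0 < n := by omega
  have hA : n ^ k ≤ k ^ k * n ^ (Nat.primeCounting k) :=
    le_trans (h2 n k hkn) (Nat.mul_le_mul_left _ (h1 n k hkn hsm))
  obtain ⟨hpi, hlt⟩ := pi_check k (by omega) hk
  have e : n ^ k = n ^ (k - Nat.primeCounting k) * n ^ (Nat.primeCounting k) := by
    rw [← pow_add]; congr 1; omega
  rw [e] at hA
  have hB : n ^ (k - Nat.primeCounting k) ≤ k ^ k :=
    Nat.le_of_mul_le_mul_right hA (Nat.pow_pos hn0)
  have hC : 211 ^ (k - Nat.primeCounting k) ≤ n ^ (k - Nat.primeCounting k) :=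
    Nat.pow_le_pow_left hn _
  omega

/-- (SS7) from (SS1) and (SS2). -/
theorem ss7_of (h1 : SS1Stmt) (h2 : SS2Stmt) : SS7Stmt := by
  intro n k hk hk36 hn
  by_cases hn210 : n < 211
  · exact small n k hk hk36 hn hn210
  · by_contra hcon
    apply large h1 h2 n k hk hk36 (by omega)
    intro p hp hpd
    by_contra hlt
    exact hcon ⟨p, hp, by omega, hpd⟩

/-- (SS7), with helper28's landed (SS1), (SS2). -/
theorem ss7 : SS7Stmt :=
  ss7_of Cfsg.Agent.Lib.H28.S3571SS.ss1 Cfsg.Agent.Lib.H28.S3571SS.ss2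

end Cfsg.Agent.Lib.H21.S3571SS7
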