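import Mathlib
import Cfsg.Agent.Lib.H10.S4415Defs
import Cfsg.Agent.Lib.H9.S4415B1

/-!
# S4415, GOOD block, piece (L,U,F) of helper24's farm-out (helper21)

`V : I → Submodule` an independent family inside `W`, permuted by `b` through `β` (`β³ = id`), in
the `QData` frame (`(1 + b + b²) w ∈ F_3 u` for `w ∈ W`, helper9's `nsq_eq_smul`):
* `line_of_moved` : a moved `V i` is at most a line;
* `moved_unique`  : two moved nonzero `V i`, `V j` lie in the same `β`-orbit;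
* `fixed_scalar`  : on a fixed line `b` acts trivially.
-/

set_option autoImplicit false

namespace Cfsg.Agent.Lib.H21.S4415LUF

open Cfsg.Agent.Lib.H10.S4415 Cfsg.Agent.Lib.H9.S4415

variable {S E : Type*} [Group S] [AddCommGroup E] [Module (ZMod 3) E]
  {ρ : Representation (ZMod 3) S E} {R : Subgroup S} {b : S} {W : Submodule (ZMod 3) E}
  {x₁ x₂ x₃ : S} {e₁ e₂ e₃ : E}

/-- independence: a vector of `V i` which is minus a vector of `⨆ k ≠ i, V k` is zero -/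
theorem eq_zero_of_indep {I : Type*} {V : I → Submodule (ZMod 3) E} (hind : iSupIndep V) {i : I}
    {x y : E} (hx : x ∈ V i) (hy : y ∈ ⨆ (k : I) (_ : k ≠ i), V k) (h : x + y = 0) : x = 0 := by
  have hxy : x = -y := eq_neg_of_add_eq_zero_left h
  have h1 : x ∈ ⨆ (k : I) (_ : k ≠ i), V k := by
    rw [hxy]
    exact Submodule.neg_mem _ hy
  have h2 : x ∈ V i ⊓ ⨆ (k : I) (_ : k ≠ i), V k := ⟨hx, h1⟩
  have h3 := (hind i).le_bot h2
  exact (Submodule.mem_bot _).1 h3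

theorem mem_biSup {I : Type*} {V : I → Submodule (ZMod 3) E} {i k : I} (hk : k ≠ i) {v : E}
    (hv : v ∈ V k) : v ∈ ⨆ (k : I) (_ : k ≠ i), V k :=
  Submodule.mem_iSup_of_mem k (Submodule.mem_iSup_of_mem hk hv)

theorem b_cube (hQ : QData ρ R b W x₁ x₂ x₃ e₁ e₂ e₃) : ∀ w ∈ W, ρ b (ρ b (ρ b w)) = w := by
  intro w hw
  obtain ⟨w₀, _, c₁, c₂, c₃, hdec, _, _, _, hbw₀⟩ := hQ.decomp w hw
  rw [hdec]
  simp only [map_add, map_smul, hbw₀, hQ.be₁, hQ.be₂, hQ.be₃]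

section

variable {I : Type*} (V : I → Submodule (ZMod 3) E) (hind : iSupIndep V)
  (hVW : ∀ i, V i ≤ W) (β : I → I) (hβ : ∀ i, ∀ v ∈ V i, ρ b v ∈ V (β i))
  (hβ3 : ∀ i, β (β (β i)) = i)

include hβ3 in
theorem sq_ne {i : I} (hi : β i ≠ i) : β (β i) ≠ i := by
  intro h
  have h3 := hβ3 i
  rw [h] at h3
  exact hi h3

include hind hβ hβ3 in
/-- `(1 + b + b²) v = 0` with `v` in a moved `V i` forces `v = 0`. -/
theorem eq_zero_of_T {i : I} (hi : β i ≠ i) {v : E} (hv : v ∈ V i)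
    (h : ρ b (ρ b v) + ρ b v + v = 0) : v = 0 := by
  have h1 : ρ b v ∈ ⨆ (k : I) (_ : k ≠ i), V k := mem_biSup hi (hβ i v hv)
  have h2 : ρ b (ρ b v) ∈ ⨆ (k : I) (_ : k ≠ i), V k :=
    mem_biSup (sq_ne β hβ3 hi) (hβ _ _ (hβ i v hv))
  refine eq_zero_of_indep hind hv (Submodule.add_mem _ h2 h1) ?_
  rw [← h]
  abel

include hind hVW hβ hβ3 in
/-- **(L)** a moved `V i` is at most a line. -/
theorem line_of_moved (hQ : QData ρ R b W x₁ x₂ x₃ e₁ e₂ e₃) :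
    ∀ i, β i ≠ i → ∀ v ∈ V i, v ≠ 0 → ∀ w ∈ V i, ∃ c : ZMod 3, w = c • v := by
  intro i hi v hv hv0 w hw
  obtain ⟨cv, hcv⟩ := nsq_eq_smul hQ (hVW i hv)
  obtain ⟨cw, hcw⟩ := nsq_eq_smul hQ (hVW i hw)
  have hcv0 : cv ≠ 0 := by
    intro h0
    rw [h0, zero_smul] at hcv
    exact hv0 (eq_zero_of_T V hind β hβ hβ3 hi hv hcv)
  refine ⟨cw * cv⁻¹, ?_⟩
  have hd : w - (cw * cv⁻¹) • v ∈ V i := (V i).sub_mem hw ((V i).smul_mem _ hv)
  have hT : ρ b (ρ b (w - (cw * cv⁻¹) • v)) + ρ b (w - (cw * cv⁻¹) • v) +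
      (w - (cw * cv⁻¹) • v) = 0 := by
    have e1 : ρ b (ρ b (w - (cw * cv⁻¹) • v)) + ρ b (w - (cw * cv⁻¹) • v) +
        (w - (cw * cv⁻¹) • v) =
        (ρ b (ρ b w) + ρ b w + w) - (cw * cv⁻¹) • (ρ b (ρ b v) + ρ b v + v) := by
      simp only [map_sub, map_smul, smul_add]
      abel
    rw [e1, hcw, hcv, smul_smul, inv_mul_cancel_right₀ hcv0, sub_self]
  exact sub_eq_zero.1 (eq_zero_of_T V hind β hβ hβ3 hi hd hT)

include hind hVW hβ hβ3 in
/-- **(U)** two moved nonzero members of the family lie in one `β`-orbit. -/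
theorem moved_unique (hQ : QData ρ R b W x₁ x₂ x₃ e₁ e₂ e₃) :
    ∀ i j, β i ≠ i → β j ≠ j → (∃ v ∈ V i, v ≠ 0) → (∃ v ∈ V j, v ≠ 0) →
      j = i ∨ j = β i ∨ j = β (β i) := by
  rintro i j hi hj ⟨v, hv, hv0⟩ ⟨v', hv', hv'0⟩
  by_contra hno
  push Not at hno
  obtain ⟨c, hc⟩ := nsq_eq_smul hQ (hVW i hv)
  obtain ⟨c', hc'⟩ := nsq_eq_smul hQ (hVW j hv')
  have hc'0 : c' ≠ 0 := by
    intro h0
    rw [h0, zero_smul] at hc'
    exact hv'0 (eq_zero_of_T V hind β hβ hβ3 hj hv' hc')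
  have hz : c' • (ρ b (ρ b v) + ρ b v + v) - c • (ρ b (ρ b v') + ρ b v' + v') = 0 := by
    rw [hc, hc', smul_smul, smul_smul, mul_comm, sub_self]
  have hji : j ≠ i := hno.1
  have hbj : β j ≠ i := by
    intro h
    apply hno.2.2
    rw [← hβ3 j, h]
  have hbbj : β (β j) ≠ i := by
    intro h
    apply hno.2.1
    rw [← hβ3 j, h]
  have hx : c' • v ∈ V i := (V i).smul_mem _ hv
  have hy : c' • ρ b (ρ b v) + c' • ρ b v -
      c • (ρ b (ρ b v') + ρ b v' + v') ∈ ⨆ (k : I) (_ : k ≠ i), V k := by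
    refine Submodule.sub_mem _ (Submodule.add_mem _ ?_ ?_) (Submodule.smul_mem _ _ ?_)
    · exact Submodule.smul_mem _ _ (mem_biSup (sq_ne β hβ3 hi) (hβ _ _ (hβ i v hv)))
    · exact Submodule.smul_mem _ _ (mem_biSup hi (hβ i v hv))
    · exact Submodule.add_mem _ (Submodule.add_mem _
        (mem_biSup hbbj (hβ _ _ (hβ j v' hv'))) (mem_biSup hbj (hβ j v' hv')))
        (mem_biSup hji hv')
  have hsum : c' • v + (c' • ρ b (ρ b v) + c' • ρ b v -
      c • (ρ b (ρ b v') + ρ b v' + v')) = 0 := by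
    rw [← hz]
    simp only [smul_add]
    abel
  have h0 := eq_zero_of_indep hind hx hy hsum
  exact hv0 ((smul_eq_zero.1 h0).resolve_left hc'0)

include hVW hβ in
/-- **(F)** on a fixed line `b` acts trivially. -/
theorem fixed_scalar (hQ : QData ρ R b W x₁ x₂ x₃ e₁ e₂ e₃) {i : I} {v : E} (hi : β i = i)
    (hv : v ∈ V i) (hline : ∀ w ∈ V i, ∃ c : ZMod 3, w = c • v) : ρ b v = v := by
  have hbv : ρ b v ∈ V i := by
    have := hβ i v hv
    rwa [hi] at this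
  obtain ⟨c, hc⟩ := hline _ hbv
  by_cases hv0 : v = 0
  · rw [hv0, map_zero]
  have h3 : ρ b (ρ b (ρ b v)) = v := b_cube hQ v (hVW i hv)
  have h4 : ρ b (ρ b (ρ b v)) = (c * c * c) • v := by
    calc ρ b (ρ b (ρ b v)) = ρ b (ρ b (c • v)) := by rw [← hc]
      _ = c • ρ b (ρ b v) := by rw [map_smul, map_smul]
      _ = c • ρ b (c • v) := by rw [← hc]
      _ = c • (c • ρ b v) := by rw [map_smul]
      _ = c • (c • (c • v)) := by rw [← hc]
      _ = (c * c * c) • v := by rw [smul_smul, smul_smul]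
  rw [h4] at h3
  have h5 : (c * c * c - 1) • v = 0 := by rw [sub_smul, one_smul, h3, sub_self]
  have h6 : c * c * c - 1 = 0 := (smul_eq_zero.1 h5).resolve_right hv0
  have hkey : ∀ d : ZMod 3, d * d * d - 1 = 0 → d = 1 := by decide
  rw [hc, hkey c h6, one_smul]

end

end Cfsg.Agent.Lib.H21.S4415LUF
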