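import Mathlib
import Cfsg.Agent.Lib.H7.BG14w
import Cfsg.Agent.Lib.H16.BGHyp
import Cfsg.Agent.Lib.H19.HallPi
import Cfsg.Agent.Lib.H19.BG13f
import Cfsg.Agent.Lib.H8.BG1213b
import Cfsg.Agent.Lib.H1.Misc

/-!
# BG 15.6 (helper21): centralizers of Hall subgroups of `M_σ`

Black boxes: `Hyp1430 G`, `Hyp1431 G` (= frozen S1430, S1431, BG Theorem 14.2 for a possibly
non-cyclic Hall `κ(M)`-subgroup).

Main result `cyclic_tau2_of_centralizes`: if `1 ≠ H` is a Hall subgroup of `M_σ`, every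
`σ(M)'`-subgroup of `C_M(H)` is cyclic and a `τ₂(M)`-group.
-/

set_option autoImplicit false
set_option linter.style.haveILetI false
set_option linter.unusedSectionVars false
set_option linter.unusedVariables false
open Cfsg
open Cfsg.Agent.Lib.H16.BG
open Cfsg.Agent.Lib.H8.BG12 (Ctx TData)

namespace Cfsg.Agent.Lib.H21.BGHall

universe u
variable {G : Type u} [Group G] [Finite G]

local notation:max "cj(" g ", " X ")" => Subgroup.map (MulEquiv.toMonoidHom (MulAut.conj g)) X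

/-- the frozen statement S1430 as a hypothesis. -/
def Hyp1430 (G : Type u) [Group G] : Prop :=
  ∀ (M : Subgroup G) (hM : IsCoatom M) (K : Subgroup G) (hK : Cfsg.IsPiHallOf (Cfsg.kappa M) K M) (hK1 : K ≠ ⊥),
    (∀ k ∈ K, k ≠ 1 → Cfsg.sigmaCore M ⊓ Subgroup.centralizer ({k} : Set G) = (Cfsg.sigmaCore M ⊓ Subgroup.centralizer (K : Set G))) ∧
      (∃ U : Subgroup G, IsMulCommutative U ∧ Cfsg.IsPiHallOf {q | q.Prime ∧ q ∉ Cfsg.kappa M ∧ q ∉ Cfsg.sigma M} U M ∧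
        K ≤ Subgroup.normalizer (U : Set G) ∧ ∀ k ∈ K, k ≠ 1 → U ⊓ Subgroup.centralizer ({k} : Set G) = ⊥) ∧
      ∀ X : Subgroup G, X ≤ K → (Nat.card X).Prime →
        M ⊓ Subgroup.normalizer (X : Set G) = K ⊔ (Cfsg.sigmaCore M ⊓ Subgroup.centralizer (K : Set G)) ∧ M ⊓ Subgroup.normalizer (K : Set G) = K ⊔ (Cfsg.sigmaCore M ⊓ Subgroup.centralizer (K : Set G)) ∧
        ∀ Mstar : Subgroup G, IsCoatom Mstar → Subgroup.normalizer (X : Set G) ≤ Mstar → X ≤ Cfsg.sigmaCore Mstar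

/-- the frozen statement S1431 as a hypothesis. -/
def Hyp1431 (G : Type u) [Group G] : Prop :=
  ∀ (M : Subgroup G) (hM : IsCoatom M) (K : Subgroup G) (hK : Cfsg.IsPiHallOf (Cfsg.kappa M) K M) (hK1 : K ≠ ⊥),
    (∀ g : G, g ∉ M → (Cfsg.sigmaCore M ⊓ Subgroup.centralizer (K : Set G)) ⊓ M.map (MulAut.conj g).toMonoidHom = ⊥) ∧
      (∀ g ∈ M, g ∉ K ⊔ (Cfsg.sigmaCore M ⊓ Subgroup.centralizer (K : Set G)) → K ⊓ K.map (MulAut.conj g).toMonoidHom = ⊥) ∧
      (∀ (p : ℕ), p.Prime → p ∣ Nat.card ↥(Cfsg.sigmaCore M ⊓ Subgroup.centralizer (K : Set G)) → ∀ S : Sylow p ↥(Cfsg.sigmaCore M),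
        Cfsg.InUniqueMaximal ((S : Subgroup ↥(Cfsg.sigmaCore M)).map (Cfsg.sigmaCore M).subtype) ∧
        (S : Subgroup ↥(Cfsg.sigmaCore M)).map (Cfsg.sigmaCore M).subtype ≤ M ∧
        ¬ (S : Subgroup ↥(Cfsg.sigmaCore M)).map (Cfsg.sigmaCore M).subtype ≤ (Cfsg.sigmaCore M ⊓ Subgroup.centralizer (K : Set G))) ∧
      ∀ Y : Subgroup G, (∀ p : ℕ, p.Prime → p ∣ Nat.card Y → p ∈ Cfsg.sigma M) → Y ⊓ (Cfsg.sigmaCore M ⊓ Subgroup.centralizer (K : Set G)) ≠ ⊥ → Y ≤ Cfsg.sigmaCore M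

theorem ctx (hG : IsMinSimpleOddOrder G) {M E : Subgroup G} (hM : IsCoatom M)
    (hE : IsComplIn E (sigmaCore M) M) : Ctx M E :=
  ⟨hG, Cfsg.Agent.Lib.H16.BGHyp.uniq3 hG, Cfsg.Agent.Lib.H16.BGHyp.hypCent hG,
    Cfsg.Agent.Lib.H16.BGHyp.hyp1417 hG, hM, hE⟩

/-- a subgroup of prime order centralizing a nontrivial Hall subgroup of `M_σ` is not a
`κ(M)`-group. -/
theorem not_kappa_of_centralizes (hG : IsMinSimpleOddOrder G) (h30 : Hyp1430 G) (h31 : Hyp1431 G)
    {M : Subgroup G} (hM : IsCoatom M) {H : Subgroup G} (hH : H ≤ sigmaCore M) (hH1 : H ≠ ⊥)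
    (hHall : (Nat.card H).Coprime (H.relIndex (sigmaCore M))) {R : Subgroup G} (hRM : R ≤ M)
    {r : ℕ} (hr : r.Prime) (hRc : Nat.card R = r)
    (hRH : R ≤ Subgroup.centralizer (H : Set G)) : r ∉ kappa M := by
  intro hκ
  haveI : Group.IsSolvable ↥M := solvable_of_coatom hG hM
  have hRπ : Cfsg.Agent.Lib.H19.IsPiCard (kappa M) (Nat.card R) := by
    intro q hq hd
    rw [hRc] at hd
    rw [(Nat.prime_dvd_prime_iff_eq hq hr).1 hd]; exact hκ
  obtain ⟨K, hK, hRK⟩ := Cfsg.Agent.Lib.H19.exists_isPiHallOf_ge hRM hRπ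
  have hR1 : R ≠ ⊥ := by
    intro h; rw [h, Subgroup.card_bot] at hRc; exact hr.one_lt.ne hRc
  have hK1 : K ≠ ⊥ := fun h => hR1 (eq_bot_iff.2 (h ▸ hRK))
  obtain ⟨c1, -, -⟩ := h30 M hM K hK hK1
  obtain ⟨-, -, c3, -⟩ := h31 M hM K hK hK1
  obtain ⟨k, hk1⟩ := (Subgroup.ne_bot_iff_exists_ne_one).1 hR1
  have hk1' : (k : G) ≠ 1 := fun h => hk1 (Subtype.ext h)
  have hHK : H ≤ sigmaCore M ⊓ Subgroup.centralizer (K : Set G) := by
    rw [← c1 k (hRK k.2) hk1']
    refine le_inf hH ?_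
    intro h hh
    rw [Subgroup.mem_centralizer_singleton_iff]
    have := Subgroup.mem_centralizer_iff.1 (hRH k.2) h hh
    exact this
  have hcard : Nat.card H ≠ 1 := fun h => hH1 (Subgroup.card_eq_one.1 h)
  obtain ⟨p, hp, hpd⟩ := Nat.exists_prime_and_dvd hcard
  haveI : Fact p.Prime := ⟨hp⟩
  obtain ⟨P, hP⟩ := SylIn.exists_sylIn p H
  have hP' : SylIn p P (sigmaCore M) := by
    refine ⟨hP.1.trans hH, hP.2.1, ?_⟩
    rw [← Subgroup.relIndex_mul_relIndex P H (sigmaCore M) hP.1 hH, Nat.Prime.dvd_mul hp]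
    rintro (h | h)
    · exact hP.2.2 h
    · exact (Nat.Prime.coprime_iff_not_dvd hp).1
        (Nat.Coprime.coprime_dvd_left hpd hHall) h
  obtain ⟨S, hS⟩ := hP'.exists_sylow
  have h3 := (c3 p hp (hpd.trans (Subgroup.card_dvd_of_le hHK)) S).2.2
  apply h3
  rw [hS]
  exact hP.1.trans hHK

/-- **BG 15.6, core**: a `σ(M)'`-subgroup of `C_M(H)`, for `1 ≠ H` a Hall subgroup of `M_σ`, is
cyclic and a `τ₂(M)`-group. -/
theorem cyclic_tau2_of_centralizes (hG : IsMinSimpleOddOrder G) (h30 : Hyp1430 G)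
    (h31 : Hyp1431 G) {M : Subgroup G} (hM : IsCoatom M) {H : Subgroup G}
    (hH : H ≤ sigmaCore M) (hH1 : H ≠ ⊥)
    (hHall : (Nat.card H).Coprime (H.relIndex (sigmaCore M))) {Y : Subgroup G} (hYM : Y ≤ M)
    (hYH : Y ≤ Subgroup.centralizer (H : Set G))
    (hYσ : ∀ q : ℕ, q.Prime → q ∣ Nat.card Y → q ∉ sigma M) :
    IsCyclic Y ∧ ∀ q : ℕ, q.Prime → q ∣ Nat.card Y → q ∈ tau2 M := by
  obtain ⟨E, hE, hYE⟩ := Cfsg.Agent.Lib.H19.BG13.exists_compl_ge hG hM hYM hYσ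
  have c : Ctx M E := ctx hG hM hE
  have hτ : ∀ q : ℕ, q.Prime → q ∣ Nat.card Y → q ∈ tau2 M := by
    intro q hq hqd
    haveI : Fact q.Prime := ⟨hq⟩
    obtain ⟨y, hy⟩ := exists_prime_orderOf_dvd_card' q hqd
    have hRc : Nat.card (Subgroup.zpowers (y : G)) = q := by
      rw [Nat.card_zpowers, Subgroup.orderOf_coe, hy]
    have hRY : Subgroup.zpowers (y : G) ≤ Y := by
      rw [Subgroup.zpowers_le]; exact y.2
    have hRM : Subgroup.zpowers (y : G) ≤ M := hRY.trans hYM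
    have hRH : Subgroup.zpowers (y : G) ≤ Subgroup.centralizer (H : Set G) := hRY.trans hYH
    have hqσ : q ∉ sigma M := hYσ q hq hqd
    have hqM : q ∣ Nat.card M := hqd.trans (Subgroup.card_dvd_of_le hYM)
    have hnκ := not_kappa_of_centralizes hG h30 h31 hM hH hH1 hHall hRM hq hRc hRH
    have hne : sigmaCore M ⊓ Subgroup.centralizer ((Subgroup.zpowers (y : G) : Subgroup G) : Set G) ≠ ⊥ := by
      intro h
      apply hH1
      rw [eq_bot_iff, ← h]
      refine le_inf hH ?_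
      intro h' hh'
      rw [Subgroup.mem_centralizer_iff]
      intro z hz
      exact (Subgroup.mem_centralizer_iff.1 (hRH hz) h' hh').symm
    rcases Cfsg.Agent.Lib.H19.BG13.prime_type hG hM hq hqM with h | h | h | h
    · exact absurd h hqσ
    · exact absurd (Cfsg.Agent.Lib.H7.BG13t.mem_kappa_of_centralizer_ne_bot hG hM hqσ h.2.2.2.2
        hRM hRc hne) hnκ
    · exact h
    · exact absurd (Cfsg.Agent.Lib.H7.BG13t.mem_kappa_of_centralizer_ne_bot hG hM hqσ h.2.2.2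
        hRM hRc hne) hnκ
  refine ⟨?_, hτ⟩
  haveI hab : IsMulCommutative ↥Y := c.tau2_abelian hYE hτ
  haveI : Group.IsNilpotent ↥Y := Cfsg.Agent.Lib.H1.isNilpotent_of_isMulCommutative _
  haveI : IsZGroup ↥Y := by
    constructor
    intro p hp P
    haveI : Fact p.Prime := ⟨hp⟩
    by_contra hnc
    set P' : Subgroup G := (P : Subgroup ↥Y).map Y.subtype with hP'
    have hP'Y : P' ≤ Y := Subgroup.map_subtype_le _
    have hP'p : IsPGroup p P' := P.2.map _
    have hP'nc : ¬ IsCyclic ↥P' := by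
      intro hc
      apply hnc
      exact isCyclic_of_surjective _
        ((P : Subgroup ↥Y).equivMapOfInjective Y.subtype Y.subtype_injective).symm.surjective
    have hP'1 : P' ≠ ⊥ := by
      intro h
      apply hP'nc
      rw [h]; infer_instance
    have hpd : p ∣ Nat.card Y := by
      have h1 : p ∣ Nat.card P' := by
        obtain ⟨k, hk⟩ := IsPGroup.iff_card.1 hP'p
        rcases Nat.eq_zero_or_pos k with h0 | h0
        · rw [h0, pow_zero] at hk
          exact absurd (Subgroup.card_eq_one.1 hk) hP'1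
        · rw [hk]; exact dvd_pow_self p h0.ne'
      exact h1.trans (Subgroup.card_dvd_of_le hP'Y)
    have hp2 : p ≠ 2 := prime_ne_two_of_dvd_card hG hpd
    have hpτ : p ∈ tau2 M := hτ p hp hpd
    obtain ⟨Q, A, d⟩ := c.exists_tData hpτ
    obtain ⟨B, hBP, hBe, hBc⟩ :=
      Cfsg.Agent.Lib.H20.BGT.exists_elemAb_sq_of_not_cyclic hp2 hP'p hP'nc
    have hBY : B ≤ Y := hBP.trans hP'Y
    have hBA : B ≤ A := by
      intro b hb
      by_cases hb1 : b = 1
      · rw [hb1]; exact Subgroup.one_mem _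
      have hbp : b ^ p = 1 := hBe.2 b hb
      have hob : orderOf b = p := orderOf_eq_prime hbp hb1
      have hZc : Nat.card (Subgroup.zpowers b) = p := by rw [Nat.card_zpowers, hob]
      have hZE : Subgroup.zpowers b ≤ E := by
        rw [Subgroup.zpowers_le]; exact hYE (hBY hb)
      exact d.line_le c hZE hZc (Subgroup.mem_zpowers b)
    have hBA' : B = A :=
      Subgroup.eq_of_le_of_card_ge hBA (by rw [hBc, d.hAc])
    apply hH1
    rw [eq_bot_iff, ← d.sigmaCore_inf_centralizer c]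
    refine le_inf hH ?_
    intro h hh
    rw [Subgroup.mem_centralizer_iff]
    intro a ha
    rw [← hBA'] at ha
    exact (Subgroup.mem_centralizer_iff.1 (hYH (hBY ha)) h hh).symm
  infer_instance

end Cfsg.Agent.Lib.H21.BGHall
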