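import Mathlib
import Cfsg.Prelude.Def_PLocal
import Cfsg.Agent.Lib.H15.Conj
import Cfsg.Agent.Lib.H15.SylowNormal
import Cfsg.Agent.Lib.H15.GlauRepl
import Cfsg.Agent.Lib.H5.SylowIn

/-!
# The abelian-version Thompson subgroup inside an ambient group (helper21)

`MaxAbIn U A`: `A` is an abelian subgroup of `U` of largest order; `Cfsg.thompsonSubgroupAOf U` is
the join of these; conjugation; the Frattini argument; the offender inequality.
-/

set_option autoImplicit false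

namespace Cfsg.Agent.Lib.H21.FFGlau

open Cfsg.Agent.Lib.H15 (cj mem_cj_iff conj_mem_cj cj_cj cj_one cj_inv_cj cj_cj_inv cj_mono cj_le_iff
  card_cj)

variable {X : Type*} [Group X]

/-- `A` is an abelian subgroup of `U` of largest possible order. -/
def MaxAbIn (U A : Subgroup X) : Prop :=
  A ≤ U ∧ (∀ a ∈ A, ∀ b ∈ A, a * b = b * a) ∧
    ∀ B : Subgroup X, B ≤ U → (∀ a ∈ B, ∀ b ∈ B, a * b = b * a) → Nat.card B ≤ Nat.card A

theorem comm_iff_isMulCommutative (A : Subgroup X) :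
    (∀ a ∈ A, ∀ b ∈ A, a * b = b * a) ↔ IsMulCommutative ↥A := by
  constructor
  · intro h
    exact ⟨⟨fun a b => Subtype.ext (h a a.2 b b.2)⟩⟩
  · intro h a ha b hb
    exact congrArg Subtype.val (h.is_comm.comm ⟨a, ha⟩ ⟨b, hb⟩)

theorem maxAbIn_map {U : Subgroup X} {A' : Subgroup ↥U} (hA : A' ∈ Cfsg.maxAbelianSubgroups ↥U) :
    MaxAbIn U (A'.map U.subtype) := by
  refine ⟨Subgroup.map_subtype_le _, ?_, ?_⟩
  · rintro _ ⟨a, ha, rfl⟩ _ ⟨b, hb, rfl⟩
    have := hA.1.is_comm.comm ⟨a, ha⟩ ⟨b, hb⟩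
    have h2 : a * b = b * a := congrArg Subtype.val this
    rw [← map_mul, ← map_mul, h2]
  · intro B hBU hBc
    have hc : IsMulCommutative ↥(B.subgroupOf U) := by
      refine ⟨⟨fun a b => ?_⟩⟩
      apply Subtype.ext
      apply Subtype.ext
      exact hBc a.1 a.2 b.1 b.2
    have h1 := hA.2 _ hc
    rw [Nat.card_congr (Subgroup.subgroupOfEquivOfLe hBU).toEquiv] at h1
    rw [← Nat.card_congr (Subgroup.equivMapOfInjective A' _ U.subtype_injective).toEquiv]
    exact h1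

theorem subgroupOf_mem_maxAb {U A : Subgroup X} (hA : MaxAbIn U A) :
    A.subgroupOf U ∈ Cfsg.maxAbelianSubgroups ↥U := by
  refine ⟨?_, ?_⟩
  · refine ⟨⟨fun a b => ?_⟩⟩
    apply Subtype.ext
    apply Subtype.ext
    exact hA.2.1 a.1 a.2 b.1 b.2
  · intro B' hB'
    have hle : B'.map U.subtype ≤ U := Subgroup.map_subtype_le _
    have hc : ∀ a ∈ B'.map U.subtype, ∀ b ∈ B'.map U.subtype, a * b = b * a := by
      rintro _ ⟨a, ha, rfl⟩ _ ⟨b, hb, rfl⟩
      have := hB'.is_comm.comm ⟨a, ha⟩ ⟨b, hb⟩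
      have h2 : a * b = b * a := congrArg Subtype.val this
      rw [← map_mul, ← map_mul, h2]
    have h1 := hA.2.2 _ hle hc
    rw [← Nat.card_congr (Subgroup.equivMapOfInjective B' _ U.subtype_injective).toEquiv] at h1
    rw [Nat.card_congr (Subgroup.subgroupOfEquivOfLe hA.1).toEquiv]
    exact h1

/-- the abelian-version Thompson subgroup as a join inside the ambient group -/
theorem thompsonAOf_eq (U : Subgroup X) :
    Cfsg.thompsonSubgroupAOf U = sSup {A : Subgroup X | MaxAbIn U A} := by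
  unfold Cfsg.thompsonSubgroupAOf Cfsg.thompsonSubgroupA
  apply le_antisymm
  · rw [Subgroup.map_le_iff_le_comap]
    apply sSup_le
    intro A' hA'
    rw [← Subgroup.map_le_iff_le_comap]
    exact le_sSup (maxAbIn_map hA')
  · apply sSup_le
    intro A hA
    have h1 : A = (A.subgroupOf U).map U.subtype :=
      (Subgroup.map_subgroupOf_eq_of_le hA.1).symm
    rw [h1]
    exact Subgroup.map_mono (le_sSup (subgroupOf_mem_maxAb hA))

theorem thompsonAOf_le (U : Subgroup X) : Cfsg.thompsonSubgroupAOf U ≤ U :=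
  Subgroup.map_subtype_le _

theorem MaxAbIn.le_thompson {U A : Subgroup X} (hA : MaxAbIn U A) :
    A ≤ Cfsg.thompsonSubgroupAOf U := by
  rw [thompsonAOf_eq]; exact le_sSup hA

theorem maxAbIn_conj {U A : Subgroup X} (g : X) (hA : MaxAbIn U A) :
    MaxAbIn (cj g U) (cj g A) := by
  refine ⟨cj_mono g hA.1, ?_, ?_⟩
  · rintro _ ⟨a, ha, rfl⟩ _ ⟨b, hb, rfl⟩
    have h2 := hA.2.1 a ha b hb
    rw [← map_mul, ← map_mul, h2]
  · intro B hBU hBc
    have h1 : cj g⁻¹ B ≤ U := by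
      rw [cj_le_iff, inv_inv]
      exact hBU
    have h2 : ∀ a ∈ cj g⁻¹ B, ∀ b ∈ cj g⁻¹ B, a * b = b * a := by
      rintro _ ⟨a, ha, rfl⟩ _ ⟨b, hb, rfl⟩
      have h2 := hBc a ha b hb
      rw [← map_mul, ← map_mul, h2]
    have h3 := hA.2.2 _ h1 h2
    rw [card_cj] at h3
    rw [card_cj]
    exact h3

theorem thompsonAOf_conj (U : Subgroup X) (g : X) :
    Cfsg.thompsonSubgroupAOf (cj g U) = cj g (Cfsg.thompsonSubgroupAOf U) := by
  apply le_antisymm
  · rw [thompsonAOf_eq (cj g U)]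
    apply sSup_le
    intro A' hA'
    have h1 := maxAbIn_conj g⁻¹ hA'
    rw [cj_inv_cj] at h1
    have h2 := h1.le_thompson
    have h3 := cj_mono g h2
    rwa [cj_cj_inv] at h3
  · rw [cj_le_iff, thompsonAOf_eq U]
    apply sSup_le
    intro A hA
    rw [← cj_le_iff]
    exact (maxAbIn_conj g hA).le_thompson

theorem exists_maxAbIn [Finite X] (U : Subgroup X) : ∃ A, MaxAbIn U A := by
  have : Nonempty {A : Subgroup X // A ≤ U ∧ ∀ a ∈ A, ∀ b ∈ A, a * b = b * a} :=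
    ⟨⟨⊥, bot_le, fun a ha b hb => by
      rw [Subgroup.mem_bot.1 ha, Subgroup.mem_bot.1 hb]⟩⟩
  obtain ⟨⟨A, hAU, hAc⟩, hmax⟩ := Finite.exists_max
    (fun A : {A : Subgroup X // A ≤ U ∧ ∀ a ∈ A, ∀ b ∈ A, a * b = b * a} =>
      Nat.card (A : Subgroup X))
  exact ⟨A, hAU, hAc, fun B hBU hBc => hmax ⟨B, hBU, hBc⟩⟩

/-- `J(U') = J(U)` whenever `J(U) ≤ U' ≤ U`. -/
theorem thompsonAOf_eq_of_le [Finite X] {U U' : Subgroup X} (h1 : Cfsg.thompsonSubgroupAOf U ≤ U')
    (h2 : U' ≤ U) : Cfsg.thompsonSubgroupAOf U' = Cfsg.thompsonSubgroupAOf U := by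
  rw [thompsonAOf_eq U', thompsonAOf_eq U]
  congr 1
  ext A
  constructor
  · intro hA
    refine ⟨hA.1.trans h2, hA.2.1, ?_⟩
    intro B hBU hBc
    obtain ⟨A0, hA0⟩ := exists_maxAbIn U
    have h3 : A0 ≤ U' := hA0.le_thompson.trans h1
    exact (hA0.2.2 B hBU hBc).trans (hA.2.2 A0 h3 hA0.2.1)
  · intro hA
    exact ⟨hA.le_thompson.trans h1, hA.2.1, fun B hBU hBc => hA.2.2 B (hBU.trans h2) hBc⟩

/-- Frattini argument for the abelian-version Thompson subgroup. -/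
theorem frattini_J [Finite X] {p : ℕ} [Fact p.Prime] (T : Sylow p X) (Y : Subgroup X) [hY : Y.Normal]
    (hJY : Cfsg.thompsonSubgroupAOf (T : Subgroup X) ≤ Y) :
    Y ⊔ Subgroup.normalizer (Cfsg.thompsonSubgroupAOf (T : Subgroup X) : Set X) = ⊤ := by
  rw [eq_top_iff]
  intro g _
  set J := Cfsg.thompsonSubgroupAOf (T : Subgroup X) with hJ
  have hPS := Cfsg.Agent.Lib.H15.isSylowIn_inf_normal T Y
  have hPT := Cfsg.Agent.Lib.H15.isSylowIn_inf_normal (g • T) Y
  have e : ((g • T : Sylow p X) : Subgroup X) = cj g (T : Subgroup X) := rfl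
  rw [e] at hPT
  obtain ⟨c, hcY, hc⟩ := hPS.exists_conj hPT
  have hc' : cj g (T : Subgroup X) ⊓ Y = cj c ((T : Subgroup X) ⊓ Y) := hc
  have hJT : J ≤ (T : Subgroup X) := thompsonAOf_le _
  have hcjY : ∀ x : X, cj x J ≤ Y := by
    intro x
    rintro _ ⟨y, hy, rfl⟩
    exact hY.conj_mem y (hJY hy) x
  have h1 : Cfsg.thompsonSubgroupAOf ((T : Subgroup X) ⊓ Y) = J :=
    thompsonAOf_eq_of_le (le_inf hJT hJY) inf_le_left
  have h2 : Cfsg.thompsonSubgroupAOf (cj g (T : Subgroup X) ⊓ Y) =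
      Cfsg.thompsonSubgroupAOf (cj g (T : Subgroup X)) := by
    apply thompsonAOf_eq_of_le _ inf_le_left
    rw [thompsonAOf_conj]
    exact le_inf (cj_mono g hJT) (hcjY g)
  have h3 : cj g J = cj c J := by
    rw [← thompsonAOf_conj, ← h2, hc', thompsonAOf_conj, h1]
  have h4 : cj (c⁻¹ * g) J = J := by
    rw [← cj_cj, h3, cj_inv_cj]
  have h5 : c⁻¹ * g ∈ Subgroup.normalizer (J : Set X) :=
    Cfsg.Agent.Lib.H15.mem_normalizer_iff_cj_eq.2 h4
  have : g = c * (c⁻¹ * g) := by group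
  rw [this]
  exact Subgroup.mul_mem _ (Subgroup.mem_sup_left hcY) (Subgroup.mem_sup_right h5)

/-- the offender inequality for an abelian subgroup of largest order -/
theorem offender_ineq [Finite X] {U A V : Subgroup X} (hA : MaxAbIn U A) (hVU : V ≤ U)
    (hVc : ∀ a ∈ V, ∀ b ∈ V, a * b = b * a) :
    Nat.card V * Nat.card ↥(Subgroup.centralizer (V : Set X) ⊓ A) ≤
      Nat.card A * Nat.card ↥(V ⊓ Subgroup.centralizer (A : Set X)) := by
  set D := Subgroup.centralizer (V : Set X) ⊓ A with hD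
  have hDV : D ≤ Subgroup.normalizer (V : Set X) :=
    inf_le_left.trans (Subgroup.centralizer_le_normalizer _)
  have h1 := Cfsg.Agent.Lib.H15.GR.card_sup_mul_card_inf hDV
  have hBU : D ⊔ V ≤ U := sup_le (inf_le_right.trans hA.1) hVU
  have hBc : ∀ a ∈ D ⊔ V, ∀ b ∈ D ⊔ V, a * b = b * a := by
    rw [comm_iff_isMulCommutative]
    apply Cfsg.Agent.Lib.H15.isMulCommutative_sup
    · rw [← comm_iff_isMulCommutative]
      intro a ha b hb
      exact hA.2.1 a ha.2 b hb.2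
    · rw [← comm_iff_isMulCommutative]; exact hVc
    · exact inf_le_left
  have h2 := hA.2.2 _ hBU hBc
  have h3 : D ⊓ V ≤ V ⊓ Subgroup.centralizer (A : Set X) := by
    intro x hx
    refine ⟨hx.2, ?_⟩
    show x ∈ Subgroup.centralizer (A : Set X)
    rw [Subgroup.mem_centralizer_iff]
    intro a ha
    exact hA.2.1 a ha x hx.1.2
  have h4 : Nat.card ↥(D ⊓ V) ≤ Nat.card ↥(V ⊓ Subgroup.centralizer (A : Set X)) :=
    Nat.le_of_dvd Nat.card_pos (Subgroup.card_dvd_of_le h3)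
  calc Nat.card V * Nat.card D = Nat.card D * Nat.card V := by ring
    _ = Nat.card ↥(D ⊔ V) * Nat.card ↥(D ⊓ V) := h1.symm
    _ ≤ Nat.card A * Nat.card ↥(V ⊓ Subgroup.centralizer (A : Set X)) :=
      Nat.mul_le_mul h2 h4

end Cfsg.Agent.Lib.H21.FFGlau
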