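import Mathlib
import Cfsg.Prelude.Def_PLocal
import Cfsg.Agent.Lib.H21.FFGlauA
import Cfsg.Agent.Lib.H1.PCore
import Cfsg.Agent.Lib.H3.QT5

/-!
# The module `V = Ω₁(⟨Z(T)^X⟩)` (helper21)

For a Sylow `2`-subgroup `T` of a finite group `X`, `V₀ = ⟨Z(T)^X⟩`: `O₂(X / C_X(V₀)) = 1`;
if `V₀` is an abelian `2`-group then `C_X(Ω₁(V₀)) = C_X(V₀)`.
-/

set_option autoImplicit false

namespace Cfsg.Agent.Lib.H21.FFGlau

open Cfsg.Agent.Lib.H15 (cj mem_cj_iff conj_mem_cj cj_cj cj_one cj_inv_cj cj_cj_inv cj_mono cj_le_iff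
  card_cj)
open Cfsg.Agent.Lib.H5 (IsSylowIn)

variable {X : Type*} [Group X]

theorem normalCore_centralizer (S : Subgroup X) :
    (Subgroup.centralizer (S : Set X)).normalCore =
      Subgroup.centralizer ((Subgroup.normalClosure (S : Set X) : Subgroup X) : Set X) := by
  apply le_antisymm
  · have h1 : (S : Set X) ⊆ (Subgroup.centralizer
        (((Subgroup.centralizer (S : Set X)).normalCore : Subgroup X) : Set X) : Subgroup X) := by
      intro s hs
      rw [SetLike.mem_coe, Subgroup.mem_centralizer_iff]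
      intro x hx
      have := Subgroup.mem_centralizer_iff.1 (Subgroup.normalCore_le _ hx) s hs
      exact this.symm
    have h2 := Subgroup.normalClosure_le_normal h1
    exact Subgroup.le_centralizer_iff.1 h2
  · rw [Subgroup.normal_le_normalCore]
    exact Subgroup.centralizer_le Subgroup.subset_normalClosure

theorem cj_inf_normal (g : X) (A D : Subgroup X) [hDn : D.Normal] : cj g (A ⊓ D) = cj g A ⊓ D := by
  ext x
  rw [mem_cj_iff, Subgroup.mem_inf, Subgroup.mem_inf, mem_cj_iff]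
  constructor
  · rintro ⟨h1, h2⟩
    refine ⟨h1, ?_⟩
    have := hDn.conj_mem _ h2 g
    have e : g * (g⁻¹ * x * g) * g⁻¹ = x := by group
    rwa [e] at this
  · rintro ⟨h1, h2⟩
    refine ⟨h1, ?_⟩
    have := hDn.conj_mem _ h2 g⁻¹
    rwa [inv_inv] at this

/-- `O₂(X / C_X(⟨Z(T)^X⟩)) = 1`. -/
theorem pCore_quot_eq_bot_aux [Finite X] (T : Sylow 2 X) (N : Subgroup X) [hNn : N.Normal]
    (hN : N = Subgroup.centralizer ((Subgroup.normalClosure (((T : Subgroup X) ⊓
      Subgroup.centralizer ((T : Subgroup X) : Set X) : Subgroup X) : Set X) : Subgroup X) : Set X)) :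
    Cfsg.pCore 2 (X ⧸ N) = ⊥ := by
  haveI : Fact (Nat.Prime 2) := ⟨Nat.prime_two⟩
  set Z := (T : Subgroup X) ⊓ Subgroup.centralizer ((T : Subgroup X) : Set X) with hZ
  set V0 := Subgroup.normalClosure (Z : Set X) with hV0
  haveI hV0n : V0.Normal := Subgroup.normalClosure_normal
  set Pb := Cfsg.pCore 2 (X ⧸ N) with hPb
  set D := Pb.comap (QuotientGroup.mk' N) with hD
  haveI hPbn : Pb.Normal := Cfsg.Agent.Lib.H1.pCore_normal 2 _
  haveI hDn : D.Normal := Subgroup.Normal.comap hPbn _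
  have hND : N ≤ D := by
    intro c hc
    rw [hD, Subgroup.mem_comap]
    have : QuotientGroup.mk' N c = 1 := (QuotientGroup.eq_one_iff c).mpr hc
    rw [this]; exact Subgroup.one_mem _
  have hPbT : Pb ≤ (T : Subgroup X).map (QuotientGroup.mk' N) :=
    Cfsg.Agent.Lib.H1.pCore_le_sylow (T.mapSurjective (QuotientGroup.mk'_surjective N))
  have hD_le : ∀ d ∈ D, ∃ t ∈ (T : Subgroup X) ⊓ D, ∃ c ∈ N, d = t * c := by
    intro d hd
    obtain ⟨t, ht, htd⟩ := hPbT hd
    have hc : t⁻¹ * d ∈ N := QuotientGroup.eq.mp htd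
    refine ⟨t, Subgroup.mem_inf.mpr ⟨ht, ?_⟩, t⁻¹ * d, hc, by group⟩
    have e : t = d * (t⁻¹ * d)⁻¹ := by group
    rw [e]
    exact Subgroup.mul_mem _ hd (Subgroup.inv_mem _ (hND hc))
  set P := (T : Subgroup X) ⊓ D with hP
  have hsyl : IsSylowIn 2 P D := Cfsg.Agent.Lib.H15.isSylowIn_inf_normal T D
  set W0 := V0 ⊓ Subgroup.centralizer (P : Set X) with hW0
  have hNP : Subgroup.normalizer (P : Set X) ≤ Subgroup.normalizer (W0 : Set X) := by
    intro n hn
    apply Cfsg.Agent.Lib.H15.mem_normalizer_of_cj_le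
    rintro _ ⟨w, hw, rfl⟩
    refine ⟨hV0n.conj_mem w hw.1 n, ?_⟩
    show _ ∈ Subgroup.centralizer (P : Set X)
    rw [Subgroup.mem_centralizer_iff]
    intro p hp
    have h1 : n⁻¹ * p * n ∈ P := by
      have := (Subgroup.mem_normalizer_iff.1 (Subgroup.inv_mem _ hn) p).1 hp
      simpa using this
    have h2 := Subgroup.mem_centralizer_iff.1 hw.2 _ h1
    simp only [MulEquiv.coe_toMonoidHom, MulAut.conj_apply]
    calc p * (n * w * n⁻¹) = n * ((n⁻¹ * p * n) * w) * n⁻¹ := by group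
      _ = n * (w * (n⁻¹ * p * n)) * n⁻¹ := by rw [h2]
      _ = n * w * n⁻¹ * p := by group
  have hNW : N ≤ Subgroup.normalizer (W0 : Set X) := by
    refine le_trans ?_ (Subgroup.centralizer_le_normalizer _)
    rw [hN]
    exact Subgroup.centralizer_le (by exact_mod_cast (inf_le_left : W0 ≤ V0))
  have hPW : P ≤ Subgroup.normalizer (W0 : Set X) := Subgroup.le_normalizer.trans hNP
  have hall : ∀ g : X, g ∈ Subgroup.normalizer (W0 : Set X) := by
    intro g
    have hPT := Cfsg.Agent.Lib.H15.isSylowIn_inf_normal (g • T) D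
    have e : ((g • T : Sylow 2 X) : Subgroup X) = cj g (T : Subgroup X) := rfl
    rw [e, ← cj_inf_normal] at hPT
    obtain ⟨c, hcD, hc⟩ := hsyl.exists_conj hPT
    have hc' : cj g P = cj c P := hc
    have hn : c⁻¹ * g ∈ Subgroup.normalizer (P : Set X) := by
      apply Cfsg.Agent.Lib.H15.mem_normalizer_iff_cj_eq.2
      rw [← cj_cj, hc', cj_inv_cj]
    obtain ⟨t, ht, c', hc'N, rfl⟩ := hD_le c hcD
    have : g = t * c' * ((t * c')⁻¹ * g) := by group
    rw [this]
    exact Subgroup.mul_mem _ (Subgroup.mul_mem _ (hPW ht) (hNW hc'N)) (hNP hn)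
  haveI hW0n : W0.Normal :=
    ⟨fun w hw g => (Subgroup.mem_normalizer_iff.1 (hall g) w).1 hw⟩
  have hZW : (Z : Set X) ⊆ W0 := by
    intro z hz
    refine ⟨Subgroup.subset_normalClosure hz, ?_⟩
    show z ∈ Subgroup.centralizer (P : Set X)
    rw [Subgroup.mem_centralizer_iff]
    intro p hp
    exact Subgroup.mem_centralizer_iff.1 hz.2 p hp.1
  have hVW : V0 ≤ W0 := Subgroup.normalClosure_le_normal hZW
  have hPN : P ≤ N := by
    intro p hp
    rw [hN, Subgroup.mem_centralizer_iff]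
    intro v hv
    exact (Subgroup.mem_centralizer_iff.1 (hVW hv).2 p hp).symm
  have hDN : D ≤ N := by
    intro d hd
    obtain ⟨t, ht, c, hc, rfl⟩ := hD_le d hd
    exact Subgroup.mul_mem _ (hPN ht) hc
  rw [eq_bot_iff]
  intro y hy
  obtain ⟨d, rfl⟩ := QuotientGroup.mk'_surjective N y
  have hdN : d ∈ N := hDN hy
  rw [Subgroup.mem_bot]
  exact (QuotientGroup.eq_one_iff d).mpr hdN

/-- an odd-order element centralizing `Ω₁(W)` centralizes the abelian normal `2`-subgroup `W`. -/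
theorem commute_of_odd_of_centralizes_omega {W : Subgroup X} [hWn : W.Normal]
    (hWc : ∀ a ∈ W, ∀ b ∈ W, a * b = b * a) (hW2 : IsPGroup 2 W)
    {g : X} (hg : Odd (orderOf g)) (hgc : ∀ v ∈ W, v ^ 2 = 1 → g * v = v * g) :
    ∀ v ∈ W, g * v = v * g := by
  have key : ∀ e : ℕ, ∀ v ∈ W, v ^ (2 ^ e) = 1 → g * v = v * g := by
    intro e
    induction e with
    | zero =>
      intro v _ hv
      rw [pow_zero, pow_one] at hv
      rw [hv, mul_one, one_mul]
    | succ e ih =>
      intro v hv hve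
      have hv2 : v ^ 2 ∈ W := Subgroup.pow_mem _ hv 2
      have h1 : (v ^ 2) ^ (2 ^ e) = 1 := by
        rw [← pow_mul, mul_comm, ← pow_succ]; exact hve
      have h2 : g * v ^ 2 = v ^ 2 * g := ih _ hv2 h1
      set a := g * v * g⁻¹ with ha
      have haW : a ∈ W := hWn.conj_mem v hv g
      have hbW : v⁻¹ ∈ W := Subgroup.inv_mem _ hv
      set u := a * v⁻¹ with hu
      have huW : u ∈ W := Subgroup.mul_mem _ haW hbW
      have hab : v⁻¹ * a = a * v⁻¹ := hWc _ hbW _ haW
      have haa : a * a = v ^ 2 := by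
        rw [ha]
        calc g * v * g⁻¹ * (g * v * g⁻¹) = g * v ^ 2 * g⁻¹ := by rw [pow_two]; group
          _ = v ^ 2 * g * g⁻¹ := by rw [h2]
          _ = v ^ 2 := by group
      have hu2 : u ^ 2 = 1 := by
        rw [pow_two, hu]
        calc a * v⁻¹ * (a * v⁻¹) = a * (v⁻¹ * a) * v⁻¹ := by group
          _ = a * (a * v⁻¹) * v⁻¹ := by rw [hab]
          _ = (a * a) * (v⁻¹ * v⁻¹) := by group
          _ = 1 := by rw [haa, pow_two]; group
      have h3 : g * u = u * g := hgc u huW hu2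
      have h4 : g * v = u * v * g := by rw [hu, ha]; group
      have h5 : (g * g) * v = v * (g * g) := by
        calc g * g * v = g * (g * v) := by group
          _ = g * (u * v * g) := by rw [h4]
          _ = (g * u) * v * g := by group
          _ = u * (g * v) * g := by rw [h3]; group
          _ = u * (u * v * g) * g := by rw [h4]
          _ = (u * u) * v * (g * g) := by group
          _ = v * (g * g) := by rw [← pow_two, hu2, one_mul]
      obtain ⟨k, hk⟩ := hg
      have h6 : (g * g) ^ (k + 1) = g := by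
        rw [← pow_two, ← pow_mul]
        have : 2 * (k + 1) = orderOf g + 1 := by omega
        rw [this, pow_succ, pow_orderOf_eq_one, one_mul]
      have h7 : Commute (g * g) v := h5
      have h8 := h7.pow_left (k + 1)
      rw [h6] at h8
      exact h8
  intro v hv
  obtain ⟨e, he⟩ := hW2 ⟨v, hv⟩
  have : v ^ (2 ^ e) = 1 := by
    have := congrArg Subtype.val he
    simpa using this
  exact key e v hv this

theorem mem_omegaOne_iff' {p : ℕ} {K : Subgroup X} (hK : ∀ a ∈ K, ∀ b ∈ K, a * b = b * a) {y : X} :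
    y ∈ Cfsg.omegaOne p K ↔ y ∈ K ∧ y ^ p = 1 := by
  constructor
  · intro hy
    unfold Cfsg.omegaOne at hy
    refine Subgroup.closure_induction (p := fun y _ => y ∈ K ∧ y ^ p = 1) ?_ ?_ ?_ ?_ hy
    · intro g hg; exact hg
    · exact ⟨one_mem _, one_pow _⟩
    · rintro g h _ _ ⟨hg1, hg2⟩ ⟨hh1, hh2⟩
      refine ⟨mul_mem hg1 hh1, ?_⟩
      have hc : Commute g h := hK g hg1 h hh1
      rw [hc.mul_pow, hg2, hh2, one_mul]
    · rintro g _ ⟨hg1, hg2⟩
      exact ⟨inv_mem hg1, by rw [inv_pow, hg2, inv_one]⟩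
  · intro hy
    exact Subgroup.subset_closure hy

theorem omegaOne_normal {p : ℕ} {K : Subgroup X} [hKn : K.Normal]
    (hK : ∀ a ∈ K, ∀ b ∈ K, a * b = b * a) : (Cfsg.omegaOne p K).Normal := by
  constructor
  intro y hy g
  rw [mem_omegaOne_iff' hK] at hy ⊢
  refine ⟨hKn.conj_mem y hy.1 g, ?_⟩
  rw [conj_pow, hy.2]; group

/-- `C_X(Ω₁(W)) = C_X(W)` when `O₂(X / C_X(W)) = 1`. -/
theorem centralizer_omegaOne_eq [Finite X] {W : Subgroup X} [hWn : W.Normal]
    (hWc : ∀ a ∈ W, ∀ b ∈ W, a * b = b * a) (hW2 : IsPGroup 2 W)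
    (hO : Cfsg.pCore 2 (X ⧸ Subgroup.centralizer (W : Set X)) = ⊥) :
    Subgroup.centralizer ((Cfsg.omegaOne 2 W : Subgroup X) : Set X) =
      Subgroup.centralizer (W : Set X) := by
  haveI : Fact (Nat.Prime 2) := ⟨Nat.prime_two⟩
  have hle : Cfsg.omegaOne 2 W ≤ W := fun y hy => ((mem_omegaOne_iff' hWc).1 hy).1
  haveI hΩn : (Cfsg.omegaOne 2 W).Normal := omegaOne_normal hWc
  set N := Subgroup.centralizer (W : Set X) with hN
  set K := Subgroup.centralizer ((Cfsg.omegaOne 2 W : Subgroup X) : Set X) with hK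
  apply le_antisymm
  · have hKn : (K.map (QuotientGroup.mk' N)).Normal :=
      Subgroup.Normal.map inferInstance _ (QuotientGroup.mk'_surjective N)
    have hKp : IsPGroup 2 ↥(K.map (QuotientGroup.mk' N)) := by
      rintro ⟨_, k, hk, rfl⟩
      have hk0 : orderOf k ≠ 0 := (orderOf_pos k).ne'
      obtain ⟨a, m, hm, hkm⟩ := Nat.exists_eq_two_pow_mul_odd hk0
      refine ⟨a, ?_⟩
      apply Subtype.ext
      simp only [Subgroup.coe_pow, Subgroup.coe_one]
      rw [← map_pow]
      show QuotientGroup.mk' N (k ^ 2 ^ a) = 1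
      rw [QuotientGroup.mk'_apply, QuotientGroup.eq_one_iff]
      set g := k ^ 2 ^ a with hg
      have hgK : g ∈ K := Subgroup.pow_mem _ hk _
      have hgm : g ^ m = 1 := by
        rw [hg, ← pow_mul, ← hkm, pow_orderOf_eq_one]
      have hgo : Odd (orderOf g) := Odd.of_dvd_nat hm (orderOf_dvd_of_pow_eq_one hgm)
      rw [hN, Subgroup.mem_centralizer_iff]
      intro v hv
      refine (commute_of_odd_of_centralizes_omega hWc hW2 hgo ?_ v hv).symm
      intro w hw hw2
      have : w ∈ Cfsg.omegaOne 2 W := (mem_omegaOne_iff' hWc).2 ⟨hw, hw2⟩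
      exact (Subgroup.mem_centralizer_iff.1 hgK w this).symm
    have h1 := Cfsg.Agent.Lib.H1.le_pCore hKn hKp
    rw [hO, le_bot_iff, Subgroup.map_eq_bot_iff, QuotientGroup.ker_mk'] at h1
    exact h1
  · exact Subgroup.centralizer_le (by exact_mod_cast hle)

end Cfsg.Agent.Lib.H21.FFGlau
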