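import Mathlib
import Cfsg.Agent.Lib.H10.S4415BadDefs
import Cfsg.Agent.Lib.H4.S4415B1S

/-!
# S4415, BAD block, `B0Stmt` (helper21): an element `z ∈ R` acting as `-1` on `W`

The derived series of `R` computed inside `S` (`D 0 = R`, `D (n+1) = ⁅D n, D n⁆`) consists of
`R<b>`-normal subgroups of `R` and reaches `⊥`; its last nontrivial term `A` is abelian, so by
(B1) (helper4's `b1_stmt`) every element of `A` acts on `W` as `±1`, and by faithfulness a
nontrivial one acts as `-1`.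
-/

set_option autoImplicit false

namespace Cfsg.Agent.Lib.H21.S4415B0

open Cfsg.Agent.Lib.H10.S4415
open scoped commutatorElement

variable {S : Type*} [Group S]

/-- the derived series of `R`, as subgroups of `S` -/
def D (R : Subgroup S) : ℕ → Subgroup S
  | 0 => R
  | n + 1 => ⁅D R n, D R n⁆

theorem D_le (R : Subgroup S) : ∀ n, D R n ≤ R
  | 0 => le_rfl
  | n + 1 => by
    show ⁅D R n, D R n⁆ ≤ R
    calc ⁅D R n, D R n⁆ ≤ ⁅R, R⁆ := Subgroup.commutator_mono (D_le R n) (D_le R n)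
      _ ≤ R := by
        rw [Subgroup.commutator_le]
        intro x hx y hy
        exact R.mul_mem (R.mul_mem (R.mul_mem hx hy) (R.inv_mem hx)) (R.inv_mem hy)

theorem D_norm (R G : Subgroup S) (hG : NormBy G R) : ∀ n, NormBy G (D R n)
  | 0 => hG
  | n + 1 => by
    intro g hg a ha
    have ih := D_norm R G hG n
    have hmap : (D R n).map (MulAut.conj g).toMonoidHom ≤ D R n := by
      rintro _ ⟨x, hx, rfl⟩
      exact ih g hg x hx
    have h1 : (⁅D R n, D R n⁆).map (MulAut.conj g).toMonoidHom ≤ ⁅D R n, D R n⁆ := by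
      rw [Subgroup.map_commutator]
      exact Subgroup.commutator_mono hmap hmap
    exact h1 ⟨a, ha, rfl⟩

theorem D_eq_map (R : Subgroup S) : ∀ n, D R n = (derivedSeries ↥R n).map R.subtype
  | 0 => by
    show R = (⊤ : Subgroup ↥R).map R.subtype
    rw [← MonoidHom.range_eq_map, Subgroup.range_subtype]
  | n + 1 => by
    show ⁅D R n, D R n⁆ = (⁅derivedSeries ↥R n, derivedSeries ↥R n⁆).map R.subtype
    rw [Subgroup.map_commutator, ← D_eq_map R n]

theorem exists_D_eq_bot (R : Subgroup S) [hs : Group.IsSolvable ↥R] : ∃ n, D R n = ⊥ := by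
  obtain ⟨n, hn⟩ := hs.solvable
  exact ⟨n, by rw [D_eq_map, hn, Subgroup.map_bot]⟩

/-- a nontrivial solvable `R` normalised by `G` has a nontrivial abelian subgroup normalised by `G` -/
theorem exists_abelian (R G : Subgroup S) [Group.IsSolvable ↥R] (hG : NormBy G R) (hR : R ≠ ⊥) :
    ∃ A : Subgroup S, A ≤ R ∧ NormBy G A ∧ (∀ a ∈ A, ∀ a' ∈ A, a * a' = a' * a) ∧ A ≠ ⊥ := by
  classical
  have hex := exists_D_eq_bot R
  have hmin : ∀ {m : ℕ}, m < Nat.find hex → ¬ D R m = ⊥ := fun h => Nat.find_min hex h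
  have hspec := Nat.find_spec hex
  have hpos : Nat.find hex ≠ 0 := by
    intro h0
    rw [h0] at hspec
    exact hR hspec
  obtain ⟨k, hk⟩ := Nat.exists_eq_succ_of_ne_zero hpos
  refine ⟨D R k, D_le R k, D_norm R G hG k, ?_, ?_⟩
  · intro a ha a' ha'
    have h1 : ⁅a, a'⁆ ∈ ⁅D R k, D R k⁆ := Subgroup.commutator_mem_commutator ha ha'
    have h2 : ⁅D R k, D R k⁆ = ⊥ := by
      have : D R (k + 1) = ⊥ := by rw [← Nat.succ_eq_add_one, ← hk]; exact hspec
      exact this
    rw [h2, Subgroup.mem_bot, commutatorElement_eq_one_iff_mul_comm] at h1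
    exact h1
  · exact hmin (by rw [hk]; exact Nat.lt_succ_self k)

/-- **(B0)** in the exact shape of the BAD sub-cut. -/
theorem b0 : B0Stmt := by
  intro S _ _ E _ _ _ ρ R b W x₁ x₂ x₃ e₁ e₂ e₃ hL hQ hbad hodd
  have hab := Cfsg.Agent.Lib.H4.S4415B1.b1_stmt ρ R b W x₁ x₂ x₃ e₁ e₂ e₃ hL hQ hbad hodd
  -- `R<b>` normalises `R`
  have hRB : NormBy (RB R b) R := by
    intro g hg r hr
    have hbn : b ∈ Subgroup.normalizer (R : Set S) :=
      Subgroup.mem_normalizer_fintype (fun r hr => hL.b_norm r hr)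
    have hle : RB R b ≤ Subgroup.normalizer (R : Set S) :=
      sup_le Subgroup.le_normalizer ((Subgroup.zpowers_le).2 hbn)
    exact ((Subgroup.mem_normalizer_iff.1 (hle hg)) r).1 hr
  -- `R ≠ ⊥`
  have hR : R ≠ ⊥ := by
    intro h
    have hx : x₂ = 1 := by
      have := hQ.x₂R
      rwa [h, Subgroup.mem_bot] at this
    have h1 := hQ.x₂e₁
    rw [hx, map_one, Module.End.one_apply] at h1
    have h3 : e₁ + e₁ + e₁ = 0 := by
      have h : ((3 : ℕ) : ZMod 3) = 0 := by decide
      have h2 : e₁ + e₁ + e₁ = ((3 : ℕ) : ZMod 3) • e₁ := by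
        rw [Nat.cast_smul_eq_nsmul]
        simp [succ_nsmul]
      rw [h2, h, zero_smul]
    apply hQ.e₁ne
    have h4 : e₁ + e₁ = 0 := by
      nth_rewrite 2 [h1]
      exact add_neg_cancel e₁
    rw [h4, zero_add] at h3
    exact h3
  have := hL.R_solv
  obtain ⟨A, hAR, hAn, hAab, hA⟩ := exists_abelian R (RB R b) hRB hR
  obtain ⟨a, ha, ha1⟩ : ∃ a ∈ A, a ≠ 1 := by
    by_contra hno
    push Not at hno
    exact hA ((Subgroup.eq_bot_iff_forall A).2 hno)
  refine ⟨a, hAR ha, ?_⟩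
  rcases hab A hAR hAn hAab a ha with h | h
  · exact absurd (hL.faithful a ((le_sup_left : R ≤ RB R b) (hAR ha)) h) ha1
  · exact h

end Cfsg.Agent.Lib.H21.S4415B0
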