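import Mathlib
import Cfsg.Agent.Lib.H10.S4415Defs
import Cfsg.Agent.Lib.H9.S4415B1

/-!
# S4415, BAD block, piece (B4) (helper21): `C_X(b) = ⟨z⟩`

In the `LinCtx` / `QData` frame of helper10's cut, with `dim W ≤ 4`: an element `c` commuting with
`b` which acts on `W` as an involution conjugate to its negative cannot exist (`b4_invol`): the two
eigenspaces of `c` in `W` have the same dimension (`ρ y⁻¹` swaps them), their sum is direct inside
`W`, and `u = e₁ + e₂ + e₃` is an eigenvector of `c`, so the chain `v, Nv, N²v` (`v = e₁ ± c e₁`)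
lies in one eigenspace, which then has dimension `≥ 3`.  Together with helper9's `no_sqrt_neg_one`
this gives `b4`.
-/

set_option autoImplicit false

namespace Cfsg.Agent.Lib.H21.S4415B4

open Cfsg.Agent.Lib.H10.S4415 Cfsg.Agent.Lib.H9.S4415 Module

variable {S E : Type*} [Group S] [AddCommGroup E] [Module (ZMod 3) E]
  {ρ : Representation (ZMod 3) S E} {R : Subgroup S} {b : S} {W : Submodule (ZMod 3) E}
  {x₁ x₂ x₃ : S} {e₁ e₂ e₃ : E}

/-- the `ε`-eigenspace of `c` inside `W` -/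
def eig (ρ : Representation (ZMod 3) S E) (W : Submodule (ZMod 3) E) (c : S) (ε : ZMod 3) :
    Submodule (ZMod 3) E :=
  W ⊓ LinearMap.ker (ρ c - ε • LinearMap.id)

theorem mem_eig {c : S} {ε : ZMod 3} {w : E} :
    w ∈ eig ρ W c ε ↔ w ∈ W ∧ ρ c w = ε • w := by
  simp [eig, sub_eq_zero]

/-- the nilpotent chain `v, Nv, N²v` (`N = f - 1`, `N² = 1 + f + f²`, `f³ = 1`) in an `f`-invariant
submodule `P` forces `dim P ≥ 3`. -/
theorem three_le_finrank [Module.Finite (ZMod 3) E] (f : E →ₗ[ZMod 3] E)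
    (hf3 : ∀ v, f (f (f v)) = v) (P : Submodule (ZMod 3) E) (hP : ∀ w ∈ P, f w ∈ P) (v : E)
    (hv : v ∈ P) (hne : f (f v) + f v + v ≠ 0) : 3 ≤ finrank (ZMod 3) P := by
  set t := f (f v) + f v + v with ht
  set n := f v - v with hn
  have hft : f t = t := by
    rw [ht, map_add, map_add, hf3]
    abel
  have hTn : f (f n) + f n + n = 0 := by
    rw [hn]
    simp only [map_sub, hf3]
    abel
  have hNn : f n - n = t := by
    have h1 : f n - n = t - (f v + f v + f v) := by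
      rw [hn, ht]
      simp only [map_sub]
      abel
    rw [h1, three_smul_eq_zero, sub_zero]
  have hTt : f (f t) + f t + t = 0 := by
    rw [hft, hft]
    exact three_smul_eq_zero t
  have hli : LinearIndependent (ZMod 3) ![v, n, t] := by
    rw [Fintype.linearIndependent_iff]
    intro g hg
    rw [Fin.sum_univ_three] at hg
    simp only [Matrix.cons_val_zero, Matrix.cons_val_one, Matrix.cons_val_two, Matrix.head_cons,
      Matrix.tail_cons] at hg
    -- apply `1 + f + f²`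
    have h0 : g 0 • t = 0 := by
      have h1 := congrArg (fun w => f (f w) + f w + w) hg
      simp only [map_add, map_smul, map_zero, add_zero] at h1
      have h2 : g 0 • (f (f v) + f v + v) + g 1 • (f (f n) + f n + n) +
          g 2 • (f (f t) + f t + t) = 0 := by
        rw [← h1]
        simp only [smul_add]
        abel
      rw [hTn, hTt, smul_zero, smul_zero, add_zero, add_zero] at h2
      exact h2
    have hg0 : g 0 = 0 := (smul_eq_zero.1 h0).resolve_right hne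
    rw [hg0, zero_smul, zero_add] at hg
    -- apply `f - 1`
    have h1' : g 1 • t = 0 := by
      have h1 := congrArg (fun w => f w - w) hg
      simp only [map_add, map_smul, map_zero, sub_zero] at h1
      have h2 : g 1 • (f n - n) + g 2 • (f t - t) = 0 := by
        rw [← h1]
        simp only [smul_sub]
        abel
      rw [hNn, hft, sub_self, smul_zero, add_zero] at h2
      exact h2
    have hg1 : g 1 = 0 := (smul_eq_zero.1 h1').resolve_right hne
    rw [hg1, zero_smul, zero_add] at hg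
    have hg2 : g 2 = 0 := (smul_eq_zero.1 hg).resolve_right hne
    intro i
    fin_cases i
    · exact hg0
    · exact hg1
    · exact hg2
  have hnP : n ∈ P := P.sub_mem (hP v hv) hv
  have htP : t ∈ P := P.add_mem (P.add_mem (hP _ (hP v hv)) (hP v hv)) hv
  have hspan : Submodule.span (ZMod 3) (Set.range ![v, n, t]) ≤ P := by
    rw [Submodule.span_le]
    rintro _ ⟨i, rfl⟩
    fin_cases i
    · exact hv
    · exact hnP
    · exact htP
  have hcard := finrank_span_eq_card hli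
  rw [Fintype.card_fin] at hcard
  have h3 : 3 ≤ finrank (ZMod 3) ↥(Submodule.span (ZMod 3) (Set.range ![v, n, t])) := hcard.ge
  exact h3.trans (Submodule.finrank_mono hspan)

/-- `W` is `b`-invariant (from the decomposition in `QData`). -/
theorem b_inv_W (hQ : QData ρ R b W x₁ x₂ x₃ e₁ e₂ e₃) : ∀ w ∈ W, ρ b w ∈ W := by
  intro w hw
  obtain ⟨w₀, hw₀, c₁, c₂, c₃, hdec, _, _, _, hbw₀⟩ := hQ.decomp w hw
  rw [hdec, map_add, map_add, map_add, map_smul, map_smul, map_smul, hbw₀, hQ.be₁, hQ.be₂, hQ.be₃]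
  exact W.add_mem (W.add_mem (W.add_mem hw₀ (W.smul_mem _ hQ.e₂W)) (W.smul_mem _ hQ.e₃W))
    (W.smul_mem _ hQ.e₁W)

/-- **(B4), involution case.** -/
theorem b4_invol [Finite E] (hQ : QData ρ R b W x₁ x₂ x₃ e₁ e₂ e₃) (hb3 : b ^ 3 = 1)
    (hdim : finrank (ZMod 3) W ≤ 4) (c y : S) (hcW : ∀ w ∈ W, ρ c w ∈ W)
    (hyW : ∀ w ∈ W, ρ y⁻¹ w ∈ W) (hcb : c * b = b * c) (hc2 : ∀ w ∈ W, ρ c (ρ c w) = w)
    (hconj : ∀ w ∈ W, ρ (y * c * y⁻¹) w = - ρ c w) : False := by
  have hbW := b_inv_W hQ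
  have hf3 : ∀ v, ρ b (ρ b (ρ b v)) = v := by
    intro v
    have h := congrArg (fun g => ρ g v) hb3
    simpa [pow_succ, map_mul] using h
  have hcomm : ∀ v : E, ρ c (ρ b v) = ρ b (ρ c v) := by
    intro v
    have h1 : ρ (c * b) v = ρ (b * c) v := by rw [hcb]
    rw [map_mul, map_mul] at h1
    exact h1
  set u := e₁ + e₂ + e₃ with hu
  have hu0 : u ≠ 0 := u_ne_zero hQ
  have huW : u ∈ W := W.add_mem (W.add_mem hQ.e₁W hQ.e₂W) hQ.e₃W
  have huu : u + u ≠ 0 := by
    intro h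
    apply hu0
    have h3 := three_smul_eq_zero u
    rw [h, zero_add] at h3
    exact h3
  -- `c u = α u`
  have hcu : ρ c u = ρ b (ρ b (ρ c e₁)) + ρ b (ρ c e₁) + ρ c e₁ := by
    rw [hu, ← nsq_e₁ hQ, map_add, map_add, hcomm, hcomm]
  obtain ⟨α, hα⟩ := nsq_eq_smul hQ (hcW e₁ hQ.e₁W)
  rw [← hcu] at hα
  have hαα : α * α = 1 := by
    have h2 : ρ c (ρ c u) = (α * α) • u := by rw [hα, map_smul, hα, smul_smul]
    rw [hc2 u huW] at h2
    have h3 : (α * α - 1) • u = 0 := by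
      rw [sub_smul, one_smul, ← h2, sub_self]
    exact sub_eq_zero.1 ((smul_eq_zero.1 h3).resolve_right hu0)
  have hα' : α = 1 ∨ α = -1 := by
    have hkey : ∀ d : ZMod 3, d * d = 1 → d = 1 ∨ d = -1 := by decide
    exact hkey α hαα
  -- the eigenspaces are `b`-invariant
  have heigb : ∀ ε : ZMod 3, ∀ w ∈ eig ρ W c ε, ρ b w ∈ eig ρ W c ε := by
    intro ε w hw
    rw [mem_eig] at hw ⊢
    refine ⟨hbW w hw.1, ?_⟩
    rw [hcomm, hw.2, map_smul]
  -- one eigenspace has dimension `≥ 3`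
  have hbig : 3 ≤ finrank (ZMod 3) (eig ρ W c 1) ∨ 3 ≤ finrank (ZMod 3) (eig ρ W c (-1)) := by
    have hT : ∀ v : E, ρ b (ρ b (ρ c v)) + ρ b (ρ c v) + ρ c v =
        ρ c (ρ b (ρ b v) + ρ b v + v) := by
      intro v
      rw [map_add, map_add, hcomm, hcomm]
    rcases hα' with h1 | h1
    · left
      refine three_le_finrank (ρ b) hf3 _ (heigb 1) (e₁ + ρ c e₁) ?_ ?_
      · rw [mem_eig]
        refine ⟨W.add_mem hQ.e₁W (hcW e₁ hQ.e₁W), ?_⟩
        rw [map_add, hc2 e₁ hQ.e₁W, one_smul, add_comm]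
      · have h2 : ρ b (ρ b (e₁ + ρ c e₁)) + ρ b (e₁ + ρ c e₁) + (e₁ + ρ c e₁) = u + u := by
          have h3 : ρ b (ρ b (e₁ + ρ c e₁)) + ρ b (e₁ + ρ c e₁) + (e₁ + ρ c e₁) =
              (ρ b (ρ b e₁) + ρ b e₁ + e₁) +
                (ρ b (ρ b (ρ c e₁)) + ρ b (ρ c e₁) + ρ c e₁) := by
            simp only [map_add]
            abel
          rw [h3, hT, nsq_e₁ hQ, ← hu, hα, h1, one_smul]
        rw [h2]
        exact huu
    · right
      refine three_le_finrank (ρ b) hf3 _ (heigb (-1)) (e₁ - ρ c e₁) ?_ ?_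
      · rw [mem_eig]
        refine ⟨W.sub_mem hQ.e₁W (hcW e₁ hQ.e₁W), ?_⟩
        rw [map_sub, hc2 e₁ hQ.e₁W, neg_smul, one_smul, neg_sub]
      · have h2 : ρ b (ρ b (e₁ - ρ c e₁)) + ρ b (e₁ - ρ c e₁) + (e₁ - ρ c e₁) = u + u := by
          have h3 : ρ b (ρ b (e₁ - ρ c e₁)) + ρ b (e₁ - ρ c e₁) + (e₁ - ρ c e₁) =
              (ρ b (ρ b e₁) + ρ b e₁ + e₁) -
                (ρ b (ρ b (ρ c e₁)) + ρ b (ρ c e₁) + ρ c e₁) := by
            simp only [map_sub]
            abel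
          rw [h3, hT, nsq_e₁ hQ, ← hu, hα, h1, neg_smul, one_smul, sub_neg_eq_add]
        rw [h2]
        exact huu
  -- `ρ y⁻¹` maps the `ε`-eigenspace into the `(-ε)`-eigenspace
  have hswap : ∀ w ∈ W, ρ c (ρ y⁻¹ w) = - ρ y⁻¹ (ρ c w) := by
    intro w hw
    have h1 : ρ y⁻¹ (ρ (y * c * y⁻¹) w) = ρ c (ρ y⁻¹ w) := by
      rw [← Module.End.mul_apply, ← map_mul, ← Module.End.mul_apply, ← map_mul]
      congr 2
      group
    rw [← h1, hconj w hw, map_neg]
  have hle : ∀ ε : ZMod 3, finrank (ZMod 3) (eig ρ W c ε) ≤ finrank (ZMod 3) (eig ρ W c (-ε)) := by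
    intro ε
    have hmap : ∀ w ∈ eig ρ W c ε, ρ y⁻¹ w ∈ eig ρ W c (-ε) := by
      intro w hw
      rw [mem_eig] at hw ⊢
      refine ⟨hyW w hw.1, ?_⟩
      rw [hswap w hw.1, hw.2, map_smul, neg_smul]
    refine LinearMap.finrank_le_finrank_of_injective (f := (ρ y⁻¹).restrict hmap) ?_
    intro a a' haa
    have h1 : ρ y⁻¹ (a : E) = ρ y⁻¹ (a' : E) := congrArg Subtype.val haa
    have h2 := congrArg (ρ y) h1
    rw [← Module.End.mul_apply, ← map_mul, ← Module.End.mul_apply, ← map_mul, mul_inv_cancel,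
      map_one] at h2
    exact Subtype.ext h2
  have heq : finrank (ZMod 3) (eig ρ W c 1) = finrank (ZMod 3) (eig ρ W c (-1)) := by
    have h1 := hle 1
    have h2 := hle (-1)
    rw [neg_neg] at h2
    exact le_antisymm h1 h2
  -- the sum is direct inside `W`
  have hinf : eig ρ W c 1 ⊓ eig ρ W c (-1) = ⊥ := by
    rw [eq_bot_iff]
    intro w hw
    rw [Submodule.mem_inf, mem_eig, mem_eig] at hw
    rw [Submodule.mem_bot]
    have h1 : (1 : ZMod 3) • w = (-1 : ZMod 3) • w := by rw [← hw.1.2, ← hw.2.2]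
    rw [one_smul, neg_smul, one_smul] at h1
    have h3 := three_smul_eq_zero w
    have h4 : w + w = 0 := by
      nth_rewrite 2 [h1]
      exact add_neg_cancel w
    rw [h4, zero_add] at h3
    exact h3
  have hsup : eig ρ W c 1 ⊔ eig ρ W c (-1) ≤ W := sup_le inf_le_left inf_le_left
  have hsum := Submodule.finrank_sup_add_finrank_inf_eq (eig ρ W c 1) (eig ρ W c (-1))
  rw [hinf, finrank_bot, add_zero] at hsum
  have hmono := Submodule.finrank_mono hsup
  rcases hbig with h | h <;> omega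

/-- **(B4)** `C_X(b) ≤ ⟨z⟩`. -/
theorem b4 [Finite E] (hL : LinCtx ρ R b W) (hQ : QData ρ R b W x₁ x₂ x₃ e₁ e₂ e₃)
    (hdim : finrank (ZMod 3) W ≤ 4) (X : Subgroup S) (hXR : X ≤ R) (z : S)
    (hzW : ∀ w ∈ W, ρ z w = -w) (hsq : ∀ x ∈ X, x * x = 1 ∨ x * x = z)
    (hnc : ∀ x ∈ X, x ≠ 1 → x ≠ z → ∃ y ∈ X, y * x * y⁻¹ = z * x) :
    ∀ c ∈ X, b * c * b⁻¹ = c → c = 1 ∨ c = z := by
  intro c hc hbc
  by_contra h
  push Not at h
  have hRB : ∀ g ∈ X, g ∈ RB R b := fun g hg => (le_sup_left : R ≤ RB R b) (hXR hg)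
  have hcW : ∀ w ∈ W, ρ c w ∈ W := hL.W_inv c (hRB c hc)
  have hcb : c * b = b * c := (mul_inv_eq_iff_eq_mul.1 hbc).symm
  have hb3 : b ^ 3 = 1 := by
    have := pow_orderOf_eq_one b
    rwa [hL.b_ord] at this
  rcases hsq c hc with h1 | h1
  · obtain ⟨y, hy, hyc⟩ := hnc c hc h.1 h.2
    refine b4_invol hQ hb3 hdim c y hcW (hL.W_inv y⁻¹ (hRB _ (X.inv_mem hy))) hcb ?_ ?_
    · intro w _
      rw [← Module.End.mul_apply, ← map_mul, h1, map_one, Module.End.one_apply]
    · intro w hw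
      rw [hyc, map_mul, Module.End.mul_apply, hzW _ (hcW w hw)]
  · refine no_sqrt_neg_one hQ c hcW hcb ?_
    intro w hw
    rw [← Module.End.mul_apply, ← map_mul, h1]
    exact hzW w hw

end Cfsg.Agent.Lib.H21.S4415B4
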