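import Mathlib
/-!
S4719 piece (G7) core (helper21): a finite group with a CENTRAL Sylow `p`-subgroup `T` has a
characteristic normal `p`-complement (Burnside's transfer theorem); if it has no nontrivial
characteristic `p'`-subgroup it is abelian.  Ambient form: a normal subgroup `X` of `Γ` with a central
Sylow 2-subgroup is abelian when `Γ` has no nontrivial normal subgroup of odd order.
PURE Mathlib.
-/
set_option autoImplicit false
namespace Cfsg.Agent.Lib.H21.BF
open Subgroup

theorem exists_char_complement_of_central_sylow {X : Type*} [Group X] [Finite X] {p : ℕ}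
    [Fact p.Prime] (T : Sylow p X) (hT : (T : Subgroup X) ≤ center X) :
    ∃ K : Subgroup X, K.Characteristic ∧ K.IsComplement' T ∧ (Nat.card K).Coprime p := by
  have hp : p.Prime := Fact.out
  have hNC : normalizer ((T : Subgroup X) : Set X) ≤ centralizer ((T : Subgroup X) : Set X) := by
    intro g _
    rw [mem_centralizer_iff]
    intro t ht
    exact (mem_center_iff.mp (hT ht) g).symm
  have hcomp := MonoidHom.ker_transferSylow_isComplement' T hNC
  have hnd := MonoidHom.not_dvd_card_ker_transferSylow T hNC
  set f := MonoidHom.transferSylow T hNC with hf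
  have hcop : (Nat.card f.ker).Coprime p := (Nat.Coprime.symm ((Nat.Prime.coprime_iff_not_dvd hp).mpr hnd))
  refine ⟨f.ker, ?_, hcomp, hcop⟩
  rw [characteristic_iff_map_le]
  intro φ
  rintro _ ⟨k, hk, rfl⟩
  rw [SetLike.mem_coe] at hk
  rw [MonoidHom.mem_ker]
  have h1 : orderOf (f (φ.toMonoidHom k)) ∣ orderOf k := by
    have h2 : orderOf (f (φ.toMonoidHom k)) ∣ orderOf (φ.toMonoidHom k) := orderOf_map_dvd f _
    have h3 : orderOf (φ.toMonoidHom k) = orderOf k := MulEquiv.orderOf_eq φ k
    rwa [h3] at h2
  have h4 : orderOf k ∣ Nat.card f.ker := Subgroup.orderOf_dvd_natCard _ hk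
  have h5 : orderOf (f (φ.toMonoidHom k)) ∣ Nat.card (T : Subgroup X) := orderOf_dvd_natCard _
  obtain ⟨n, hn⟩ := IsPGroup.iff_card.mp T.2
  rw [hn] at h5
  have h6 : (Nat.card f.ker).Coprime (p ^ n) := Nat.Coprime.pow_right n hcop
  have h7 : orderOf (f (φ.toMonoidHom k)) = 1 :=
    Nat.eq_one_of_dvd_coprimes h6 (h1.trans h4) h5
  exact orderOf_eq_one_iff.mp h7

/-- a group with a central Sylow `p`-subgroup and no nontrivial characteristic `p'`-subgroup is
abelian. -/
theorem comm_of_central_sylow {X : Type*} [Group X] [Finite X] {p : ℕ} [Fact p.Prime]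
    (T : Sylow p X) (hT : (T : Subgroup X) ≤ center X)
    (hK : ∀ K : Subgroup X, K.Characteristic → (Nat.card K).Coprime p → K = ⊥) :
    ∀ a b : X, a * b = b * a := by
  obtain ⟨K, hKc, hcomp, hcop⟩ := exists_char_complement_of_central_sylow T hT
  have hKb := hK K hKc hcop
  rw [hKb, isComplement'_bot_left] at hcomp
  intro a b
  have ha : a ∈ center X := hT (hcomp ▸ mem_top a)
  exact (mem_center_iff.mp ha b).symm

/-- ambient form: a normal subgroup `X` of `Γ` whose Sylow 2-subgroup is central in `X` is abelian
when `Γ` has no nontrivial normal subgroup of odd order. -/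
theorem comm_of_normal_of_central_sylow_two {Γ : Type*} [Group Γ] [Finite Γ] (X : Subgroup Γ)
    [X.Normal] (hO : ∀ K : Subgroup Γ, K.Normal → Odd (Nat.card K) → K = ⊥)
    (T : Sylow 2 X) (hT : (T : Subgroup X) ≤ center X) :
    ∀ a ∈ X, ∀ b ∈ X, a * b = b * a := by
  have : Fact (Nat.Prime 2) := ⟨Nat.prime_two⟩
  have key : ∀ a b : X, a * b = b * a := by
    apply comm_of_central_sylow T hT
    intro K hKc hcop
    have hn : (K.map X.subtype).Normal := ConjAct.normal_of_characteristic_of_normal
    have hodd : Odd (Nat.card (K.map X.subtype)) := by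
      rw [Subgroup.card_map_of_injective X.subtype_injective]
      exact Nat.coprime_two_right.mp hcop
    have := hO _ hn hodd
    rw [Subgroup.map_eq_bot_iff_of_injective _ X.subtype_injective] at this
    exact this
  intro a ha b hb
  exact congrArg Subtype.val (key ⟨a, ha⟩ ⟨b, hb⟩)

end Cfsg.Agent.Lib.H21.BF
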