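import Mathlib
import Cfsg.Agent.Lib.H17.GHDefs
/-!
S4402 piece KE (helper21), exact sig of tools/blueprints/S4402_sigs.lean:
`enc : Fin 128 → Perm (Fin 8)` enumerates the tree group `T`.
Also the shared tools `enc_mem_T`, `enc_injective`, `card_T`, `forall_mem_T_iff`.
-/
set_option autoImplicit false
set_option linter.dupNamespace false
namespace Cfsg.Agent.Lib.H21.GH
open Subgroup Cfsg.Agent.Lib.H17.GH Cfsg.Agent.Lib.H14.A8Sylow

set_option maxRecDepth 1000000 in
theorem enc_mem_T : ∀ n : Fin 128, enc n ∈ T := by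
  have h : ∀ n : Fin 128, (∀ i j, blk2 (enc n i) = blk2 (enc n j) ↔ blk2 i = blk2 j) ∧
      (∀ i j, blk4 (enc n i) = blk4 (enc n j) ↔ blk4 i = blk4 j) := by decide +kernel
  intro n
  rw [mem_T]
  exact h n

set_option maxRecDepth 1000000 in
theorem enc_injective : Function.Injective enc := by
  have h : ∀ a b : Fin 128, enc a = enc b → a = b := by decide +kernel
  intro a b hab
  exact h a b hab

theorem card_T : Nat.card T = 128 := by
  obtain ⟨n, hn⟩ := IsPGroup.iff_card.1 isPGroup_T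
  have h1 := T.card_mul_index
  have h2 : Nat.card (Equiv.Perm (Fin 8)) = 40320 := by
    rw [Nat.card_eq_fintype_card, Fintype.card_perm, Fintype.card_fin]; rfl
  have h3 := not_dvd_index_T
  rw [h2, hn] at h1
  have hcop : Nat.Coprime (2 ^ 7) T.index :=
    Nat.Coprime.pow_left 7 ((Nat.Prime.coprime_iff_not_dvd Nat.prime_two).mpr h3)
  have h4 : 2 ^ 7 ∣ 2 ^ n * T.index := by rw [h1]; norm_num
  have h5 : 2 ^ 7 ∣ 2 ^ n := hcop.dvd_of_dvd_mul_right h4
  have h6 : 7 ≤ n := (Nat.pow_dvd_pow_iff_le_right (by norm_num)).mp h5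
  have h7 : 2 ^ n ∣ 2 ^ 7 * 315 := by
    have : (40320 : ℕ) = 2 ^ 7 * 315 := by norm_num
    rw [← this, ← h1]; exact dvd_mul_right _ _
  have hcop2 : Nat.Coprime (2 ^ n) 315 := Nat.Coprime.pow_left n (by norm_num)
  have h8 : 2 ^ n ∣ 2 ^ 7 := hcop2.dvd_of_dvd_mul_right h7
  have h9 : n ≤ 7 := (Nat.pow_dvd_pow_iff_le_right (by norm_num)).mp h8
  have : n = 7 := le_antisymm h9 h6
  rw [hn, this]; norm_num

theorem mem_T_iff_enc (σ : Equiv.Perm (Fin 8)) : σ ∈ T ↔ ∃ n : Fin 128, enc n = σ := by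
  constructor
  · intro hσ
    let f : Fin 128 → ↥T := fun n => ⟨enc n, enc_mem_T n⟩
    have hf : Function.Injective f := by
      intro a b hab
      exact enc_injective (congrArg Subtype.val hab)
    have hfin : Finite ↥T := inferInstance
    have hc : Nat.card ↥T ≤ Nat.card (Fin 128) := by
      rw [card_T, Nat.card_eq_fintype_card, Fintype.card_fin]
    have hb := hf.bijective_of_nat_card_le hc
    obtain ⟨n, hn⟩ := hb.2 ⟨σ, hσ⟩
    exact ⟨n, congrArg Subtype.val hn⟩
  · rintro ⟨n, rfl⟩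
    exact enc_mem_T n

/-- THE SHARED TOOL: a property of all elements of `T` follows from the same over `Fin 128`. -/
theorem forall_mem_T_iff (Q : Equiv.Perm (Fin 8) → Prop) :
    (∀ σ ∈ T, Q σ) ↔ ∀ n : Fin 128, Q (enc n) := by
  constructor
  · intro h n
    exact h _ (enc_mem_T n)
  · intro h σ hσ
    obtain ⟨n, rfl⟩ := (mem_T_iff_enc σ).mp hσ
    exact h n

end Cfsg.Agent.Lib.H21.GH
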