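import Mathlib
import Cfsg.Prelude.Def_OddOrderLocal
import Cfsg.Prelude.Def_CaseTheorems
import Cfsg.Prelude.Def_PLocal
import Cfsg.Agent.Lib.H19.R2Defs
import Cfsg.Agent.S3879

/-!
# S3888 (Blackburn, rank ≤ 2), piece B6 (helper21)

A minimal nonmetacyclic group with `γ₃ ≠ 1` has order `p⁴`: a maximal subgroup `M` with `M' = γ₃` is metacyclic,
so `|M : Z(M)| = |γ₃|²` (S3879), while `|M| = p² |γ₃|`; hence `|Z(M)| |γ₃| = p²` and `|γ₃| = p`.
-/

set_option autoImplicit false

namespace Cfsg.Agent.Lib.H21.R2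

open Cfsg Cfsg.Agent.Lib.H19.R2
open scoped commutatorElement

universe u

variable {p : ℕ} [Fact p.Prime] {G : Type u} [Group G] [Finite G]

/-- B6.  (uses landed `Cfsg.Agent.S3879.result` for `↥M`.) -/
theorem mnm_card (hp2 : p ≠ 2) (hG : IsPGroup p G) (h : MNM G) {u v : G} (hg : Gam p G u v)
    (M : Subgroup G) (hM : M.index = p) (hM' : ⁅M, M⁆ = (⊤ : Subgroup G).lowerCentralSeries 2)
    (hne : (⊤ : Subgroup G).lowerCentralSeries 2 ≠ ⊥) : Nat.card G = p ^ 4 := by
  have hp : p.Prime := Fact.out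
  have hp1 : 1 < p := hp.one_lt
  have hMne : M ≠ ⊤ := by
    intro h1
    rw [h1, Subgroup.index_top] at hM
    omega
  have hMmc : Cfsg.IsMetacyclic ↥M := h.2 M hMne
  have hMp : IsPGroup p ↥M := hG.to_subgroup M
  have hS := Cfsg.Agent.S3879.result hp2 hMp hMmc
  set L : Subgroup G := (⊤ : Subgroup G).lowerCentralSeries 2 with hL
  -- `|M'| = |γ₃|`
  have hcc : Nat.card ↥(commutator ↥M) = Nat.card L := by
    rw [← hM', ← Subgroup.map_subtype_commutator M]
    exact (Subgroup.card_map_of_injective M.subtype_injective).symm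
  rw [hcc] at hS
  have hGL : Nat.card L * p ^ 3 = Nat.card G := by
    rw [← hg.idx]; exact Subgroup.card_mul_index L
  have hGM : Nat.card M * p = Nat.card G := by
    rw [← hM]; exact Subgroup.card_mul_index M
  have hMZ : Nat.card (Subgroup.center ↥M) * (Subgroup.center ↥M).index = Nat.card M :=
    Subgroup.card_mul_index _
  rw [hS] at hMZ
  obtain ⟨b, hb⟩ := IsPGroup.iff_card.mp (hG.to_subgroup L)
  obtain ⟨a, ha⟩ := IsPGroup.iff_card.mp (hMp.to_subgroup (Subgroup.center ↥M))
  have hb0 : b ≠ 0 := by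
    intro h0
    rw [h0, pow_zero] at hb
    exact hne ((Subgroup.card_eq_one).mp hb)
  -- `|M| = p ^ (b + 2)`
  have hMcard : Nat.card M = p ^ (b + 2) := by
    have : Nat.card M * p = p ^ (b + 2) * p := by
      rw [hGM, ← hGL, hb]; ring
    exact Nat.eq_of_mul_eq_mul_right hp.pos this
  have ha0 : a ≠ 0 := by
    intro h0
    rw [h0, pow_zero] at ha
    have hnt : Nontrivial ↥M := by
      rw [← Finite.one_lt_card_iff_nontrivial, hMcard]
      exact Nat.one_lt_pow (by omega) hp1
    have := hMp.center_nontrivial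
    rw [← Finite.one_lt_card_iff_nontrivial, ha] at this
    omega
  -- `a + 2 b = b + 2`
  have hab : a + 2 * b = b + 2 := by
    have : p ^ (a + 2 * b) = p ^ (b + 2) := by
      rw [← hMcard, ← hMZ, ha, hb]; ring
    exact Nat.pow_right_injective hp.two_le this
  have hb1 : b = 1 := by omega
  rw [← hGL, hb, hb1]
  ring

end Cfsg.Agent.Lib.H21.R2
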