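import Mathlib
import Cfsg.Prelude.Def_OddOrderLocal
import Cfsg.Prelude.Def_CaseTheorems
import Cfsg.Prelude.Def_PLocal
import Cfsg.Agent.Lib.H19.R2Defs
import Cfsg.Agent.Lib.H1.NilpotentBasic
import Cfsg.Agent.S4209

/-!
# S3888 (Blackburn, rank ≤ 2), piece K2BETA (helper21)

A minimal nonmetacyclic group satisfying (H2), of order `p³` or of order `p⁴` and class `3`, is a `3`-group of
maximal class (order `3⁴`): in all other cases the class is `< p`, so the group is regular (S4209), hence
`|G : ℧₁(G)| ≤ p²` and `G` is metacyclic by Huppert.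
-/

set_option autoImplicit false

namespace Cfsg.Agent.Lib.H21.R2

open Cfsg Cfsg.Agent.Lib.H19.R2
open scoped commutatorElement

universe u

variable {p : ℕ} [Fact p.Prime] {G : Type u} [Group G] [Finite G]

/-- a group of order `p ^ m` (`2 ≤ m`) has `lcs (m - 1) = ⊥` -/
theorem lcs_pred_eq_bot_of_card {m : ℕ} (hm : 2 ≤ m) (hcard : Nat.card G = p ^ m) :
    (⊤ : Subgroup G).lowerCentralSeries (m - 1) = ⊥ := by
  have : Group.IsNilpotent G := (IsPGroup.of_card hcard).isNilpotent
  rw [Subgroup.lowerCentralSeries_eq_bot_iff_nilpotencyClass_le]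
  have := Cfsg.Agent.Lib.H1.nilpotencyClass_le_of_card_eq_prime_pow (p := p) m G hcard
  have h1 : max (m - 1) 1 = m - 1 := max_eq_left (by omega)
  rwa [h1] at this

/-- K2BETA. -/
theorem h2_mnm (hp2 : p ≠ 2) (hG : IsPGroup p G) {N : Subgroup G} (h : H2 p G N) {n : ℕ}
    (hcard : Nat.card G = p ^ n) (hm : MNM G)
    (beta : Nat.card G = p ^ 3 ∨
      (Nat.card G = p ^ 4 ∧ (⊤ : Subgroup G).lowerCentralSeries 2 ≠ ⊥))
    (hup : (agemo p G).index ≤ p ^ 2 → Cfsg.IsMetacyclic G)
    (hreg : Cfsg.IsRegularPGroup p G → (agemo p G).index ≤ p ^ 2) : MC p n G := by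
  have hp : p.Prime := Fact.out
  have hp3 : 3 ≤ p := by
    rcases hp.eq_two_or_odd with h2 | h2
    · exact absurd h2 hp2
    · have := hp.two_le
      omega
  -- small class is impossible
  have hsmall : ∀ k, k ≤ p - 1 → (⊤ : Subgroup G).lowerCentralSeries k = ⊥ → False := by
    intro k hk hbot
    have hcl : (⊤ : Subgroup G).lowerCentralSeries (p - 1) = ⊥ := by
      have := (Subgroup.lowerCentralSeries_antitone (S := (⊤ : Subgroup G))) hk
      rw [hbot] at this
      exact le_bot_iff.mp this
    exact hm.1 (hup (hreg (Cfsg.Agent.S4209.result hG hcl)))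
  rcases beta with h3 | ⟨h4, hne⟩
  · exfalso
    exact hsmall 2 (by omega) (lcs_pred_eq_bot_of_card (m := 3) (by norm_num) h3)
  · have hn : n = 4 := Nat.pow_right_injective hp.two_le (hcard.symm.trans h4)
    subst hn
    by_cases hp3' : p = 3
    · exact ⟨hp3', by norm_num, hne⟩
    · exfalso
      have hp5 : 5 ≤ p := by
        rcases Nat.lt_or_ge p 5 with hlt | hge
        · exfalso
          interval_cases p
          · exact hp3' rfl
          · exact absurd hp (by decide)
        · exact hge
      exact hsmall 3 (by omega) (lcs_pred_eq_bot_of_card (m := 4) (by norm_num) h4)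

end Cfsg.Agent.Lib.H21.R2
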