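import Mathlib
import Cfsg.Prelude.Def_OddOrderLocal
import Cfsg.Prelude.Def_CaseTheorems
import Cfsg.Prelude.Def_PLocal
import Cfsg.Agent.Lib.H19.R2Defs
import Cfsg.Agent.Lib.H22.UniqueOrderP

/-!
# S3888 (Blackburn, rank ≤ 2), piece K2QRK (helper21)

Under (H2) for `N`, the quotient by a central subgroup `Z ≤ N` has rank at most two: for the preimage `E` of an
elementary abelian subgroup of `G ⧸ Z`, `g ↦ g ^ p` is a homomorphism `E → Z` whose kernel lies in `N`.
-/

set_option autoImplicit false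

namespace Cfsg.Agent.Lib.H21.R2

open Cfsg Cfsg.Agent.Lib.H19.R2
open scoped commutatorElement

universe u

variable {p : ℕ} [Fact p.Prime] {G : Type u} [Group G] [Finite G]

/-- K2QRK. -/
theorem h2_quot_rank (hp2 : p ≠ 2) {N : Subgroup G} (h : H2 p G N) (Z : Subgroup G) [Z.Normal]
    (hZN : Z ≤ N) (hZc : Z ≤ Subgroup.center G) : Cfsg.PRankLE p 2 (G ⧸ Z) := by
  intro A hAc hAexp
  obtain ⟨hN, hNall⟩ := h
  have hp : p.Prime := Fact.out
  have hodd : Odd p := hp.eq_two_or_odd'.resolve_left hp2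
  set E : Subgroup G := A.comap (QuotientGroup.mk' Z) with hE
  have hmemE : ∀ g : G, g ∈ E ↔ (QuotientGroup.mk g : G ⧸ Z) ∈ A := fun g => Iff.rfl
  have hcomm : ∀ u ∈ E, ∀ v ∈ E, v * u * v⁻¹ * u⁻¹ ∈ Z := by
    intro u hu v hv
    rw [← QuotientGroup.eq_one_iff]
    have hc : (QuotientGroup.mk v : G ⧸ Z) * QuotientGroup.mk u = QuotientGroup.mk u * QuotientGroup.mk v := by
      have := hAc.is_comm.comm ⟨_, (hmemE v).mp hv⟩ ⟨_, (hmemE u).mp hu⟩
      exact congrArg Subtype.val this
    rw [QuotientGroup.mk_mul, QuotientGroup.mk_mul, QuotientGroup.mk_mul, QuotientGroup.mk_inv,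
      QuotientGroup.mk_inv, hc]
    group
  have hpow : ∀ u ∈ E, u ^ p ∈ Z := by
    intro u hu
    rw [← QuotientGroup.eq_one_iff, QuotientGroup.mk_pow]
    exact hAexp _ ((hmemE u).mp hu)
  have hZexp : ∀ z ∈ Z, z ^ p = 1 := fun z hz => hN.exp z (hZN hz)
  have hdvd : p ∣ p * (p - 1) / 2 := by
    obtain ⟨k, hk⟩ := hodd
    have : p * (p - 1) / 2 = p * k := by
      rw [hk]
      have : (2 * k + 1) * (2 * k + 1 - 1) = 2 * ((2 * k + 1) * k) := by
        rw [Nat.add_sub_cancel]; ring
      rw [this, Nat.mul_div_cancel_left _ (by norm_num : 0 < 2)]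
    rw [this]
    exact dvd_mul_right p k
  have hmul : ∀ u ∈ E, ∀ v ∈ E, (u * v) ^ p = u ^ p * v ^ p := by
    intro u hu v hv
    have hc := hcomm u hu v hv
    have hcen : ∀ g : G, g * (v * u * v⁻¹ * u⁻¹) = (v * u * v⁻¹ * u⁻¹) * g :=
      fun g => Subgroup.mem_center_iff.mp (hZc hc) g
    rw [Cfsg.Agent.Lib.H22.mul_pow_of_central hcen p]
    obtain ⟨k, hk⟩ := hdvd
    rw [hk, pow_mul, hZexp _ hc, one_pow, mul_one]
  let φ : ↥E →* ↥Z :=
    { toFun := fun g => ⟨(g : G) ^ p, hpow g g.2⟩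
      map_one' := by
        apply Subtype.ext
        simp
      map_mul' := by
        intro a b
        apply Subtype.ext
        simp only [Subgroup.coe_mul]
        exact hmul a a.2 b b.2 }
  have hker : ∀ g : ↥E, g ∈ φ.ker → (g : G) ∈ N := by
    intro g hg
    apply hNall
    have := congrArg Subtype.val (MonoidHom.mem_ker.mp hg)
    simpa [φ] using this
  have hkercard : Nat.card φ.ker ≤ Nat.card N := by
    apply Nat.card_le_card_of_injective (fun g : φ.ker => (⟨(g : ↥E), hker g.1 g.2⟩ : ↥N))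
    intro a b hab
    apply Subtype.ext
    apply Subtype.ext
    have := congrArg (fun x : ↥N => (x : G)) hab
    exact this
  have hrange : Nat.card (↥E ⧸ φ.ker) ≤ Nat.card Z := by
    rw [Nat.card_congr (QuotientGroup.quotientKerEquivRange φ).toEquiv]
    exact Nat.card_le_card_of_injective (fun x : φ.range => (x : ↥Z)) Subtype.val_injective
  have hEcard : Nat.card E ≤ p ^ 2 * Nat.card Z := by
    rw [Subgroup.card_eq_card_quotient_mul_card_subgroup φ.ker, mul_comm]
    calc Nat.card φ.ker * Nat.card (↥E ⧸ φ.ker) ≤ Nat.card N * Nat.card Z := Nat.mul_le_mul hkercard hrange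
      _ = p ^ 2 * Nat.card Z := by rw [hN.card]
  -- `|E| = |A| * |Z|`
  have hidx : E.index = A.index :=
    Subgroup.index_comap_of_surjective A (QuotientGroup.mk'_surjective Z)
  have h1 : Nat.card E * E.index = Nat.card G := Subgroup.card_mul_index E
  have h2 : Nat.card A * A.index = Nat.card (G ⧸ Z) := Subgroup.card_mul_index A
  have h3 : Nat.card G = Nat.card (G ⧸ Z) * Nat.card Z := Subgroup.card_eq_card_quotient_mul_card_subgroup Z
  have hidxpos : 0 < A.index := Nat.pos_of_ne_zero Subgroup.index_ne_zero_of_finite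
  have hZpos : 0 < Nat.card Z := Nat.card_pos
  have h4 : Nat.card E = Nat.card A * Nat.card Z := by
    have : Nat.card E * A.index = Nat.card A * Nat.card Z * A.index := by
      rw [← hidx, h1, h3, ← h2, hidx]; ring
    exact Nat.eq_of_mul_eq_mul_right hidxpos this
  rw [h4] at hEcard
  exact Nat.le_of_mul_le_mul_right hEcard hZpos

end Cfsg.Agent.Lib.H21.R2
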