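import Mathlib
import Cfsg.Agent.Lib.H12.CYDefs
import Cfsg.Agent.Lib.H8.AEFINAL
import Cfsg.Agent.Lib.H28.CYBURN

/-!
# S1950, piece END2 (helper21): the case `e = p - 1`, `|P| = p`, from the landed core of S1951.
Exact signature `end2` of `tools/blueprints/S1950_sigs_h12.lean`.
-/

set_option autoImplicit false

namespace Cfsg.Agent.Lib.H21.CY

open Cfsg Cfsg.Agent.Lib.H12.CY

variable {G : Type*} [Group G] [Finite G] {p : ℕ} [Fact p.Prime]

omit [Finite G] in
/-- if `|fusE p z| = p - 1` then every nonzero residue is in `fusE p z` -/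
theorem mem_fusE_of_card (z : G) (hE : (fusE p z).card = p - 1) {t : ZMod p} (ht : t ≠ 0) :
    t ∈ fusE p z := by
  classical
  have hsub : fusE p z ⊆ Finset.univ.erase (0 : ZMod p) := by
    intro s hs
    rw [Finset.mem_erase]
    exact ⟨(mem_fusE.1 hs).1, Finset.mem_univ _⟩
  have hcard : (Finset.univ.erase (0 : ZMod p)).card = p - 1 := by
    rw [Finset.card_erase_of_mem (Finset.mem_univ _), Finset.card_univ, ZMod.card]
  have heq : fusE p z = Finset.univ.erase (0 : ZMod p) :=
    Finset.eq_of_subset_of_card_le hsub (by rw [hcard, hE])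
  rw [heq, Finset.mem_erase]
  exact ⟨ht, Finset.mem_univ _⟩

/-- END2.  Case `e = p - 1`, `|P| = p`. -/
theorem end2 [IsSimpleGroup G] (P : Sylow p G) (hP : IsCyclic ↥(P : Subgroup G))
    (hc : ∀ x y : G, orderOf x = p → orderOf y = p → Cfsg.IsPSolvable p ↥(Subgroup.closure ({x, y} : Set G)))
    {z : G} (hzP : z ∈ (P : Subgroup G)) (hz : orderOf z = p) (he2 : 2 ≤ (fusE p z).card)
    (hE : (fusE p z).card = p - 1) (hq : Nat.card ↥(P : Subgroup G) = p) : False := by
  classical
  have hp : p.Prime := Fact.out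
  have hPz : Subgroup.zpowers z = (P : Subgroup G) := by
    apply Subgroup.eq_of_le_of_card_ge
    · exact Subgroup.zpowers_le_of_mem hzP
    · rw [Nat.card_zpowers, hz, hq]
  have hz1 : z ≠ 1 := by
    intro h
    rw [h, orderOf_one] at hz
    exact hp.one_lt.ne hz
  have hP1 : (P : Subgroup G) ≠ ⊥ := by
    intro hbot
    rw [hbot, Subgroup.mem_bot] at hzP
    exact hz1 hzP
  -- elements of `P` are powers of `z`
  have hpow : ∀ x ∈ (P : Subgroup G), ∃ t : ZMod p, x = z ^ t.val := by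
    intro x hx
    rw [← hPz] at hx
    obtain ⟨k, hk⟩ := Subgroup.mem_zpowers_iff.1 hx
    refine ⟨(k : ZMod p), ?_⟩
    rw [← hk]
    have hval : (((k : ZMod p).val : ℕ) : ℤ) = k % (p : ℤ) := ZMod.val_intCast k
    rw [← zpow_natCast, hval]
    have := zpow_mod_orderOf z k
    rw [hz] at this
    exact this.symm
  have hPe : Cfsg.IsElementaryAbelian p (P : Subgroup G) := by
    refine ⟨⟨⟨fun a b => ?_⟩⟩, ?_⟩
    · obtain ⟨s, hs⟩ := hpow a a.2
      obtain ⟨t, ht⟩ := hpow b b.2
      apply Subtype.ext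
      change (a : G) * (b : G) = (b : G) * (a : G)
      rw [hs, ht, ← pow_add, ← pow_add, add_comm]
    · intro a ha
      have hd : orderOf a ∣ p := by
        rw [← hq]; exact Subgroup.orderOf_dvd_natCard _ ha
      exact orderOf_dvd_iff_pow_eq_one.1 hd
  have hconjz : ∀ x ∈ (P : Subgroup G), x ≠ 1 → IsConj x z := by
    intro x hx hx1
    obtain ⟨t, ht⟩ := hpow x hx
    have ht0 : t ≠ 0 := by
      rintro rfl
      rw [ZMod.val_zero, pow_zero] at ht
      exact hx1 ht
    rw [ht]
    exact (mem_fusE.1 (mem_fusE_of_card z hE ht0)).2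
  have hconj : ∀ x ∈ (P : Subgroup G), ∀ y ∈ (P : Subgroup G), x ≠ 1 → y ≠ 1 →
      ∃ g : G, g * x * g⁻¹ = y := by
    intro x hx y hy hx1 hy1
    have h1 : IsConj x y := (hconjz x hx hx1).trans (hconjz y hy hy1).symm
    exact isConj_iff.1 h1
  have hb : ∀ x ∈ (P : Subgroup G), orderOf x = p →
      Cfsg.HasNormalPComplement p ↥(Subgroup.centralizer ({x} : Set G)) :=
    fun x _ hx => Cfsg.Agent.Lib.H28.CY.centralizer_hasNormalPComplement P hP x hx
  have h2 : p = 2 := Cfsg.Agent.Lib.H8.AEF.s1951_core P hP1 hPe hconj hb hc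
  have hE1 : (fusE p z).card = 1 := by rw [hE, h2]
  omega

end Cfsg.Agent.Lib.H21.CY
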