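/-
S2174 (architect helper12), piece XMOVE (helper21): `F₄` in characteristic two: products of root elements with
parameter `1`; they only depend on parities when the roots commute (`lpr_eq_of_parity`), conjugation by `x_s(1)`
(`xmove`) and by `n_w` (`wmove`).
-/
import Mathlib
import Cfsg.Prelude.Def_LieExceptional
import Cfsg.Agent.Lib.H12.F4CentV7
import Cfsg.Agent.Lib.H29.F4Inv3
import Cfsg.Agent.Lib.H29.ChevDiagOrd

set_option autoImplicit false
set_option linter.unusedSectionVars false
set_option linter.unusedSimpArgs false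
set_option linter.unusedVariables false

namespace Cfsg.Agent.Lib.H21.IC

open Cfsg Cfsg.Lie Matrix Cfsg.Agent.Lib.H29.Chev Cfsg.Agent.Lib.H12.F4V

section F4

variable {F : Type*} [Field F] [CharP F 2]

/-- product of root elements with parameter `1` -/
noncomputable def lpr (F : Type*) [Field F] (L : List ℕ) : GL chevF4.Idx F := lp cert12_F4 (L.map fun r => (r, (1 : F)))

/-- the roots of the char-2 commutator `[x_s(1), x_r(1)]` -/
def ct2 (s r : ℕ) : List ℕ := (fdF4.commT s r).filterMap fun c => if c.2.1 % 2 = 0 then none else some c.1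

theorem lpr_nil : lpr F [] = 1 := rfl

theorem lpr_cons (r : ℕ) (L : List ℕ) : lpr F (r :: L) = fX r (1 : F) * lpr F L := by
  unfold lpr
  rw [List.map_cons, lp_cons]

theorem lpr_append (L L' : List ℕ) : lpr F (L ++ L') = lpr F L * lpr F L' := by
  induction L with
  | nil => rw [List.nil_append, lpr_nil, one_mul]
  | cons r L ih => rw [List.cons_append, lpr_cons, lpr_cons, ih, mul_assoc]

theorem lpr_eq_prod (L : List ℕ) : lpr F L = (L.map fun r => fX r (1 : F)).prod := by
  induction L with
  | nil => rfl
  | cons r L ih => rw [lpr_cons, List.map_cons, List.prod_cons, ih]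

theorem fX_one_sq (r : ℕ) : fX r (1 : F) * fX r 1 = 1 := by
  show cert12_F4.c6.c2.xA r (1 : F) * cert12_F4.c6.c2.xA r 1 = 1
  rw [cert12_F4.c6.c2.xA_mul]
  have h2 : (1 : F) + 1 = 0 := by
    have := CharP.cast_eq_zero F 2
    have e : ((2 : ℕ) : F) = 1 + 1 := by norm_num
    rw [e] at this
    exact this
  rw [h2, cert12_F4.c6.c2.xA_zero]

theorem fX_one_inv (r : ℕ) : (fX r (1 : F))⁻¹ = fX r 1 :=
  inv_eq_of_mul_eq_one_right (fX_one_sq r)

/-- permuting a list of pairwise commuting roots does not change the product -/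
theorem lpr_perm (rs L L' : List ℕ) (hrs : ∀ a ∈ rs, ∀ b ∈ rs, a < 48 ∧ b < 48 ∧ comm2 a b = true)
    (hsub : ∀ q ∈ L, q ∈ rs) (hp : L.Perm L') : lpr F L = lpr F L' := by
  rw [lpr_eq_prod, lpr_eq_prod]
  apply List.Perm.prod_eq' (hp.map _)
  rw [List.pairwise_map]
  apply List.pairwise_of_forall_mem_list
  intro a ha b hb
  obtain ⟨h1, h2, h3⟩ := hrs a (hsub a ha) b (hsub b hb)
  exact comm2_comm a b h1 h2 h3 1 1

/-- the reduced list: the roots of odd multiplicity, each once -/
def red2 (L : List ℕ) : List ℕ := L.dedup.filter fun q => L.count q % 2 = 1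

theorem mem_red2 (L : List ℕ) (q : ℕ) : q ∈ red2 L ↔ L.count q % 2 = 1 := by
  unfold red2
  rw [List.mem_filter, List.mem_dedup]
  constructor
  · intro h
    simpa using h.2
  · intro h
    refine ⟨?_, by simpa using h⟩
    rw [← List.count_pos_iff]
    omega

theorem nodup_red2 (L : List ℕ) : (red2 L).Nodup := (List.nodup_dedup L).filter _

theorem lpr_red2 (rs : List ℕ) (hrs : ∀ a ∈ rs, ∀ b ∈ rs, a < 48 ∧ b < 48 ∧ comm2 a b = true) :
    ∀ (n : ℕ) (L : List ℕ), L.length = n → (∀ q ∈ L, q ∈ rs) → lpr F L = lpr F (red2 L) := by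
  intro n
  induction n using Nat.strong_induction_on with
  | _ n ih =>
    intro L hlen hsub
    by_cases hnd : L.Nodup
    · -- `red2 L` is a permutation of `L`
      apply lpr_perm rs L (red2 L) hrs hsub
      rw [List.perm_ext_iff_of_nodup hnd (nodup_red2 L)]
      intro q
      rw [mem_red2]
      constructor
      · intro hq
        rw [List.count_eq_one_of_mem hnd hq]
      · intro hq
        rw [← List.count_pos_iff]
        omega
    · -- a duplicate `q`
      rw [← List.exists_duplicate_iff_not_nodup] at hnd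
      obtain ⟨q, hq⟩ := hnd
      rw [List.duplicate_iff_two_le_count] at hq
      have hq1 : q ∈ L := by
        rw [← List.count_pos_iff]
        omega
      have hq2 : q ∈ L.erase q := by
        rw [← List.count_pos_iff, List.count_erase_self]
        omega
      set L2 := (L.erase q).erase q with hL2
      have hperm : L.Perm (q :: q :: L2) :=
        (List.perm_cons_erase hq1).trans ((List.perm_cons_erase hq2).cons q)
      have hlen2 : L2.length + 2 = L.length := by
        have := hperm.length_eq
        simp only [List.length_cons] at this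
        omega
      have hsub2 : ∀ a ∈ L2, a ∈ rs := fun a ha => hsub a (List.mem_of_mem_erase (List.mem_of_mem_erase ha))
      have hcount : ∀ a, L.count a = (if a = q then 2 else 0) + L2.count a := by
        intro a
        rw [hperm.count_eq, List.count_cons, List.count_cons]
        by_cases haq : a = q
        · subst haq
          simp
          omega
        · have : ¬ (q == a) = true := by
            simp
            exact fun h => haq h.symm
          simp [haq, this]
      have e1 : lpr F L = lpr F L2 := by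
        rw [lpr_perm rs L (q :: q :: L2) hrs hsub hperm, lpr_cons, lpr_cons, ← mul_assoc, fX_one_sq, one_mul]
      rw [e1, ih L2.length (by omega) L2 rfl hsub2]
      apply lpr_perm rs (red2 L2) (red2 L) hrs
      · intro a ha
        rw [mem_red2] at ha
        apply hsub2
        rw [← List.count_pos_iff]
        omega
      · rw [List.perm_ext_iff_of_nodup (nodup_red2 L2) (nodup_red2 L)]
        intro a
        rw [mem_red2, mem_red2, hcount a]
        by_cases haq : a = q
        · rw [if_pos haq]
          omega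
        · rw [if_neg haq, zero_add]

/-- **PARITY** (char 2, F4): a product of pairwise commuting root elements with parameter 1 only depends on the parities
of the multiplicities (`x_r(1)^2 = x_r(2) = 1`). -/
theorem lpr_eq_of_parity (rs L L' : List ℕ) (hrs : ∀ a ∈ rs, ∀ b ∈ rs, a < 48 ∧ b < 48 ∧ comm2 a b = true)
    (hsub : ∀ q ∈ L, q ∈ rs) (hsub' : ∀ q ∈ L', q ∈ rs) (hpar : ∀ q ∈ rs, L.count q % 2 = L'.count q % 2) :
    lpr F L = lpr F L' := by
  rw [lpr_red2 rs hrs L.length L rfl hsub, lpr_red2 rs hrs L'.length L' rfl hsub']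
  apply lpr_perm rs (red2 L) (red2 L') hrs
  · intro a ha
    rw [mem_red2] at ha
    apply hsub
    rw [← List.count_pos_iff]
    omega
  · rw [List.perm_ext_iff_of_nodup (nodup_red2 L) (nodup_red2 L')]
    intro a
    rw [mem_red2, mem_red2]
    by_cases ha : a ∈ rs
    · rw [hpar a ha]
    · have h1 : L.count a = 0 := List.count_eq_zero_of_not_mem fun h => ha (hsub a h)
      have h2 : L'.count a = 0 := List.count_eq_zero_of_not_mem fun h => ha (hsub' a h)
      rw [h1, h2]

/-- the commutator product with parameters `1`, in characteristic two -/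
theorem ctG_one_one (T : List (ℕ × ℤ × ℕ × ℕ)) :
    cert12_F4.c6.c2.ctG T (1 : F) 1 =
      lpr F (T.filterMap fun c => if c.2.1 % 2 = 0 then none else some c.1) := by
  induction T with
  | nil => rfl
  | cons c T ih =>
    unfold Cert2.ctG at ih ⊢
    rw [List.map_cons, List.prod_cons, ih]
    have hneg : (-(1 : F)) ^ c.2.2.1 = 1 := by
      have h2 : (-(1 : F)) = 1 := by
        have := CharP.cast_eq_zero F 2
        have e : ((2 : ℕ) : F) = 1 + 1 := by norm_num
        rw [e] at this
        exact (eq_neg_of_add_eq_zero_left this).symm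
      rw [h2, one_pow]
    rw [hneg, one_pow, mul_one, mul_one]
    by_cases hc : c.2.1 % 2 = 0
    · have hz : ((c.2.1 : ℤ) : F) = 0 := by
        obtain ⟨k, hk⟩ := Int.dvd_of_emod_eq_zero hc
        rw [hk, Int.cast_mul, two_eq_zero', zero_mul]
      rw [hz, cert12_F4.c6.c2.xA_zero, one_mul, List.filterMap_cons, if_pos hc]
    · have hz : ((c.2.1 : ℤ) : F) = 1 := by
        have h1 : c.2.1 % 2 = 1 := by omega
        have e : c.2.1 = 2 * (c.2.1 / 2) + 1 := by omega
        rw [e, Int.cast_add, Int.cast_mul, two_eq_zero', zero_mul, zero_add, Int.cast_one]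
      rw [hz, List.filterMap_cons, if_neg hc, lpr_cons]

/-- conjugating `x_r(1)` by `x_s(1)` -/
theorem fX_conj_one (s r : ℕ) (hs : s < 48) (hr : r < 48) (h1 : r ≠ s) (h2 : r ≠ 47 - s) :
    fX s (1 : F) * fX r 1 * (fX s 1)⁻¹ = lpr F (r :: ct2 s r) := by
  have h := cert12_F4.conj_inv_xA (F := F) s r (by rw [f4_n]; exact hs) (by rw [f4_n]; exact hr) h1
    (by rw [f4_n]; omega) 1 1
  rw [ctG_one_one] at h
  have e : (cert12_F4.c6.c2.xA s (1 : F))⁻¹ = fX s 1 := fX_one_inv s
  rw [e] at h
  rw [fX_one_inv, lpr_cons]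
  exact h

/-- **XMOVE** (char 2, F4): conjugation of a product of root elements with parameter 1 by `x_s(1)`, decidable side
conditions: all roots of `rs` commute pairwise (`comm2`), and the parities of the multiplicities agree. -/
theorem xmove (s : ℕ) (L L' rs : List ℕ) (hs : s < 48) (hL : ∀ r ∈ L, r < 48 ∧ r ≠ s ∧ r ≠ 47 - s)
    (hrs : ∀ a ∈ rs, ∀ b ∈ rs, a < 48 ∧ b < 48 ∧ comm2 a b = true)
    (hsub : ∀ q ∈ L.flatMap (fun r => r :: ct2 s r), q ∈ rs) (hsub' : ∀ q ∈ L', q ∈ rs)
    (hpar : ∀ q ∈ rs, (L.flatMap fun r => r :: ct2 s r).count q % 2 = L'.count q % 2) :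
    fX s (1 : F) * lpr F L * (fX s 1)⁻¹ = lpr F L' := by
  have key : ∀ L : List ℕ, (∀ r ∈ L, r < 48 ∧ r ≠ s ∧ r ≠ 47 - s) →
      fX s (1 : F) * lpr F L * (fX s 1)⁻¹ = lpr F (L.flatMap fun r => r :: ct2 s r) := by
    intro L
    induction L with
    | nil =>
      intro _
      rw [List.flatMap_nil, lpr_nil, mul_one, mul_inv_cancel]
    | cons r L ih =>
      intro hL
      obtain ⟨h1, h2, h3⟩ := hL r List.mem_cons_self
      rw [List.flatMap_cons, lpr_append, ← ih (fun a ha => hL a (List.mem_cons_of_mem _ ha)),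
        ← fX_conj_one s r hs h1 h2 h3, lpr_cons]
      group
  rw [key L hL]
  exact lpr_eq_of_parity rs _ L' hrs hsub hsub' hpar

/-- **WMOVE** (char 2, F4): conjugation by `n_w`. -/
theorem wmove (w : List ℕ) (hw : IsWd fdF4.l w) (L : List ℕ) (hL : ∀ r ∈ L, r < 48) :
    cert12_F4.wordN F w * lpr F L * (cert12_F4.wordN F w)⁻¹ = lpr F (L.map (fdF4.wordP fxF4 w)) := by
  induction L with
  | nil => rw [List.map_nil, lpr_nil, mul_one, mul_inv_cancel]
  | cons r L ih =>
    have hr : r < fdF4.n := by
      rw [f4_n]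
      exact hL r List.mem_cons_self
    have h : cert12_F4.wordN F w * fX r (1 : F) * (cert12_F4.wordN F w)⁻¹ = fX (fdF4.wordP fxF4 w r) 1 :=
      cert12_F4.wordN_conj_char2 (F := F) w hw r hr 1
    rw [List.map_cons, lpr_cons, lpr_cons, ← ih (fun a ha => hL a (List.mem_cons_of_mem _ ha)), ← h]
    group

end F4

end Cfsg.Agent.Lib.H21.IC
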