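import Mathlib
import Cfsg.Prelude.Def_Local
import Cfsg.Agent.Lib.H19.PLength

/-!
# Normal `p`-complements from `p`-length one

If `PLengthLE p 1 H` and `H` is generated by elements of `p`-power order, then `H` has a normal
subgroup `N` of order prime to `p` and `p`-power index, and `N` contains every element of order
prime to `p`.
-/

set_option autoImplicit false
open Cfsg

namespace Cfsg.Agent.Lib.H21.PCG

universe u

section Inv

variable {G : Type u} [Group G]

open Cfsg.Agent.Lib.H19

theorem reach_zero_inv {p : ℕ} {N : Subgroup G} (h : Reach p 0 N) : N = ⊥ := by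
  cases h
  rfl

theorem reach_succ_even_inv {p j : ℕ} {M : Subgroup G} (h : Reach p (j + 1) M) (hj : Even j) :
    ∃ N : Subgroup G, Reach p j N ∧ N ≤ M ∧ M.Normal ∧ (N.relIndex M).Coprime p := by
  cases h with
  | @even _ N _ h' _ hle hn hc => exact ⟨N, h', hle, hn, hc⟩
  | @odd _ N _ h' ho _ _ _ => exact absurd hj ho

theorem reach_succ_odd_inv {p j : ℕ} {M : Subgroup G} (h : Reach p (j + 1) M) (hj : ¬ Even j) :
    ∃ N : Subgroup G, Reach p j N ∧ N ≤ M ∧ M.Normal ∧ ∃ m : ℕ, N.relIndex M = p ^ m := by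
  cases h with
  | @even _ N _ h' he _ _ _ => exact absurd he hj
  | @odd _ N _ h' _ hle hn hc => exact ⟨N, h', hle, hn, hc⟩

end Inv

variable {H : Type u} [Group H] [Finite H]

/-- An element whose order is coprime to the (finite) index of a normal subgroup lies in it. -/
theorem mem_of_coprime_index (N : Subgroup H) [N.Normal] (x : H)
    (h : (orderOf x).Coprime N.index) : x ∈ N := by
  have h1 : orderOf (QuotientGroup.mk' N x) ∣ orderOf x :=
    orderOf_dvd_of_pow_eq_one (by rw [← map_pow, pow_orderOf_eq_one, map_one])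
  have h2 : orderOf (QuotientGroup.mk' N x) ∣ N.index := by
    rw [Subgroup.index_eq_card]
    exact orderOf_dvd_natCard _
  have h3 : orderOf (QuotientGroup.mk' N x) = 1 :=
    Nat.eq_one_of_dvd_coprimes h h1 h2
  rw [orderOf_eq_one_iff] at h3
  exact (QuotientGroup.eq_one_iff x).1 h3

/-- `p`-length at most one and generation by `p`-elements give a normal `p`-complement containing
all `p`-regular elements. -/
theorem exists_normal_pcompl_of_plengthLE_one (p : ℕ) [hp : Fact p.Prime]
    (h1 : PLengthLE p 1 H)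
    (hgen : Subgroup.closure {x : H | ∃ k : ℕ, orderOf x = p ^ k} = ⊤) :
    ∃ N : Subgroup H, N.Normal ∧ (Nat.card N).Coprime p ∧ (∃ m : ℕ, N.index = p ^ m) ∧
      ∀ x : H, (orderOf x).Coprime p → x ∈ N := by
  rw [Cfsg.Agent.Lib.H19.plengthLE_iff] at h1
  obtain ⟨N2, h2, -, -, hc⟩ := reach_succ_even_inv (j := 2) h1 (by decide)
  obtain ⟨N1, h3, -, hn2, hc2⟩ := reach_succ_odd_inv (j := 1) h2 (by decide)
  obtain ⟨N0, h4, -, hn1, hc1⟩ := reach_succ_even_inv (j := 0) h3 (by decide)
  have hN0 := reach_zero_inv h4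
  subst hN0
  have hN2top : N2 = ⊤ := by
    rw [← top_le_iff, ← hgen, Subgroup.closure_le]
    rintro x ⟨k, hk⟩
    apply mem_of_coprime_index N2 x
    rw [hk]
    have : N2.index.Coprime p := by
      have := hc; rwa [Subgroup.relIndex_top_right] at this
    exact (Nat.Coprime.pow_right k this).symm
  subst hN2top
  refine ⟨N1, hn1, ?_, ?_, ?_⟩
  · have := hc1; rwa [Subgroup.relIndex_bot_left] at this
  · obtain ⟨m, hm⟩ := hc2
    exact ⟨m, by rwa [Subgroup.relIndex_top_right] at hm⟩
  · intro x hx
    apply mem_of_coprime_index N1 x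
    obtain ⟨m, hm⟩ := hc2
    rw [Subgroup.relIndex_top_right] at hm
    rw [hm]
    exact Nat.Coprime.pow_right m hx

end Cfsg.Agent.Lib.H21.PCG
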