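import Mathlib
import Cfsg.Prelude.Def_Local
import Cfsg.Agent.Lib.H19.PLength
import Cfsg.Agent.Lib.H21.PCompGen
import Cfsg.Agent.S0635

/-!
# Pairs of elements of order `p` generating a `p`-solvable group with abelian Sylow `p`-subgroups

Let `G` be a finite group whose Sylow `p`-subgroups are commutative, and let `a`, `y` have order `p`
with `⟨a, y⟩` `p`-solvable. Then `⟨a, y⟩` has `p`-length at most one (landed `S0635`), it is
generated by `p`-elements, so it has a normal `p`-complement containing all its `p`-regular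
elements; hence at most one of `a⁻¹ * y ^ j`, `1 ≤ j < p`, is `p`-regular.
-/

set_option autoImplicit false
open Cfsg

namespace Cfsg.Agent.Lib.H21.PCG

universe u

variable {G : Type u} [Group G] [Finite G]

/-- Every `p`-subgroup of a group with a commutative Sylow `p`-subgroup is commutative. -/
theorem comm_of_pgroup_of_sylow_comm {p : ℕ} [Fact p.Prime] (P : Sylow p G)
    (hP : ∀ x ∈ (P : Subgroup G), ∀ y ∈ (P : Subgroup G), x * y = y * x)
    (Q : Subgroup G) (hQ : IsPGroup p Q) :
    ∀ x ∈ Q, ∀ y ∈ Q, x * y = y * x := by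
  obtain ⟨R, hR⟩ := hQ.exists_le_sylow
  obtain ⟨g, hg⟩ := MulAction.exists_smul_eq G P R
  intro x hx y hy
  have hx' : x ∈ (R : Subgroup G) := hR hx
  have hy' : y ∈ (R : Subgroup G) := hR hy
  rw [← hg, Sylow.coe_subgroup_smul, Subgroup.mem_pointwise_smul_iff_inv_smul_mem] at hx' hy'
  have h := hP _ hx' _ hy'
  simp only [MulAut.smul_def, MulAut.conj_inv_apply] at h
  have h2 : g⁻¹ * (x * y) * g = g⁻¹ * (y * x) * g := by
    calc g⁻¹ * (x * y) * g = (g⁻¹ * x * g) * (g⁻¹ * y * g) := by group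
      _ = (g⁻¹ * y * g) * (g⁻¹ * x * g) := h
      _ = g⁻¹ * (y * x) * g := by group
  exact mul_left_cancel (mul_right_cancel h2)

/-- A finite `p`-solvable group with commutative Sylow `p`-subgroups has `p`-length at most one. -/
theorem plengthLE_one_of_comm_sylow {H : Type u} [Group H] [Finite H] {p : ℕ} [Fact p.Prime]
    (hsol : IsPSolvable p H) (S : Sylow p H)
    (hS : ∀ x ∈ (S : Subgroup H), ∀ y ∈ (S : Subgroup H), x * y = y * x) :
    PLengthLE p 1 H := by
  have h1 := Cfsg.Agent.S0635.result hsol S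
  have h2 : Group.nilpotencyClass ↥(S : Subgroup H) ≤ 1 := by
    let _ : CommGroup ↥(S : Subgroup H) :=
      { (inferInstance : Group ↥(S : Subgroup H)) with
        mul_comm := fun a b => Subtype.ext (hS a.1 a.2 b.1 b.2) }
    exact CommGroup.nilpotencyClass_le_one
  exact Cfsg.Agent.Lib.H19.plengthLE_mono h1 h2

/-- The normal `p`-complement of `⟨a, y⟩`. -/
theorem exists_normal_pcompl_closure_pair {p : ℕ} [Fact p.Prime] (P : Sylow p G)
    (hP : ∀ x ∈ (P : Subgroup G), ∀ y ∈ (P : Subgroup G), x * y = y * x)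
    (a y : G) (ha : orderOf a = p) (hy : orderOf y = p)
    (hsol : IsPSolvable p ↥(Subgroup.closure ({a, y} : Set G))) :
    ∃ N : Subgroup ↥(Subgroup.closure ({a, y} : Set G)), N.Normal ∧ (Nat.card N).Coprime p ∧
      (∃ m : ℕ, N.index = p ^ m) ∧
      ∀ x : ↥(Subgroup.closure ({a, y} : Set G)), (orderOf x).Coprime p → x ∈ N := by
  obtain ⟨S⟩ : Nonempty (Sylow p ↥(Subgroup.closure ({a, y} : Set G))) := inferInstance
  have hS : ∀ x ∈ (S : Subgroup ↥(Subgroup.closure ({a, y} : Set G))),
      ∀ z ∈ (S : Subgroup ↥(Subgroup.closure ({a, y} : Set G))), x * z = z * x := by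
    intro x hx z hz
    have hQ : IsPGroup p ((S : Subgroup ↥(Subgroup.closure ({a, y} : Set G))).map
        (Subgroup.closure ({a, y} : Set G)).subtype) :=
      S.isPGroup'.map _
    have := comm_of_pgroup_of_sylow_comm P hP _ hQ x.1 ⟨x, hx, rfl⟩ z.1 ⟨z, hz, rfl⟩
    exact Subtype.ext this
  have h1 := plengthLE_one_of_comm_sylow hsol S hS
  apply exists_normal_pcompl_of_plengthLE_one p h1
  rw [← top_le_iff, ← Subgroup.closure_closure_coe_preimage (k := ({a, y} : Set G))]
  apply Subgroup.closure_mono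
  rintro ⟨x, hx⟩ hx'
  refine ⟨1, ?_⟩
  rw [pow_one, ← Subgroup.orderOf_coe]
  show orderOf x = p
  rcases hx' with h | h
  · have h' : x = a := h
    rw [h', ha]
  · have h' : x = y := h
    rw [h', hy]

/-- At most one of `a⁻¹ * y ^ j`, `1 ≤ j < p`, is `p`-regular. -/
theorem pow_index_unique_of_regular {p : ℕ} [Fact p.Prime] (P : Sylow p G)
    (hP : ∀ x ∈ (P : Subgroup G), ∀ y ∈ (P : Subgroup G), x * y = y * x)
    (a y : G) (ha : orderOf a = p) (hy : orderOf y = p)
    (hsol : IsPSolvable p ↥(Subgroup.closure ({a, y} : Set G)))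
    (i j : ℕ) (hi : 1 ≤ i) (hip : i < p) (hj : 1 ≤ j) (hjp : j < p)
    (hri : ¬ p ∣ orderOf (a⁻¹ * y ^ i)) (hrj : ¬ p ∣ orderOf (a⁻¹ * y ^ j)) : i = j := by
  have hp : p.Prime := Fact.out
  obtain ⟨N, hN, hNc, -, hreg⟩ := exists_normal_pcompl_closure_pair P hP a y ha hy hsol
  have haH : a ∈ Subgroup.closure ({a, y} : Set G) := Subgroup.subset_closure (by simp)
  have hyH : y ∈ Subgroup.closure ({a, y} : Set G) := Subgroup.subset_closure (by simp)
  -- key: for `i < j` we get a contradiction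
  have key : ∀ i j : ℕ, 1 ≤ i → j < p → i < j → ¬ p ∣ orderOf (a⁻¹ * y ^ i) →
      ¬ p ∣ orderOf (a⁻¹ * y ^ j) → False := by
    intro i j hi hjp hij hri hrj
    set a' : ↥(Subgroup.closure ({a, y} : Set G)) := ⟨a, haH⟩ with ha'
    set y' : ↥(Subgroup.closure ({a, y} : Set G)) := ⟨y, hyH⟩ with hy'
    have h1 : a'⁻¹ * y' ^ i ∈ N := by
      apply hreg
      rw [← Subgroup.orderOf_coe]
      exact ((Nat.Prime.coprime_iff_not_dvd hp).2 hri).symm
    have h2 : a'⁻¹ * y' ^ j ∈ N := by
      apply hreg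
      rw [← Subgroup.orderOf_coe]
      exact ((Nat.Prime.coprime_iff_not_dvd hp).2 hrj).symm
    have h3 : y' ^ (j - i) ∈ N := by
      have := N.mul_mem (N.inv_mem h1) h2
      have e : (a'⁻¹ * y' ^ i)⁻¹ * (a'⁻¹ * y' ^ j) = y' ^ (j - i) := by
        have : y' ^ j = y' ^ i * y' ^ (j - i) := by
          rw [← pow_add]; congr 1; omega
        rw [this]; group
      rwa [e] at this
    have hy'o : orderOf y' = p := by rw [← Subgroup.orderOf_coe]; exact hy
    have hcop : (orderOf y').Coprime (j - i) := by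
      rw [hy'o, Nat.Prime.coprime_iff_not_dvd hp]
      intro hd
      have := Nat.le_of_dvd (by omega) hd
      omega
    have h4 : orderOf (y' ^ (j - i)) = p := by
      rw [Nat.Coprime.orderOf_pow hcop, hy'o]
    have h5 : p ∣ Nat.card N := by
      have h6 : orderOf (⟨y' ^ (j - i), h3⟩ : N) = p := by
        rw [← Subgroup.orderOf_coe]; exact h4
      rw [← h6]
      exact orderOf_dvd_natCard _
    have h7 := Nat.Coprime.eq_one_of_dvd hNc.symm h5
    exact hp.one_lt.ne' h7
  rcases lt_trichotomy i j with h | h | h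
  · exact (key i j hi hjp h hri hrj).elim
  · exact h
  · exact (key j i hj hip h hrj hri).elim

end Cfsg.Agent.Lib.H21.PCG
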