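/-
S2332 (architect helper12), piece **COMM1**: the transvection `uG (s e₀) = 1 + s E₀₁` of `GL (Fin (j + 2)) F` is a
commutator of two elements fixing a given vector fixed by it (`q ≥ 3`): `g₁ = diag (1, b, 1, …)`, `b ≠ 0, 1`,
`g₂ = 1 + t E₀₁` with `t (b⁻¹ - 1) = s`.
-/
import Mathlib
import Cfsg.Agent.Lib.H12.SLMinDefs

set_option autoImplicit false

namespace Cfsg.Agent.Lib.H21.SLMin

open Matrix Cfsg.Agent.Lib.H12.SLMin

variable {F : Type*} [Field F]

/-- `diag (b, 1, …, 1)` in `GL (Fin (k + 1)) F` -/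
def dgb {k : ℕ} (b : Fˣ) : GL (Fin (k + 1)) F :=
  ⟨diagonal (Function.update (fun _ => (1 : F)) 0 (b : F)),
    diagonal (Function.update (fun _ => (1 : F)) 0 ((b⁻¹ : Fˣ) : F)),
    by
      rw [diagonal_mul_diagonal, ← diagonal_one]
      congr 1
      funext i
      by_cases h : i = 0
      · subst h
        simp
      · simp [Function.update_of_ne h],
    by
      rw [diagonal_mul_diagonal, ← diagonal_one]
      congr 1
      funext i
      by_cases h : i = 0
      · subst h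
        simp
      · simp [Function.update_of_ne h]⟩

theorem dgb_inv_coe {k : ℕ} (b : Fˣ) :
    ((dgb (k := k) b)⁻¹ : GL (Fin (k + 1)) F).val =
      diagonal (Function.update (fun _ => (1 : F)) 0 ((b⁻¹ : Fˣ) : F)) := rfl

theorem dgb_coe {k : ℕ} (b : Fˣ) :
    ((dgb (k := k) b : GL (Fin (k + 1)) F) : Matrix (Fin (k + 1)) (Fin (k + 1)) F) =
      diagonal (Function.update (fun _ => (1 : F)) 0 (b : F)) := rfl

/-- the fixed vectors of `1 + s E₀₁` -/
theorem uG_single_mulVec {k : ℕ} (s : F) (v : Fin (k + 2) → F) :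
    ((uG (Pi.single (0 : Fin (k + 1)) s) : GL (Fin (k + 2)) F) : Matrix (Fin (k + 2)) (Fin (k + 2)) F) *ᵥ v =
      Fin.cons (v 0 + s * v 1) (fun i => v i.succ) := by
  have hv : v = Fin.cons (v 0) (fun i => v i.succ) := (Fin.cons_self_tail v).symm
  rw [uG_coe]
  conv_lhs => rw [hv]
  rw [bm_mulVec]
  congr 1
  · rw [one_mul, single_dotProduct]
    rfl
  · rw [smul_zero, zero_add, one_mulVec]

/-- **S2332 COMM1**. -/
theorem comm1 {F : Type*} [Field F] [Fintype F] {j : ℕ} (hq : 3 ≤ Fintype.card F) (s : F)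
    (v : Fin (j + 2) → F)
    (hfix : ((uG (Pi.single (0 : Fin (j + 1)) s) : GL (Fin (j + 2)) F) : Matrix (Fin (j + 2)) (Fin (j + 2)) F) *ᵥ v = v) :
    ∃ g₁ g₂ : GL (Fin (j + 2)) F,
      (g₁ : Matrix (Fin (j + 2)) (Fin (j + 2)) F) *ᵥ v = v ∧
      (g₂ : Matrix (Fin (j + 2)) (Fin (j + 2)) F) *ᵥ v = v ∧
      uG (Pi.single (0 : Fin (j + 1)) s) = g₁ * g₂ * g₁⁻¹ * g₂⁻¹ := by
  classical
  by_cases hs : s = 0
  · refine ⟨1, 1, by simp, by simp, ?_⟩
    rw [hs, Pi.single_zero, uG_zero]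
    group
  -- `v 1 = 0`
  have hv1 : v 1 = 0 := by
    rw [uG_single_mulVec] at hfix
    have h0 := congrFun hfix 0
    simp only [Fin.cons_zero] at h0
    have : s * v 1 = 0 := by linear_combination h0
    rcases mul_eq_zero.1 this with h | h
    · exact absurd h hs
    · exact h
  -- an element `b ≠ 0, 1`
  obtain ⟨b, hb0, hb1⟩ : ∃ b : F, b ≠ 0 ∧ b ≠ 1 := by
    by_contra hcon
    push Not at hcon
    have hsub : (Finset.univ : Finset F) ⊆ {0, 1} := by
      intro x _
      by_cases hx : x = 0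
      · simp [hx]
      · simp [hcon x hx]
    have := Finset.card_le_card hsub
    rw [Finset.card_univ] at this
    have h2 : ({0, 1} : Finset F).card ≤ 2 := Finset.card_le_two
    omega
  have hb1' : b⁻¹ - 1 ≠ 0 := by
    intro h
    apply hb1
    have h2 : b⁻¹ = 1 := by linear_combination h
    have h3 : b = b * b⁻¹ := by rw [h2, mul_one]
    rw [mul_inv_cancel₀ hb0] at h3
    exact h3
  obtain ⟨bu, hbu⟩ : ∃ bu : Fˣ, (bu : F) = b := ⟨Units.mk0 b hb0, rfl⟩
  obtain ⟨t, ht⟩ : ∃ t : F, t * (b⁻¹ - 1) = s := ⟨s / (b⁻¹ - 1), div_mul_cancel₀ s hb1'⟩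
  have hvc : v = Fin.cons (v 0) (fun i => v i.succ) := (Fin.cons_self_tail v).symm
  refine ⟨levG1 (dgb bu), uG (Pi.single (0 : Fin (j + 1)) t), ?_, ?_, ?_⟩
  · -- `g₁` fixes `v`
    rw [levG1_coe]
    conv_lhs => rw [hvc]
    rw [bm_mulVec]
    conv_rhs => rw [hvc]
    congr 1
    · rw [one_mul, zero_dotProduct, add_zero]
    · rw [smul_zero, zero_add, dgb_coe]
      funext i
      rw [mulVec_diagonal]
      by_cases hi : i = 0
      · subst hi
        rw [Function.update_self]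
        show (bu : F) * v 1 = v 1
        rw [hv1, mul_zero]
      · rw [Function.update_of_ne hi, one_mul]
  · -- `g₂` fixes `v`
    rw [uG_single_mulVec, hv1, mul_zero, add_zero]
    exact hvc.symm
  · -- the commutator
    have hinv : (uG (Pi.single (0 : Fin (j + 1)) t))⁻¹ = uG (-(Pi.single (0 : Fin (j + 1)) t)) := by
      rw [inv_eq_iff_mul_eq_one, ← uG_add, add_neg_cancel, uG_zero]
    rw [levG1_conj, hinv, ← uG_add]
    congr 1
    rw [actS_apply, Units.val_one, one_smul, dgb_inv_coe]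
    funext i
    rw [Pi.add_apply, Pi.neg_apply, vecMul_diagonal]
    by_cases hi : i = 0
    · subst hi
      rw [Pi.single_eq_same, Pi.single_eq_same, Function.update_self, Units.val_inv_eq_inv_val, hbu]
      linear_combination -ht
    · rw [Pi.single_eq_of_ne hi, Pi.single_eq_of_ne hi, Function.update_of_ne hi]
      ring

end Cfsg.Agent.Lib.H21.SLMin
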