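import Mathlib
import Cfsg.Prelude.Def_LieExceptional
import Cfsg.Agent.Lib.H12.OddF4Defs
import Cfsg.Agent.Lib.H29.ChevGen38
import Cfsg.Agent.Lib.H29.ChevInvG2c

/-!
# S4280 piece (C) (helper21): the involutions of the torus of `F₄(F)`

Every involution of the diagonal subgroup `H` of `F₄(F)` is conjugate (by an element of `N`) to
`sF4 F = h_{33}(-1)` or to `tF4 F = h_{24}(-1)`.  The `15` nontrivial sign patterns on the fundamental roots
`33, 27, 25, 24` fall into a `W`-orbit of size `3` (type `s`) and one of size `12` (type `t`); for each pattern an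
explicit Weyl word is given and the pattern is compared on the fundamental roots (`Cert12.diag_ext`).
-/

set_option autoImplicit false
set_option linter.unusedSectionVars false
set_option linter.unusedSimpArgs false
set_option linter.unusedVariables false

namespace Cfsg.Agent.Lib.H21.OddCent

open Cfsg.Lie Matrix Cfsg.Agent.Lib.H12 Cfsg.Agent.Lib.H29.Chev Cfsg.Agent.Lib.H12.OddInv

variable {F : Type*} [Field F]

/-- the sign `(-1)^k` as a case distinction on the parity -/
def sgnF (F : Type*) [Field F] (k : ℤ) : F := if k % 2 = 0 then 1 else -1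

theorem neg_one_zpow_eq_sgnF (k : ℤ) : (-1 : F) ^ k = sgnF F k := by
  unfold sgnF
  split_ifs with h
  · exact Even.neg_one_zpow (Int.even_iff.mpr h)
  · exact Odd.neg_one_zpow (Int.not_even_iff_odd.mp (fun he => h (Int.even_iff.mp he)))

/-- the generic step: if the signs of `h` on the fundamental roots are those of the conjugate of `z` by the
inverse of the word `w`, then `h` is conjugate to `z` -/
theorem conj_of_signs (z : GL chevF4.Idx F) (zr : ℕ) (hz : z ∈ chevF4.diagonalSubgroup F)
    (hdz : ∀ r < 48, dE chevF4 z r = (-1 : F) ^ (fdF4.pr r zr))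
    (w : List ℕ) (hw : IsWd fdF4.l w) (h : GL chevF4.Idx F) (hh : h ∈ chevF4.diagonalSubgroup F)
    (he : ∀ j < fdF4.l, dE chevF4 h (fdF4.simples.getD j 0) =
      sgnF F (fdF4.pr (fdF4.wordP fxF4 w (fdF4.simples.getD j 0)) zr)) :
    ConjG chevF4 F h z := by
  set n : GL chevF4.Idx F := cert12_F4.wordN F w with hn
  have hnm : n ∈ chevF4.monomialSubgroup F := cert12_F4.wordN_mem w
  have hperm := cert12_F4.perm_wordN (F := F) w hw
  have hk : n⁻¹ * z * n ∈ chevF4.diagonalSubgroup F := by
    have := (Subgroup.mem_normalizer_iff.mp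
      (cert12_F4.c6.c2.monomial_le_normalizer_diag (inv_mem hnm)) z).mp hz
    rwa [inv_inv] at this
  have hkey : h = n⁻¹ * z * n := by
    apply cert12_F4.diag_ext h (n⁻¹ * z * n) hh hk
    intro j hj
    have hs := cert12_F4.c6.c2.simple_lt j hj
    have e1 := cert12_F4.dE_conj n (n⁻¹ * z * n) hnm hk _ hperm _ hs
    have e2 : n * (n⁻¹ * z * n) * n⁻¹ = z := by group
    rw [e2] at e1
    rw [he j hj, ← e1, hdz _ (cert12_F4.wordP_lt w hw _ hs), neg_one_zpow_eq_sgnF]
  refine ⟨n, cert12_F4.c6.c2.monomial_le_group hnm, ?_⟩
  rw [hkey]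
  group

theorem isWd_of_forall (w : List ℕ) (h : ∀ i ∈ w, i < 4) : IsWd fdF4.l w := h

theorem sgnF_even {k : ℤ} (hk : k % 2 = 0) : sgnF F k = 1 := by
  unfold sgnF; rw [if_pos hk]

theorem sgnF_odd {k : ℤ} (hk : k % 2 = 1) : sgnF F k = -1 := by
  unfold sgnF; rw [if_neg (by omega)]

/-- **(C)**: an involution of the torus `H` of `F₄(F)` is conjugate to `sF4 F` or to `tF4 F`. -/
theorem f4_diag_inv_conj {F : Type*} [Field F] (h : GL chevF4.Idx F) (hh : h ∈ chevF4.diagonalSubgroup F)
    (h2 : h * h = 1) (h1 : h ≠ 1) :
    ConjG chevF4 F h (sF4 F) ∨ ConjG chevF4 F h (tF4 F) := by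
  have hsq : ∀ j < fdF4.l, dE chevF4 h (fdF4.simples.getD j 0) = 1 ∨
      dE chevF4 h (fdF4.simples.getD j 0) = -1 := by
    intro j hj
    have hs := cert12_F4.c6.c2.simple_lt j hj
    have := cert12_F4.dE_mul h h hh hh _ hs
    rw [h2, cert12_F4.dE_one] at this
    exact mul_self_eq_one_iff.mp this.symm
  have e0 := hsq 0 (by decide)
  have e1 := hsq 1 (by decide)
  have e2 := hsq 2 (by decide)
  have e3 := hsq 3 (by decide)
  rcases e0 with e0 | e0 <;> rcases e1 with e1 | e1 <;> rcases e2 with e2 | e2 <;> rcases e3 with e3 | e3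
  · -- signs (0, 0, 0, 0)
    exact absurd (cert12_F4.diag_ext h 1 hh (one_mem _) (by
      intro j hj
      have hj' : j < 4 := hj
      rw [cert12_F4.dE_one]
      interval_cases j
      · exact e0
      · exact e1
      · exact e2
      · exact e3)) h1
  · -- signs (0, 0, 0, 1)
    exact Or.inr (conj_of_signs (tF4 F) 24 tF4_mem_diag dE_tF4 [2, 1, 2, 0, 1, 2, 3] (isWd_of_forall _ (by decide)) h hh (by
      intro j hj
      have hj' : j < 4 := hj
      interval_cases j
      · exact e0.trans (sgnF_even (by decide)).symm
      · exact e1.trans (sgnF_even (by decide)).symm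
      · exact e2.trans (sgnF_even (by decide)).symm
      · exact e3.trans (sgnF_odd (by decide)).symm))
  · -- signs (0, 0, 1, 0)
    exact Or.inr (conj_of_signs (tF4 F) 24 tF4_mem_diag dE_tF4 [] (isWd_of_forall _ (by decide)) h hh (by
      intro j hj
      have hj' : j < 4 := hj
      interval_cases j
      · exact e0.trans (sgnF_even (by decide)).symm
      · exact e1.trans (sgnF_even (by decide)).symm
      · exact e2.trans (sgnF_odd (by decide)).symm
      · exact e3.trans (sgnF_even (by decide)).symm))
  · -- signs (0, 0, 1, 1)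
    exact Or.inr (conj_of_signs (tF4 F) 24 tF4_mem_diag dE_tF4 [2, 1, 2, 0, 1, 2] (isWd_of_forall _ (by decide)) h hh (by
      intro j hj
      have hj' : j < 4 := hj
      interval_cases j
      · exact e0.trans (sgnF_even (by decide)).symm
      · exact e1.trans (sgnF_even (by decide)).symm
      · exact e2.trans (sgnF_odd (by decide)).symm
      · exact e3.trans (sgnF_odd (by decide)).symm))
  · -- signs (0, 1, 0, 0)
    exact Or.inl (conj_of_signs (sF4 F) 33 sF4_mem_diag dE_sF4 [] (isWd_of_forall _ (by decide)) h hh (by
      intro j hj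
      have hj' : j < 4 := hj
      interval_cases j
      · exact e0.trans (sgnF_even (by decide)).symm
      · exact e1.trans (sgnF_odd (by decide)).symm
      · exact e2.trans (sgnF_even (by decide)).symm
      · exact e3.trans (sgnF_even (by decide)).symm))
  · -- signs (0, 1, 0, 1)
    exact Or.inr (conj_of_signs (tF4 F) 24 tF4_mem_diag dE_tF4 [2, 3] (isWd_of_forall _ (by decide)) h hh (by
      intro j hj
      have hj' : j < 4 := hj
      interval_cases j
      · exact e0.trans (sgnF_even (by decide)).symm
      · exact e1.trans (sgnF_odd (by decide)).symm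
      · exact e2.trans (sgnF_even (by decide)).symm
      · exact e3.trans (sgnF_odd (by decide)).symm))
  · -- signs (0, 1, 1, 0)
    exact Or.inr (conj_of_signs (tF4 F) 24 tF4_mem_diag dE_tF4 [2, 1, 2, 0, 1] (isWd_of_forall _ (by decide)) h hh (by
      intro j hj
      have hj' : j < 4 := hj
      interval_cases j
      · exact e0.trans (sgnF_even (by decide)).symm
      · exact e1.trans (sgnF_odd (by decide)).symm
      · exact e2.trans (sgnF_odd (by decide)).symm
      · exact e3.trans (sgnF_even (by decide)).symm))
  · -- signs (0, 1, 1, 1)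
    exact Or.inr (conj_of_signs (tF4 F) 24 tF4_mem_diag dE_tF4 [2] (isWd_of_forall _ (by decide)) h hh (by
      intro j hj
      have hj' : j < 4 := hj
      interval_cases j
      · exact e0.trans (sgnF_even (by decide)).symm
      · exact e1.trans (sgnF_odd (by decide)).symm
      · exact e2.trans (sgnF_odd (by decide)).symm
      · exact e3.trans (sgnF_odd (by decide)).symm))
  · -- signs (1, 0, 0, 0)
    exact Or.inl (conj_of_signs (sF4 F) 33 sF4_mem_diag dE_sF4 [1, 0] (isWd_of_forall _ (by decide)) h hh (by
      intro j hj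
      have hj' : j < 4 := hj
      interval_cases j
      · exact e0.trans (sgnF_odd (by decide)).symm
      · exact e1.trans (sgnF_even (by decide)).symm
      · exact e2.trans (sgnF_even (by decide)).symm
      · exact e3.trans (sgnF_even (by decide)).symm))
  · -- signs (1, 0, 0, 1)
    exact Or.inr (conj_of_signs (tF4 F) 24 tF4_mem_diag dE_tF4 [2, 3, 1, 0] (isWd_of_forall _ (by decide)) h hh (by
      intro j hj
      have hj' : j < 4 := hj
      interval_cases j
      · exact e0.trans (sgnF_odd (by decide)).symm
      · exact e1.trans (sgnF_even (by decide)).symm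
      · exact e2.trans (sgnF_even (by decide)).symm
      · exact e3.trans (sgnF_odd (by decide)).symm))
  · -- signs (1, 0, 1, 0)
    exact Or.inr (conj_of_signs (tF4 F) 24 tF4_mem_diag dE_tF4 [2, 1, 2] (isWd_of_forall _ (by decide)) h hh (by
      intro j hj
      have hj' : j < 4 := hj
      interval_cases j
      · exact e0.trans (sgnF_odd (by decide)).symm
      · exact e1.trans (sgnF_even (by decide)).symm
      · exact e2.trans (sgnF_odd (by decide)).symm
      · exact e3.trans (sgnF_even (by decide)).symm))
  · -- signs (1, 0, 1, 1)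
    exact Or.inr (conj_of_signs (tF4 F) 24 tF4_mem_diag dE_tF4 [2, 1, 0] (isWd_of_forall _ (by decide)) h hh (by
      intro j hj
      have hj' : j < 4 := hj
      interval_cases j
      · exact e0.trans (sgnF_odd (by decide)).symm
      · exact e1.trans (sgnF_even (by decide)).symm
      · exact e2.trans (sgnF_odd (by decide)).symm
      · exact e3.trans (sgnF_odd (by decide)).symm))
  · -- signs (1, 1, 0, 0)
    exact Or.inl (conj_of_signs (sF4 F) 33 sF4_mem_diag dE_sF4 [1] (isWd_of_forall _ (by decide)) h hh (by
      intro j hj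
      have hj' : j < 4 := hj
      interval_cases j
      · exact e0.trans (sgnF_odd (by decide)).symm
      · exact e1.trans (sgnF_odd (by decide)).symm
      · exact e2.trans (sgnF_even (by decide)).symm
      · exact e3.trans (sgnF_even (by decide)).symm))
  · -- signs (1, 1, 0, 1)
    exact Or.inr (conj_of_signs (tF4 F) 24 tF4_mem_diag dE_tF4 [2, 3, 1] (isWd_of_forall _ (by decide)) h hh (by
      intro j hj
      have hj' : j < 4 := hj
      interval_cases j
      · exact e0.trans (sgnF_odd (by decide)).symm
      · exact e1.trans (sgnF_odd (by decide)).symm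
      · exact e2.trans (sgnF_even (by decide)).symm
      · exact e3.trans (sgnF_odd (by decide)).symm))
  · -- signs (1, 1, 1, 0)
    exact Or.inr (conj_of_signs (tF4 F) 24 tF4_mem_diag dE_tF4 [2, 1, 2, 0] (isWd_of_forall _ (by decide)) h hh (by
      intro j hj
      have hj' : j < 4 := hj
      interval_cases j
      · exact e0.trans (sgnF_odd (by decide)).symm
      · exact e1.trans (sgnF_odd (by decide)).symm
      · exact e2.trans (sgnF_odd (by decide)).symm
      · exact e3.trans (sgnF_even (by decide)).symm))
  · -- signs (1, 1, 1, 1)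
    exact Or.inr (conj_of_signs (tF4 F) 24 tF4_mem_diag dE_tF4 [2, 1] (isWd_of_forall _ (by decide)) h hh (by
      intro j hj
      have hj' : j < 4 := hj
      interval_cases j
      · exact e0.trans (sgnF_odd (by decide)).symm
      · exact e1.trans (sgnF_odd (by decide)).symm
      · exact e2.trans (sgnF_odd (by decide)).symm
      · exact e3.trans (sgnF_odd (by decide)).symm))

end Cfsg.Agent.Lib.H21.OddCent
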