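import Mathlib
import Cfsg.Prelude.Def_ChevStructure
import Cfsg.Agent.Lib.H13.E8OddDefs
import Cfsg.Agent.Lib.H29.ChevGen39
import Cfsg.Agent.Lib.H29.D4SingA
import Cfsg.Agent.Lib.H29.ChevF4l

/-!
# S4281 piece "E8ODD H2ORB" (helper21, twin): the involutions of the torus of `E₈(F)`

Every involution of the diagonal subgroup `H` of `E₈(F)` is conjugate under `N` to `zS F` or `zT F`.
The sign vector of `h` on the fundamental roots `162, 141, 135, 130, 126, 123, 121, 120` is one of `255`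
nonzero vectors of `𝔽₂⁸`; they form two `W`-orbits (`120` of type `T`, `135` of type `S`).  A table gives for each
vector the type and a Weyl word; one Boolean certificate (`decide +kernel`) checks all of them, and
`Cert12.diag_ext` + `Cert12.dE_conj` conclude (same route as `Lib/H21/OddCentC` for `F₄`).
-/

set_option autoImplicit false
set_option linter.unusedSectionVars false
set_option linter.unusedSimpArgs false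
set_option linter.unusedVariables false

namespace Cfsg.Agent.Lib.H21.E8Odd

open Cfsg.Lie Matrix Cfsg.Agent.Lib.H29.Chev Cfsg.Agent.Lib.H13.E8Odd

/-- parity of an integer as a Boolean (`true` = odd) -/
def sgnB (k : ℤ) : Bool := !(decide (k % 2 = 0))

/-- `-1` or `1` -/
def sgnC (F : Type*) [Field F] (b : Bool) : F := bif b then -1 else 1

theorem neg_one_zpow_eq_sgnC {F : Type*} [Field F] (k : ℤ) : (-1 : F) ^ k = sgnC F (sgnB k) := by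
  unfold sgnC sgnB
  by_cases h : k % 2 = 0
  · simp only [h, decide_true, Bool.not_true, cond_false]
    exact Even.neg_one_zpow (Int.even_iff.mpr h)
  · simp only [h, decide_false, Bool.not_false, cond_true]
    exact Odd.neg_one_zpow (Int.not_even_iff_odd.mp (fun he => h (Int.even_iff.mp he)))

/-- the functional of `zS` (`true`) resp. `zT` (`false`) on the roots -/
def kap (isS : Bool) (r : ℕ) : ℤ := bif isS then fdE8.pr r 123 + fdE8.pr r 120 else fdE8.pr r 120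

/-- `zS` (`true`) resp. `zT` (`false`) -/
noncomputable def zOf (F : Type*) [Field F] (isS : Bool) : GL chevE8.Idx F := bif isS then zS F else zT F

theorem e8n : fdE8.n = 240 := rfl

theorem e8l : fdE8.l = 8 := rfl

theorem dE_hm' (F : Type*) [Field F] (s r : ℕ) (hs : s < 240) (hr : r < 240) :
    dE chevE8 (hm F s) r = (-1 : F) ^ fdE8.pr r s := by
  have hr0 : r < fdE8.n := by rw [e8n]; exact hr
  have hr' : r < chevE8.nroots := by rw [cert12_E8.c6.c2.nroots_eq]; exact hr0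
  unfold hm dE
  rw [dif_pos hr']
  show Td (hExp chevE8 fdE8 fxE8 s) (-1 : F) (Sum.inr ⟨r, hr'⟩) (Sum.inr ⟨r, hr'⟩) = _
  rw [Td_apply, if_pos rfl]
  unfold hExp
  rw [cert12_E8.om_inr, ← fdE8.pr_lin cert12_E8.c6.c2.chk.lin r s hr0]

theorem zOf_mem (F : Type*) [Field F] (isS : Bool) : zOf F isS ∈ chevE8.diagonalSubgroup F := by
  cases isS
  · exact zT_mem F
  · exact zS_mem F

theorem dE_zOf (F : Type*) [Field F] (isS : Bool) (r : ℕ) (hr : r < 240) :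
    dE chevE8 (zOf F isS) r = (-1 : F) ^ kap isS r := by
  cases isS
  · show dE chevE8 (zT F) r = (-1 : F) ^ fdE8.pr r 120
    exact dE_hm' F 120 r (by norm_num) hr
  · show dE chevE8 (zS F) r = (-1 : F) ^ (fdE8.pr r 123 + fdE8.pr r 120)
    unfold zS
    rw [cert12_E8.dE_mul _ _ (hm_mem F 123 (by norm_num)) (hm_mem F 120 (by norm_num)) r
      (by rw [e8n]; exact hr), dE_hm' F 123 r (by norm_num) hr, dE_hm' F 120 r (by norm_num) hr,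
      ← zpow_add₀ (neg_ne_zero.mpr one_ne_zero)]

/-- the generic step: if the signs of `h` on the fundamental roots are those of the conjugate of `zOf isS` by the
inverse of the word `w`, then `wordN w` conjugates `h` to `zOf isS` -/
theorem conj_of_signs {F : Type*} [Field F] (isS : Bool) (w : List ℕ) (hw : IsWd fdE8.l w)
    (h : GL chevE8.Idx F) (hh : h ∈ chevE8.diagonalSubgroup F)
    (he : ∀ j < fdE8.l, dE chevE8 h (fdE8.simples.getD j 0) =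
      sgnC F (sgnB (kap isS (fdE8.wordP fxE8 w (fdE8.simples.getD j 0))))) :
    ∃ n ∈ chevE8.monomialSubgroup F, n * h * n⁻¹ = zOf F isS := by
  set n : GL chevE8.Idx F := cert12_E8.wordN F w with hn
  have hnm : n ∈ chevE8.monomialSubgroup F := cert12_E8.wordN_mem w
  have hperm := cert12_E8.perm_wordN (F := F) w hw
  have hz := zOf_mem F isS
  have hk : n⁻¹ * zOf F isS * n ∈ chevE8.diagonalSubgroup F := by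
    have := (Subgroup.mem_normalizer_iff.mp
      (cert12_E8.c6.c2.monomial_le_normalizer_diag (inv_mem hnm)) (zOf F isS)).mp hz
    rwa [inv_inv] at this
  have hkey : h = n⁻¹ * zOf F isS * n := by
    apply cert12_E8.diag_ext h (n⁻¹ * zOf F isS * n) hh hk
    intro j hj
    have hs := cert12_E8.c6.c2.simple_lt j hj
    have e1 := cert12_E8.dE_conj n (n⁻¹ * zOf F isS * n) hnm hk _ hperm _ hs
    have e2 : n * (n⁻¹ * zOf F isS * n) * n⁻¹ = zOf F isS := by group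
    rw [e2] at e1
    have hlt : fdE8.wordP fxE8 w (fdE8.simples.getD j 0) < 240 := cert12_E8.wordP_lt w hw _ hs
    rw [he j hj, ← e1, dE_zOf F isS _ hlt, neg_one_zpow_eq_sgnC]
  refine ⟨n, hnm, ?_⟩
  rw [hkey]
  group

/-- the table: for the sign vector with bit mask `m` (bit `j` set iff `χ_{α_j}(h) = -1`), the type
(`true` = `S`) and a Weyl word -/
def tabL : List (Bool × List ℕ) := [
  (false, []), (true, [4, 3, 2, 0, 5, 4, 3, 2, 6, 5, 4, 3, 1, 7, 6, 5, 4, 3, 2, 0]), (true, [4, 3, 1, 2, 0, 3, 2, 4, 3, 1]), (false, [6, 5, 4, 3, 1, 2, 0, 3, 2, 4, 3, 1, 5, 4, 3, 2, 6, 5, 4, 3, 1]),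
  (false, [6, 5, 4, 3, 2, 0, 7, 6, 5, 4, 3, 2]), (true, [4, 3, 2, 0, 5, 4, 3, 2, 6, 5, 4, 3, 1, 7, 6, 5, 4, 3, 2]), (false, [6, 5, 4, 3, 1, 2, 0, 3, 2, 4, 3, 1, 5, 4, 3, 2, 0, 6, 5, 4, 3, 2]), (false, [6, 5, 4, 3, 1, 2, 0, 3, 2, 4, 3, 1, 5, 4, 3, 2, 0, 6, 5, 4, 3, 1]),
  (false, [6, 5, 4, 3, 1, 7, 6, 5, 4, 3]), (false, [6, 5, 4, 3, 2, 7, 6, 5, 4, 3]), (true, [4, 3, 1, 2, 0, 3, 2, 4, 3]), (false, [6, 5, 4, 3, 1, 2, 0, 3, 2, 4, 3, 1, 5, 4, 3, 2, 6, 5, 4, 3]),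
  (true, [4, 3, 2, 0, 5, 4, 3, 2, 6, 5, 4, 3, 1, 7, 6, 5, 4, 3]), (false, [6, 5, 4, 3, 2, 0, 7, 6, 5, 4, 3]), (false, [6, 5, 4, 3, 1, 2, 0, 3, 2, 4, 3, 1, 5, 4, 3, 2, 0, 6, 5, 4, 3, 1, 2]), (false, [6, 5, 4, 3, 1, 2, 0, 3, 2, 4, 3, 1, 5, 4, 3, 2, 0, 6, 5, 4, 3]),
  (true, []), (true, [4, 3, 1, 2, 3, 4]), (true, [4, 3, 2, 0, 5, 4, 3, 2, 6, 5, 4, 3, 7, 6, 5, 4]), (false, [6, 5, 4, 3, 1, 2, 0, 7, 6, 5, 4]),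
  (false, [6, 5, 4, 3, 1, 2, 0, 3, 2, 4, 3, 1, 5, 4, 3, 6, 5, 4]), (true, [4, 3, 1, 2, 0, 3, 4]), (false, [6, 5, 4, 3, 7, 6, 5, 4]), (false, [6, 5, 4, 3, 1, 2, 7, 6, 5, 4]),
  (false, [6, 5, 4, 3, 1, 2, 0, 3, 2, 4, 3, 1, 5, 4, 3, 2, 0, 6, 5, 4, 3, 1, 2, 3]), (false, [6, 5, 4, 3, 1, 2, 0, 3, 2, 4, 3, 1, 5, 4, 3, 2, 0, 6, 5, 4]), (true, [4, 3, 2, 0, 5, 4, 3, 2, 6, 5, 4, 3, 1, 7, 6, 5, 4]), (false, [6, 5, 4, 3, 2, 0, 7, 6, 5, 4]),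
  (true, [4, 3, 1, 2, 0, 3, 2, 4]), (false, [6, 5, 4, 3, 1, 2, 0, 3, 2, 4, 3, 1, 5, 4, 3, 2, 6, 5, 4]), (false, [6, 5, 4, 3, 1, 7, 6, 5, 4]), (false, [6, 5, 4, 3, 2, 7, 6, 5, 4]),
  (true, [4, 3, 1, 5, 4, 3, 6, 5, 4, 7, 6, 5]), (true, [4, 3, 2, 5, 4, 3, 6, 5, 4, 7, 6, 5]), (false, [6, 5, 4, 3, 1, 2, 0, 3, 2, 4, 3, 5, 4, 6, 5]), (true, [4, 3, 2, 0]),
  (false, [6, 5, 4, 3, 1, 2, 0, 3, 2, 7, 6, 5]), (true, [4, 3, 2, 0, 5, 4, 3, 6, 5, 4, 7, 6, 5]), (true, [4, 3, 1]), (true, [4, 3, 2]),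
  (false, [6, 5, 4, 7, 6, 5]), (false, [6, 5, 4, 3, 1, 2, 3, 7, 6, 5]), (false, [6, 5, 4, 3, 1, 2, 0, 3, 2, 4, 3, 1, 5, 4, 6, 5]), (true, [4, 3, 1, 2, 0]),
  (true, [4, 3, 2, 0, 5, 4, 3, 2, 6, 5, 4, 7, 6, 5]), (false, [6, 5, 4, 3, 1, 2, 0, 3, 7, 6, 5]), (true, [4, 3]), (true, [4, 3, 1, 2]),
  (false, [6, 5, 4, 3, 1, 2, 0, 3, 2, 4, 3, 1, 5, 4, 3, 2, 0, 6, 5, 4, 3, 1, 2, 3, 4]), (false, [6, 5, 4, 3, 1, 2, 0, 3, 2, 4, 3, 1, 5, 4, 3, 2, 0, 6, 5]), (true, [4, 3, 2, 0, 5, 4, 3, 2, 6, 5, 4, 3, 1, 7, 6, 5]), (false, [6, 5, 4, 3, 2, 0, 7, 6, 5]),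
  (true, [4, 3, 1, 2, 0, 3, 2]), (false, [6, 5, 4, 3, 1, 2, 0, 3, 2, 4, 3, 1, 5, 4, 3, 2, 6, 5]), (false, [6, 5, 4, 3, 1, 7, 6, 5]), (false, [6, 5, 4, 3, 2, 7, 6, 5]),
  (true, [4]), (true, [4, 3, 1, 2, 3]), (true, [4, 3, 2, 0, 5, 4, 3, 2, 6, 5, 4, 3, 7, 6, 5]), (false, [6, 5, 4, 3, 1, 2, 0, 7, 6, 5]),
  (false, [6, 5, 4, 3, 1, 2, 0, 3, 2, 4, 3, 1, 5, 4, 3, 6, 5]), (true, [4, 3, 1, 2, 0, 3]), (false, [6, 5, 4, 3, 7, 6, 5]), (false, [6, 5, 4, 3, 1, 2, 7, 6, 5]),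
  (false, []), (false, [6, 5, 4, 3, 1, 2, 3, 4, 5, 6]), (false, [6, 5, 4, 3, 1, 2, 0, 3, 2, 4, 3, 1, 7, 6]), (true, [4, 3, 1, 2, 0, 5, 4, 6, 5, 7, 6]),
  (true, [4, 3, 2, 0, 5, 4, 3, 2]), (false, [6, 5, 4, 3, 1, 2, 0, 3, 4, 5, 6]), (true, [4, 3, 5, 4, 6, 5, 7, 6]), (true, [4, 3, 1, 2, 5, 4, 6, 5, 7, 6]),
  (true, [4, 3, 1, 5, 4, 3]), (true, [4, 3, 2, 5, 4, 3]), (false, [6, 5, 4, 3, 1, 2, 0, 3, 2, 4, 3, 7, 6]), (true, [4, 3, 2, 0, 5, 4, 6, 5, 7, 6]),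
  (false, [6, 5, 4, 3, 1, 2, 0, 3, 2, 4, 5, 6]), (true, [4, 3, 2, 0, 5, 4, 3]), (true, [4, 3, 1, 5, 4, 6, 5, 7, 6]), (true, [4, 3, 2, 5, 4, 6, 5, 7, 6]),
  (false, [6, 5, 7, 6]), (false, [6, 5, 4, 3, 1, 2, 3, 4, 7, 6]), (false, [6, 5, 4, 3, 1, 2, 0, 3, 2, 4, 3, 1, 5, 6]), (true, [4, 3, 1, 2, 0, 5, 4]),
  (true, [4, 3, 2, 0, 5, 4, 3, 2, 6, 5, 7, 6]), (false, [6, 5, 4, 3, 1, 2, 0, 3, 4, 7, 6]), (true, [4, 3, 5, 4]), (true, [4, 3, 1, 2, 5, 4]),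
  (true, [4, 3, 1, 5, 4, 3, 6, 5, 7, 6]), (true, [4, 3, 2, 5, 4, 3, 6, 5, 7, 6]), (false, [6, 5, 4, 3, 1, 2, 0, 3, 2, 4, 3, 5, 6]), (true, [4, 3, 2, 0, 5, 4]),
  (false, [6, 5, 4, 3, 1, 2, 0, 3, 2, 4, 7, 6]), (true, [4, 3, 2, 0, 5, 4, 3, 6, 5, 7, 6]), (true, [4, 3, 1, 5, 4]), (true, [4, 3, 2, 5, 4]),
  (false, [6, 5, 4, 3, 1, 2, 0, 3, 2, 4, 3, 1, 5, 4, 3, 2, 0, 6, 5, 4, 3, 1, 2, 3, 4, 5]), (false, [6, 5, 4, 3, 1, 2, 0, 3, 2, 4, 3, 1, 5, 4, 3, 2, 0, 6]), (true, [4, 3, 2, 0, 5, 4, 3, 2, 6, 5, 4, 3, 1, 7, 6]), (false, [6, 5, 4, 3, 2, 0, 7, 6]),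
  (true, [4, 3, 1, 2, 0, 3, 2, 5]), (false, [6, 5, 4, 3, 1, 2, 0, 3, 2, 4, 3, 1, 5, 4, 3, 2, 6]), (false, [6, 5, 4, 3, 1, 7, 6]), (false, [6, 5, 4, 3, 2, 7, 6]),
  (true, [4, 5]), (true, [4, 3, 1, 2, 3, 5]), (true, [4, 3, 2, 0, 5, 4, 3, 2, 6, 5, 4, 3, 7, 6]), (false, [6, 5, 4, 3, 1, 2, 0, 7, 6]),
  (false, [6, 5, 4, 3, 1, 2, 0, 3, 2, 4, 3, 1, 5, 4, 3, 6]), (true, [4, 3, 1, 2, 0, 3, 5]), (false, [6, 5, 4, 3, 7, 6]), (false, [6, 5, 4, 3, 1, 2, 7, 6]),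
  (true, [4, 3, 1, 5, 4, 3, 6, 5, 4, 7, 6]), (true, [4, 3, 2, 5, 4, 3, 6, 5, 4, 7, 6]), (false, [6, 5, 4, 3, 1, 2, 0, 3, 2, 4, 3, 5, 4, 6]), (true, [4, 3, 2, 0, 5]),
  (false, [6, 5, 4, 3, 1, 2, 0, 3, 2, 7, 6]), (true, [4, 3, 2, 0, 5, 4, 3, 6, 5, 4, 7, 6]), (true, [4, 3, 1, 5]), (true, [4, 3, 2, 5]),
  (false, [6, 5, 4, 7, 6]), (false, [6, 5, 4, 3, 1, 2, 3, 7, 6]), (false, [6, 5, 4, 3, 1, 2, 0, 3, 2, 4, 3, 1, 5, 4, 6]), (true, [4, 3, 1, 2, 0, 5]),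
  (true, [4, 3, 2, 0, 5, 4, 3, 2, 6, 5, 4, 7, 6]), (false, [6, 5, 4, 3, 1, 2, 0, 3, 7, 6]), (true, [4, 3, 5]), (true, [4, 3, 1, 2, 5]),
  (false, [6, 5, 4, 3, 1, 2, 0, 3, 2, 4, 3, 1, 5, 4, 3, 2, 0, 6, 5, 4, 3, 1, 2, 3, 4, 5, 6, 7]), (false, [6, 5, 4, 3, 1, 2, 0, 3, 2, 4, 3, 1, 5, 4, 3, 2, 0, 7]), (true, [4, 3, 2, 0, 5, 4, 3, 2, 6, 5, 4, 3, 1]), (false, [6, 5, 4, 3, 2, 0]),
  (true, [4, 3, 1, 2, 0, 3, 2, 5, 6, 7]), (false, [6, 5, 4, 3, 1, 2, 0, 3, 2, 4, 3, 1, 5, 4, 3, 2, 7]), (false, [6, 5, 4, 3, 1]), (false, [6, 5, 4, 3, 2]),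
  (true, [4, 5, 6, 7]), (true, [4, 3, 1, 2, 3, 5, 6, 7]), (true, [4, 3, 2, 0, 5, 4, 3, 2, 6, 5, 4, 3]), (false, [6, 5, 4, 3, 1, 2, 0]),
  (false, [6, 5, 4, 3, 1, 2, 0, 3, 2, 4, 3, 1, 5, 4, 3, 7]), (true, [4, 3, 1, 2, 0, 3, 5, 6, 7]), (false, [6, 5, 4, 3]), (false, [6, 5, 4, 3, 1, 2]),
  (true, [4, 3, 1, 5, 4, 3, 6, 5, 4]), (true, [4, 3, 2, 5, 4, 3, 6, 5, 4]), (false, [6, 5, 4, 3, 1, 2, 0, 3, 2, 4, 3, 5, 4, 7]), (true, [4, 3, 2, 0, 5, 6, 7]),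
  (false, [6, 5, 4, 3, 1, 2, 0, 3, 2]), (true, [4, 3, 2, 0, 5, 4, 3, 6, 5, 4]), (true, [4, 3, 1, 5, 6, 7]), (true, [4, 3, 2, 5, 6, 7]),
  (false, [6, 5, 4]), (false, [6, 5, 4, 3, 1, 2, 3]), (false, [6, 5, 4, 3, 1, 2, 0, 3, 2, 4, 3, 1, 5, 4, 7]), (true, [4, 3, 1, 2, 0, 5, 6, 7]),
  (true, [4, 3, 2, 0, 5, 4, 3, 2, 6, 5, 4]), (false, [6, 5, 4, 3, 1, 2, 0, 3]), (true, [4, 3, 5, 6, 7]), (true, [4, 3, 1, 2, 5, 6, 7]),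
  (false, [6, 7]), (false, [6, 5, 4, 3, 1, 2, 3, 4, 5, 7]), (false, [6, 5, 4, 3, 1, 2, 0, 3, 2, 4, 3, 1]), (true, [4, 3, 1, 2, 0, 5, 4, 6, 5]),
  (true, [4, 3, 2, 0, 5, 4, 3, 2, 6, 7]), (false, [6, 5, 4, 3, 1, 2, 0, 3, 4, 5, 7]), (true, [4, 3, 5, 4, 6, 5]), (true, [4, 3, 1, 2, 5, 4, 6, 5]),
  (true, [4, 3, 1, 5, 4, 3, 6, 7]), (true, [4, 3, 2, 5, 4, 3, 6, 7]), (false, [6, 5, 4, 3, 1, 2, 0, 3, 2, 4, 3]), (true, [4, 3, 2, 0, 5, 4, 6, 5]),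
  (false, [6, 5, 4, 3, 1, 2, 0, 3, 2, 4, 5, 7]), (true, [4, 3, 2, 0, 5, 4, 3, 6, 7]), (true, [4, 3, 1, 5, 4, 6, 5]), (true, [4, 3, 2, 5, 4, 6, 5]),
  (false, [6, 5]), (false, [6, 5, 4, 3, 1, 2, 3, 4]), (false, [6, 5, 4, 3, 1, 2, 0, 3, 2, 4, 3, 1, 5, 7]), (true, [4, 3, 1, 2, 0, 5, 4, 6, 7]),
  (true, [4, 3, 2, 0, 5, 4, 3, 2, 6, 5]), (false, [6, 5, 4, 3, 1, 2, 0, 3, 4]), (true, [4, 3, 5, 4, 6, 7]), (true, [4, 3, 1, 2, 5, 4, 6, 7]),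
  (true, [4, 3, 1, 5, 4, 3, 6, 5]), (true, [4, 3, 2, 5, 4, 3, 6, 5]), (false, [6, 5, 4, 3, 1, 2, 0, 3, 2, 4, 3, 5, 7]), (true, [4, 3, 2, 0, 5, 4, 6, 7]),
  (false, [6, 5, 4, 3, 1, 2, 0, 3, 2, 4]), (true, [4, 3, 2, 0, 5, 4, 3, 6, 5]), (true, [4, 3, 1, 5, 4, 6, 7]), (true, [4, 3, 2, 5, 4, 6, 7]),
  (false, [6, 5, 4, 3, 1, 2, 0, 3, 2, 4, 3, 1, 5, 4, 3, 2, 0, 6, 5, 4, 3, 1, 2, 3, 4, 5, 6]), (false, [6, 5, 4, 3, 1, 2, 0, 3, 2, 4, 3, 1, 5, 4, 3, 2, 0]), (true, [4, 3, 2, 0, 5, 4, 3, 2, 6, 5, 4, 3, 1, 7]), (false, [6, 5, 4, 3, 2, 0, 7]),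
  (true, [4, 3, 1, 2, 0, 3, 2, 5, 6]), (false, [6, 5, 4, 3, 1, 2, 0, 3, 2, 4, 3, 1, 5, 4, 3, 2]), (false, [6, 5, 4, 3, 1, 7]), (false, [6, 5, 4, 3, 2, 7]),
  (true, [4, 5, 6]), (true, [4, 3, 1, 2, 3, 5, 6]), (true, [4, 3, 2, 0, 5, 4, 3, 2, 6, 5, 4, 3, 7]), (false, [6, 5, 4, 3, 1, 2, 0, 7]),
  (false, [6, 5, 4, 3, 1, 2, 0, 3, 2, 4, 3, 1, 5, 4, 3]), (true, [4, 3, 1, 2, 0, 3, 5, 6]), (false, [6, 5, 4, 3, 7]), (false, [6, 5, 4, 3, 1, 2, 7]),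
  (true, [4, 3, 1, 5, 4, 3, 6, 5, 4, 7]), (true, [4, 3, 2, 5, 4, 3, 6, 5, 4, 7]), (false, [6, 5, 4, 3, 1, 2, 0, 3, 2, 4, 3, 5, 4]), (true, [4, 3, 2, 0, 5, 6]),
  (false, [6, 5, 4, 3, 1, 2, 0, 3, 2, 7]), (true, [4, 3, 2, 0, 5, 4, 3, 6, 5, 4, 7]), (true, [4, 3, 1, 5, 6]), (true, [4, 3, 2, 5, 6]),
  (false, [6, 5, 4, 7]), (false, [6, 5, 4, 3, 1, 2, 3, 7]), (false, [6, 5, 4, 3, 1, 2, 0, 3, 2, 4, 3, 1, 5, 4]), (true, [4, 3, 1, 2, 0, 5, 6]),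
  (true, [4, 3, 2, 0, 5, 4, 3, 2, 6, 5, 4, 7]), (false, [6, 5, 4, 3, 1, 2, 0, 3, 7]), (true, [4, 3, 5, 6]), (true, [4, 3, 1, 2, 5, 6]),
  (false, [6]), (false, [6, 5, 4, 3, 1, 2, 3, 4, 5]), (false, [6, 5, 4, 3, 1, 2, 0, 3, 2, 4, 3, 1, 7]), (true, [4, 3, 1, 2, 0, 5, 4, 6, 5, 7]),
  (true, [4, 3, 2, 0, 5, 4, 3, 2, 6]), (false, [6, 5, 4, 3, 1, 2, 0, 3, 4, 5]), (true, [4, 3, 5, 4, 6, 5, 7]), (true, [4, 3, 1, 2, 5, 4, 6, 5, 7]),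
  (true, [4, 3, 1, 5, 4, 3, 6]), (true, [4, 3, 2, 5, 4, 3, 6]), (false, [6, 5, 4, 3, 1, 2, 0, 3, 2, 4, 3, 7]), (true, [4, 3, 2, 0, 5, 4, 6, 5, 7]),
  (false, [6, 5, 4, 3, 1, 2, 0, 3, 2, 4, 5]), (true, [4, 3, 2, 0, 5, 4, 3, 6]), (true, [4, 3, 1, 5, 4, 6, 5, 7]), (true, [4, 3, 2, 5, 4, 6, 5, 7]),
  (false, [6, 5, 7]), (false, [6, 5, 4, 3, 1, 2, 3, 4, 7]), (false, [6, 5, 4, 3, 1, 2, 0, 3, 2, 4, 3, 1, 5]), (true, [4, 3, 1, 2, 0, 5, 4, 6]),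
  (true, [4, 3, 2, 0, 5, 4, 3, 2, 6, 5, 7]), (false, [6, 5, 4, 3, 1, 2, 0, 3, 4, 7]), (true, [4, 3, 5, 4, 6]), (true, [4, 3, 1, 2, 5, 4, 6]),
  (true, [4, 3, 1, 5, 4, 3, 6, 5, 7]), (true, [4, 3, 2, 5, 4, 3, 6, 5, 7]), (false, [6, 5, 4, 3, 1, 2, 0, 3, 2, 4, 3, 5]), (true, [4, 3, 2, 0, 5, 4, 6]),
  (false, [6, 5, 4, 3, 1, 2, 0, 3, 2, 4, 7]), (true, [4, 3, 2, 0, 5, 4, 3, 6, 5, 7]), (true, [4, 3, 1, 5, 4, 6]), (true, [4, 3, 2, 5, 4, 6])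
]

def tab (m : ℕ) : Bool × List ℕ := tabL.getD m (false, [])

def maskOf (b0 b1 b2 b3 b4 b5 b6 b7 : Bool) : ℕ :=
  (bif b0 then 1 else 0) + (bif b1 then 2 else 0) + (bif b2 then 4 else 0) + (bif b3 then 8 else 0) +
  (bif b4 then 16 else 0) + (bif b5 then 32 else 0) + (bif b6 then 64 else 0) + (bif b7 then 128 else 0)

/-- the Boolean certificate -/
theorem tab_ok : ∀ b0 b1 b2 b3 b4 b5 b6 b7 : Bool, (b0 || b1 || b2 || b3 || b4 || b5 || b6 || b7) = true →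
    (∀ i ∈ (tab (maskOf b0 b1 b2 b3 b4 b5 b6 b7)).2, i < 8) ∧
    ∀ j < 8, sgnB (kap (tab (maskOf b0 b1 b2 b3 b4 b5 b6 b7)).1
      (fdE8.wordP fxE8 (tab (maskOf b0 b1 b2 b3 b4 b5 b6 b7)).2 (fdE8.simples.getD j 0))) =
        [b0, b1, b2, b3, b4, b5, b6, b7].getD j false := by
  decide +kernel

/-- **E8ODD H2ORB**: an involution of the torus of `E₈(F)` is `N`-conjugate to `zS F` or to `zT F`. -/
theorem H2_conj (F : Type*) [Field F] (h : GL chevE8.Idx F) (hh : h ∈ chevE8.diagonalSubgroup F)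
    (h2 : h * h = 1) (h1 : h ≠ 1) :
    ∃ n ∈ chevE8.monomialSubgroup F, n * h * n⁻¹ = zS F ∨ n * h * n⁻¹ = zT F := by
  have hsq : ∀ j < fdE8.l, ∃ b : Bool, dE chevE8 h (fdE8.simples.getD j 0) = sgnC F b := by
    intro j hj
    have hs := cert12_E8.c6.c2.simple_lt j hj
    have := cert12_E8.dE_mul h h hh hh _ hs
    rw [h2, cert12_E8.dE_one] at this
    rcases mul_self_eq_one_iff.mp this.symm with e | e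
    · exact ⟨false, e⟩
    · exact ⟨true, e⟩
  obtain ⟨b0, e0⟩ := hsq 0 (by decide)
  obtain ⟨b1, e1⟩ := hsq 1 (by decide)
  obtain ⟨b2, e2⟩ := hsq 2 (by decide)
  obtain ⟨b3, e3⟩ := hsq 3 (by decide)
  obtain ⟨b4, e4⟩ := hsq 4 (by decide)
  obtain ⟨b5, e5⟩ := hsq 5 (by decide)
  obtain ⟨b6, e6⟩ := hsq 6 (by decide)
  obtain ⟨b7, e7⟩ := hsq 7 (by decide)
  have hall : ∀ j < fdE8.l, dE chevE8 h (fdE8.simples.getD j 0) =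
      sgnC F ([b0, b1, b2, b3, b4, b5, b6, b7].getD j false) := by
    intro j hj
    have hj' : j < 8 := hj
    interval_cases j
    · exact e0
    · exact e1
    · exact e2
    · exact e3
    · exact e4
    · exact e5
    · exact e6
    · exact e7
  by_cases hne : (b0 || b1 || b2 || b3 || b4 || b5 || b6 || b7) = true
  · obtain ⟨hwd, hpar⟩ := tab_ok b0 b1 b2 b3 b4 b5 b6 b7 hne
    obtain ⟨n, hn, hc⟩ := conj_of_signs (F := F) (tab (maskOf b0 b1 b2 b3 b4 b5 b6 b7)).1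
      (tab (maskOf b0 b1 b2 b3 b4 b5 b6 b7)).2 hwd h hh (by
        intro j hj
        rw [hall j hj, hpar j hj])
    refine ⟨n, hn, ?_⟩
    cases hS : (tab (maskOf b0 b1 b2 b3 b4 b5 b6 b7)).1
    · right
      rw [hc, hS]; rfl
    · left
      rw [hc, hS]; rfl
  · exfalso
    have hf : (b0 || b1 || b2 || b3 || b4 || b5 || b6 || b7) = false := by
      simpa using hne
    simp only [Bool.or_eq_false_iff] at hf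
    obtain ⟨⟨⟨⟨⟨⟨⟨f0, f1⟩, f2⟩, f3⟩, f4⟩, f5⟩, f6⟩, f7⟩ := hf
    subst f0 f1 f2 f3 f4 f5 f6 f7
    apply h1
    apply cert12_E8.diag_ext h 1 hh (one_mem _)
    intro j hj
    rw [cert12_E8.dE_one, hall j hj]
    have hj' : j < 8 := hj
    interval_cases j <;> rfl

end Cfsg.Agent.Lib.H21.E8Odd
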