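/-
S5630 (Aschbacher, linear case), module M8.2 (helper21 for helper26): the case `t = 1` of the
components: residual class, or class 5 / class 8.
-/
import Cfsg.Agent.Lib.H26.AschM8Defs
import Cfsg.Agent.Lib.Lead.AschDefs2
import Cfsg.Agent.Lib.H17.AschU2
import Cfsg.Agent.Lib.H6.AschU3a
import Cfsg.Agent.Lib.H3.AschU67

set_option autoImplicit false

namespace Cfsg.Agent.Lib.H21.Asch

open Cfsg Cfsg.Geo Cfsg.Agent.Lib.Lead.Asch Cfsg.Agent.Lib.H26.Asch
open scoped MatrixGroups Matrix Kronecker commutatorElement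

/-- scalar matrices are central in `GL`. -/
theorem scalars_comm_all {ι : Type} [Fintype ι] [DecidableEq ι] {K : Type*} [Field K]
    (z : GL ι K) (hz : z ∈ scalars ι K) (g : GL ι K) : z * g = g * z := by
  rw [mem_scalars_iff] at hz
  obtain ⟨c, hc⟩ := hz
  apply Units.ext
  simp only [Units.val_mul, hc]
  simp

/-- If `h x h⁻¹ x⁻¹` is a scalar for all `x` in a perfect subgroup `P`, then `h` centralises `P`. -/
theorem commute_of_commutator_scalar {ι : Type} [Fintype ι] [DecidableEq ι] {K : Type*} [Field K]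
    (P : Subgroup (GL ι K)) (hperf : ⁅P, P⁆ = P) (h : GL ι K)
    (hh : ∀ x ∈ P, h * x * h⁻¹ * x⁻¹ ∈ scalars ι K) : ∀ x ∈ P, h * x = x * h := by
  have hle : ⁅P, P⁆ ≤ Subgroup.centralizer {h} := by
    rw [Subgroup.commutator_le]
    intro x hx y hy
    rw [Subgroup.mem_centralizer_iff]
    intro k hk
    rw [Set.mem_singleton_iff] at hk
    subst hk
    -- `k x k⁻¹ = c x`, `k y k⁻¹ = d y` with `c`, `d` central
    set c := k * x * k⁻¹ * x⁻¹ with hc
    set d := k * y * k⁻¹ * y⁻¹ with hd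
    have hcz : ∀ g, c * g = g * c := scalars_comm_all c (hh x hx)
    have hdz : ∀ g, d * g = g * d := scalars_comm_all d (hh y hy)
    have hx' : k * x * k⁻¹ = c * x := by rw [hc]; group
    have hy' : k * y * k⁻¹ = d * y := by rw [hd]; group
    have hcinv : ∀ g, c⁻¹ * g = g * c⁻¹ := by
      intro g
      have := hcz (c⁻¹ * g * c⁻¹)
      have h1 : c * (c⁻¹ * g * c⁻¹) = g * c⁻¹ := by group
      have h2 : c⁻¹ * g * c⁻¹ * c = c⁻¹ * g := by group
      rw [h1, h2] at this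
      exact this.symm
    have hdinv : ∀ g, d⁻¹ * g = g * d⁻¹ := by
      intro g
      have := hdz (d⁻¹ * g * d⁻¹)
      have h1 : d * (d⁻¹ * g * d⁻¹) = g * d⁻¹ := by group
      have h2 : d⁻¹ * g * d⁻¹ * d = d⁻¹ * g := by group
      rw [h1, h2] at this
      exact this.symm
    have key : k * ⁅x, y⁆ * k⁻¹ = ⁅x, y⁆ := by
      have e1 : k * ⁅x, y⁆ * k⁻¹ = ⁅k * x * k⁻¹, k * y * k⁻¹⁆ := by
        simp only [commutatorElement_def]; group
      rw [e1, hx', hy']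
      simp only [commutatorElement_def, mul_inv_rev]
      -- (c x) (d y) (x⁻¹ c⁻¹) (y⁻¹ d⁻¹) = x y x⁻¹ y⁻¹
      calc c * x * (d * y) * (x⁻¹ * c⁻¹) * (y⁻¹ * d⁻¹)
          = c * x * (d * y) * (c⁻¹ * x⁻¹) * (d⁻¹ * y⁻¹) := by rw [hcinv x⁻¹, hdinv y⁻¹]
        _ = c * (x * d) * y * c⁻¹ * x⁻¹ * d⁻¹ * y⁻¹ := by group
        _ = c * (d * x) * y * c⁻¹ * x⁻¹ * d⁻¹ * y⁻¹ := by rw [hdz x]
        _ = c * d * (x * y * c⁻¹) * x⁻¹ * d⁻¹ * y⁻¹ := by group
        _ = c * d * (c⁻¹ * (x * y)) * x⁻¹ * d⁻¹ * y⁻¹ := by rw [hcinv (x * y)]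
        _ = c * (d * c⁻¹) * x * y * (x⁻¹ * d⁻¹) * y⁻¹ := by group
        _ = c * (c⁻¹ * d) * x * y * (d⁻¹ * x⁻¹) * y⁻¹ := by rw [hcinv d, hdinv x⁻¹]
        _ = d * (x * y * d⁻¹) * x⁻¹ * y⁻¹ := by group
        _ = d * (d⁻¹ * (x * y)) * x⁻¹ * y⁻¹ := by rw [hdinv (x * y)]
        _ = x * y * x⁻¹ * y⁻¹ := by group
    calc k * ⁅x, y⁆ = k * ⁅x, y⁆ * k⁻¹ * k := by group
      _ = ⁅x, y⁆ * k := by rw [key]
  intro x hx
  have hx2 : x ∈ ⁅P, P⁆ := by rw [hperf]; exact hx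
  have := hle hx2
  rw [Subgroup.mem_centralizer_iff] at this
  exact this h rfl

variable {F : Type*} [Field F] [Fintype F] {n : ℕ}

/-- **M8.2** (t = 1: residual class, or C5 / C8). -/
theorem residual_of_components_one (hn : 3 ≤ n) (H : Subgroup (GL (Fin n) F)) (hgood : Good H)
    (L : Fin 1 → Subgroup (GL (Fin n) F)) (hL : Components H 1 L) :
    (TameC5 H ∨ TameC8 H) ∨ InLinearResidualClass H := by
  have hnorm : NormalizedBy H (L 0) := by
    intro h hh x hx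
    obtain ⟨σ, hσ⟩ := hL.perm h hh
    have h0 : (L 0).map (MulAut.conj h).toMonoidHom = L 0 := by
      rw [hσ 0]
      congr 1
      exact Subsingleton.elim _ _
    rw [← h0]
    exact ⟨x, hx, by simp [MulAut.conj_apply]⟩
  have habs : ActsAbsolutelyIrreducibly (matrixSet (L 0)) :=
    (hgood.star (L 0) (hL.le 0) hnorm).resolve_left (hL.not_scal 0)
  by_cases h5 : ∃ F₀ : Subfield F, F₀ ≠ ⊤ ∧ RealisableOver F₀ (matrixSet (L 0))
  · obtain ⟨F₀, hne, hreal⟩ := h5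
    exact Or.inl (Or.inl
      (Cfsg.Agent.Lib.H17.Asch.tame_of_realisable H (L 0) hnorm habs F₀ hne hreal))
  by_cases hq : ∃ Q : (Fin n → F) → F, IsNondegenerateQuadraticForm Q ∧
      FixesQuadForm (matrixSet (L 0)) Q
  · obtain ⟨Q, hQ, hfix⟩ := hq
    exact Or.inl (Or.inr
      (Cfsg.Agent.Lib.H6.Asch.tame_of_fixes_quad hn H (L 0) hnorm habs Q hQ hfix))
  by_cases hs : ∃ f : (Fin n → F) → (Fin n → F) → F, IsSymplecticForm f ∧
      FixesForm (matrixSet (L 0)) f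
  · obtain ⟨f, hf, hfix⟩ := hs
    exact Or.inl (Or.inr
      (Cfsg.Agent.Lib.H6.Asch.tame_of_fixes_symplectic hn H (L 0) hnorm habs f hf hfix))
  by_cases hu : ∃ (σ : F ≃+* F) (f : (Fin n → F) → (Fin n → F) → F), IsUnitaryForm σ f ∧
      FixesForm (matrixSet (L 0)) f
  · obtain ⟨σ, f, hf, hfix⟩ := hu
    exact Or.inl (Or.inr
      (Cfsg.Agent.Lib.H6.Asch.tame_of_fixes_unitary hn H (L 0) hnorm habs σ f hf hfix))
  refine Or.inr ⟨L 0, ⟨hL.le 0, hnorm, hL.perfect 0, hL.simple 0, hL.nonab 0, ?_, habs, ?_⟩,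
    hq, hs, hu⟩
  · intro h _ hcomm
    exact Cfsg.Agent.Lib.H3.Asch.mem_scalars_of_absIrr_of_commute (L 0) habs h
      (commute_of_commutator_scalar (L 0) (hL.perfect 0) h hcomm)
  · intro F₀ hne hreal
    exact h5 ⟨F₀, hne, hreal⟩

end Cfsg.Agent.Lib.H21.Asch
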