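/-
Orthogonal Phase 2 (helper21): O2-F2, the degree of a field subalgebra divides the dimension
(general finite index type; from helper4's `dvd_finrank_of_KInv`).
-/
import Cfsg.Agent.Lib.H4.AschSP2F3

set_option autoImplicit false

namespace Cfsg.Agent.Lib.H21.OP2

open Cfsg Cfsg.Geo
open scoped MatrixGroups Matrix Kronecker

variable {F : Type*} [Field F] [Fintype F]

/-- **O2-F2**. -/
theorem dvd_card_of_isFieldSubalgebra {ι : Type} [Fintype ι] [DecidableEq ι] [Nonempty ι] (r : ℕ)
    (K : Subalgebra F (Matrix ι ι F)) (hK : IsFieldSubalgebra r K) : r ∣ Fintype.card ι := by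
  have h := Cfsg.Agent.Lib.H4.AschSP2.dvd_finrank_of_KInv r K hK ⊤ (fun _ _ _ _ => Submodule.mem_top)
  rwa [finrank_top, Module.finrank_fintype_fun_eq_card] at h

end Cfsg.Agent.Lib.H21.OP2
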