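/-
Orthogonal Phase 2 (rows S5814, S5835, S5859; helper21), tool O2-T: explicit long root elements of
`Ω = omegaGL (quadFormOdd m F)`:  `1 + c • rootN m F i j ∈ Ω` for all `c` (`i ≠ j`), `rootN * rootN = 0`.
-/
import Mathlib
import Cfsg.Prelude.Def_GeometricClasses

set_option autoImplicit false

namespace Cfsg.Agent.Lib.H21.OP2

open Cfsg Cfsg.Geo
open scoped MatrixGroups Matrix Kronecker commutatorElement

variable {F : Type*} [Field F]

/-! ### generalities on `isometryGroup` / `omegaGL` for a form given as a function -/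

theorem mem_isometryGroup_iff' {ι : Type} [Fintype ι] [DecidableEq ι] (Q : (ι → F) → F) (g : GL ι F) :
    g ∈ isometryGroup F Q ↔ ∀ x, Q ((g : Matrix ι ι F) *ᵥ x) = Q x := by
  constructor
  · intro h x
    exact h x x
  · intro h x _
    exact h x

theorem mem_omegaGL_of_commutator' {ι : Type} [Fintype ι] [DecidableEq ι] (Q : (ι → F) → F)
    {g h : GL ι F} (hg : g ∈ isometryGroup F Q) (hh : h ∈ isometryGroup F Q) :
    g * h * g⁻¹ * h⁻¹ ∈ omegaGL Q := by
  refine ⟨⁅(⟨g, hg⟩ : ↥(isometryGroup F Q)), (⟨h, hh⟩ : ↥(isometryGroup F Q))⁆, ?_, ?_⟩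
  · exact Subgroup.commutator_mem_commutator (Subgroup.mem_top _) (Subgroup.mem_top _)
  · rfl

theorem omegaGL_le_isometryGroup' {ι : Type} [Fintype ι] [DecidableEq ι] (Q : (ι → F) → F) :
    omegaGL Q ≤ isometryGroup F Q := by
  rintro g ⟨x, -, rfl⟩
  exact x.2

/-! ### the nilpotent matrix -/

/-- `N x = x(inr j) e_{inl i} - x(inr i) e_{inl j}`. -/
def rootN (m : ℕ) (F : Type*) [Field F] (i j : Fin m) :
    Matrix (Unit ⊕ (Fin m ⊕ Fin m)) (Unit ⊕ (Fin m ⊕ Fin m)) F :=
  Matrix.single (Sum.inr (Sum.inl i)) (Sum.inr (Sum.inr j)) 1 -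
    Matrix.single (Sum.inr (Sum.inl j)) (Sum.inr (Sum.inr i)) 1

theorem rootN_mulVec (m : ℕ) (i j : Fin m) (x : Unit ⊕ (Fin m ⊕ Fin m) → F) :
    rootN m F i j *ᵥ x = x (Sum.inr (Sum.inr j)) • Pi.single (Sum.inr (Sum.inl i)) (1 : F) -
      x (Sum.inr (Sum.inr i)) • Pi.single (Sum.inr (Sum.inl j)) (1 : F) := by
  rw [rootN, Matrix.sub_mulVec, Matrix.single_mulVec_eq, Matrix.single_mulVec_eq, one_mul, one_mul]

theorem rootN_mulVec_inr_inr (m : ℕ) (i j l : Fin m) (x : Unit ⊕ (Fin m ⊕ Fin m) → F) :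
    (rootN m F i j *ᵥ x) (Sum.inr (Sum.inr l)) = 0 := by
  rw [rootN_mulVec]
  simp [Pi.single_apply]

theorem rootN_mul_self (m : ℕ) (i j : Fin m) : rootN m F i j * rootN m F i j = 0 := by
  apply Matrix.ext_iff_mulVec.mpr
  intro x
  rw [← Matrix.mulVec_mulVec, rootN_mulVec (x := rootN m F i j *ᵥ x), rootN_mulVec_inr_inr,
    rootN_mulVec_inr_inr]
  simp

theorem rootN_ne_zero (m : ℕ) (i j : Fin m) (hij : i ≠ j) : rootN m F i j ≠ 0 := by
  intro h
  have h1 := congrFun (congrFun h (Sum.inr (Sum.inl i))) (Sum.inr (Sum.inr j))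
  simp only [rootN, Matrix.sub_apply, Matrix.single_apply, Matrix.zero_apply] at h1
  simp [hij] at h1

/-- the unipotent element `1 + c • N` of `GL`. -/
def rootG (m : ℕ) (i j : Fin m) (c : F) : GL (Unit ⊕ (Fin m ⊕ Fin m)) F :=
  ⟨1 + c • rootN m F i j, 1 - c • rootN m F i j,
    by
      have h := rootN_mul_self (F := F) m i j
      rw [add_mul, one_mul, mul_sub, mul_one, smul_mul_smul_comm, h, smul_zero]; abel,
    by
      have h := rootN_mul_self (F := F) m i j
      rw [sub_mul, one_mul, mul_add, mul_one, smul_mul_smul_comm, h, smul_zero]; abel⟩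

@[simp] theorem rootG_val (m : ℕ) (i j : Fin m) (c : F) :
    (rootG m i j c : Matrix (Unit ⊕ (Fin m ⊕ Fin m)) (Unit ⊕ (Fin m ⊕ Fin m)) F) = 1 + c • rootN m F i j := rfl

theorem rootG_mul (m : ℕ) (i j : Fin m) (c d : F) : rootG m i j c * rootG m i j d = rootG m i j (c + d) := by
  apply Units.ext
  have h := rootN_mul_self (F := F) m i j
  simp only [Units.val_mul, rootG_val]
  rw [add_mul, one_mul, mul_add, mul_one, smul_mul_smul_comm, h, smul_zero, add_smul]
  abel

theorem rootG_zero (m : ℕ) (i j : Fin m) : rootG m i j (0 : F) = 1 := by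
  apply Units.ext
  simp

theorem rootG_inv (m : ℕ) (i j : Fin m) (c : F) : (rootG m i j c)⁻¹ = rootG m i j (-c) := by
  rw [inv_eq_iff_mul_eq_one, rootG_mul, add_neg_cancel, rootG_zero]

theorem rootG_mulVec (m : ℕ) (i j : Fin m) (c : F) (x : Unit ⊕ (Fin m ⊕ Fin m) → F) :
    (rootG m i j c : Matrix (Unit ⊕ (Fin m ⊕ Fin m)) (Unit ⊕ (Fin m ⊕ Fin m)) F) *ᵥ x =
      x + c • (x (Sum.inr (Sum.inr j)) • Pi.single (Sum.inr (Sum.inl i)) (1 : F) -
        x (Sum.inr (Sum.inr i)) • Pi.single (Sum.inr (Sum.inl j)) (1 : F)) := by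
  rw [rootG_val, Matrix.add_mulVec, Matrix.one_mulVec, Matrix.smul_mulVec, rootN_mulVec]

theorem rootG_mem_isometryGroup (m : ℕ) (i j : Fin m) (hij : i ≠ j) (c : F) :
    rootG m i j c ∈ isometryGroup F (quadFormOdd m F) := by
  rw [mem_isometryGroup_iff']
  intro x
  rw [rootG_mulVec]
  unfold quadFormOdd
  simp only [Pi.add_apply, Pi.smul_apply, Pi.sub_apply, Pi.single_apply, smul_eq_mul, reduceCtorEq,
    if_false, mul_zero, sub_zero, add_zero, Sum.inr.injEq, Sum.inl.injEq]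
  congr 1
  have : ∀ l : Fin m, (x (Sum.inr (Sum.inl l)) + c * (x (Sum.inr (Sum.inr j)) * (if l = i then 1 else 0) -
        x (Sum.inr (Sum.inr i)) * (if l = j then 1 else 0))) * x (Sum.inr (Sum.inr l)) =
      x (Sum.inr (Sum.inl l)) * x (Sum.inr (Sum.inr l)) +
        (if l = i then c * x (Sum.inr (Sum.inr j)) * x (Sum.inr (Sum.inr l)) else 0) -
        (if l = j then c * x (Sum.inr (Sum.inr i)) * x (Sum.inr (Sum.inr l)) else 0) := by
    intro l
    split_ifs <;> ring
  simp only [this]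
  rw [Finset.sum_sub_distrib, Finset.sum_add_distrib, Finset.sum_ite_eq' Finset.univ i,
    Finset.sum_ite_eq' Finset.univ j]
  simp only [Finset.mem_univ, if_true]
  ring

/-- the torus element `diag(2 at inl i, 2⁻¹ at inr i, 1 elsewhere)`. -/
def torD (m : ℕ) (F : Type*) [Field F] (i : Fin m) (a : F) : Unit ⊕ (Fin m ⊕ Fin m) → F
  | Sum.inl _ => 1
  | Sum.inr (Sum.inl l) => if l = i then a else 1
  | Sum.inr (Sum.inr l) => if l = i then a⁻¹ else 1

theorem torD_mul (m : ℕ) (i : Fin m) (a : F) (ha : a ≠ 0) (x : Unit ⊕ (Fin m ⊕ Fin m)) :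
    torD m F i a x * torD m F i a⁻¹ x = 1 := by
  rcases x with _ | l | l <;> simp only [torD]
  · simp
  · split_ifs
    · exact mul_inv_cancel₀ ha
    · simp
  · split_ifs
    · rw [inv_inv]; exact inv_mul_cancel₀ ha
    · simp

/-- the torus element as an element of `GL`. -/
def torG (m : ℕ) (i : Fin m) (a : F) (ha : a ≠ 0) : GL (Unit ⊕ (Fin m ⊕ Fin m)) F :=
  ⟨Matrix.diagonal (torD m F i a), Matrix.diagonal (torD m F i a⁻¹),
    by
      rw [Matrix.diagonal_mul_diagonal, ← Matrix.diagonal_one]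
      congr 1
      funext x
      exact torD_mul m i a ha x,
    by
      rw [Matrix.diagonal_mul_diagonal, ← Matrix.diagonal_one]
      congr 1
      funext x
      rw [mul_comm]
      exact torD_mul m i a ha x⟩

theorem torG_mulVec (m : ℕ) (i : Fin m) (a : F) (ha : a ≠ 0) (x : Unit ⊕ (Fin m ⊕ Fin m) → F)
    (y : Unit ⊕ (Fin m ⊕ Fin m)) :
    ((torG m i a ha : Matrix (Unit ⊕ (Fin m ⊕ Fin m)) (Unit ⊕ (Fin m ⊕ Fin m)) F) *ᵥ x) y =
      torD m F i a y * x y := by
  change (Matrix.diagonal (torD m F i a) *ᵥ x) y = _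
  rw [Matrix.mulVec_diagonal]

theorem torG_mem_isometryGroup (m : ℕ) (i : Fin m) (a : F) (ha : a ≠ 0) :
    torG m i a ha ∈ isometryGroup F (quadFormOdd m F) := by
  rw [mem_isometryGroup_iff']
  intro x
  unfold quadFormOdd
  simp only [torG_mulVec, torD, one_mul]
  congr 1
  apply Finset.sum_congr rfl
  intro l _
  split_ifs
  · field_simp
  · ring

/-- conjugating the root element by the torus element scales the parameter. -/
theorem torG_mul_rootG (m : ℕ) (i j : Fin m) (hij : i ≠ j) (a : F) (ha : a ≠ 0) (c : F) :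
    torG m i a ha * rootG m i j c = rootG m i j (a * c) * torG m i a ha := by
  apply Units.ext
  apply Matrix.ext_iff_mulVec.mpr
  intro x
  simp only [Units.val_mul]
  rw [← Matrix.mulVec_mulVec, ← Matrix.mulVec_mulVec]
  funext y
  rw [torG_mulVec, rootG_mulVec, rootG_mulVec]
  simp only [Pi.add_apply, Pi.smul_apply, Pi.sub_apply, smul_eq_mul, torG_mulVec, Pi.single_apply]
  rcases y with _ | l | l
  · simp [torD]
  · simp only [torD, Sum.inr.injEq, Sum.inl.injEq, reduceCtorEq, if_false]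
    have hji : ¬ j = i := fun h => hij h.symm
    by_cases h1 : l = i
    · subst h1
      simp [hij, hji]
      ring
    · by_cases h2 : l = j
      · subst h2
        simp [hji]
        field_simp
      · simp [h1, h2]
  · simp only [torD, Sum.inr.injEq, reduceCtorEq, if_false]
    simp

/-- **O2-T**: the long root elements `1 + c • N` lie in `Ω`. -/
theorem rootG_mem_omegaGL (h2 : (2 : F) ≠ 0) (m : ℕ) (i j : Fin m) (hij : i ≠ j) (c : F) :
    rootG m i j c ∈ omegaGL (quadFormOdd m F) := by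
  have hc := mem_omegaGL_of_commutator' (quadFormOdd m F) (torG_mem_isometryGroup m i (2 : F) h2)
    (rootG_mem_isometryGroup m i j hij c)
  have e : torG m i (2 : F) h2 * rootG m i j c * (torG m i (2 : F) h2)⁻¹ * (rootG m i j c)⁻¹ =
      rootG m i j c := by
    rw [torG_mul_rootG m i j hij, mul_assoc (rootG m i j (2 * c)), mul_inv_cancel, mul_one, rootG_inv,
      rootG_mul]
    congr 1
    ring
  rwa [e] at hc

theorem two_ne_zero_of_odd_card [Fintype F] (hodd : Odd (Fintype.card F)) : (2 : F) ≠ 0 := by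
  intro h0
  have h1 : ringChar F = 2 := CharP.ringChar_of_prime_eq_zero Nat.prime_two (by exact_mod_cast h0)
  rw [FiniteField.even_card_iff_char_two] at h1
  rw [Nat.odd_iff] at hodd
  omega

theorem exists_root_mem_omegaGL [Fintype F] (hodd : Odd (Fintype.card F)) (m : ℕ) (i j : Fin m) (hij : i ≠ j)
    (c : F) :
    ∃ g ∈ omegaGL (quadFormOdd m F),
      (g : Matrix (Unit ⊕ (Fin m ⊕ Fin m)) (Unit ⊕ (Fin m ⊕ Fin m)) F) = 1 + c • rootN m F i j :=
  ⟨rootG m i j c, rootG_mem_omegaGL (two_ne_zero_of_odd_card hodd) m i j hij c, rfl⟩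

end Cfsg.Agent.Lib.H21.OP2
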