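import Cfsg.Agent.Lib.H13.HSDefs

/-!
# S2536 piece P8 (architect helper13): `intrans_numeric`, modulo the binomial lemma `L1`
(taken as a hypothesis in `intrans_numeric_of`).
-/

set_option autoImplicit false

namespace Cfsg.Agent.Lib.H21.HS
open Equiv MulAction Cfsg.Agent.Lib.H13.HS
open scoped Pointwise

/-- a prime `s` with `m < s ≤ m + a` and `a ≤ m` divides `C(m+a, a)`. -/
theorem p8_prime_dvd_choose {m a s : ℕ} (hs : s.Prime) (ham : a ≤ m) (h1 : m < s) (h2 : s ≤ m + a) :
    s ∣ (m + a).choose a := by
  have hfac : (m + a).choose a * a.factorial * m.factorial = (m + a).factorial := by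
    have := Nat.choose_mul_factorial_mul_factorial (Nat.le_add_left a m)
    rwa [Nat.add_sub_cancel] at this
  have hd : s ∣ (m + a).factorial := (Nat.Prime.dvd_factorial hs).2 h2
  rw [← hfac] at hd
  rcases (Nat.Prime.dvd_mul hs).1 hd with h | h
  · rcases (Nat.Prime.dvd_mul hs).1 h with h | h
    · exact h
    · exact absurd ((Nat.Prime.dvd_factorial hs).1 h) (by omega)
  · exact absurd ((Nat.Prime.dvd_factorial hs).1 h) (by omega)

/-- Lucas: a prime `m > a` does not divide `C(m+a, a)`. -/
theorem p8_not_dvd_choose {m a : ℕ} (hm : m.Prime) (ham : a < m) : ¬ m ∣ (m + a).choose a := by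
  haveI : Fact m.Prime := ⟨hm⟩
  have h := Choose.choose_modEq_choose_mod_mul_choose_div_nat (n := m + a) (k := a) (p := m)
  have e1 : (m + a) % m = a := by rw [Nat.add_mod_left, Nat.mod_eq_of_lt ham]
  have e2 : a % m = a := Nat.mod_eq_of_lt ham
  have e3 : (m + a) / m = 1 := by
    rw [Nat.add_div_left _ hm.pos, Nat.div_eq_of_lt ham]
  have e4 : a / m = 0 := Nat.div_eq_of_lt ham
  rw [e1, e2, e3, e4, Nat.choose_self, Nat.choose_zero_right, mul_one] at h
  intro hd
  have h0 : (m + a).choose a ≡ 0 [MOD m] := (Nat.modEq_zero_iff_dvd).2 hd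
  have h10 : 1 ≡ 0 [MOD m] := h.symm.trans h0
  have := (Nat.modEq_zero_iff_dvd).1 h10
  exact hm.one_lt.ne' (Nat.dvd_one.1 this)

/-- a number `n ≥ 2` not divisible by any prime `≤ n - 1` is prime. -/
theorem p8_prime_of_no_small {n : ℕ} (hn : 2 ≤ n) (h : ∀ l : ℕ, l.Prime → l ≤ n - 1 → ¬ l ∣ n) :
    n.Prime := by
  have hne : n ≠ 1 := by omega
  obtain ⟨p, hp, hpn⟩ := Nat.exists_prime_and_dvd hne
  have hle : p ≤ n := Nat.le_of_dvd (by omega) hpn
  by_cases hpe : p = n
  · rwa [hpe] at hp
  · exact absurd hpn (h p hp (by omega))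

theorem p8_small_cases {m a : ℕ} (hm : m = 7 ∨ m = 8) (ha1 : 1 ≤ a) (ham : a ≤ m) :
    2 ∣ (m + a).choose a ∨ 3 ∣ (m + a).choose a := by
  rcases hm with rfl | rfl
  · interval_cases a <;> simp [Nat.choose] <;> omega
  · interval_cases a <;> simp [Nat.choose] <;> omega

/-- **P8**, with `L1` as a hypothesis. -/
theorem intrans_numeric_of
    (hL1 : ∀ {n a : ℕ}, 2 ≤ a → 2 * a ≤ n →
      (∀ l : ℕ, l.Prime → l ≤ n - a → ¬ l ∣ n.choose a) → n = 7 ∧ a = 3)
    {π : Set ℕ} {n a : ℕ} (h2 : ¬ Few π n) (hnf : ¬ Full π n)
    (ha1 : 1 ≤ a) (ha2 : 2 * a ≤ n) (hfree : PiFree π (n.choose a)) (hc : Cls π (n - a)) :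
    (a = 1 ∧ Below π n ∧ Full π (n - 1)) ∨ (n = 7 ∧ a = 3 ∧ TwoThree π 7) := by
  obtain ⟨m, rfl⟩ : ∃ m, n = m + a := ⟨n - a, by omega⟩
  have hma : m + a - a = m := by omega
  rw [hma] at hc
  have ham : a ≤ m := by omega
  -- (★) every prime of π that is ≤ n is ≤ m
  have hstar : ∀ s : ℕ, s.Prime → s ∈ π → s ≤ m + a → s ≤ m := by
    intro s hs hsπ hsn
    by_contra hlt
    exact hfree s hs hsπ (p8_prime_dvd_choose hs ham (by omega) hsn)
  rcases hc with hfew | hfull | hbelow | ⟨h78, htt⟩
  · -- Few π m
    exfalso
    apply h2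
    intro r s hr hs hrπ hsπ hrn hsn
    exact hfew r s hr hs hrπ hsπ (hstar r hr hrπ hrn) (hstar s hs hsπ hsn)
  · -- Full π m
    by_cases ha : a = 1
    · subst ha
      left
      have hm1 : m + 1 - 1 = m := by omega
      refine ⟨rfl, ?_, by rw [hm1]; exact hfull⟩
      have hch : (m + 1).choose 1 = m + 1 := Nat.choose_one_right _
      have hprime : (m + 1).Prime := by
        apply p8_prime_of_no_small (by omega)
        intro l hl hle hd
        rw [hm1] at hle
        apply hfree l hl (hfull l hl hle)
        rw [hch]; exact hd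
      refine ⟨hprime, ?_⟩
      intro r hr hrn
      constructor
      · intro hrπ
        by_contra hge
        have hre : r = m + 1 := by omega
        apply hnf
        intro t ht htn
        by_cases hte : t = m + 1
        · rw [hte, ← hre]; exact hrπ
        · exact hfull t ht (by omega)
      · intro hlt
        exact hfull r hr (by omega)
    · right
      have ha2' : 2 ≤ a := by omega
      obtain ⟨hn7, ha3⟩ := hL1 (n := m + a) (a := a) ha2' ha2 (by
        intro l hl hle
        rw [hma] at hle
        exact hfree l hl (hfull l hl hle))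
      subst ha3
      have hm4 : m = 4 := by omega
      subst hm4
      refine ⟨rfl, rfl, ?_⟩
      intro r hr hr7
      have h35 : (4 + 3).choose 3 = 35 := by decide
      rw [h35] at hfree
      constructor
      · intro hrπ
        have hnd := hfree r hr hrπ
        interval_cases r
        all_goals first | (exfalso; revert hr; decide) | (exfalso; revert hnd; decide) | simp
      · rintro (rfl | rfl)
        · exact hfull 2 hr (by norm_num)
        · exact hfull 3 hr (by norm_num)
  · -- Below π m
    exfalso
    obtain ⟨hmp, hb⟩ := hbelow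
    -- two distinct primes of π below m
    have hex : ∃ r : ℕ, r.Prime ∧ r ∈ π ∧ r < m := by
      by_contra hno
      push Not at hno
      apply h2
      intro r s hr hs hrπ hsπ hrn hsn
      have hrm := hstar r hr hrπ hrn
      have := (hb r hr hrm).1 hrπ
      exact absurd this (not_lt.2 (hno r hr hrπ))
    obtain ⟨r0, hr0, hr0π, hr0m⟩ := hex
    have hm3 : 3 ≤ m := by have := hr0.two_le; omega
    have h2π : 2 ∈ π := (hb 2 Nat.prime_two (by omega)).2 (by omega)
    by_cases hame : a = m
    · subst hame
      apply hfree 2 Nat.prime_two h2π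
      have hc2 : (a + a).choose a = (2 * a).choose a := by rw [two_mul]
      rw [hc2]
      have : (2 * a).choose a = 2 * (2 * a - 1).choose (a - 1) := by
        obtain ⟨k, rfl⟩ : ∃ k, a = k + 1 := ⟨a - 1, by omega⟩
        have h1 : 2 * (k + 1) = (2 * k + 1) + 1 := by ring
        rw [h1, Nat.choose_succ_succ, Nat.add_sub_cancel, Nat.add_sub_cancel]
        have h2 : (2 * k + 1).choose (k + 1) = (2 * k + 1).choose k := by
          rw [← Nat.choose_symm (by omega : k + 1 ≤ 2 * k + 1)]
          congr 1
          omega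
        rw [h2]; ring
      rw [this]
      exact dvd_mul_right _ _
    · have halt : a < m := by omega
      have hno : ∀ l : ℕ, l.Prime → l ≤ m → ¬ l ∣ (m + a).choose a := by
        intro l hl hle
        by_cases hlm : l = m
        · rw [hlm]; exact p8_not_dvd_choose hmp halt
        · exact hfree l hl ((hb l hl hle).2 (by omega))
      by_cases ha : a = 1
      · subst ha
        have hch : (m + 1).choose 1 = m + 1 := Nat.choose_one_right _
        have hprime : (m + 1).Prime := by
          apply p8_prime_of_no_small (by omega)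
          intro l hl hle hd
          rw [Nat.add_sub_cancel] at hle
          apply hno l hl hle
          rw [hch]; exact hd
        -- m and m + 1 both prime, m ≥ 3
        rcases Nat.Prime.eq_two_or_odd hmp with h | h
        · omega
        · rcases Nat.Prime.eq_two_or_odd hprime with h' | h'
          · omega
          · omega
      · have ha2' : 2 ≤ a := by omega
        obtain ⟨hn7, ha3⟩ := hL1 (n := m + a) (a := a) ha2' ha2 (by
          intro l hl hle
          rw [hma] at hle
          exact hno l hl hle)
        subst ha3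
        have hm4 : m = 4 := by omega
        subst hm4
        exact absurd hmp (by decide)
  · -- m ∈ {7, 8}, TwoThree π m
    exfalso
    have hm2 : 2 ≤ m := by rcases h78 with h | h <;> omega
    have hm3 : 3 ≤ m := by rcases h78 with h | h <;> omega
    have h2π : 2 ∈ π := (htt 2 Nat.prime_two hm2).2 (Or.inl rfl)
    have h3π : 3 ∈ π := (htt 3 Nat.prime_three hm3).2 (Or.inr rfl)
    rcases p8_small_cases h78 ha1 ham with h | h
    · exact hfree 2 Nat.prime_two h2π h
    · exact hfree 3 Nat.prime_three h3π h

end Cfsg.Agent.Lib.H21.HS
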