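import Cfsg.Agent.Lib.H7.S3814Defs2
import Cfsg.Agent.Lib.H10.FrobActGen

/-!
# S3814, shape (I): FACT A for a normal subgroup `⟨m⟩` of prime order of `K`

Setting of helper7's cut (`ShapeI σ p V K`, `KFacts σ p V K`): `m ∈ K` of prime order `c` with
`⟨m⟩` normalised by `K`.  Then

* `m_bad` : `m` is fixed-point-free on `V`;
* `good_of_not_comm` : an element of prime order of `K` that does not commute with `m` has a
  nontrivial fixed point on `V` (Frobenius action lemma T1);
* `fact_a` : an element `u w` of order `a b` has exactly one of its parts in `C_K(m)`, and that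
  part is fixed-point-free on `V`.
-/

set_option autoImplicit false
set_option linter.unusedSectionVars false

namespace Cfsg.Agent.Lib.H21.S3814FactA

open Cfsg.Agent.H7.S3814Defs

universe u

variable {G : Type u} [Group G]

/-- a nontrivial element of a group of prime order generates it -/
theorem mem_zpowers_of_prime {g h : G} {t : ℕ} (ht : t.Prime) (hg : orderOf g = t)
    (hh : h ∈ Subgroup.zpowers g) (h1 : h ≠ 1) : g ∈ Subgroup.zpowers h := by
  have hle : Subgroup.zpowers h ≤ Subgroup.zpowers g := Subgroup.zpowers_le.mpr hh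
  have hd : orderOf h ∣ orderOf g := orderOf_dvd_of_mem_zpowers hh
  rw [hg] at hd
  have ho : orderOf h = t := by
    rcases (Nat.dvd_prime ht).mp hd with h0 | h0
    · exact absurd (orderOf_eq_one_iff.mp h0) h1
    · exact h0
  have hfin : Finite (Subgroup.zpowers g) := by
    apply Nat.finite_of_card_ne_zero
    rw [Nat.card_zpowers, hg]
    exact ht.pos.ne'
  have heq : Subgroup.zpowers h = Subgroup.zpowers g := by
    apply Subgroup.eq_of_le_of_card_ge hle
    rw [Nat.card_zpowers, Nat.card_zpowers, hg, ho]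
  rw [heq]
  exact Subgroup.mem_zpowers g

/-- an element fixing a nontrivial element of `⟨m⟩` (`m` of prime order) commutes with `m` -/
theorem commute_of_fix {y k m : G} {c : ℕ} (hc : c.Prime) (hm : orderOf m = c)
    (hk : k ∈ Subgroup.zpowers m) (hk1 : k ≠ 1) (h : y * k * y⁻¹ = k) : y * m = m * y := by
  have hmk : m ∈ Subgroup.zpowers k := mem_zpowers_of_prime hc hm hk hk1
  obtain ⟨j, rfl⟩ := Subgroup.mem_zpowers_iff.mp hmk
  have hyk : Commute y k := by
    show y * k = k * y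
    calc y * k = (y * k * y⁻¹) * y := by group
      _ = k * y := by rw [h]
  exact (hyk.zpow_right j).eq

/-- coprime orders: `v ^ p = 1` and `v ^ c = 1` give `v = 1` -/
theorem eq_one_of_pow_pow {v : G} {p c : ℕ} (hpc : p.Coprime c) (h1 : v ^ p = 1)
    (h2 : v ^ c = 1) : v = 1 := by
  have d1 := orderOf_dvd_of_pow_eq_one h1
  have d2 := orderOf_dvd_of_pow_eq_one h2
  have d3 : orderOf v ∣ Nat.gcd p c := Nat.dvd_gcd d1 d2
  rw [hpc] at d3
  exact orderOf_eq_one_iff.mp (Nat.dvd_one.mp d3)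

variable [Finite G] {σ : Finset ℕ} {p : ℕ} {V K : Subgroup G}

/-- the order of an element of `K` divides `|K|` -/
theorem orderOf_dvd_card {x : G} (hx : x ∈ K) : orderOf x ∣ Nat.card K := by
  have h := orderOf_dvd_natCard (⟨x, hx⟩ : K)
  rwa [Subgroup.orderOf_mk] at h

/-- conjugation by an element commuting with `u` preserves `C_V(u)` -/
theorem conj_mem_cent (hV : V.Normal) {g u v : G} (hgu : g * u = u * g)
    (hv : v ∈ V ⊓ Subgroup.centralizer ({u} : Set G)) :
    g * v * g⁻¹ ∈ V ⊓ Subgroup.centralizer ({u} : Set G) := by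
  have hv' := Subgroup.mem_inf.mp hv
  refine Subgroup.mem_inf.mpr ⟨hV.conj_mem v hv'.1 g, ?_⟩
  have hvu : u * v = v * u := (Subgroup.mem_centralizer_singleton_iff.mp hv'.2).symm
  rw [Subgroup.mem_centralizer_singleton_iff]
  symm
  have hgu' : g⁻¹ * u = u * g⁻¹ := by
    calc g⁻¹ * u = g⁻¹ * (u * g) * g⁻¹ := by group
      _ = g⁻¹ * (g * u) * g⁻¹ := by rw [hgu]
      _ = u * g⁻¹ := by group
  calc u * (g * v * g⁻¹) = (u * g) * v * g⁻¹ := by group
    _ = (g * u) * v * g⁻¹ := by rw [hgu]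
    _ = g * (u * v) * g⁻¹ := by group
    _ = g * (v * u) * g⁻¹ := by rw [hvu]
    _ = g * v * (u * g⁻¹) := by group
    _ = g * v * (g⁻¹ * u) := by rw [hgu']
    _ = g * v * g⁻¹ * u := by group

/-- `⟨m⟩ ⊴ K`, `m ≠ 1`: `m` is fixed-point-free on `V`. -/
theorem m_bad (hI : ShapeI σ p V K) {m : G} (hmK : m ∈ K) (hm1 : m ≠ 1)
    (hmn : K ≤ Subgroup.normalizer ((Subgroup.zpowers m : Subgroup G) : Set G)) : Fpf m V := by
  let U : Subgroup G := V ⊓ Subgroup.centralizer ((Subgroup.zpowers m : Subgroup G) : Set G)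
  have hUV : U ≤ V := inf_le_left
  have key : ∀ k ∈ K, ∀ v ∈ U, k * v * k⁻¹ ∈ U := by
    intro k hk v hv0
    have hv := Subgroup.mem_inf.mp hv0
    refine Subgroup.mem_inf.mpr ⟨hI.normal.conj_mem v hv.1 k, ?_⟩
    rw [Subgroup.mem_centralizer_iff]
    intro y hy
    have hk' : k⁻¹ ∈ Subgroup.normalizer ((Subgroup.zpowers m : Subgroup G) : Set G) :=
      hmn (K.inv_mem hk)
    have hy' : k⁻¹ * y * k⁻¹⁻¹ ∈ Subgroup.zpowers m :=
      (Subgroup.mem_normalizer_iff.mp hk' y).mp hy
    have hc := (Subgroup.mem_centralizer_iff.mp hv.2) _ hy'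
    calc y * (k * v * k⁻¹) = k * ((k⁻¹ * y * k⁻¹⁻¹) * v) * k⁻¹ := by group
      _ = k * (v * (k⁻¹ * y * k⁻¹⁻¹)) * k⁻¹ := by rw [hc]
      _ = k * v * k⁻¹ * y := by group
  have hKU : K ≤ Subgroup.normalizer (U : Set G) := by
    intro k hk
    rw [Subgroup.mem_normalizer_iff]
    intro v
    constructor
    · exact key k hk v
    · intro h
      have h2 := key k⁻¹ (K.inv_mem hk) _ h
      have e : k⁻¹ * (k * v * k⁻¹) * k⁻¹⁻¹ = v := by group
      rwa [e] at h2
  rcases hI.irred U hUV hKU with h | h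
  · intro v hv hcomm
    have hcm : Commute m v := hcomm
    have hvU : v ∈ U := by
      refine Subgroup.mem_inf.mpr ⟨hv, ?_⟩
      rw [Subgroup.mem_centralizer_iff]
      intro y hy
      obtain ⟨i, rfl⟩ := Subgroup.mem_zpowers_iff.mp hy
      exact (hcm.zpow_left i).eq
    rw [h] at hvU
    exact Subgroup.mem_bot.mp hvU
  · exfalso
    apply hm1
    apply hI.faithful m hmK
    intro v hv
    have hvU : v ∈ U := by rw [h]; exact hv
    exact (Subgroup.mem_centralizer_iff.mp (Subgroup.mem_inf.mp hvU).2) m (Subgroup.mem_zpowers m)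

/-- T1 for the kernel `⟨m⟩` and a cyclic complement `⟨x⟩`, acting on a subgroup `W ≤ V`:
if `x` has no nontrivial fixed point on `W` then `W = 1`. -/
theorem t1_apply (hI : ShapeI σ p V K) (hppr : p.Prime) {c : ℕ} (hc : c.Prime) (hcp : c ≠ p) {m : G}
    (hmK : m ∈ K) (hm : orderOf m = c)
    (hmn : K ≤ Subgroup.normalizer ((Subgroup.zpowers m : Subgroup G) : Set G))
    {x : G} (hxK : x ∈ K)
    (hfpf : ∀ y ∈ Subgroup.zpowers x, y ≠ 1 → ∀ k ∈ Subgroup.zpowers m, y * k * y⁻¹ = k → k = 1)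
    (W : Subgroup G) (hWV : W ≤ V)
    (hmW : ∀ k ∈ Subgroup.zpowers m, ∀ v ∈ W, k * v * k⁻¹ ∈ W)
    (hxW : ∀ v ∈ W, x * v * x⁻¹ ∈ W) (hxW' : ∀ v ∈ W, x⁻¹ * v * x ∈ W)
    (hfix : ∀ v ∈ W, x * v * x⁻¹ = v → v = 1) : ∀ v ∈ W, v = 1 := by
  have hm1 : m ≠ 1 := by
    intro h
    rw [h, orderOf_one] at hm
    exact hc.one_lt.ne hm
  have hbad : Fpf m V := m_bad hI hmK hm1 hmn
  have hpc : p.Coprime c := (Nat.coprime_primes hppr hc).mpr (Ne.symm hcp)
  have hxn : x ∈ Subgroup.normalizer ((Subgroup.zpowers m : Subgroup G) : Set G) := hmn hxK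
  have hxn' : x⁻¹ ∈ Subgroup.normalizer ((Subgroup.zpowers m : Subgroup G) : Set G) :=
    hmn (K.inv_mem hxK)
  have hcent := Cfsg.Agent.Lib.H10.FrobActGen.t1_cyclic (Subgroup.zpowers m) W x
    (isOfFinOrder_of_finite x)
    (fun v hv w hw => hI.elem.1 v (hWV hv) w (hWV hw))
    hmW hxW hxW'
    (fun k hk => (Subgroup.mem_normalizer_iff.mp hxn k).mp hk)
    (fun k hk => by
      have := (Subgroup.mem_normalizer_iff.mp hxn' k).mp hk
      simpa using this)
    hfpf
    (fun v hv hvc => by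
      rw [Nat.card_zpowers, hm] at hvc
      exact eq_one_of_pow_pow hpc (hI.elem.2 v (hWV hv)) hvc)
    hfix
  intro v hv
  exact hbad v (hWV hv) (hcent m (Subgroup.mem_zpowers m) v hv)

omit [Finite G] in
/-- an element of prime order not commuting with `m` acts fixed-point-freely on `⟨m⟩` -/
theorem fpf_zpowers_of_prime {c t : ℕ} (hc : c.Prime) {m : G} (hm : orderOf m = c) (ht : t.Prime)
    {x : G} (hx : orderOf x = t) (hxm : x * m ≠ m * x) :
    ∀ y ∈ Subgroup.zpowers x, y ≠ 1 → ∀ k ∈ Subgroup.zpowers m, y * k * y⁻¹ = k → k = 1 := by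
  intro y hy hy1 k hk h
  by_contra hk1
  have hym : Commute y m := commute_of_fix hc hm hk hk1 h
  have hxy : x ∈ Subgroup.zpowers y := mem_zpowers_of_prime ht hx hy hy1
  obtain ⟨j, rfl⟩ := Subgroup.mem_zpowers_iff.mp hxy
  exact hxm (hym.zpow_left j).eq

omit [Finite G] in
/-- `(w ^ i) ^ b = 1` when `w ^ b = 1` -/
theorem zpow_pow_eq_one {w : G} {b : ℕ} (hw : w ^ b = 1) (i : ℤ) : (w ^ i) ^ b = 1 := by
  rw [← zpow_natCast, ← zpow_mul, mul_comm, zpow_mul, zpow_natCast, hw, one_zpow]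

omit [Finite G] in
/-- a cyclic group `⟨u w⟩` of order `a b`, neither part commuting with `m`, acts
fixed-point-freely on `⟨m⟩` -/
theorem fpf_zpowers_mul {a b c : ℕ} (ha : a.Prime) (hb : b.Prime) (hc : c.Prime) (hab : a ≠ b)
    {m : G} (hm : orderOf m = c) {u w : G} (hu : orderOf u = a) (hw : orderOf w = b)
    (huw : Commute u w) (hum : u * m ≠ m * u) (hwm : w * m ≠ m * w) :
    ∀ y ∈ Subgroup.zpowers (u * w), y ≠ 1 → ∀ k ∈ Subgroup.zpowers m,
      y * k * y⁻¹ = k → k = 1 := by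
  intro y hy hy1 k hk h
  by_contra hk1
  have hym : Commute y m := commute_of_fix hc hm hk hk1 h
  obtain ⟨i, rfl⟩ := Subgroup.mem_zpowers_iff.mp hy
  have e : (u * w) ^ i = u ^ i * w ^ i := huw.mul_zpow i
  have hcz : Commute (u ^ i) (w ^ i) := huw.zpow_zpow i i
  have hwb : (w ^ i) ^ b = 1 := zpow_pow_eq_one (by rw [← hw]; exact pow_orderOf_eq_one w) i
  have hua : (u ^ i) ^ a = 1 := zpow_pow_eq_one (by rw [← hu]; exact pow_orderOf_eq_one u) i
  have hyb : ((u * w) ^ i) ^ b = (u ^ i) ^ b := by rw [e, hcz.mul_pow, hwb, mul_one]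
  have hya : ((u * w) ^ i) ^ a = (w ^ i) ^ a := by rw [e, hcz.mul_pow, hua, one_mul]
  -- `(u^i)^b = 1`
  have h1 : (u ^ i) ^ b = 1 := by
    by_contra hne
    have hmem : (u ^ i) ^ b ∈ Subgroup.zpowers u :=
      Subgroup.pow_mem _ (Subgroup.zpow_mem _ (Subgroup.mem_zpowers u) i) b
    have hu' : u ∈ Subgroup.zpowers ((u ^ i) ^ b) := mem_zpowers_of_prime ha hu hmem hne
    obtain ⟨j, hj⟩ := Subgroup.mem_zpowers_iff.mp hu'
    have hc1 : Commute (((u * w) ^ i) ^ b) m := hym.pow_left b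
    rw [hyb] at hc1
    have hc2 : Commute u m := by rw [← hj]; exact hc1.zpow_left j
    exact hum hc2.eq
  have h2 : (w ^ i) ^ a = 1 := by
    by_contra hne
    have hmem : (w ^ i) ^ a ∈ Subgroup.zpowers w :=
      Subgroup.pow_mem _ (Subgroup.zpow_mem _ (Subgroup.mem_zpowers w) i) a
    have hw' : w ∈ Subgroup.zpowers ((w ^ i) ^ a) := mem_zpowers_of_prime hb hw hmem hne
    obtain ⟨j, hj⟩ := Subgroup.mem_zpowers_iff.mp hw'
    have hc1 : Commute (((u * w) ^ i) ^ a) m := hym.pow_left a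
    rw [hya] at hc1
    have hc2 : Commute w m := by rw [← hj]; exact hc1.zpow_left j
    exact hwm hc2.eq
  rw [← hyb] at h1
  rw [← hya] at h2
  exact hy1 (eq_one_of_pow_pow ((Nat.coprime_primes ha hb).mpr hab) h2 h1)

/-- an element of prime order of `K` not commuting with `m` has a nontrivial fixed point. -/
theorem good_of_not_comm (hI : ShapeI σ p V K) (hppr : p.Prime) {c : ℕ} (hc : c.Prime)
    (hcp : c ≠ p) {m : G} (hmK : m ∈ K) (hm : orderOf m = c)
    (hmn : K ≤ Subgroup.normalizer ((Subgroup.zpowers m : Subgroup G) : Set G))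
    {t : ℕ} (ht : t.Prime) {x : G} (hxK : x ∈ K) (hx : orderOf x = t) (hxm : x * m ≠ m * x) :
    ¬ Fpf x V := by
  intro hfx
  have hall := t1_apply hI hppr hc hcp hmK hm hmn hxK (fpf_zpowers_of_prime hc hm ht hx hxm) V le_rfl
    (fun k _ v hv => hI.normal.conj_mem v hv k)
    (fun v hv => hI.normal.conj_mem v hv x)
    (fun v hv => by simpa using hI.normal.conj_mem v hv x⁻¹)
    (fun v hv h => hfx v hv (by
      calc x * v = (x * v * x⁻¹) * x := by group
        _ = v * x := by rw [h]))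
  exact hI.ne_bot ((Subgroup.eq_bot_iff_forall V).mpr hall)

/-- the part of a mixed element lying in `C_K(m)` is fixed-point-free. -/
theorem part_bad (hI : ShapeI σ p V K) (hppr : p.Prime) {c : ℕ} (hc : c.Prime)
    (hcp : c ≠ p) {m : G} (hmK : m ∈ K) (hm : orderOf m = c)
    (hmn : K ≤ Subgroup.normalizer ((Subgroup.zpowers m : Subgroup G) : Set G))
    {t : ℕ} (ht : t.Prime) {u w : G} (hwK : w ∈ K) (hw : orderOf w = t)
    (huw : u * w = w * u) (hum : u * m = m * u) (hwm : w * m ≠ m * w)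
    (hN : ∀ v ∈ V, u * v = v * u → w * v = v * w → v = 1) : Fpf u V := by
  have hmu : Commute m u := (show Commute u m from hum).symm
  have hall := t1_apply hI hppr hc hcp hmK hm hmn hwK (fpf_zpowers_of_prime hc hm ht hw hwm)
    (V ⊓ Subgroup.centralizer ({u} : Set G)) inf_le_left
    (fun k hk v hv => by
      obtain ⟨i, rfl⟩ := Subgroup.mem_zpowers_iff.mp hk
      exact conj_mem_cent hI.normal (hmu.zpow_left i).eq hv)
    (fun v hv => conj_mem_cent hI.normal huw.symm hv)
    (fun v hv => by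
      have hwu : Commute w u := (show Commute u w from huw).symm
      have := conj_mem_cent hI.normal (hwu.inv_left).eq hv
      simpa using this)
    (fun v hv h => by
      have hv' := Subgroup.mem_inf.mp hv
      have hvu : v * u = u * v := Subgroup.mem_centralizer_singleton_iff.mp hv'.2
      refine hN v hv'.1 hvu.symm ?_
      calc w * v = (w * v * w⁻¹) * w := by group
        _ = v * w := by rw [h])
  intro v hv hcomm
  apply hall v
  refine Subgroup.mem_inf.mpr ⟨hv, ?_⟩
  rw [Subgroup.mem_centralizer_singleton_iff]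
  exact hcomm.symm

/-- **FACT A**. -/
theorem fact_a (hG : IsCex G σ) (hI : ShapeI σ p V K) (hKF : KFacts σ p V K)
    {c : ℕ} (hc : c.Prime) {m : G} (hmK : m ∈ K) (hm : orderOf m = c)
    (hmn : K ≤ Subgroup.normalizer ((Subgroup.zpowers m : Subgroup G) : Set G))
    {a b : ℕ} (ha : a.Prime) (hb : b.Prime) (hab : a ≠ b) (hac : a ≠ c) (hbc : b ≠ c)
    {u w : G} (huK : u ∈ K) (hwK : w ∈ K) (hu : orderOf u = a) (hw : orderOf w = b)
    (huw : u * w = w * u) :
    (u * m = m * u ∧ w * m ≠ m * w ∧ Fpf u V) ∨ (u * m ≠ m * u ∧ w * m = m * w ∧ Fpf w V) := by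
  have hppr : p.Prime := hG.prime p hI.hp
  have hcσ := hKF.primes c hc (hm ▸ orderOf_dvd_card hmK)
  have haσ := hKF.primes a ha (hu ▸ orderOf_dvd_card huK)
  have hbσ := hKF.primes b hb (hw ▸ orderOf_dvd_card hwK)
  have hcuw : Commute u w := huw
  have hcop : (orderOf u).Coprime (orderOf w) := by
    rw [hu, hw]; exact (Nat.coprime_primes ha hb).mpr hab
  have huwo : orderOf (u * w) = a * b := by
    rw [hcuw.orderOf_mul_eq_mul_orderOf_of_coprime hcop, hu, hw]
  have hfuw : Fpf (u * w) V :=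
    hKF.n1 (u * w) (K.mul_mem huK hwK) a haσ.1 b hbσ.1 haσ.2 hbσ.2 hab (by rw [huwo])
  have hN : ∀ v ∈ V, u * v = v * u → w * v = v * w → v = 1 := by
    intro v hv h1 h2
    apply hfuw v hv
    calc u * w * v = u * (w * v) := by group
      _ = u * (v * w) := by rw [h2]
      _ = (u * v) * w := by group
      _ = (v * u) * w := by rw [h1]
      _ = v * (u * w) := by group
  have hN' : ∀ v ∈ V, w * v = v * w → u * v = v * u → v = 1 := fun v hv h1 h2 => hN v hv h2 h1
  by_cases h1 : u * m = m * u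
  · by_cases h2 : w * m = m * w
    · exfalso
      have hcm : Commute (u * w) m := (show Commute u m from h1).mul_left (show Commute w m from h2)
      have hcop2 : (orderOf (u * w)).Coprime (orderOf m) := by
        rw [huwo, hm]
        exact Nat.Coprime.mul_left ((Nat.coprime_primes ha hc).mpr hac)
          ((Nat.coprime_primes hb hc).mpr hbc)
      have ho : orderOf (u * w * m) = a * b * c := by
        rw [hcm.orderOf_mul_eq_mul_orderOf_of_coprime hcop2, huwo, hm]
      exact hG.notriple a haσ.1 b hbσ.1 c hcσ.1 hab hbc hac (u * w * m) ho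
    · left
      exact ⟨h1, h2, part_bad hI hppr hc hcσ.2 hmK hm hmn hb hwK hw huw h1 h2 hN⟩
  · by_cases h2 : w * m = m * w
    · right
      exact ⟨h1, h2, part_bad hI hppr hc hcσ.2 hmK hm hmn ha huK hu huw.symm h2 h1 hN'⟩
    · exfalso
      have hall := t1_apply hI hppr hc hcσ.2 hmK hm hmn (K.mul_mem huK hwK)
        (fpf_zpowers_mul ha hb hc hab hm hu hw hcuw h1 h2) V le_rfl
        (fun k _ v hv => hI.normal.conj_mem v hv k)
        (fun v hv => hI.normal.conj_mem v hv (u * w))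
        (fun v hv => by simpa using hI.normal.conj_mem v hv (u * w)⁻¹)
        (fun v hv h => hfuw v hv (by
          calc u * w * v = (u * w * v * (u * w)⁻¹) * (u * w) := by group
            _ = v * (u * w) := by rw [h]))
      exact hI.ne_bot ((Subgroup.eq_bot_iff_forall V).mpr hall)

end Cfsg.Agent.Lib.H21.S3814FactA
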