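import Mathlib
import Cfsg.Agent.Lib.H21.SylowCount

set_option autoImplicit false

namespace Cfsg.Agent.Lib.H21

open Subgroup

/-- The number of Sylow `p`-subgroups of a subgroup `L`, computed from a `p`-subgroup `D ≤ L`
of `p'`-index in `L`: it is `|L : N_L(D)|`. -/
theorem card_sylow_subgroup_eq_relIndex {G : Type*} [Group G] [Finite G] {p : ℕ} [Fact p.Prime]
    (L D : Subgroup G) (hDL : D ≤ L) (hD : IsPGroup p D) (hD2 : ¬ p ∣ D.relIndex L) :
    Nat.card (Sylow p L) = (normalizer (D : Set G)).relIndex L := by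
  have h1 : IsPGroup p (D.subgroupOf L) :=
    hD.comap_of_injective L.subtype (Subgroup.subtype_injective L)
  let Q : Sylow p L := h1.toSylow hD2
  rw [Q.card_eq_index_normalizer]
  change (normalizer ((D.subgroupOf L : Subgroup L) : Set L)).index = _
  rw [← Subgroup.subgroupOf_normalizer_eq hDL]
  rfl

/-- Frattini argument in index form: `N` normal, `D ≤ N` a Sylow `p`-subgroup of `N`.
Then `|G : N_G(D)| = |N : N_N(D)|`. -/
theorem index_normalizer_eq_relIndex_of_normal {G : Type*} [Group G] [Finite G] {p : ℕ}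
    [Fact p.Prime] (N D : Subgroup G) [N.Normal] (hDN : D ≤ N) (hD : IsPGroup p D)
    (hD2 : ¬ p ∣ D.relIndex N) :
    (normalizer (D : Set G)).index = (normalizer (D : Set G)).relIndex N := by
  have h1 : IsPGroup p (D.subgroupOf N) :=
    hD.comap_of_injective N.subtype (Subgroup.subtype_injective N)
  let Q : Sylow p N := h1.toSylow hD2
  have hQ : (Q : Subgroup N).map N.subtype = D := by
    have : ((Q : Subgroup N)) = D.subgroupOf N := rfl
    rw [this, Subgroup.subgroupOf_map_subtype, inf_of_le_left hDN]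
  have h2 := Sylow.normalizer_sup_eq_top Q
  rw [hQ] at h2
  have h3 := relIndex_sup_of_normal N (normalizer (D : Set G))
  rw [h2, Subgroup.relIndex_top_right] at h3
  exact h3

/-- relative Frattini argument in index form: `K ≤ U ≤ N_G(K)`, `D ≤ K` a Sylow `p`-subgroup of
`K`. Then `|U : N_U(D)| = |K : N_K(D)|`. -/
theorem relIndex_normalizer_eq_of_le_normalizer {G : Type*} [Group G] [Finite G] {p : ℕ}
    [Fact p.Prime] (K U D : Subgroup G) (hKU : K ≤ U) (hUK : U ≤ normalizer (K : Set G))
    (hDK : D ≤ K) (hD : IsPGroup p D) (hD2 : ¬ p ∣ D.relIndex K) :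
    (normalizer (D : Set G)).relIndex U = (normalizer (D : Set G)).relIndex K := by
  have : (K.subgroupOf U).Normal := (Subgroup.normal_subgroupOf_iff_le_normalizer hKU).2 hUK
  have hDU : D ≤ U := le_trans hDK hKU
  have h1 : IsPGroup p (D.subgroupOf U) :=
    hD.comap_of_injective U.subtype (Subgroup.subtype_injective U)
  have h2 : ¬ p ∣ (D.subgroupOf U).relIndex (K.subgroupOf U) := by
    rw [Subgroup.relIndex_subgroupOf hKU]; exact hD2
  have hle : D.subgroupOf U ≤ K.subgroupOf U := fun x hx => hDK hx
  have h3 := index_normalizer_eq_relIndex_of_normal (K.subgroupOf U) (D.subgroupOf U)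
    hle h1 h2
  rw [← Subgroup.subgroupOf_normalizer_eq hDU, Subgroup.relIndex_subgroupOf hKU] at h3
  exact h3

/-- The number of Sylow `p`-subgroups of a quotient `G ⧸ M` is `|G : N_G(PM)|`. -/
theorem card_sylow_quotient {G : Type*} [Group G] [Finite G] {p : ℕ} [Fact p.Prime]
    (M : Subgroup G) [M.Normal] (P : Sylow p G) :
    Nat.card (Sylow p (G ⧸ M)) = (normalizer (((P : Subgroup G) ⊔ M : Subgroup G) : Set G)).index := by
  have hs := QuotientGroup.mk'_surjective M
  let Pb : Sylow p (G ⧸ M) := Sylow.mapSurjective hs P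
  rw [Pb.card_eq_index_normalizer]
  change (normalizer (((P : Subgroup G).map (QuotientGroup.mk' M) : Subgroup (G ⧸ M)) : Set (G ⧸ M))).index = _
  rw [← Subgroup.index_comap_of_surjective _ hs, Subgroup.comap_normalizer_eq_of_surjective _ hs,
    Subgroup.comap_map_eq, QuotientGroup.ker_mk']

/-- quotienting by a normal `p`-subgroup does not change the number of Sylow `p`-subgroups -/
theorem card_sylow_quotient_of_le {G : Type*} [Group G] [Finite G] {p : ℕ} [Fact p.Prime]
    (D : Subgroup G) [D.Normal] (P : Sylow p G) (hD : D ≤ P) :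
    Nat.card (Sylow p (G ⧸ D)) = Nat.card (Sylow p G) := by
  rw [card_sylow_quotient D P, sup_of_le_left hD, P.card_eq_index_normalizer]
  rfl

end Cfsg.Agent.Lib.H21
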