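import Mathlib
import Cfsg.Agent.Lib.H21.SylowCount
import Cfsg.Agent.Lib.H21.SylowFrattini
import Cfsg.Agent.Lib.H21.OrbitCount

/-!
# Groups with exactly `2p + 1` Sylow `p`-subgroups: minimal counterexamples (helper21)

`MinCE p G`: `G` has exactly `2p+1` Sylow `p`-subgroups and no group of smaller order does.
We show that such a `G` acts faithfully on its Sylow `p`-subgroups, that `|P : P ∩ Q| = p` for
distinct Sylow `p`-subgroups, that `|P| = p`, `C_G(P) = P`, and that every proper normal subgroup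
has index divisible by `p`.
-/

set_option autoImplicit false

namespace Cfsg.Agent.Lib.H21.TwoP1

open Subgroup MulAction
open scoped Pointwise

universe u

variable {G : Type u} [Group G] [Finite G] {p : ℕ} [hp : Fact p.Prime]

/-- `G` is a minimal group with exactly `2p+1` Sylow `p`-subgroups. -/
def MinCE (p : ℕ) [Fact p.Prime] (G : Type u) [Group G] [Finite G] : Prop :=
  Nat.card (Sylow p G) = 2 * p + 1 ∧
  ∀ (H : Type u) [Group H] [Finite H], Nat.card H < Nat.card G →
    Nat.card (Sylow p H) ≠ 2 * p + 1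

omit [Finite G] in
theorem card_lt_of_ne_top [Finite G] (M : Subgroup G) (hM : M ≠ ⊤) : Nat.card M < Nat.card G := by
  apply lt_of_le_of_ne (Subgroup.card_le_card_group M)
  intro h
  exact hM (Subgroup.eq_top_of_card_eq M h)

/-- A proper normal subgroup of a minimal counterexample has index divisible by `p`. -/
theorem MinCE.false_of_normal (h : MinCE p G) (M : Subgroup G) [M.Normal] (hM : M ≠ ⊤)
    (hpM : ¬ p ∣ M.index) : False := by
  obtain ⟨P⟩ : Nonempty (Sylow p G) := inferInstance
  have hPM := sylow_le_of_normal_of_not_dvd_index M hpM P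
  have hc := card_sylow_eq_of_le_normal M P hPM
  exact h.2 M (card_lt_of_ne_top M hM) (hc ▸ h.1)

/-- In a minimal counterexample the conjugation action on Sylow `p`-subgroups is faithful. -/
theorem MinCE.eq_one_of_forall_smul (h : MinCE p G) (k : G)
    (hk : ∀ Q : Sylow p G, k • Q = Q) : k = 1 := by
  set K : Subgroup G := (MulAction.toPermHom G (Sylow p G)).ker with hKdef
  have hkK : k ∈ K := by
    rw [hKdef, MonoidHom.mem_ker]
    apply Equiv.ext
    intro Q
    exact hk Q
  have hKN : ∀ Q : Sylow p G, K ≤ normalizer (Q : Set G) := by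
    intro Q x hx
    rw [← Sylow.smul_eq_iff_mem_normalizer]
    rw [hKdef, MonoidHom.mem_ker] at hx
    have := congrArg (fun σ : Equiv.Perm (Sylow p G) => σ Q) hx
    simpa using this
  suffices hK : K = ⊥ by
    rw [hK, Subgroup.mem_bot] at hkK; exact hkK
  by_contra hK
  obtain ⟨P⟩ : Nonempty (Sylow p G) := inferInstance
  have hlt : Nat.card (G ⧸ K) < Nat.card G := by
    have h1 := Subgroup.card_eq_card_quotient_mul_card_subgroup K
    have h2 : 1 < Nat.card K := by
      rw [Subgroup.one_lt_card_iff_ne_bot]; exact hK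
    have h3 : 0 < Nat.card (G ⧸ K) := Nat.card_pos
    rw [h1]; nlinarith
  apply h.2 (G ⧸ K) hlt
  have hs := QuotientGroup.mk'_surjective K
  have hle : Nat.card (Sylow p (G ⧸ K)) ≤ 2 * p + 1 := by
    rw [← h.1]
    exact Nat.card_le_card_of_surjective _ (Sylow.mapSurjective_surjective hs p)
  have hdvd : 2 * p + 1 ∣ Nat.card (Sylow p (G ⧸ K)) := by
    rw [card_sylow_quotient K P, ← h.1, P.card_eq_index_normalizer]
    apply Subgroup.index_dvd_of_le
    intro x hx
    rw [← Sylow.smul_eq_iff_mem_normalizer]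
    set Q := x • P with hQ
    have hQle : (Q : Subgroup G) ≤ (P : Subgroup G) ⊔ K := by
      intro y hy
      have hQ' : (Q : Subgroup G) = MulAut.conj x • (P : Subgroup G) := Sylow.coe_subgroup_smul
      rw [hQ', Subgroup.mem_pointwise_smul_iff_inv_smul_mem, MulAut.smul_def,
        MulAut.conj_inv_apply] at hy
      have h1 : x⁻¹ * y * x ∈ (P : Subgroup G) ⊔ K := le_sup_left (a := (P : Subgroup G)) hy
      have h2 := (Subgroup.mem_normalizer_iff.1 hx (x⁻¹ * y * x)).1 h1
      rw [show x * (x⁻¹ * y * x) * x⁻¹ = y by group] at h2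
      exact h2
    have hQN : (Q : Subgroup G) ≤ normalizer ((P : Subgroup G) : Set G) :=
      hQle.trans (sup_le le_normalizer (hKN P))
    have hQP : (Q : Subgroup G) ≤ P := by
      have := Q.isPGroup'.inf_normalizer_sylow P
      calc (Q : Subgroup G) ≤ (Q : Subgroup G) ⊓ normalizer (P : Set G) := le_inf le_rfl hQN
        _ = (Q : Subgroup G) ⊓ P := this
        _ ≤ P := inf_le_right
    exact Sylow.ext (Q.is_maximal' P.isPGroup' hQP).symm
  have hpos : 0 < Nat.card (Sylow p (G ⧸ K)) := Nat.card_pos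
  exact le_antisymm hle (Nat.le_of_dvd hpos hdvd)

omit [Finite G] in
/-- The stabilizer in a Sylow subgroup `P` of another Sylow subgroup `Q` is `P ∩ Q`. -/
theorem stabilizer_eq (P Q : Sylow p G) :
    MulAction.stabilizer (P : Subgroup G) Q = ((P : Subgroup G) ⊓ Q).subgroupOf P := by
  ext x
  rw [MulAction.mem_stabilizer_iff, Subgroup.mem_subgroupOf]
  have h1 : x • Q = (x : G) • Q := rfl
  rw [h1, Sylow.smul_eq_iff_mem_normalizer]
  constructor
  · intro hx
    have : (x : G) ∈ (P : Subgroup G) ⊓ normalizer (Q : Set G) := ⟨x.2, hx⟩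
    rw [P.isPGroup'.inf_normalizer_sylow Q] at this; exact this
  · intro hx
    exact le_normalizer hx.2

omit [Finite G] in
theorem stabilizer_ne_top (P Q : Sylow p G) (hPQ : Q ≠ P) :
    MulAction.stabilizer (P : Subgroup G) Q ≠ ⊤ := by
  intro h
  apply hPQ
  rw [stabilizer_eq, Subgroup.subgroupOf_eq_top] at h
  have hle : (P : Subgroup G) ≤ Q := h.trans inf_le_right
  exact Sylow.ext (P.is_maximal' Q.isPGroup' hle)

/-- In a minimal counterexample all the intersections `P ∩ Q` have index `p` in `P`. -/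
theorem MinCE.index_stabilizer (h : MinCE p G) (hp2 : p ≠ 2) (P Q : Sylow p G) (hPQ : Q ≠ P) :
    (MulAction.stabilizer (P : Subgroup G) Q).index = p := by
  have hpp : p.Prime := hp.out
  obtain ⟨k, hk⟩ := (P.isPGroup').index (MulAction.stabilizer (P : Subgroup G) Q)
  have hk0 : k ≠ 0 := by
    rintro rfl
    rw [pow_zero, Subgroup.index_eq_one] at hk
    exact stabilizer_ne_top P Q hPQ hk
  have hle : (MulAction.stabilizer (P : Subgroup G) Q).index ≤ 2 * p := by
    rw [MulAction.index_stabilizer]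
    have hsub : MulAction.orbit (P : Subgroup G) Q ⊆ ({P} : Set (Sylow p G))ᶜ := by
      rintro R ⟨x, rfl⟩
      rw [Set.mem_compl_iff, Set.mem_singleton_iff]
      intro hx
      apply hPQ
      have h1 : (x : G) • Q = P := hx
      have h2 : (x : G)⁻¹ • P = P := by
        rw [Sylow.smul_eq_iff_mem_normalizer]
        exact le_normalizer ((P : Subgroup G).inv_mem x.2)
      calc Q = (x : G)⁻¹ • ((x : G) • Q) := by rw [smul_smul, inv_mul_cancel, one_smul]
        _ = (x : G)⁻¹ • P := by rw [h1]
        _ = P := h2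
    have h1 := Set.ncard_le_ncard hsub (Set.toFinite _)
    have h2 : (({P} : Set (Sylow p G))ᶜ).ncard = 2 * p := by
      rw [Set.ncard_compl, Set.ncard_singleton, h.1]; omega
    omega
  rw [hk] at hle ⊢
  have h3 : 3 ≤ p := by
    have := hpp.two_le
    omega
  obtain ⟨k', rfl⟩ : ∃ k', k = k' + 1 := ⟨k - 1, by omega⟩
  rcases Nat.eq_zero_or_pos k' with h0 | h0
  · rw [h0]; simp
  · exfalso
    have h4 : p ^ 2 ≤ p ^ (k' + 1) := Nat.pow_le_pow_right hpp.pos (by omega)
    nlinarith

theorem MinCE.card_inf_mul (h : MinCE p G) (hp2 : p ≠ 2) (P Q : Sylow p G) (hPQ : Q ≠ P) :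
    Nat.card ((P : Subgroup G) ⊓ Q : Subgroup G) * p = Nat.card P := by
  have h1 := h.index_stabilizer hp2 P Q hPQ
  rw [stabilizer_eq] at h1
  have h2 : ((P : Subgroup G) ⊓ Q).relIndex P = p := h1
  have := card_mul_relIndex' (inf_le_left : (P : Subgroup G) ⊓ Q ≤ P)
  rw [h2] at this; exact this

/-- if all fibers of `f` on `s` have `k` elements then `k ∣ s.card` -/
lemma dvd_card_of_fibers' {α β : Type*} [DecidableEq β] (s : Finset α) (f : α → β) (k : ℕ)
    (hk : ∀ y ∈ s, (s.filter (fun x => f x = f y)).card = k) : k ∣ s.card := by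
  rw [Finset.card_eq_sum_card_fiberwise (f := f) (t := s.image f)
    (fun x hx => Finset.mem_image_of_mem f hx)]
  apply Finset.dvd_sum
  intro b hb
  obtain ⟨y, hy, rfl⟩ := Finset.mem_image.1 hb
  rw [hk y hy]

/-- set version -/
lemma dvd_ncard_of_fibers' {α β : Type*} [Finite α] (s : Set α) (f : α → β) (k : ℕ)
    (hk : ∀ y ∈ s, {x | x ∈ s ∧ f x = f y}.ncard = k) : k ∣ s.ncard := by
  classical
  haveI := Fintype.ofFinite α
  rw [Set.ncard_eq_toFinset_card' s]
  apply dvd_card_of_fibers' s.toFinset f k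
  intro y hy
  rw [← hk y (Set.mem_toFinset.1 hy), Set.ncard_eq_toFinset_card']
  congr 1
  ext x
  simp

lemma ncard_offDiag' {α : Type*} [Finite α] (s : Set α) :
    s.offDiag.ncard = s.ncard * s.ncard - s.ncard := by
  classical
  haveI := Fintype.ofFinite α
  rw [Set.ncard_eq_toFinset_card' s, Set.ncard_eq_toFinset_card' s.offDiag, Set.toFinset_offDiag,
    Finset.offDiag_card]

end Cfsg.Agent.Lib.H21.TwoP1
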