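import Mathlib
import Cfsg.Agent.Lib.H21.TwoP1a

/-!
# Groups with exactly `2p + 1` Sylow `p`-subgroups, part 2: the Sylow subgroups have order `p`
-/

set_option autoImplicit false

namespace Cfsg.Agent.Lib.H21.TwoP1

open Subgroup MulAction
open scoped Pointwise

universe u

variable {G : Type u} [Group G] [Finite G] {p : ℕ} [hp : Fact p.Prime]

/-- the Sylow subgroups containing `D` -/
def Above (D : Subgroup G) : Set (Sylow p G) := {R | D ≤ R}

omit [Finite G] in
theorem mem_Above {D : Subgroup G} {R : Sylow p G} : R ∈ (Above D : Set (Sylow p G)) ↔ D ≤ R :=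
  Iff.rfl

/-- The number of Sylow subgroups above a `p`-subgroup `D` is `≡ 2p+1 mod p`. -/
theorem ncard_Above_modEq (D : Subgroup G) (hD : IsPGroup p D) :
    Nat.card (Sylow p G) ≡ (Above D : Set (Sylow p G)).ncard [MOD p] := by
  have h1 := hD.card_modEq_card_fixedPoints (Sylow p G)
  have h2 : (fixedPoints D (Sylow p G) : Set (Sylow p G)) = Above D := by
    ext R
    rw [hD.sylow_mem_fixedPoints_iff, mem_Above]
  rw [Nat.card_coe_set_eq, h2] at h1
  exact h1

/-- In a minimal counterexample with `|P| ≠ p`, exactly `p+1` Sylow subgroups contain `P ∩ Q`. -/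
theorem MinCE.ncard_Above (h : MinCE p G) (hp2 : p ≠ 2) (P Q : Sylow p G) (hPQ : Q ≠ P)
    (hcard : Nat.card P ≠ p) :
    (Above ((P : Subgroup G) ⊓ Q) : Set (Sylow p G)).ncard = p + 1 := by
  have hpp : p.Prime := hp.out
  set D : Subgroup G := (P : Subgroup G) ⊓ Q with hDdef
  have hD : IsPGroup p D := P.isPGroup'.to_le inf_le_left
  have hmod := ncard_Above_modEq D hD
  rw [h.1] at hmod
  have hPA : P ∈ (Above D : Set (Sylow p G)) :=
    mem_Above.2 (inf_le_left : (P : Subgroup G) ⊓ Q ≤ P)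
  have hQA : Q ∈ (Above D : Set (Sylow p G)) :=
    mem_Above.2 (inf_le_right : (P : Subgroup G) ⊓ Q ≤ Q)
  have h2 : 1 < (Above D : Set (Sylow p G)).ncard :=
    (Set.one_lt_ncard (Set.toFinite _)).2 ⟨Q, hQA, P, hPA, hPQ⟩
  have hle : (Above D : Set (Sylow p G)).ncard ≤ 2 * p + 1 := by
    rw [← h.1, ← Set.ncard_univ]
    exact Set.ncard_le_ncard (Set.subset_univ _) (Set.toFinite _)
  have hne : (Above D : Set (Sylow p G)).ncard ≠ 2 * p + 1 := by
    intro heq
    have huniv : (Above D : Set (Sylow p G)) = Set.univ := by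
      apply Set.eq_of_subset_of_ncard_le (Set.subset_univ _) _ (Set.toFinite _)
      rw [Set.ncard_univ, h.1, heq]
    have hDbot : D = ⊥ := by
      rw [eq_bot_iff]
      intro d hd
      rw [Subgroup.mem_bot]
      apply h.eq_one_of_forall_smul
      intro R
      rw [Sylow.smul_eq_iff_mem_normalizer]
      have hR : R ∈ (Above D : Set (Sylow p G)) := huniv ▸ Set.mem_univ R
      exact le_normalizer (hR hd)
    apply hcard
    have := h.card_inf_mul hp2 P Q hPQ
    rw [← hDdef, hDbot, Subgroup.card_bot, one_mul] at this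
    exact this.symm
  -- arithmetic
  set n := (Above D : Set (Sylow p G)).ncard with hn
  have h3 : p ∣ n - 1 := by
    have h4 : (2 * p + 1) ≡ 1 [MOD p] := by
      have : (2 * p + 1) % p = 1 % p := by
        rw [Nat.add_mod, Nat.mul_mod_left, zero_add, Nat.mod_mod]
      exact this
    have h5 : 1 ≡ n [MOD p] := h4.symm.trans hmod
    exact (Nat.modEq_iff_dvd' (by omega : 1 ≤ n)).1 h5
  obtain ⟨t, ht⟩ := h3
  have ht1 : t = 1 := by
    rcases Nat.lt_or_ge t 1 with h5 | h5
    · have : t = 0 := by omega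
      rw [this, mul_zero] at ht; omega
    · rcases Nat.lt_or_ge t 2 with h6 | h6
      · omega
      · have : p * 2 ≤ p * t := Nat.mul_le_mul_left p h6
        omega
  rw [ht1, mul_one] at ht
  omega

/-- In a minimal counterexample the Sylow `p`-subgroups have order `p`. -/
theorem MinCE.card_sylow (h : MinCE p G) (hp2 : p ≠ 2) (P : Sylow p G) : Nat.card P = p := by
  have hpp : p.Prime := hp.out
  by_contra hcard
  have hcardR : ∀ R : Sylow p G, Nat.card R = Nat.card P := by
    intro R
    rw [R.card_eq_multiplicity, P.card_eq_multiplicity]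
  set T : Set (Sylow p G × Sylow p G) := (Set.univ : Set (Sylow p G)).offDiag with hT
  have hTcard : T.ncard = (2 * p + 1) * (2 * p) := by
    rw [hT, ncard_offDiag', Set.ncard_univ, h.1]
    apply Nat.sub_eq_of_eq_add
    ring
  have hdvd : (p + 1) * p ∣ T.ncard := by
    apply dvd_ncard_of_fibers' T
      (fun x : Sylow p G × Sylow p G => ((x.1 : Subgroup G) ⊓ (x.2 : Subgroup G) : Subgroup G))
    intro y hy
    have hy12 : y.1 ≠ y.2 := by
      rw [hT, Set.mem_offDiag] at hy; exact hy.2.2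
    have hfib : {x : Sylow p G × Sylow p G | x ∈ T ∧
        ((x.1 : Subgroup G) ⊓ (x.2 : Subgroup G) : Subgroup G) = (y.1 : Subgroup G) ⊓ y.2} =
        (Above ((y.1 : Subgroup G) ⊓ y.2) : Set (Sylow p G)).offDiag := by
      ext x
      simp only [Set.mem_ofPred_eq, hT, Set.mem_offDiag, Set.mem_univ, true_and, mem_Above]
      constructor
      · rintro ⟨hx, hxy⟩
        exact ⟨hxy ▸ inf_le_left, hxy ▸ inf_le_right, hx⟩
      · rintro ⟨hx1, hx2, hx⟩
        refine ⟨hx, ?_⟩
        symm
        apply Subgroup.eq_of_le_of_card_ge (le_inf hx1 hx2)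
        have h1 := h.card_inf_mul hp2 x.1 x.2 (Ne.symm hx)
        have h2 := h.card_inf_mul hp2 y.1 y.2 (Ne.symm hy12)
        rw [hcardR] at h1 h2
        have h3 : Nat.card ((x.1 : Subgroup G) ⊓ x.2 : Subgroup G) * p =
            Nat.card ((y.1 : Subgroup G) ⊓ y.2 : Subgroup G) * p := h1.trans h2.symm
        exact (Nat.eq_of_mul_eq_mul_right hpp.pos h3).le
    rw [hfib, ncard_offDiag', h.ncard_Above hp2 y.1 y.2 (Ne.symm hy12) (by rw [hcardR]; exact hcard)]
    apply Nat.sub_eq_of_eq_add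
    ring
  rw [hTcard] at hdvd
  obtain ⟨c, hc⟩ := hdvd
  have h2 : 2 ≤ p := hpp.two_le
  rcases Nat.lt_or_ge c 4 with h4 | h4
  · have : (p + 1) * p * c ≤ (p + 1) * p * 3 := Nat.mul_le_mul_left _ (by omega)
    nlinarith
  · have : (p + 1) * p * 4 ≤ (p + 1) * p * c := Nat.mul_le_mul_left _ h4
    nlinarith

end Cfsg.Agent.Lib.H21.TwoP1
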