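import Mathlib
import Cfsg.Agent.Lib.H21.TwoP1b

/-!
# Groups with exactly `2p + 1` Sylow `p`-subgroups, part 3: `C_G(P) = P`
-/

set_option autoImplicit false

namespace Cfsg.Agent.Lib.H21.TwoP1

open Subgroup MulAction
open scoped Pointwise

universe u

variable {G : Type u} [Group G] [Finite G] {p : ℕ} [hp : Fact p.Prime]

/-- the Sylow subgroups normalized by `c` -/
def FixSet (p : ℕ) (c : G) : Set (Sylow p G) := {Q | c • Q = Q}

/-- For `1 ≠ c ∈ C_G(P)`, the number of Sylow subgroups normalized by `c` is `1` or `p + 1`. -/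
theorem MinCE.ncard_fixSet (h : MinCE p G) (hp2 : p ≠ 2) (P : Sylow p G) (c : G)
    (hc : c ∈ centralizer ((P : Subgroup G) : Set G)) (hc1 : c ≠ 1) :
    (FixSet p c : Set (Sylow p G)).ncard = 1 ∨ (FixSet p c : Set (Sylow p G)).ncard = p + 1 := by
  have hpp : p.Prime := hp.out
  set F : Set (Sylow p G) := FixSet p c with hF
  have hPF : P ∈ F := by
    show c • P = P
    rw [Sylow.smul_eq_iff_mem_normalizer]
    exact Subgroup.centralizer_le_normalizer _ hc
  have hdvd : p ∣ (F \ {P}).ncard := by
    apply dvd_ncard_of_forall_dvd_index_stabilizer (G := (P : Subgroup G)) p (F \ {P})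
      (Set.toFinite _)
    · rintro g x ⟨hxF, hxP⟩
      refine ⟨?_, ?_⟩
      · show c • (g • x) = g • x
        have hxF' : c • x = x := hxF
        have hg : (g : G) * c = c * (g : G) := (Subgroup.mem_centralizer_iff.1 hc) g g.2
        calc c • (g • x) = (c * (g : G)) • x := by rw [mul_smul]; rfl
          _ = ((g : G) * c) • x := by rw [hg]
          _ = g • x := by rw [mul_smul, hxF']; rfl
      · rw [Set.mem_singleton_iff] at hxP ⊢
        intro hgx
        apply hxP
        have h1 : (g : G) • x = P := hgx
        have h2 : (g : G)⁻¹ • P = P := by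
          rw [Sylow.smul_eq_iff_mem_normalizer]
          exact le_normalizer ((P : Subgroup G).inv_mem g.2)
        calc x = (g : G)⁻¹ • ((g : G) • x) := by rw [smul_smul, inv_mul_cancel, one_smul]
          _ = (g : G)⁻¹ • P := by rw [h1]
          _ = P := h2
    · rintro x ⟨-, hxP⟩
      rw [h.index_stabilizer hp2 P x hxP]
  have hcard : F.ncard = (F \ {P}).ncard + 1 :=
    (Set.ncard_sdiff_singleton_add_one hPF (Set.toFinite _)).symm
  have hle : F.ncard ≤ 2 * p + 1 := by
    rw [← h.1, ← Set.ncard_univ]
    exact Set.ncard_le_ncard (Set.subset_univ _) (Set.toFinite _)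
  have hne : F.ncard ≠ 2 * p + 1 := by
    intro heq
    have huniv : F = Set.univ := by
      apply Set.eq_of_subset_of_ncard_le (Set.subset_univ _) _ (Set.toFinite _)
      rw [Set.ncard_univ, h.1, heq]
    apply hc1
    apply h.eq_one_of_forall_smul
    intro R
    have hR : R ∈ F := huniv ▸ Set.mem_univ R
    exact hR
  obtain ⟨t, ht⟩ := hdvd
  rcases Nat.lt_or_ge t 1 with h5 | h5
  · left
    have : t = 0 := by omega
    rw [this, mul_zero] at ht; omega
  · rcases Nat.lt_or_ge t 2 with h6 | h6
    · right
      have : t = 1 := by omega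
      rw [this, mul_one] at ht; omega
    · exfalso
      have : p * 2 ≤ p * t := Nat.mul_le_mul_left p h6
      omega

/-- An element acting on the Sylow set as an odd permutation is impossible. -/
theorem MinCE.sign_eq_one [DecidableEq (Sylow p G)] [Fintype (Sylow p G)] (h : MinCE p G)
    (hp2 : p ≠ 2) (c : G) :
    Equiv.Perm.sign (MulAction.toPermHom G (Sylow p G) c) = 1 := by
  have hpp : p.Prime := hp.out
  by_contra hne
  set φ : G →* ℤˣ := (Equiv.Perm.sign).comp (MulAction.toPermHom G (Sylow p G)) with hφ
  have hcM : c ∉ φ.ker := by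
    rw [MonoidHom.mem_ker]; exact hne
  have hMtop : φ.ker ≠ ⊤ := fun htop => hcM (htop ▸ Subgroup.mem_top c)
  have hidx : φ.ker.index ∣ 2 := by
    rw [Subgroup.index_ker]
    have := Subgroup.card_subgroup_dvd_card φ.range
    rw [Nat.card_eq_fintype_card (α := ℤˣ), Fintype.card_units_int] at this
    exact this
  apply h.false_of_normal φ.ker hMtop
  intro hpd
  have := Nat.le_of_dvd (by norm_num) (hpd.trans hidx)
  have := hpp.two_le
  omega

/-- In a minimal counterexample the centralizer of a Sylow `p`-subgroup is the subgroup itself. -/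
theorem MinCE.centralizer_eq (h : MinCE p G) (hp2 : p ≠ 2) (P : Sylow p G) :
    centralizer ((P : Subgroup G) : Set G) = P := by
  classical
  have hpp : p.Prime := hp.out
  have hodd : Odd p := hpp.odd_of_ne_two hp2
  have hPcard := h.card_sylow hp2 P
  set C : Subgroup G := centralizer ((P : Subgroup G) : Set G) with hC
  -- `P` is commutative
  have hPC : (P : Subgroup G) ≤ C := by
    haveI : Fact (Nat.card (P : Subgroup G)).Prime := ⟨hPcard.symm ▸ hpp⟩
    haveI : IsCyclic (P : Subgroup G) := isCyclic_of_prime_card rfl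
    intro x hx
    rw [hC, Subgroup.mem_centralizer_iff]
    intro y hy
    have := (IsCyclic.isMulCommutative (α := (P : Subgroup G))).is_comm.comm
      (⟨x, hx⟩ : (P : Subgroup G)) ⟨y, hy⟩
    exact (Subtype.ext_iff.1 this).symm
  -- only the prime `p` divides `|C|`
  have hprimes : ∀ {r : ℕ}, r.Prime → r ∣ Nat.card C → r = p := by
    intro r hr hrC
    by_contra hrp
    haveI : Fact r.Prime := ⟨hr⟩
    obtain ⟨c', hc'⟩ := exists_prime_orderOf_dvd_card' (G := C) r hrC
    set c : G := (c' : G) with hcdef
    have hcC : c ∈ C := c'.2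
    have hcord : orderOf c = r := by rw [hcdef, Subgroup.orderOf_coe]; exact hc'
    have hc1 : c ≠ 1 := by
      intro h1
      rw [h1, orderOf_one] at hcord
      exact hr.one_lt.ne hcord
    -- fixed points of `⟨c⟩`
    have hZ : IsPGroup r (zpowers c) := by
      apply IsPGroup.of_card (n := 1)
      rw [Nat.card_zpowers, hcord, pow_one]
    have hmod := hZ.card_modEq_card_fixedPoints (Sylow p G)
    have hfix : (fixedPoints (zpowers c) (Sylow p G) : Set (Sylow p G)) = FixSet p c := by
      ext R
      constructor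
      · intro hR
        exact hR ⟨c, Subgroup.mem_zpowers c⟩
      · intro hR x
        have hle : zpowers c ≤ MulAction.stabilizer G R :=
          Subgroup.zpowers_le.2 (MulAction.mem_stabilizer_iff.2 hR)
        exact MulAction.mem_stabilizer_iff.1 (hle x.2)
    rw [Nat.card_coe_set_eq, hfix, h.1] at hmod
    rcases h.ncard_fixSet hp2 P c hcC hc1 with h1 | h1
    · rw [h1] at hmod
      -- r ∣ 2p, so r = 2
      have hr2p : r ∣ 2 * p := by
        have := (Nat.modEq_iff_dvd' (by omega : 1 ≤ 2 * p + 1)).1 hmod.symm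
        simpa using this
      have hr2 : r = 2 := by
        rcases (Nat.Prime.dvd_mul hr).1 hr2p with h2 | h2
        · exact (Nat.prime_dvd_prime_iff_eq hr Nat.prime_two).1 h2
        · exact absurd ((Nat.prime_dvd_prime_iff_eq hr hpp).1 h2) hrp
      -- the sign of `c` is `-1`
      haveI : Fintype (Sylow p G) := Fintype.ofFinite _
      have hsign := h.sign_eq_one hp2 c
      set σ : Equiv.Perm (Sylow p G) := MulAction.toPermHom G (Sylow p G) c with hσ
      have hσ2 : σ ^ 2 = 1 := by
        rw [hσ, ← map_pow, ← hr2, ← hcord, pow_orderOf_eq_one, map_one]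
      have h3 := Equiv.Perm.sign_of_pow_two_eq_one hσ2
      have h4 : Fintype.card (Sylow p G) = 2 * p + 1 := by
        rw [← Nat.card_eq_fintype_card]; exact h.1
      have h5 : Fintype.card (Function.fixedPoints σ) = 1 := by
        rw [← Nat.card_eq_fintype_card, Nat.card_coe_set_eq]
        exact h1
      rw [h4, h5, hsign] at h3
      have h6 : (2 * p + 1 - 1) / 2 = p := by omega
      rw [h6, hodd.neg_one_pow] at h3
      exact absurd h3 (by decide)
    · rw [h1] at hmod
      have hrp' : r ∣ p := by
        have := (Nat.modEq_iff_dvd' (by omega : p + 1 ≤ 2 * p + 1)).1 hmod.symm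
        have h7 : 2 * p + 1 - (p + 1) = p := by omega
        rwa [h7] at this
      exact hrp ((Nat.prime_dvd_prime_iff_eq hr hpp).1 hrp')
  have hCpow := Nat.eq_prime_pow_of_unique_prime_dvd (Nat.card_pos (α := C)).ne' hprimes
  have hCp : IsPGroup p C := IsPGroup.of_card hCpow
  exact P.is_maximal' hCp hPC

end Cfsg.Agent.Lib.H21.TwoP1
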