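import Mathlib
import Cfsg.Agent.Lib.H21.TwoP1c

/-!
# Groups with exactly `2p + 1` Sylow `p`-subgroups, part 4: the order of a minimal counterexample
-/

set_option autoImplicit false

namespace Cfsg.Agent.Lib.H21.TwoP1

open Subgroup MulAction
open scoped Pointwise

universe u

variable {G : Type u} [Group G] [Finite G] {p : ℕ} [hp : Fact p.Prime]

/-- `|N_G(L) : C_G(L)|` divides `ℓ - 1` for a subgroup `L` of prime order `ℓ`. -/
theorem relIndex_centralizer_normalizer_dvd {ℓ : ℕ} (hℓ : ℓ.Prime) (L : Subgroup G)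
    (hL : Nat.card L = ℓ) :
    (centralizer (L : Set G)).relIndex (normalizer (L : Set G)) ∣ ℓ - 1 := by
  haveI : Fact (Nat.card L).Prime := ⟨hL.symm ▸ hℓ⟩
  haveI : IsCyclic L := isCyclic_of_prime_card rfl
  have key := Subgroup.card_dvd_of_injective _ (QuotientGroup.kerLift_injective L.normalizerMonoidHom)
  rw [Subgroup.normalizerMonoidHom_ker, ← Subgroup.index, ← Subgroup.relIndex] at key
  rw [IsCyclic.card_mulAut, hL, Nat.totient_prime hℓ] at key
  exact key

/-- The order of a minimal counterexample is `(2p+1) p e` with `e ∣ p - 1`. -/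
theorem MinCE.exists_card (h : MinCE p G) (hp2 : p ≠ 2) :
    ∃ e : ℕ, e ∣ p - 1 ∧ Nat.card G = (2 * p + 1) * (p * e) := by
  have hpp : p.Prime := hp.out
  obtain ⟨P⟩ : Nonempty (Sylow p G) := inferInstance
  have hPcard := h.card_sylow hp2 P
  have hC := h.centralizer_eq hp2 P
  refine ⟨(centralizer ((P : Subgroup G) : Set G)).relIndex (normalizer ((P : Subgroup G) : Set G)),
    relIndex_centralizer_normalizer_dvd hpp (P : Subgroup G) hPcard, ?_⟩
  have h1 := Subgroup.index_mul_card (normalizer ((P : Subgroup G) : Set G))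
  have h2 : (normalizer ((P : Subgroup G) : Set G)).index = 2 * p + 1 := by
    rw [← h.1]; exact (P.card_eq_index_normalizer).symm
  have h3 := card_mul_relIndex' (Subgroup.centralizer_le_normalizer ((P : Subgroup G) : Set G))
  rw [← h1, h2, ← h3, hC, hPcard]

/-- A Sylow `ℓ`-subgroup has order `ℓ` when `ℓ` divides `|G|` exactly once. -/
theorem sylow_card_eq_prime {ℓ : ℕ} [hℓ : Fact ℓ.Prime] (L : Sylow ℓ G) (h1 : ℓ ∣ Nat.card G)
    (h2 : ¬ ℓ ^ 2 ∣ Nat.card G) : Nat.card L = ℓ := by
  obtain ⟨k, hk⟩ := L.isPGroup'.exists_card_eq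
  have hd := L.dvd_card_of_dvd_card h1
  rcases Nat.lt_or_ge k 1 with h0 | h0
  · have : k = 0 := by omega
    rw [this, pow_zero] at hk
    rw [hk] at hd
    exact absurd (Nat.le_of_dvd one_pos hd) (by have := hℓ.out.two_le; omega)
  · rcases Nat.lt_or_ge k 2 with h3 | h3
    · have : k = 1 := by omega
      rw [this, pow_one] at hk; exact hk
    · exfalso
      apply h2
      have h4 : ℓ ^ 2 ∣ ℓ ^ k := pow_dvd_pow ℓ h3
      rw [← hk] at h4
      exact h4.trans (Subgroup.card_subgroup_dvd_card _)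

/-- Burnside: a Sylow subgroup of prime order `ℓ` with `gcd(ℓ - 1, |G|) = 1` has a normal
complement, so `G` has a normal subgroup of index `ℓ`. -/
theorem exists_normal_index_of_sylow_prime_card {ℓ : ℕ} [hℓ : Fact ℓ.Prime] (L : Sylow ℓ G)
    (hL : Nat.card L = ℓ) (hcop : Nat.Coprime (ℓ - 1) (Nat.card G)) :
    ∃ M : Subgroup G, M.Normal ∧ M.index = ℓ := by
  have h1 := relIndex_centralizer_normalizer_dvd hℓ.out (L : Subgroup G) hL
  have h2 : (centralizer ((L : Subgroup G) : Set G)).relIndex (normalizer ((L : Subgroup G) : Set G))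
      ∣ Nat.card G :=
    (Subgroup.relIndex_dvd_card _ _).trans (Subgroup.card_subgroup_dvd_card _)
  have h3 : (centralizer ((L : Subgroup G) : Set G)).relIndex
      (normalizer ((L : Subgroup G) : Set G)) = 1 :=
    Nat.eq_one_of_dvd_coprimes hcop h1 h2
  have hle : normalizer ((L : Subgroup G) : Set G) ≤ centralizer ((L : Subgroup G) : Set G) :=
    Subgroup.relIndex_eq_one.1 h3
  refine ⟨(MonoidHom.transferSylow L hle).ker, inferInstance, ?_⟩
  rw [(MonoidHom.ker_transferSylow_isComplement' L hle).symm.index_eq_card, hL]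

/-- A minimal counterexample has odd order. -/
theorem MinCE.odd_card (h : MinCE p G) (hp2 : p ≠ 2) : Odd (Nat.card G) := by
  have hpp : p.Prime := hp.out
  rw [← Nat.not_even_iff_odd]
  intro heven
  have h2G : 2 ∣ Nat.card G := heven.two_dvd
  haveI : Fact (Nat.Prime 2) := ⟨Nat.prime_two⟩
  obtain ⟨S⟩ : Nonempty (Sylow 2 G) := inferInstance
  -- `S` normalizes some Sylow `p`-subgroup
  obtain ⟨Q, hQ⟩ : ∃ Q : Sylow p G, (S : Subgroup G) ≤ normalizer ((Q : Subgroup G) : Set G) := by
    have hmod := S.isPGroup'.card_modEq_card_fixedPoints (Sylow p G)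
    rw [h.1] at hmod
    have hne : Nat.card (fixedPoints (S : Subgroup G) (Sylow p G)) ≠ 0 := by
      intro h0
      rw [h0] at hmod
      have := hmod
      unfold Nat.ModEq at this
      omega
    have : Nonempty (fixedPoints (S : Subgroup G) (Sylow p G)) := by
      by_contra hemp
      rw [not_nonempty_iff] at hemp
      exact hne Nat.card_of_isEmpty
    obtain ⟨⟨Q, hQ⟩⟩ := this
    exact ⟨Q, (Subgroup.sylow_mem_fixedPoints_iff _).1 hQ⟩
  have hQcard := h.card_sylow hp2 Q
  have hC := h.centralizer_eq hp2 Q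
  haveI : Fact (Nat.card (Q : Subgroup G)).Prime := ⟨hQcard.symm ▸ hpp⟩
  haveI : IsCyclic (Q : Subgroup G) := isCyclic_of_prime_card rfl
  haveI : IsCyclic (MulAut (Q : Subgroup G)) :=
    isCyclic_of_injective (IsCyclic.mulAutMulEquiv (Q : Subgroup G)).toMonoidHom
      (IsCyclic.mulAutMulEquiv (Q : Subgroup G)).injective
  -- `S` embeds in `Aut(Q)`
  set f : (S : Subgroup G) →* MulAut (Q : Subgroup G) :=
    (Q : Subgroup G).normalizerMonoidHom.comp (Subgroup.inclusion hQ) with hf
  have hinj : Function.Injective f := by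
    rw [injective_iff_map_eq_one]
    intro x hx
    have h1 : Subgroup.inclusion hQ x ∈ (Q : Subgroup G).normalizerMonoidHom.ker := hx
    rw [Subgroup.normalizerMonoidHom_ker, Subgroup.mem_subgroupOf, hC] at h1
    have h2 : (x : G) ∈ (S : Subgroup G) ⊓ (Q : Subgroup G) := ⟨x.2, h1⟩
    have hdisj := IsPGroup.disjoint_of_ne 2 p (Ne.symm hp2) (S : Subgroup G) (Q : Subgroup G)
      S.isPGroup' Q.isPGroup'
    rw [disjoint_iff.1 hdisj, Subgroup.mem_bot] at h2
    exact Subtype.ext h2
  have hScyc : IsCyclic (S : Subgroup G) := isCyclic_of_injective f hinj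
  have hmin : (Nat.card G).minFac = 2 := (Nat.minFac_eq_two_iff _).2 h2G
  have hcompl := IsCyclic.isComplement' hmin hScyc
  set M := (MonoidHom.transferSylow S (hScyc.normalizer_le_centralizer hmin)).ker with hM
  have hidx : M.index = Nat.card (S : Subgroup G) := hcompl.symm.index_eq_card
  have h2S : 2 ∣ Nat.card (S : Subgroup G) := S.dvd_card_of_dvd_card h2G
  apply h.false_of_normal M
  · intro htop
    rw [htop, Subgroup.index_top] at hidx
    rw [← hidx] at h2S
    omega
  · rw [hidx]
    obtain ⟨k, hk⟩ := S.isPGroup'.exists_card_eq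
    rw [hk]
    intro hdvd
    have := (Nat.prime_dvd_prime_iff_eq hpp Nat.prime_two).1 (hpp.dvd_of_dvd_pow hdvd)
    exact hp2 this

/-- If no minimal counterexample exists then no group has exactly `2p+1` Sylow `p`-subgroups. -/
theorem card_sylow_ne_of_no_minCE (p : ℕ) [Fact p.Prime]
    (hno : ∀ (G : Type u) [Group G] [Finite G], MinCE p G → False) :
    ∀ (n : ℕ) (G : Type u) [Group G] [Finite G], Nat.card G = n →
      Nat.card (Sylow p G) ≠ 2 * p + 1 := by
  intro n
  induction n using Nat.strong_induction_on with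
  | _ n ih =>
    intro G _ _ hn hc
    exact hno G ⟨hc, fun H _ _ hlt => ih (Nat.card H) (hn ▸ hlt) H rfl⟩

end Cfsg.Agent.Lib.H21.TwoP1
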