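import Mathlib
import Cfsg.Agent.Lib.H21.TwoP1d

/-!
# Minimal groups with exactly `n` Sylow `p`-subgroups (helper21)

`MinN p n G`: `G` has exactly `n` Sylow `p`-subgroups and no group of smaller order does.
Generic facts: the action on the Sylow `p`-subgroups is faithful, a proper normal subgroup has
index divisible by `p`, every element acts as an even permutation (`p` odd), and for `n ≤ p²` the
Sylow subgroups have order `p`.
-/

set_option autoImplicit false

namespace Cfsg.Agent.Lib.H21.MinN

open Subgroup MulAction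
open scoped Pointwise
open Cfsg.Agent.Lib.H21 Cfsg.Agent.Lib.H21.TwoP1

universe u

variable {G : Type u} [Group G] [Finite G] {p n : ℕ} [hp : Fact p.Prime]

/-- `G` is a minimal group with exactly `n` Sylow `p`-subgroups. -/
def MinN (p n : ℕ) [Fact p.Prime] (G : Type u) [Group G] [Finite G] : Prop :=
  Nat.card (Sylow p G) = n ∧
  ∀ (H : Type u) [Group H] [Finite H], Nat.card H < Nat.card G →
    Nat.card (Sylow p H) ≠ n

/-- If no minimal counterexample exists then no group has exactly `n` Sylow `p`-subgroups. -/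
theorem card_sylow_ne_of_no_minN (p n : ℕ) [Fact p.Prime]
    (hno : ∀ (G : Type u) [Group G] [Finite G], MinN p n G → False) :
    ∀ (m : ℕ) (G : Type u) [Group G] [Finite G], Nat.card G = m →
      Nat.card (Sylow p G) ≠ n := by
  intro m
  induction m using Nat.strong_induction_on with
  | _ m ih =>
    intro G _ _ hm hc
    exact hno G ⟨hc, fun H _ _ hlt => ih (Nat.card H) (hm ▸ hlt) H rfl⟩

/-- A proper normal subgroup of a minimal counterexample has index divisible by `p`. -/
theorem MinN.false_of_normal (h : MinN p n G) (M : Subgroup G) [M.Normal] (hM : M ≠ ⊤)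
    (hpM : ¬ p ∣ M.index) : False := by
  obtain ⟨P⟩ : Nonempty (Sylow p G) := inferInstance
  have hPM := sylow_le_of_normal_of_not_dvd_index M hpM P
  have hc := card_sylow_eq_of_le_normal M P hPM
  exact h.2 M (card_lt_of_ne_top M hM) (hc ▸ h.1)

/-- In a minimal counterexample the conjugation action on Sylow `p`-subgroups is faithful. -/
theorem MinN.eq_one_of_forall_smul (h : MinN p n G) (k : G)
    (hk : ∀ Q : Sylow p G, k • Q = Q) : k = 1 := by
  set K : Subgroup G := (MulAction.toPermHom G (Sylow p G)).ker with hKdef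
  have hkK : k ∈ K := by
    rw [hKdef, MonoidHom.mem_ker]
    apply Equiv.ext
    intro Q
    exact hk Q
  have hKN : ∀ Q : Sylow p G, K ≤ normalizer (Q : Set G) := by
    intro Q x hx
    rw [← Sylow.smul_eq_iff_mem_normalizer]
    rw [hKdef, MonoidHom.mem_ker] at hx
    have := congrArg (fun σ : Equiv.Perm (Sylow p G) => σ Q) hx
    simpa using this
  suffices hK : K = ⊥ by
    rw [hK, Subgroup.mem_bot] at hkK; exact hkK
  by_contra hK
  obtain ⟨P⟩ : Nonempty (Sylow p G) := inferInstance
  have hlt : Nat.card (G ⧸ K) < Nat.card G := by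
    have h1 := Subgroup.card_eq_card_quotient_mul_card_subgroup K
    have h2 : 1 < Nat.card K := by
      rw [Subgroup.one_lt_card_iff_ne_bot]; exact hK
    have h3 : 0 < Nat.card (G ⧸ K) := Nat.card_pos
    rw [h1]; nlinarith
  apply h.2 (G ⧸ K) hlt
  have hs := QuotientGroup.mk'_surjective K
  have hle : Nat.card (Sylow p (G ⧸ K)) ≤ n := by
    rw [← h.1]
    exact Nat.card_le_card_of_surjective _ (Sylow.mapSurjective_surjective hs p)
  have hdvd : n ∣ Nat.card (Sylow p (G ⧸ K)) := by
    rw [card_sylow_quotient K P, ← h.1, P.card_eq_index_normalizer]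
    apply Subgroup.index_dvd_of_le
    intro x hx
    rw [← Sylow.smul_eq_iff_mem_normalizer]
    set Q := x • P with hQ
    have hQle : (Q : Subgroup G) ≤ (P : Subgroup G) ⊔ K := by
      intro y hy
      have hQ' : (Q : Subgroup G) = MulAut.conj x • (P : Subgroup G) := Sylow.coe_subgroup_smul
      rw [hQ', Subgroup.mem_pointwise_smul_iff_inv_smul_mem, MulAut.smul_def,
        MulAut.conj_inv_apply] at hy
      have h1 : x⁻¹ * y * x ∈ (P : Subgroup G) ⊔ K := le_sup_left (a := (P : Subgroup G)) hy
      have h2 := (Subgroup.mem_normalizer_iff.1 hx (x⁻¹ * y * x)).1 h1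
      rw [show x * (x⁻¹ * y * x) * x⁻¹ = y by group] at h2
      exact h2
    have hQN : (Q : Subgroup G) ≤ normalizer ((P : Subgroup G) : Set G) :=
      hQle.trans (sup_le le_normalizer (hKN P))
    have hQP : (Q : Subgroup G) ≤ P := by
      have := Q.isPGroup'.inf_normalizer_sylow P
      calc (Q : Subgroup G) ≤ (Q : Subgroup G) ⊓ normalizer (P : Set G) := le_inf le_rfl hQN
        _ = (Q : Subgroup G) ⊓ P := this
        _ ≤ P := inf_le_right
    exact Sylow.ext (Q.is_maximal' P.isPGroup' hQP).symm
  have hpos : 0 < Nat.card (Sylow p (G ⧸ K)) := Nat.card_pos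
  exact le_antisymm hle (Nat.le_of_dvd hpos hdvd)

/-- In a minimal counterexample with `n ≤ p²` all the intersections `P ∩ Q` have index `p`
in `P`. -/
theorem MinN.index_stabilizer (h : MinN p n G) (hn : n ≤ p * p) (P Q : Sylow p G) (hPQ : Q ≠ P) :
    (MulAction.stabilizer (P : Subgroup G) Q).index = p := by
  have hpp : p.Prime := hp.out
  obtain ⟨k, hk⟩ := (P.isPGroup').index (MulAction.stabilizer (P : Subgroup G) Q)
  have hk0 : k ≠ 0 := by
    rintro rfl
    rw [pow_zero, Subgroup.index_eq_one] at hk
    exact stabilizer_ne_top P Q hPQ hk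
  have hle : (MulAction.stabilizer (P : Subgroup G) Q).index + 1 ≤ n := by
    rw [MulAction.index_stabilizer]
    have hsub : MulAction.orbit (P : Subgroup G) Q ⊆ ({P} : Set (Sylow p G))ᶜ := by
      rintro R ⟨x, rfl⟩
      rw [Set.mem_compl_iff, Set.mem_singleton_iff]
      intro hx
      apply hPQ
      have h1 : (x : G) • Q = P := hx
      have h2 : (x : G)⁻¹ • P = P := by
        rw [Sylow.smul_eq_iff_mem_normalizer]
        exact le_normalizer ((P : Subgroup G).inv_mem x.2)
      calc Q = (x : G)⁻¹ • ((x : G) • Q) := by rw [smul_smul, inv_mul_cancel, one_smul]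
        _ = (x : G)⁻¹ • P := by rw [h1]
        _ = P := h2
    have h1 := Set.ncard_le_ncard hsub (Set.toFinite _)
    have h2 : (({P} : Set (Sylow p G))ᶜ).ncard + 1 = n := by
      rw [Set.ncard_compl, Set.ncard_singleton, h.1]
      have : 0 < n := h.1 ▸ Nat.card_pos
      omega
    omega
  rw [hk] at hle ⊢
  obtain ⟨k', rfl⟩ : ∃ k', k = k' + 1 := ⟨k - 1, by omega⟩
  rcases Nat.eq_zero_or_pos k' with h0 | h0
  · rw [h0]; simp
  · exfalso
    have h4 : p ^ 2 ≤ p ^ (k' + 1) := Nat.pow_le_pow_right hpp.pos (by omega)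
    nlinarith

theorem MinN.card_inf_mul (h : MinN p n G) (hn : n ≤ p * p) (P Q : Sylow p G) (hPQ : Q ≠ P) :
    Nat.card ((P : Subgroup G) ⊓ Q : Subgroup G) * p = Nat.card P := by
  have h1 := h.index_stabilizer hn P Q hPQ
  rw [stabilizer_eq] at h1
  have h2 : ((P : Subgroup G) ⊓ Q).relIndex P = p := h1
  have := card_mul_relIndex' (inf_le_left : (P : Subgroup G) ⊓ Q ≤ P)
  rw [h2] at this; exact this

/-- Every element acts on the Sylow set as an even permutation (`p` odd). -/
theorem MinN.sign_eq_one [DecidableEq (Sylow p G)] [Fintype (Sylow p G)] (h : MinN p n G)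
    (hp2 : p ≠ 2) (c : G) :
    Equiv.Perm.sign (MulAction.toPermHom G (Sylow p G) c) = 1 := by
  have hpp : p.Prime := hp.out
  by_contra hne
  set φ : G →* ℤˣ := (Equiv.Perm.sign).comp (MulAction.toPermHom G (Sylow p G)) with hφ
  have hcM : c ∉ φ.ker := by
    rw [MonoidHom.mem_ker]; exact hne
  have hMtop : φ.ker ≠ ⊤ := fun htop => hcM (htop ▸ Subgroup.mem_top c)
  have hidx : φ.ker.index ∣ 2 := by
    rw [Subgroup.index_ker]
    have := Subgroup.card_subgroup_dvd_card φ.range
    rw [Nat.card_eq_fintype_card (α := ℤˣ), Fintype.card_units_int] at this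
    exact this
  apply h.false_of_normal φ.ker hMtop
  intro hpd
  have := Nat.le_of_dvd (by norm_num) (hpd.trans hidx)
  have := hpp.two_le
  omega

end Cfsg.Agent.Lib.H21.MinN
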