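import Mathlib
import Cfsg.Agent.Lib.H21.MinN1

/-!
# Minimal groups with exactly `n ≤ p²` Sylow `p`-subgroups: the Sylow subgroups have order `p`
-/

set_option autoImplicit false

namespace Cfsg.Agent.Lib.H21.MinN

open Subgroup MulAction
open scoped Pointwise
open Cfsg.Agent.Lib.H21 Cfsg.Agent.Lib.H21.TwoP1

universe u

variable {G : Type u} [Group G] [Finite G] {p n : ℕ} [hp : Fact p.Prime]

/-- If two different Sylow subgroups contain the `p`-subgroup `E`, at least `p+1` do. -/
theorem succ_le_ncard_Above (E : Subgroup G) (hE : IsPGroup p E) (R R' : Sylow p G)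
    (hRR' : R ≠ R') (hR : E ≤ R) (hR' : E ≤ R') :
    p + 1 ≤ (Above E : Set (Sylow p G)).ncard := by
  have hpp : p.Prime := hp.out
  have hmod := ncard_Above_modEq E hE
  have h1 : Nat.card (Sylow p G) ≡ 1 [MOD p] := card_sylow_modEq_one p G
  have h2 : 1 < (Above E : Set (Sylow p G)).ncard :=
    (Set.one_lt_ncard (Set.toFinite _)).2 ⟨R, hR, R', hR', hRR'⟩
  have h3 : 1 ≡ (Above E : Set (Sylow p G)).ncard [MOD p] := h1.symm.trans hmod
  have h4 : p ∣ (Above E : Set (Sylow p G)).ncard - 1 := (Nat.modEq_iff_dvd' h2.le).1 h3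
  have h5 := Nat.le_of_dvd (by omega) h4
  omega

/-- In a minimal counterexample with `1 < n ≤ p²` the Sylow `p`-subgroups have order `p`. -/
theorem MinN.card_sylow (h : MinN p n G) (hn1 : 1 < n) (hn : n ≤ p * p) (P : Sylow p G) :
    Nat.card P = p := by
  classical
  have hpp : p.Prime := hp.out
  by_contra hcard
  have hcardR : ∀ R : Sylow p G, Nat.card R = Nat.card P := by
    intro R
    rw [R.card_eq_multiplicity, P.card_eq_multiplicity]
  -- intersections of distinct Sylows all have the same order
  have hinfcard : ∀ R R' : Sylow p G, R ≠ R' →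
      Nat.card ((R : Subgroup G) ⊓ R' : Subgroup G) * p = Nat.card P := by
    intro R R' hRR'
    rw [← hcardR R]
    exact h.card_inf_mul hn R R' (Ne.symm hRR')
  have hinfeq : ∀ (R R' : Sylow p G) (E : Subgroup G), R ≠ R' → E ≤ R → E ≤ R' →
      Nat.card E * p = Nat.card P → E = (R : Subgroup G) ⊓ R' := by
    intro R R' E hRR' hER hER' hEc
    apply Subgroup.eq_of_le_of_card_ge (le_inf hER hER')
    have h3 : Nat.card ((R : Subgroup G) ⊓ R' : Subgroup G) * p = Nat.card E * p :=
      (hinfcard R R' hRR').trans hEc.symm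
    exact (Nat.eq_of_mul_eq_mul_right hpp.pos h3).le
  -- a second Sylow subgroup
  obtain ⟨Q, hPQ⟩ : ∃ Q : Sylow p G, Q ≠ P := by
    by_contra hall
    push Not at hall
    haveI : Subsingleton (Sylow p G) := ⟨fun a b => (hall a).trans (hall b).symm⟩
    have : Nat.card (Sylow p G) ≤ 1 := Finite.card_le_one_iff_subsingleton.2 inferInstance
    rw [h.1] at this
    omega
  set D : Subgroup G := (P : Subgroup G) ⊓ Q with hDdef
  have hD : IsPGroup p D := P.isPGroup'.to_le inf_le_left
  have hDc : Nat.card D * p = Nat.card P := hinfcard P Q (Ne.symm hPQ)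
  have hDA : p + 1 ≤ (Above D : Set (Sylow p G)).ncard :=
    succ_le_ncard_Above D hD P Q (Ne.symm hPQ) inf_le_left inf_le_right
  -- some Sylow subgroup does not contain `D`
  obtain ⟨R, hR⟩ : ∃ R : Sylow p G, ¬ D ≤ R := by
    by_contra hall
    push Not at hall
    have hDbot : D = ⊥ := by
      rw [eq_bot_iff]
      intro d hd
      rw [Subgroup.mem_bot]
      apply h.eq_one_of_forall_smul
      intro R
      rw [Sylow.smul_eq_iff_mem_normalizer]
      exact le_normalizer (hall R hd)
    apply hcard
    rw [hDbot, Subgroup.card_bot, one_mul] at hDc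
    exact hDc.symm
  haveI : Fintype (Sylow p G) := Fintype.ofFinite _
  set s : Finset (Sylow p G) := Finset.univ.erase R with hs
  set f : Sylow p G → Subgroup G := fun R' => (R : Subgroup G) ⊓ R' with hf
  have hscard : s.card + 1 = n := by
    rw [hs, Finset.card_erase_of_mem (Finset.mem_univ R), Finset.card_univ,
      ← Nat.card_eq_fintype_card, h.1]
    omega
  -- every fibre of `f` on `s` has at least `p` elements
  have hfib : ∀ b ∈ s.image f, p ≤ (s.filter (fun a => f a = b)).card := by
    intro b hb
    obtain ⟨R', hR's, rfl⟩ := Finset.mem_image.1 hb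
    have hR'R : R' ≠ R := (Finset.mem_erase.1 hR's).1
    set E : Subgroup G := f R' with hE
    have hEp : IsPGroup p E := R.isPGroup'.to_le inf_le_left
    have hEA : p + 1 ≤ (Above E : Set (Sylow p G)).ncard :=
      succ_le_ncard_Above E hEp R R' (Ne.symm hR'R) inf_le_left inf_le_right
    have hEc : Nat.card E * p = Nat.card P := hinfcard R R' (Ne.symm hR'R)
    have hsub : (Above E : Set (Sylow p G)).toFinset.erase R ⊆ s.filter (fun a => f a = E) := by
      intro R'' hR''
      rw [Finset.mem_erase, Set.mem_toFinset, mem_Above] at hR''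
      rw [Finset.mem_filter, hs, Finset.mem_erase]
      refine ⟨⟨hR''.1, Finset.mem_univ _⟩, ?_⟩
      exact (hinfeq R R'' E (Ne.symm hR''.1) inf_le_left hR''.2 hEc).symm
    have h1 := Finset.card_le_card hsub
    have h2 : ((Above E : Set (Sylow p G)).toFinset.erase R).card + 1 =
        (Above E : Set (Sylow p G)).ncard := by
      rw [Finset.card_erase_of_mem, Set.ncard_eq_toFinset_card' (Above E : Set (Sylow p G))]
      · have : 0 < (Above E : Set (Sylow p G)).toFinset.card := by
          rw [← Set.ncard_eq_toFinset_card' (Above E : Set (Sylow p G))]; omega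
        omega
      · rw [Set.mem_toFinset, mem_Above]; exact inf_le_left
    omega
  have hmul := Finset.mul_card_image_le_card s p hfib
  -- `f` is injective on `Above D`
  have hinj : (Above D : Set (Sylow p G)).toFinset.card ≤ (s.image f).card := by
    apply Finset.card_le_card_of_injOn f
    · intro R' hR'
      rw [Finset.mem_coe, Set.mem_toFinset, mem_Above] at hR'
      rw [Finset.mem_coe]
      apply Finset.mem_image_of_mem
      rw [hs, Finset.mem_erase]
      refine ⟨fun heq => hR (heq ▸ hR'), Finset.mem_univ _⟩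
    · intro R' hR' R'' hR'' hfeq
      rw [Finset.mem_coe, Set.mem_toFinset, mem_Above] at hR' hR''
      by_contra hne
      have hR'R : R' ≠ R := fun heq => hR (heq ▸ hR')
      have hR''R : R'' ≠ R := fun heq => hR (heq ▸ hR'')
      -- `E = R ⊓ R' = R ⊓ R''` lies in `R' ⊓ R'' = D`
      have hEc : Nat.card (f R') * p = Nat.card P := hinfcard R R' (Ne.symm hR'R)
      have h1 : f R' = (R' : Subgroup G) ⊓ R'' :=
        hinfeq R' R'' (f R') hne inf_le_right (hfeq ▸ inf_le_right) hEc
      have h2 : D = (R' : Subgroup G) ⊓ R'' := hinfeq R' R'' D hne hR' hR'' hDc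
      apply hR
      rw [h2, ← h1]
      exact inf_le_left
  rw [← Set.ncard_eq_toFinset_card' (Above D : Set (Sylow p G))] at hinj
  have h5 : p * (p + 1) ≤ p * (s.image f).card := Nat.mul_le_mul_left p (hDA.trans hinj)
  nlinarith

end Cfsg.Agent.Lib.H21.MinN
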