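import Mathlib
import Cfsg.Agent.Lib.H21.MinN2

/-!
# A minimal group with exactly 21 Sylow 5-subgroups, part 1 (helper21)

Basic facts about the action of `N_G(P)` on the 21 Sylow 5-subgroups.
-/

set_option autoImplicit false

namespace Cfsg.Agent.Lib.H21.N21

open Subgroup MulAction
open scoped Pointwise
open Cfsg.Agent.Lib.H21 Cfsg.Agent.Lib.H21.TwoP1 Cfsg.Agent.Lib.H21.MinN

universe u

variable {G : Type u} [Group G] [Finite G]

instance fact5 : Fact (Nat.Prime 5) := ⟨by norm_num⟩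
instance fact2 : Fact (Nat.Prime 2) := ⟨Nat.prime_two⟩
instance fact3 : Fact (Nat.Prime 3) := ⟨Nat.prime_three⟩
instance fact7 : Fact (Nat.Prime 7) := ⟨by norm_num⟩

theorem card_P (h : MinN 5 21 G) (P : Sylow 5 G) : Nat.card P = 5 :=
  h.card_sylow (by norm_num) (by norm_num) P

theorem inf_eq_bot (h : MinN 5 21 G) (P Q : Sylow 5 G) (hPQ : Q ≠ P) :
    (P : Subgroup G) ⊓ Q = ⊥ := by
  have h1 := h.card_inf_mul (by norm_num) P Q hPQ
  rw [card_P h P] at h1
  have h2 : Nat.card ((P : Subgroup G) ⊓ Q : Subgroup G) = 1 := by omega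
  exact Subgroup.card_eq_one.1 h2

/-- `P` acts freely on the other Sylow subgroups. -/
theorem eq_one_of_smul_eq (h : MinN 5 21 G) (P Q : Sylow 5 G) (hPQ : Q ≠ P) (a : G)
    (ha : a ∈ (P : Subgroup G)) (haQ : a • Q = Q) : a = 1 := by
  rw [Sylow.smul_eq_iff_mem_normalizer] at haQ
  have h1 : a ∈ (P : Subgroup G) ⊓ normalizer (Q : Set G) := ⟨ha, haQ⟩
  rw [P.isPGroup'.inf_normalizer_sylow Q, inf_eq_bot h P Q hPQ, Subgroup.mem_bot] at h1
  exact h1

/-- elements of `P` fix `P` -/
theorem smul_self_of_mem (P : Sylow 5 G) (a : G) (ha : a ∈ (P : Subgroup G)) : a • P = P := by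
  rw [Sylow.smul_eq_iff_mem_normalizer]
  exact le_normalizer ha

/-- elements of `P` move the other Sylow subgroups to other Sylow subgroups -/
theorem smul_ne_of_mem (P Q : Sylow 5 G) (hPQ : Q ≠ P) (a : G) (ha : a ∈ (P : Subgroup G)) :
    a • Q ≠ P := by
  intro h1
  apply hPQ
  have h2 : a⁻¹ • P = P := smul_self_of_mem P a⁻¹ ((P : Subgroup G).inv_mem ha)
  calc Q = a⁻¹ • (a • Q) := by rw [smul_smul, inv_mul_cancel, one_smul]
    _ = a⁻¹ • P := by rw [h1]
    _ = P := h2

/-- `P` is generated by each of its nontrivial elements. -/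
theorem zpowers_eq (h : MinN 5 21 G) (P : Sylow 5 G) (a : G) (ha : a ∈ (P : Subgroup G))
    (ha1 : a ≠ 1) : zpowers a = (P : Subgroup G) := by
  have hle : zpowers a ≤ (P : Subgroup G) := Subgroup.zpowers_le.2 ha
  apply Subgroup.eq_of_le_of_card_ge hle
  rw [card_P h P, Nat.card_zpowers]
  have h1 : orderOf a ∣ 5 := by
    have := Subgroup.card_dvd_of_le hle
    rwa [Nat.card_zpowers, card_P h P] at this
  rcases (Nat.dvd_prime (by norm_num : Nat.Prime 5)).1 h1 with h2 | h2
  · exact absurd (orderOf_eq_one_iff.1 h2) ha1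
  · exact h2.ge

/-- `P` is abelian: `P ≤ C_G(P)`. -/
theorem le_centralizer (h : MinN 5 21 G) (P : Sylow 5 G) :
    (P : Subgroup G) ≤ centralizer ((P : Subgroup G) : Set G) := by
  have hPcard := card_P h P
  haveI : Fact (Nat.card (P : Subgroup G)).Prime := ⟨hPcard.symm ▸ (by norm_num : Nat.Prime 5)⟩
  haveI : IsCyclic (P : Subgroup G) := isCyclic_of_prime_card rfl
  intro x hx
  rw [Subgroup.mem_centralizer_iff]
  intro y hy
  have := (IsCyclic.isMulCommutative (α := (P : Subgroup G))).is_comm.comm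
    (⟨x, hx⟩ : (P : Subgroup G)) ⟨y, hy⟩
  exact (Subtype.ext_iff.1 this).symm

/-- an element commuting with a nontrivial element of `P` centralizes `P` -/
theorem mem_centralizer_of_commute (h : MinN 5 21 G) (P : Sylow 5 G) (a : G)
    (ha : a ∈ (P : Subgroup G)) (ha1 : a ≠ 1) (g : G) (hg : g * a = a * g) :
    g ∈ centralizer ((P : Subgroup G) : Set G) := by
  rw [Subgroup.mem_centralizer_iff]
  intro y hy
  have hy' : y ∈ zpowers a := by rw [zpowers_eq h P a ha ha1]; exact hy
  obtain ⟨k, rfl⟩ := Subgroup.mem_zpowers_iff.1 hy'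
  have hc : Commute g a := hg
  exact ((hc.zpow_right k).eq).symm

/-- **Lemma B**: an element of `N_G(P)` fixing two points of a `P`-orbit centralizes `P`. -/
theorem mem_centralizer_of_fix_two (h : MinN 5 21 G) (P Q : Sylow 5 G) (hPQ : Q ≠ P) (g : G)
    (hg : g ∈ normalizer ((P : Subgroup G) : Set G)) (hgQ : g • Q = Q) (a : G)
    (ha : a ∈ (P : Subgroup G)) (ha1 : a ≠ 1) (hga : g • (a • Q) = a • Q) :
    g ∈ centralizer ((P : Subgroup G) : Set G) := by
  set b : G := g * a * g⁻¹ with hb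
  have hbP : b ∈ (P : Subgroup G) := (Subgroup.mem_normalizer_iff.1 hg a).1 ha
  have h1 : b • Q = a • Q := by
    have : g • (a • Q) = b • (g • Q) := by
      rw [smul_smul, smul_smul, hb]
      congr 1
      group
    rw [← hga, this, hgQ]
  have h2 : (a⁻¹ * b) • Q = Q := by
    rw [mul_smul, h1, smul_smul, inv_mul_cancel, one_smul]
  have h3 : a⁻¹ * b = 1 :=
    eq_one_of_smul_eq h P Q hPQ _ ((P : Subgroup G).mul_mem ((P : Subgroup G).inv_mem ha) hbP) h2
  have h4 : b = a := by
    have := congrArg (fun x => a * x) h3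
    simpa using this
  apply mem_centralizer_of_commute h P a ha ha1
  have : g * a * g⁻¹ = a := h4
  calc g * a = (g * a * g⁻¹) * g := by group
    _ = a * g := by rw [this]

/-- the fixed points of the subgroup generated by `c` -/
theorem fixedPoints_zpowers (c : G) :
    (fixedPoints (zpowers c) (Sylow 5 G) : Set (Sylow 5 G)) = FixSet 5 c := by
  ext R
  constructor
  · intro hR
    exact hR ⟨c, Subgroup.mem_zpowers c⟩
  · intro hR x
    have hle : zpowers c ≤ MulAction.stabilizer G R :=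
      Subgroup.zpowers_le.2 (MulAction.mem_stabilizer_iff.2 hR)
    exact MulAction.mem_stabilizer_iff.1 (hle x.2)

/-- For `T ≤ C_G(P)`, the number of fixed points of `T` other than `P` is divisible by 5. -/
theorem five_dvd_ncard_fixedPoints (h : MinN 5 21 G) (P : Sylow 5 G) (T : Subgroup G)
    (hT : T ≤ centralizer ((P : Subgroup G) : Set G)) :
    5 ∣ ((fixedPoints T (Sylow 5 G) : Set (Sylow 5 G)) \ {P}).ncard := by
  set F : Set (Sylow 5 G) := fixedPoints T (Sylow 5 G) with hF
  apply dvd_ncard_of_forall_dvd_index_stabilizer (G := (P : Subgroup G)) 5 (F \ {P})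
    (Set.toFinite _)
  · rintro g x ⟨hxF, hxP⟩
    refine ⟨?_, ?_⟩
    · intro c
      have hxF' : (c : G) • x = x := hxF c
      have hg : (g : G) * (c : G) = (c : G) * (g : G) :=
        (Subgroup.mem_centralizer_iff.1 (hT c.2)) g g.2
      show (c : G) • ((g : G) • x) = (g : G) • x
      rw [smul_smul, ← hg, mul_smul, hxF']
    · rw [Set.mem_singleton_iff] at hxP ⊢
      exact smul_ne_of_mem P x hxP g g.2
  · rintro x ⟨-, hxP⟩
    rw [h.index_stabilizer (by norm_num) P x hxP]

theorem mem_fixedPoints_of_le_centralizer (P : Sylow 5 G) (T : Subgroup G)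
    (hT : T ≤ centralizer ((P : Subgroup G) : Set G)) :
    P ∈ (fixedPoints T (Sylow 5 G) : Set (Sylow 5 G)) := by
  intro c
  show (c : G) • P = P
  rw [Sylow.smul_eq_iff_mem_normalizer]
  exact Subgroup.centralizer_le_normalizer _ (hT c.2)

/-- For `T ≤ C_G(P)`, the number of fixed points of `T` is `1 + 5j`. -/
theorem ncard_fixedPoints_of_le_centralizer (h : MinN 5 21 G) (P : Sylow 5 G) (T : Subgroup G)
    (hT : T ≤ centralizer ((P : Subgroup G) : Set G)) :
    ∃ j, (fixedPoints T (Sylow 5 G) : Set (Sylow 5 G)).ncard = 5 * j + 1 := by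
  obtain ⟨j, hj⟩ := five_dvd_ncard_fixedPoints h P T hT
  refine ⟨j, ?_⟩
  rw [← hj]
  exact (Set.ncard_sdiff_singleton_add_one (mem_fixedPoints_of_le_centralizer P T hT)
    (Set.toFinite _)).symm

/-- a subgroup fixing all Sylow subgroups is trivial -/
theorem eq_bot_of_fixedPoints_eq_univ (h : MinN 5 21 G) (T : Subgroup G)
    (hT : (fixedPoints T (Sylow 5 G) : Set (Sylow 5 G)).ncard = 21) : T = ⊥ := by
  have huniv : (fixedPoints T (Sylow 5 G) : Set (Sylow 5 G)) = Set.univ := by
    apply Set.eq_of_subset_of_ncard_le (Set.subset_univ _) _ (Set.toFinite _)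
    rw [Set.ncard_univ, h.1, hT]
  rw [eq_bot_iff]
  intro t ht
  rw [Subgroup.mem_bot]
  apply h.eq_one_of_forall_smul
  intro R
  have hR : R ∈ (fixedPoints T (Sylow 5 G) : Set (Sylow 5 G)) := huniv ▸ Set.mem_univ R
  exact hR ⟨t, ht⟩

theorem ncard_fixedPoints_le (h : MinN 5 21 G) (T : Subgroup G) :
    (fixedPoints T (Sylow 5 G) : Set (Sylow 5 G)).ncard ≤ 21 := by
  rw [← h.1, ← Set.ncard_univ]
  exact Set.ncard_le_ncard (Set.subset_univ _) (Set.toFinite _)

/-- the number of fixed points of `c ∈ C_G(P)` -/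
theorem ncard_fixSet_of_mem_centralizer (h : MinN 5 21 G) (P : Sylow 5 G) (c : G)
    (hc : c ∈ centralizer ((P : Subgroup G) : Set G)) (hc1 : c ≠ 1) :
    ∃ j, j ≤ 3 ∧ (FixSet 5 c : Set (Sylow 5 G)).ncard = 5 * j + 1 := by
  have hT : zpowers c ≤ centralizer ((P : Subgroup G) : Set G) := Subgroup.zpowers_le.2 hc
  obtain ⟨j, hj⟩ := ncard_fixedPoints_of_le_centralizer h P (zpowers c) hT
  have hle := ncard_fixedPoints_le h (zpowers c)
  have hne : (fixedPoints (zpowers c) (Sylow 5 G) : Set (Sylow 5 G)).ncard ≠ 21 := by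
    intro h21
    have := eq_bot_of_fixedPoints_eq_univ h (zpowers c) h21
    rw [Subgroup.zpowers_eq_bot] at this
    exact hc1 this
  rw [fixedPoints_zpowers] at hj hle hne
  exact ⟨j, by omega, hj⟩

/-- the number of fixed points of an element of `r`-power order is `≡ 21 mod r` -/
theorem ncard_fixSet_modEq (h : MinN 5 21 G) (r : ℕ) [hr : Fact r.Prime] (c : G) (k : ℕ)
    (hc : c ^ r ^ k = 1) : 21 ≡ (FixSet 5 c : Set (Sylow 5 G)).ncard [MOD r] := by
  have hZ : IsPGroup r (zpowers c) := by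
    have h1 : orderOf c ∣ r ^ k := orderOf_dvd_of_pow_eq_one hc
    obtain ⟨m, -, hm⟩ := (Nat.dvd_prime_pow hr.out).1 h1
    apply IsPGroup.of_card (n := m)
    rw [Nat.card_zpowers, hm]
  have hmod := hZ.card_modEq_card_fixedPoints (Sylow 5 G)
  rw [Nat.card_coe_set_eq, fixedPoints_zpowers, h.1] at hmod
  exact hmod

/-- the number of fixed points of an involution is `≡ 1 mod 4` -/
theorem ncard_fixSet_involution (h : MinN 5 21 G) (t : G) (ht : t ^ 2 = 1) :
    (FixSet 5 t : Set (Sylow 5 G)).ncard % 4 = 1 := by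
  classical
  haveI : Fintype (Sylow 5 G) := Fintype.ofFinite _
  have hsign := h.sign_eq_one (by norm_num) t
  set σ : Equiv.Perm (Sylow 5 G) := MulAction.toPermHom G (Sylow 5 G) t with hσ
  have hσ2 : σ ^ 2 = 1 := by
    rw [hσ, ← map_pow, ht, map_one]
  have h3 := Equiv.Perm.sign_of_pow_two_eq_one hσ2
  have h4 : Fintype.card (Sylow 5 G) = 21 := by
    rw [← Nat.card_eq_fintype_card]; exact h.1
  have h5 : Fintype.card (Function.fixedPoints σ) = (FixSet 5 t : Set (Sylow 5 G)).ncard := by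
    rw [← Nat.card_eq_fintype_card, Nat.card_coe_set_eq]
    rfl
  rw [h4, h5, hsign] at h3
  have hmod := ncard_fixSet_modEq h 2 t 1 (by rw [pow_one]; exact ht)
  have hle : (FixSet 5 t : Set (Sylow 5 G)).ncard ≤ 21 := by
    rw [← h.1, ← Set.ncard_univ]
    exact Set.ncard_le_ncard (Set.subset_univ _) (Set.toFinite _)
  have heven : Even ((21 - (FixSet 5 t : Set (Sylow 5 G)).ncard) / 2) := by
    have hne : (-1 : ℤˣ) ≠ 1 := by decide
    exact (neg_one_pow_eq_one_iff_even hne).1 h3.symm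
  unfold Nat.ModEq at hmod
  obtain ⟨m, hm⟩ := heven
  omega

/-- an involution in `C_G(P)` fixes only `P` -/
theorem ncard_fixSet_involution_centralizer (h : MinN 5 21 G) (P : Sylow 5 G) (t : G)
    (ht : t ^ 2 = 1) (ht1 : t ≠ 1) (htC : t ∈ centralizer ((P : Subgroup G) : Set G)) :
    (FixSet 5 t : Set (Sylow 5 G)).ncard = 1 := by
  obtain ⟨j, hj3, hj⟩ := ncard_fixSet_of_mem_centralizer h P t htC ht1
  have := ncard_fixSet_involution h t ht
  omega

end Cfsg.Agent.Lib.H21.N21
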