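import Mathlib
import Cfsg.Agent.Lib.H21.N21a

/-!
# A minimal group with exactly 21 Sylow 5-subgroups, part 2 (helper21)

Elements of `N_G(P) \ C_G(P)`: at most 5 fixed points; involutions with 5 fixed points.
-/

set_option autoImplicit false

namespace Cfsg.Agent.Lib.H21.N21

open Subgroup MulAction
open scoped Pointwise
open Cfsg.Agent.Lib.H21 Cfsg.Agent.Lib.H21.TwoP1 Cfsg.Agent.Lib.H21.MinN

universe u

variable {G : Type u} [Group G] [Finite G]

/-- the map `(a, Q) ↦ a • Q` from `P × (Fix(g) \ {P})` to the Sylow subgroups other than `P` -/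
def orbMap (P : Sylow 5 G) (g : G) :
    Prod (↥(P : Subgroup G)) (↥((FixSet 5 g : Set (Sylow 5 G)) \ {P} : Set (Sylow 5 G))) →
      (({P} : Set (Sylow 5 G))ᶜ : Set (Sylow 5 G)) :=
  fun x => ⟨(x.1 : G) • (x.2 : Sylow 5 G), by
    rw [Set.mem_compl_iff, Set.mem_singleton_iff]
    exact smul_ne_of_mem P x.2 x.2.2.2 x.1 x.1.2⟩

theorem orbMap_injective (h : MinN 5 21 G) (P : Sylow 5 G) (g : G)
    (hg : g ∈ normalizer ((P : Subgroup G) : Set G))
    (hgC : g ∉ centralizer ((P : Subgroup G) : Set G)) :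
    Function.Injective (orbMap P g) := by
  rintro ⟨a, Q, hQF, hQP⟩ ⟨a', Q', hQ'F, hQ'P⟩ heq
  have heq' : (a : G) • Q = (a' : G) • Q' := congrArg Subtype.val heq
  rw [Set.mem_singleton_iff] at hQP hQ'P
  have hQ' : Q' = ((a' : G)⁻¹ * (a : G)) • Q := by
    rw [mul_smul, heq', smul_smul, inv_mul_cancel, one_smul]
  have hmem : (a' : G)⁻¹ * (a : G) ∈ (P : Subgroup G) :=
    (P : Subgroup G).mul_mem ((P : Subgroup G).inv_mem a'.2) a.2
  have hone : (a' : G)⁻¹ * (a : G) = 1 := by
    by_contra hne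
    apply hgC
    have hgQ : g • Q = Q := hQF
    have hgQ' : g • Q' = Q' := hQ'F
    rw [hQ'] at hgQ'
    exact mem_centralizer_of_fix_two h P Q hQP g hg hgQ _ hmem hne hgQ'
  have haa' : (a : G) = (a' : G) := by
    have := congrArg (fun x => (a' : G) * x) hone
    simpa using this
  have hQQ' : Q = Q' := by
    rw [hQ', hone, one_smul]
  have h1 : a = a' := Subtype.ext haa'
  subst h1
  subst hQQ'
  rfl

theorem card_compl_singleton (h : MinN 5 21 G) (P : Sylow 5 G) :
    Nat.card (({P} : Set (Sylow 5 G))ᶜ : Set (Sylow 5 G)) = 20 := by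
  rw [Nat.card_coe_set_eq, Set.ncard_compl, Set.ncard_singleton, h.1]

/-- an element of `N_G(P) \ C_G(P)` has at most 5 fixed points -/
theorem ncard_fixSet_le_five (h : MinN 5 21 G) (P : Sylow 5 G) (g : G)
    (hg : g ∈ normalizer ((P : Subgroup G) : Set G))
    (hgC : g ∉ centralizer ((P : Subgroup G) : Set G)) :
    (FixSet 5 g : Set (Sylow 5 G)).ncard ≤ 5 := by
  have hinj := orbMap_injective h P g hg hgC
  have hle := Nat.card_le_card_of_injective _ hinj
  rw [card_compl_singleton h P, Nat.card_prod, card_P h P, Nat.card_coe_set_eq] at hle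
  have hPF : P ∈ (FixSet 5 g : Set (Sylow 5 G)) := by
    show g • P = P
    rw [Sylow.smul_eq_iff_mem_normalizer]
    exact hg
  have := Set.ncard_sdiff_singleton_add_one hPF (Set.toFinite _)
  omega

/-- if an element of `N_G(P) \ C_G(P)` has 5 fixed points, then every `P`-orbit contains one -/
theorem exists_smul_eq_of_ncard_fixSet (h : MinN 5 21 G) (P : Sylow 5 G) (g : G)
    (hg : g ∈ normalizer ((P : Subgroup G) : Set G))
    (hgC : g ∉ centralizer ((P : Subgroup G) : Set G))
    (hfix : (FixSet 5 g : Set (Sylow 5 G)).ncard = 5) (Q' : Sylow 5 G) (hQ' : Q' ≠ P) :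
    ∃ a ∈ (P : Subgroup G), ∃ Q : Sylow 5 G, Q ≠ P ∧ g • Q = Q ∧ Q' = a • Q := by
  have hinj := orbMap_injective h P g hg hgC
  have hPF : P ∈ (FixSet 5 g : Set (Sylow 5 G)) := by
    show g • P = P
    rw [Sylow.smul_eq_iff_mem_normalizer]
    exact hg
  have h1 := Set.ncard_sdiff_singleton_add_one hPF (Set.toFinite _)
  have hbij : Function.Bijective (orbMap P g) := by
    apply hinj.bijective_of_nat_card_le
    rw [card_compl_singleton h P, Nat.card_prod, card_P h P, Nat.card_coe_set_eq]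
    omega
  obtain ⟨⟨a, Q, hQF, hQP⟩, hx⟩ := hbij.2 ⟨Q', by
    rw [Set.mem_compl_iff, Set.mem_singleton_iff]; exact hQ'⟩
  refine ⟨a, a.2, Q, hQP, hQF, ?_⟩
  exact (congrArg Subtype.val hx).symm

/-- an element of `N_G(P) \ C_G(P)` with 5 fixed points maps every point into its `P`-orbit -/
theorem exists_smul_eq_smul (h : MinN 5 21 G) (P : Sylow 5 G) (g : G)
    (hg : g ∈ normalizer ((P : Subgroup G) : Set G))
    (hgC : g ∉ centralizer ((P : Subgroup G) : Set G))
    (hfix : (FixSet 5 g : Set (Sylow 5 G)).ncard = 5) (Q' : Sylow 5 G) (hQ' : Q' ≠ P) :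
    ∃ b ∈ (P : Subgroup G), g • Q' = b • Q' := by
  obtain ⟨a, ha, Q, hQP, hgQ, rfl⟩ := exists_smul_eq_of_ncard_fixSet h P g hg hgC hfix Q' hQ'
  refine ⟨g * a * g⁻¹ * a⁻¹, ?_, ?_⟩
  · exact (P : Subgroup G).mul_mem ((Subgroup.mem_normalizer_iff.1 hg a).1 ha)
      ((P : Subgroup G).inv_mem ha)
  · rw [smul_smul, smul_smul]
    have : g * a * g⁻¹ * a⁻¹ * a = g * a * g⁻¹ := by group
    rw [this, mul_smul (g * a) g⁻¹ Q]
    have h2 : g⁻¹ • Q = Q := by
      calc g⁻¹ • Q = g⁻¹ • (g • Q) := by rw [hgQ]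
        _ = Q := by rw [smul_smul, inv_mul_cancel, one_smul]
    rw [h2]

/-- an involution of `N_G(P)` outside `C_G(P)` inverts `P` -/
theorem conj_eq_inv (h : MinN 5 21 G) (P : Sylow 5 G) (t : G)
    (ht : t ∈ normalizer ((P : Subgroup G) : Set G))
    (htC : t ∉ centralizer ((P : Subgroup G) : Set G)) (ht2 : t ^ 2 = 1) (a : G)
    (ha : a ∈ (P : Subgroup G)) : t * a * t⁻¹ = a⁻¹ := by
  set b : G := t * a * t⁻¹ with hb
  have hbP : b ∈ (P : Subgroup G) := (Subgroup.mem_normalizer_iff.1 ht a).1 ha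
  have hab : a * b = b * a :=
    (Subgroup.mem_centralizer_iff.1 (le_centralizer h P hbP) a ha)
  have htinv : t⁻¹ = t := by
    have : t * t = 1 := by rw [← pow_two]; exact ht2
    exact inv_eq_of_mul_eq_one_left this
  have htb : t * b * t⁻¹ = a := by
    rw [hb, htinv]
    have : t * t = 1 := by rw [← pow_two]; exact ht2
    calc t * (t * a * t) * t = (t * t) * a * (t * t) := by group
      _ = a := by rw [this]; group
  by_contra hne
  apply htC
  have hab1 : a * b ≠ 1 := by
    intro h1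
    apply hne
    exact (eq_inv_of_mul_eq_one_right h1)
  apply mem_centralizer_of_commute h P (a * b) ((P : Subgroup G).mul_mem ha hbP) hab1
  have h2 : t * (a * b) * t⁻¹ = a * b := by
    calc t * (a * b) * t⁻¹ = (t * a * t⁻¹) * (t * b * t⁻¹) := by group
      _ = b * a := by rw [htb]
      _ = a * b := hab.symm
  calc t * (a * b) = (t * (a * b) * t⁻¹) * t := by group
    _ = a * b * t := by rw [h2]

/-- Two involutions of `N_G(P) \ C_G(P)` with five fixed points whose product has `2`-power order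
are equal. -/
theorem involution_unique (h : MinN 5 21 G) (P : Sylow 5 G) (u u' : G)
    (hu : u ∈ normalizer ((P : Subgroup G) : Set G))
    (huC : u ∉ centralizer ((P : Subgroup G) : Set G)) (hu2 : u ^ 2 = 1)
    (hufix : (FixSet 5 u : Set (Sylow 5 G)).ncard = 5)
    (hu' : u' ∈ normalizer ((P : Subgroup G) : Set G))
    (hu'C : u' ∉ centralizer ((P : Subgroup G) : Set G)) (hu'2 : u' ^ 2 = 1)
    (hu'fix : (FixSet 5 u' : Set (Sylow 5 G)).ncard = 5)
    (k : ℕ) (hk : (u * u') ^ 2 ^ k = 1) : u' = u := by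
  set c : G := u * u' with hc
  -- `c` centralizes `P`
  have hcC : c ∈ centralizer ((P : Subgroup G) : Set G) := by
    rw [Subgroup.mem_centralizer_iff]
    intro a ha
    have h1 := conj_eq_inv h P u' hu' hu'C hu'2 a ha
    have h2 := conj_eq_inv h P u hu huC hu2 a⁻¹ ((P : Subgroup G).inv_mem ha)
    rw [inv_inv] at h2
    have h3 : c * a * c⁻¹ = a := by
      calc c * a * c⁻¹ = u * (u' * a * u'⁻¹) * u⁻¹ := by rw [hc]; group
        _ = a := by rw [h1, h2]
    calc a * c = (c * a * c⁻¹) * c := by rw [h3]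
      _ = c * a := by group
  -- `c` maps every point into its `P`-orbit
  have horb : ∀ Q' : Sylow 5 G, Q' ≠ P → ∃ d ∈ (P : Subgroup G), c • Q' = d • Q' := by
    intro Q' hQ'
    obtain ⟨b', hb', hb'Q⟩ := exists_smul_eq_smul h P u' hu' hu'C hu'fix Q' hQ'
    have hQ'' : b' • Q' ≠ P := smul_ne_of_mem P Q' hQ' b' hb'
    obtain ⟨b'', hb'', hb''Q⟩ := exists_smul_eq_smul h P u hu huC hufix (b' • Q') hQ''
    refine ⟨b'' * b', (P : Subgroup G).mul_mem hb'' hb', ?_⟩
    rw [hc, mul_smul, hb'Q, hb''Q, mul_smul]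
  -- so `c` fixes every point
  have hfixall : ∀ Q' : Sylow 5 G, c • Q' = Q' := by
    intro Q'
    by_cases hQ' : Q' = P
    · rw [hQ', Sylow.smul_eq_iff_mem_normalizer]
      exact Subgroup.centralizer_le_normalizer _ hcC
    · obtain ⟨d, hd, hdQ⟩ := horb Q' hQ'
      have hcd : Commute c d := by
        have := Subgroup.mem_centralizer_iff.1 hcC d hd
        exact this.symm
      have hpow : ∀ m : ℕ, c ^ m • Q' = d ^ m • Q' := by
        intro m
        induction m with
        | zero => simp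
        | succ m ih =>
          rw [pow_succ, mul_smul, hdQ, smul_smul, (hcd.pow_left m).eq, mul_smul, ih,
            smul_smul, ← pow_succ']
      have h1 : d ^ 2 ^ k • Q' = Q' := by
        rw [← hpow, hk, one_smul]
      have h2 : d ^ 2 ^ k = 1 :=
        eq_one_of_smul_eq h P Q' hQ' _ ((P : Subgroup G).pow_mem hd _) h1
      have h3 : d ^ 5 = 1 := by
        have := pow_card_eq_one' (G := (P : Subgroup G)) (x := ⟨d, hd⟩)
        rw [card_P h P] at this
        exact congrArg Subtype.val this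
      have h4 : d ^ (Nat.gcd (2 ^ k) 5) = 1 := pow_gcd_eq_one.2 ⟨h2, h3⟩
      have h5 : Nat.gcd (2 ^ k) 5 = 1 := by
        have : Nat.Coprime (2 ^ k) 5 := Nat.Coprime.pow_left k (by norm_num)
        exact this
      rw [h5, pow_one] at h4
      rw [hdQ, h4, one_smul]
  have hc1 : c = 1 := h.eq_one_of_forall_smul c hfixall
  have huinv : u⁻¹ = u := by
    have : u * u = 1 := by rw [← pow_two]; exact hu2
    exact inv_eq_of_mul_eq_one_left this
  calc u' = u⁻¹ * (u * u') := by group
    _ = u := by rw [← hc, hc1, mul_one, huinv]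

end Cfsg.Agent.Lib.H21.N21
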