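import Mathlib
import Cfsg.Agent.Lib.H21.N21b

/-!
# A minimal group with exactly 21 Sylow 5-subgroups, part 3 (helper21)

The order of `C_G(P)`, hence of `G`.
-/

set_option autoImplicit false

namespace Cfsg.Agent.Lib.H21.N21

open Subgroup MulAction
open scoped Pointwise
open Cfsg.Agent.Lib.H21 Cfsg.Agent.Lib.H21.TwoP1 Cfsg.Agent.Lib.H21.MinN

universe u

variable {G : Type u} [Group G] [Finite G]

/-- only the primes 2, 3, 5 divide `|C_G(P)|` -/
theorem prime_dvd_card_centralizer (h : MinN 5 21 G) (P : Sylow 5 G) (r : ℕ) (hr : r.Prime)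
    (hrC : r ∣ Nat.card (centralizer ((P : Subgroup G) : Set G))) : r = 2 ∨ r = 3 ∨ r = 5 := by
  haveI : Fact r.Prime := ⟨hr⟩
  obtain ⟨c', hc'⟩ := exists_prime_orderOf_dvd_card'
    (G := centralizer ((P : Subgroup G) : Set G)) r hrC
  set c : G := (c' : G) with hcdef
  have hcC : c ∈ centralizer ((P : Subgroup G) : Set G) := c'.2
  have hcord : orderOf c = r := by rw [hcdef, Subgroup.orderOf_coe]; exact hc'
  have hc1 : c ≠ 1 := by
    intro h1
    rw [h1, orderOf_one] at hcord
    exact hr.one_lt.ne hcord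
  obtain ⟨j, hj3, hj⟩ := ncard_fixSet_of_mem_centralizer h P c hcC hc1
  have hmod := ncard_fixSet_modEq h r c 1 (by rw [pow_one, ← hcord, pow_orderOf_eq_one])
  rw [hj] at hmod
  have hdvd : r ∣ 21 - (5 * j + 1) := (Nat.modEq_iff_dvd' (by omega)).1 hmod.symm
  have hr2 := hr.two_le
  interval_cases j
  · have hle : r ≤ 20 := Nat.le_of_dvd (by norm_num) hdvd
    interval_cases r <;> first | omega | (exfalso; revert hr; decide) | (exfalso; revert hdvd; decide)
  · have hle : r ≤ 15 := Nat.le_of_dvd (by norm_num) hdvd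
    interval_cases r <;> first | omega | (exfalso; revert hr; decide) | (exfalso; revert hdvd; decide)
  · have hle : r ≤ 10 := Nat.le_of_dvd (by norm_num) hdvd
    interval_cases r <;> first | omega | (exfalso; revert hr; decide) | (exfalso; revert hdvd; decide)
  · have hle : r ≤ 5 := Nat.le_of_dvd (by norm_num) hdvd
    interval_cases r <;> first | omega | (exfalso; revert hr; decide) | (exfalso; revert hdvd; decide)

/-- a `3`-subgroup of `C_G(P)` has order at most 3 -/
theorem card_three_subgroup (h : MinN 5 21 G) (P : Sylow 5 G) (T : Subgroup G)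
    (hT : T ≤ centralizer ((P : Subgroup G) : Set G)) (h3 : IsPGroup 3 T) : Nat.card T ∣ 3 := by
  by_cases hbot : T = ⊥
  · rw [hbot, Subgroup.card_bot]; exact one_dvd _
  set F : Set (Sylow 5 G) := fixedPoints T (Sylow 5 G) with hF
  -- `T` has exactly 6 fixed points
  have hFcard : F.ncard = 6 := by
    obtain ⟨j, hj⟩ := ncard_fixedPoints_of_le_centralizer h P T hT
    have hle := ncard_fixedPoints_le h T
    have hne : F.ncard ≠ 21 := fun h21 => hbot (eq_bot_of_fixedPoints_eq_univ h T h21)
    have hmod := h3.card_modEq_card_fixedPoints (Sylow 5 G)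
    rw [Nat.card_coe_set_eq, h.1] at hmod
    unfold Nat.ModEq at hmod
    rw [← hF] at hj hle hmod
    omega
  -- every nontrivial element of `T` has the same fixed points
  have hfixc : ∀ c ∈ T, c ≠ 1 → (FixSet 5 c : Set (Sylow 5 G)) = F := by
    intro c hcT hc1
    symm
    have hsub : F ⊆ (FixSet 5 c : Set (Sylow 5 G)) := fun R hR => hR ⟨c, hcT⟩
    apply Set.eq_of_subset_of_ncard_le hsub _ (Set.toFinite _)
    obtain ⟨j, hj3, hj⟩ := ncard_fixSet_of_mem_centralizer h P c (hT hcT) hc1
    obtain ⟨k, hk⟩ := h3 ⟨c, hcT⟩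
    have hck : c ^ 3 ^ k = 1 := congrArg Subtype.val hk
    have hmod := ncard_fixSet_modEq h 3 c k hck
    unfold Nat.ModEq at hmod
    rw [hFcard]
    omega
  -- `T` acts freely on the complement
  have hdvd : Nat.card T ∣ (Fᶜ : Set (Sylow 5 G)).ncard := by
    apply card_dvd_ncard_of_free (G := T) (Fᶜ : Set (Sylow 5 G)) (Set.toFinite _)
    · intro g x hx hgx
      apply hx
      intro c
      have h1 : c • (g • x) = g • x := hgx c
      have h2 : (g⁻¹ * c * g) • x = x := by
        rw [mul_smul, mul_smul, h1, smul_smul, inv_mul_cancel, one_smul]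
      -- use the element `g * (g⁻¹ * c * g) * g⁻¹ = c`
      have h3' : ∀ c' : T, c' • (g • x) = g • x := hgx
      have h4 : ∀ c' : T, c' • x = x := by
        intro c'
        have h5 := h3' (g * c' * g⁻¹)
        rw [smul_smul] at h5
        have h6 : g * c' * g⁻¹ * g = g * c' := by group
        rw [h6, mul_smul] at h5
        exact smul_left_cancel g h5
      exact h4 c
    · intro x hx
      rw [eq_bot_iff]
      intro c hc
      rw [Subgroup.mem_bot]
      by_contra hc1
      apply hx
      have hc1' : (c : G) ≠ 1 := fun h1 => hc1 (Subtype.ext h1)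
      have := hfixc (c : G) c.2 hc1'
      rw [← this]
      exact MulAction.mem_stabilizer_iff.1 hc
  have hcompl : (Fᶜ : Set (Sylow 5 G)).ncard = 15 := by
    rw [Set.ncard_compl, hFcard, h.1]
  rw [hcompl] at hdvd
  obtain ⟨k, hk⟩ := h3.exists_card_eq
  rw [hk] at hdvd ⊢
  rcases Nat.lt_or_ge k 2 with hk2 | hk2
  · exact pow_dvd_pow 3 (by omega : k ≤ 1)
  · exfalso
    have : 3 ^ 2 ∣ 15 := (pow_dvd_pow 3 hk2).trans hdvd
    norm_num at this

theorem not_nine_dvd_card_centralizer (h : MinN 5 21 G) (P : Sylow 5 G) :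
    ¬ 9 ∣ Nat.card (centralizer ((P : Subgroup G) : Set G)) := by
  intro h9
  set C : Subgroup G := centralizer ((P : Subgroup G) : Set G) with hC
  obtain ⟨T⟩ : Nonempty (Sylow 3 C) := inferInstance
  have h1 : 3 ^ 2 ∣ Nat.card (T : Subgroup C) := T.pow_dvd_card_of_pow_dvd_card (by norm_num; exact h9)
  set T' : Subgroup G := (T : Subgroup C).map C.subtype with hT'
  have hT'le : T' ≤ C := by
    rintro x ⟨y, -, rfl⟩
    exact y.2
  have hT'p : IsPGroup 3 T' := T.isPGroup'.map C.subtype
  have hcard : Nat.card T' = Nat.card (T : Subgroup C) :=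
    Subgroup.card_map_of_injective (Subgroup.subtype_injective C)
  have h2 := card_three_subgroup h P T' hT'le hT'p
  rw [hcard] at h2
  have : 3 ^ 2 ∣ 3 := h1.trans h2
  norm_num at this

theorem relIndex_dvd_four (h : MinN 5 21 G) (P : Sylow 5 G) :
    (centralizer ((P : Subgroup G) : Set G)).relIndex (normalizer ((P : Subgroup G) : Set G)) ∣ 4 :=
  relIndex_centralizer_normalizer_dvd (by norm_num : Nat.Prime 5) (P : Subgroup G) (card_P h P)

theorem card_normalizer_eq (P : Sylow 5 G) :
    Nat.card (normalizer ((P : Subgroup G) : Set G)) =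
      (centralizer ((P : Subgroup G) : Set G)).relIndex (normalizer ((P : Subgroup G) : Set G)) *
        Nat.card (centralizer ((P : Subgroup G) : Set G)) := by
  rw [mul_comm]
  exact (card_mul_relIndex' (Subgroup.centralizer_le_normalizer ((P : Subgroup G) : Set G))).symm

theorem card_eq_mul_card_normalizer (h : MinN 5 21 G) (P : Sylow 5 G) :
    Nat.card G = 21 * Nat.card (normalizer ((P : Subgroup G) : Set G)) := by
  have h1 := Subgroup.index_mul_card (normalizer ((P : Subgroup G) : Set G))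
  have h2 : (normalizer ((P : Subgroup G) : Set G)).index = 21 := by
    rw [← h.1]; exact (P.card_eq_index_normalizer).symm
  rw [← h1, h2]

/-- `7` does not divide `|N_G(P)|`. -/
theorem not_seven_dvd_card_normalizer (h : MinN 5 21 G) (P : Sylow 5 G) :
    ¬ 7 ∣ Nat.card (normalizer ((P : Subgroup G) : Set G)) := by
  intro h7
  rw [card_normalizer_eq P] at h7
  rcases (Nat.Prime.dvd_mul (by norm_num : Nat.Prime 7)).1 h7 with h1 | h1
  · have := Nat.le_of_dvd (by norm_num) (h1.trans (relIndex_dvd_four h P))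
    omega
  · rcases prime_dvd_card_centralizer h P 7 (by norm_num) h1 with h2 | h2 | h2 <;> omega

/-- the primes dividing `|G|` -/
theorem prime_dvd_card (h : MinN 5 21 G) (r : ℕ) (hr : r.Prime) (hrG : r ∣ Nat.card G) :
    r = 2 ∨ r = 3 ∨ r = 5 ∨ r = 7 := by
  obtain ⟨P⟩ : Nonempty (Sylow 5 G) := inferInstance
  rw [card_eq_mul_card_normalizer h P, card_normalizer_eq P] at hrG
  rcases (Nat.Prime.dvd_mul hr).1 hrG with h1 | h1
  · have h2 : r ∣ 3 * 7 := h1
    rcases (Nat.Prime.dvd_mul hr).1 h2 with h3 | h3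
    · right; left; exact (Nat.prime_dvd_prime_iff_eq hr (by norm_num)).1 h3
    · right; right; right; exact (Nat.prime_dvd_prime_iff_eq hr (by norm_num)).1 h3
  · rcases (Nat.Prime.dvd_mul hr).1 h1 with h2 | h2
    · have h3 : r ∣ 2 ^ 2 := h2.trans (relIndex_dvd_four h P)
      left; exact (Nat.prime_dvd_prime_iff_eq hr Nat.prime_two).1 (hr.dvd_of_dvd_pow h3)
    · rcases prime_dvd_card_centralizer h P r hr h2 with h3 | h3 | h3
      · left; exact h3
      · right; left; exact h3
      · right; right; left; exact h3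

theorem not_27_dvd_card (h : MinN 5 21 G) : ¬ 27 ∣ Nat.card G := by
  obtain ⟨P⟩ : Nonempty (Sylow 5 G) := inferInstance
  intro h27
  rw [card_eq_mul_card_normalizer h P, card_normalizer_eq P] at h27
  set e := (centralizer ((P : Subgroup G) : Set G)).relIndex
    (normalizer ((P : Subgroup G) : Set G)) with he
  set c := Nat.card (centralizer ((P : Subgroup G) : Set G)) with hc
  have he4 : e ∣ 4 := relIndex_dvd_four h P
  have h9 : ¬ 9 ∣ c := not_nine_dvd_card_centralizer h P
  apply h9
  have h1 : 27 ∣ 3 * (7 * e * c) := by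
    have : 21 * (e * c) = 3 * (7 * e * c) := by ring
    rwa [this] at h27
  have h2 : 9 ∣ 7 * e * c := by
    have : (3 : ℕ) * 9 ∣ 3 * (7 * e * c) := h1
    exact Nat.dvd_of_mul_dvd_mul_left (by norm_num) this
  have hcop : Nat.Coprime 9 (7 * e) := by
    have h3 : Nat.Coprime 9 (7 * 4) := by norm_num
    exact Nat.Coprime.coprime_dvd_right (Nat.mul_dvd_mul_left 7 he4) h3
  exact hcop.dvd_of_dvd_mul_left h2

theorem not_49_dvd_card (h : MinN 5 21 G) : ¬ 49 ∣ Nat.card G := by
  obtain ⟨P⟩ : Nonempty (Sylow 5 G) := inferInstance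
  intro h49
  rw [card_eq_mul_card_normalizer h P] at h49
  apply not_seven_dvd_card_normalizer h P
  set m := Nat.card (normalizer ((P : Subgroup G) : Set G)) with hm
  have h1 : (7 : ℕ) * 7 ∣ 7 * (3 * m) := by
    have : 21 * m = 7 * (3 * m) := by ring
    rwa [this] at h49
  have h2 : 7 ∣ 3 * m := Nat.dvd_of_mul_dvd_mul_left (by norm_num) h1
  exact (Nat.Coprime.dvd_of_dvd_mul_left (by norm_num : Nat.Coprime 7 3) h2)

theorem not_25_dvd_card (h : MinN 5 21 G) : ¬ 25 ∣ Nat.card G := by
  obtain ⟨P⟩ : Nonempty (Sylow 5 G) := inferInstance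
  intro h25
  have h1 : 5 ^ 2 ∣ Nat.card (P : Subgroup G) :=
    P.pow_dvd_card_of_pow_dvd_card (by norm_num; exact h25)
  rw [card_P h P] at h1
  norm_num at h1

theorem seven_dvd_card (h : MinN 5 21 G) : 7 ∣ Nat.card G := by
  obtain ⟨P⟩ : Nonempty (Sylow 5 G) := inferInstance
  rw [card_eq_mul_card_normalizer h P]
  exact Dvd.dvd.mul_right (by norm_num) _

theorem five_dvd_card (h : MinN 5 21 G) : 5 ∣ Nat.card G := by
  obtain ⟨P⟩ : Nonempty (Sylow 5 G) := inferInstance
  have := Subgroup.card_subgroup_dvd_card (P : Subgroup G)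
  rwa [card_P h P] at this

/-- if `8 ∤ |G|` then `|G|` divides `1260` -/
theorem card_dvd_1260 (h : MinN 5 21 G) (h8 : ¬ 8 ∣ Nat.card G) : Nat.card G ∣ 1260 := by
  rw [Nat.dvd_iff_prime_pow_dvd_dvd]
  intro r k hr hrk
  rcases Nat.eq_zero_or_pos k with hk0 | hk0
  · rw [hk0, pow_zero]; exact one_dvd _
  have hrG : r ∣ Nat.card G := (dvd_pow_self r hk0.ne').trans hrk
  rcases prime_dvd_card h r hr hrG with rfl | rfl | rfl | rfl
  · have hk : k ≤ 2 := by
      by_contra hk
      exact h8 ((pow_dvd_pow 2 (by omega : 3 ≤ k)).trans hrk)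
    exact (pow_dvd_pow 2 hk).trans (by norm_num)
  · have hk : k ≤ 2 := by
      by_contra hk
      exact not_27_dvd_card h ((pow_dvd_pow 3 (by omega : 3 ≤ k)).trans hrk)
    exact (pow_dvd_pow 3 hk).trans (by norm_num)
  · have hk : k ≤ 1 := by
      by_contra hk
      exact not_25_dvd_card h ((pow_dvd_pow 5 (by omega : 2 ≤ k)).trans hrk)
    exact (pow_dvd_pow 5 hk).trans (by norm_num)
  · have hk : k ≤ 1 := by
      by_contra hk
      exact not_49_dvd_card h ((pow_dvd_pow 7 (by omega : 2 ≤ k)).trans hrk)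
    exact (pow_dvd_pow 7 hk).trans (by norm_num)

end Cfsg.Agent.Lib.H21.N21
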