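import Mathlib
import Cfsg.Agent.Lib.H21.N21c

/-!
# A minimal group with exactly 21 Sylow 5-subgroups, part 4 (helper21)

Sylow 7-subgroups: if `G` does not have 15 of them, then `8 ∣ |G|`.
Then the transfer of an involution with five fixed points gives a contradiction.
-/

set_option autoImplicit false

namespace Cfsg.Agent.Lib.H21.N21

open Subgroup MulAction
open scoped Pointwise
open Cfsg.Agent.Lib.H21 Cfsg.Agent.Lib.H21.TwoP1 Cfsg.Agent.Lib.H21.MinN

universe u

variable {G : Type u} [Group G] [Finite G]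

theorem card_sylow7 (h : MinN 5 21 G) (S : Sylow 7 G) : Nat.card S = 7 :=
  sylow_card_eq_prime S (seven_dvd_card h) (by have := not_49_dvd_card h; norm_num; exact this)

/-- `5` does not divide the order of the normalizer of a Sylow 7-subgroup -/
theorem not_five_dvd_card_normalizer7 (h : MinN 5 21 G) (S : Sylow 7 G) :
    ¬ 5 ∣ Nat.card (normalizer ((S : Subgroup G) : Set G)) := by
  intro h5
  have h6 := relIndex_centralizer_normalizer_dvd (by norm_num : Nat.Prime 7) (S : Subgroup G)
    (card_sylow7 h S)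
  have hN := card_mul_relIndex' (Subgroup.centralizer_le_normalizer ((S : Subgroup G) : Set G))
  have h5C : 5 ∣ Nat.card (centralizer ((S : Subgroup G) : Set G)) := by
    rw [← hN] at h5
    rcases (Nat.Prime.dvd_mul (by norm_num : Nat.Prime 5)).1 h5 with h1 | h1
    · exact h1
    · exfalso
      have := h1.trans h6
      norm_num at this
  obtain ⟨z', hz'⟩ := exists_prime_orderOf_dvd_card'
    (G := centralizer ((S : Subgroup G) : Set G)) 5 h5C
  set z : G := (z' : G) with hzdef
  have hzC : z ∈ centralizer ((S : Subgroup G) : Set G) := z'.2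
  have hzord : orderOf z = 5 := by rw [hzdef, Subgroup.orderOf_coe]; exact hz'
  have hz1 : z ≠ 1 := by
    intro h1
    rw [h1, orderOf_one] at hzord
    omega
  have hZ : IsPGroup 5 (zpowers z) := by
    apply IsPGroup.of_card (n := 1)
    rw [Nat.card_zpowers, hzord, pow_one]
  obtain ⟨P', hP'⟩ := hZ.exists_le_sylow
  have hzP' : z ∈ (P' : Subgroup G) := hP' (Subgroup.mem_zpowers z)
  have hS : (S : Subgroup G) ≤ centralizer ((P' : Subgroup G) : Set G) := by
    intro s hs
    exact mem_centralizer_of_commute h P' z hzP' hz1 s (Subgroup.mem_centralizer_iff.1 hzC s hs)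
  have h7 := Subgroup.card_dvd_of_le hS
  rw [card_sylow7 h S] at h7
  rcases prime_dvd_card_centralizer h P' 7 (by norm_num) h7 with h2 | h2 | h2 <;> omega

theorem key1260 : ∀ d ∈ Nat.divisors 1260, 5 ∣ d → d % 7 = 1 → d = 15 := by decide +kernel

/-- If `G` does not have 15 Sylow 7-subgroups then `8 ∣ |G|`. -/
theorem eight_dvd_card (h : MinN 5 21 G) (h15 : Nat.card (Sylow 7 G) ≠ 15) :
    8 ∣ Nat.card G := by
  by_contra h8
  have hdvd := card_dvd_1260 h h8
  obtain ⟨S⟩ : Nonempty (Sylow 7 G) := inferInstance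
  have hn7 : Nat.card (Sylow 7 G) = (normalizer ((S : Subgroup G) : Set G)).index :=
    S.card_eq_index_normalizer
  have hmul := Subgroup.index_mul_card (normalizer ((S : Subgroup G) : Set G))
  have h5 : 5 ∣ Nat.card (Sylow 7 G) := by
    have h5G := five_dvd_card h
    rw [← hmul, ← hn7] at h5G
    rcases (Nat.Prime.dvd_mul (by norm_num : Nat.Prime 5)).1 h5G with h1 | h1
    · exact h1
    · exact absurd h1 (not_five_dvd_card_normalizer7 h S)
  have hmod : Nat.card (Sylow 7 G) % 7 = 1 := card_sylow_modEq_one 7 G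
  have hd : Nat.card (Sylow 7 G) ∣ 1260 := by
    rw [hn7]
    exact (Subgroup.index_dvd_card _).trans hdvd
  exact h15 (key1260 _ (Nat.mem_divisors.2 ⟨hd, by norm_num⟩) h5 hmod)

/-- conjugate elements have the same number of fixed points -/
theorem ncard_fixSet_conj (g x : G) :
    (FixSet 5 (x⁻¹ * g * x) : Set (Sylow 5 G)).ncard = (FixSet 5 g : Set (Sylow 5 G)).ncard := by
  have himg : (FixSet 5 (x⁻¹ * g * x) : Set (Sylow 5 G)) =
      (fun Q : Sylow 5 G => x⁻¹ • Q) '' (FixSet 5 g : Set (Sylow 5 G)) := by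
    ext R
    constructor
    · intro hR
      refine ⟨x • R, ?_, by simp⟩
      show g • (x • R) = x • R
      have hR' : (x⁻¹ * g * x) • R = R := hR
      calc g • (x • R) = x • ((x⁻¹ * g * x) • R) := by
            rw [smul_smul, smul_smul]; congr 1; group
        _ = x • R := by rw [hR']
    · rintro ⟨Q, hQ, rfl⟩
      show (x⁻¹ * g * x) • (x⁻¹ • Q) = x⁻¹ • Q
      have hQ' : g • Q = Q := hQ
      calc (x⁻¹ * g * x) • (x⁻¹ • Q) = x⁻¹ • (g • Q) := by
            rw [smul_smul, smul_smul]; congr 1; group
        _ = x⁻¹ • Q := by rw [hQ']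
  rw [himg]
  exact Set.ncard_image_of_injective _ (MulAction.injective x⁻¹)

/-- A 2-subgroup of `N_G(P)` of order at least 8 contains an involution fixing a second point. -/
theorem exists_involution (h : MinN 5 21 G) (P : Sylow 5 G) (U : Subgroup G)
    (hU2 : IsPGroup 2 U) (hUP : U ≤ normalizer ((P : Subgroup G) : Set G))
    (h8 : 8 ∣ Nat.card U) :
    ∃ u ∈ U, u ≠ 1 ∧ u ^ 2 = 1 ∧ ∃ Q : Sylow 5 G, Q ≠ P ∧ u • Q = Q := by
  by_contra hno
  push Not at hno
  have hdvd : Nat.card U ∣ (({P} : Set (Sylow 5 G))ᶜ : Set (Sylow 5 G)).ncard := by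
    apply card_dvd_ncard_of_free (G := U) (({P} : Set (Sylow 5 G))ᶜ : Set (Sylow 5 G))
      (Set.toFinite _)
    · intro g x hx
      rw [Set.mem_compl_iff, Set.mem_singleton_iff] at hx ⊢
      intro hgx
      apply hx
      have h1 : (g : G) • x = P := hgx
      have h2 : (g : G)⁻¹ • P = P := by
        rw [Sylow.smul_eq_iff_mem_normalizer]
        exact (normalizer ((P : Subgroup G) : Set G)).inv_mem (hUP g.2)
      calc x = (g : G)⁻¹ • ((g : G) • x) := by rw [smul_smul, inv_mul_cancel, one_smul]
        _ = (g : G)⁻¹ • P := by rw [h1]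
        _ = P := h2
    · intro x hx
      rw [Set.mem_compl_iff, Set.mem_singleton_iff] at hx
      by_contra hne
      -- the stabilizer is a nontrivial 2-group
      set St : Subgroup U := MulAction.stabilizer U x with hSt
      have hSt2 : IsPGroup 2 St := hU2.to_subgroup St
      obtain ⟨k, hk⟩ := hSt2.exists_card_eq
      have hk0 : k ≠ 0 := by
        rintro rfl
        rw [pow_zero] at hk
        exact hne (Subgroup.card_eq_one.1 hk)
      have h2St : 2 ∣ Nat.card St := by
        rw [hk]; exact dvd_pow_self 2 hk0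
      obtain ⟨u', hu'⟩ := exists_prime_orderOf_dvd_card' (G := St) 2 h2St
      set u : G := ((u' : U) : G) with hudef
      have huord : orderOf u = 2 := by
        rw [hudef, Subgroup.orderOf_coe, Subgroup.orderOf_coe]; exact hu'
      have hu1 : u ≠ 1 := by
        intro h1
        rw [h1, orderOf_one] at huord
        omega
      have hu2 : u ^ 2 = 1 := by rw [← huord, pow_orderOf_eq_one]
      have hux : u • x = x := MulAction.mem_stabilizer_iff.1 u'.2
      exact hno u (u' : U).2 hu1 hu2 x hx hux
  rw [Set.ncard_compl, Set.ncard_singleton, h.1] at hdvd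
  have : 8 ∣ 21 - 1 := h8.trans hdvd
  norm_num at this

end Cfsg.Agent.Lib.H21.N21
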