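import Mathlib
import Cfsg.Agent.Lib.H21.N21d

/-!
# A minimal group with exactly 21 Sylow 5-subgroups, part 5 (helper21)

The transfer of an involution with five fixed points into `N_G(P)/C_G(P)` is nontrivial, which
gives a normal subgroup of index 2 or 4: a contradiction.
-/

set_option autoImplicit false

namespace Cfsg.Agent.Lib.H21.N21

open Subgroup MulAction
open scoped Pointwise
open Cfsg.Agent.Lib.H21 Cfsg.Agent.Lib.H21.TwoP1 Cfsg.Agent.Lib.H21.MinN

universe u

variable {G : Type u} [Group G] [Finite G]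

/-- A Sylow 2-subgroup normalizes some Sylow 5-subgroup. -/
theorem exists_le_normalizer (h : MinN 5 21 G) (U : Sylow 2 G) :
    ∃ P : Sylow 5 G, (U : Subgroup G) ≤ normalizer ((P : Subgroup G) : Set G) := by
  have hmod := U.isPGroup'.card_modEq_card_fixedPoints (Sylow 5 G)
  rw [h.1] at hmod
  have hne : Nat.card (fixedPoints (U : Subgroup G) (Sylow 5 G)) ≠ 0 := by
    intro h0
    rw [h0] at hmod
    have := hmod
    unfold Nat.ModEq at this
    omega
  have : Nonempty (fixedPoints (U : Subgroup G) (Sylow 5 G)) := by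
    by_contra hemp
    rw [not_nonempty_iff] at hemp
    exact hne Nat.card_of_isEmpty
  obtain ⟨⟨Q, hQ⟩⟩ := this
  exact ⟨Q, (Subgroup.sylow_mem_fixedPoints_iff _).1 hQ⟩

/-- There is no minimal group with 21 Sylow 5-subgroups whose order is divisible by 8. -/
theorem false_of_eight_dvd (h : MinN 5 21 G) (h8 : 8 ∣ Nat.card G) : False := by
  obtain ⟨U⟩ : Nonempty (Sylow 2 G) := inferInstance
  obtain ⟨P, hUP⟩ := exists_le_normalizer h U
  have hU8 : 8 ∣ Nat.card (U : Subgroup G) := by
    have : 2 ^ 3 ∣ Nat.card (U : Subgroup G) :=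
      U.pow_dvd_card_of_pow_dvd_card (by norm_num; exact h8)
    norm_num at this
    exact this
  obtain ⟨u, huU, hu1, hu2, Q, hQP, huQ⟩ := exists_involution h P (U : Subgroup G) U.isPGroup' hUP hU8
  have huN : u ∈ normalizer ((P : Subgroup G) : Set G) := hUP huU
  have huP : u • P = P := by
    rw [Sylow.smul_eq_iff_mem_normalizer]; exact huN
  have hfix2 : 1 < (FixSet 5 u : Set (Sylow 5 G)).ncard :=
    (Set.one_lt_ncard (Set.toFinite _)).2 ⟨Q, huQ, P, huP, hQP⟩
  have huC : u ∉ centralizer ((P : Subgroup G) : Set G) := by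
    intro hC
    have := ncard_fixSet_involution_centralizer h P u hu2 hu1 hC
    omega
  have hufix : (FixSet 5 u : Set (Sylow 5 G)).ncard = 5 := by
    have h1 := ncard_fixSet_le_five h P u huN huC
    have h2 := ncard_fixSet_involution h u hu2
    omega
  have hPcard := card_P h P
  haveI : Fact (Nat.card (P : Subgroup G)).Prime := ⟨hPcard.symm ▸ (by norm_num : Nat.Prime 5)⟩
  haveI : IsCyclic (P : Subgroup G) := isCyclic_of_prime_card rfl
  -- the homomorphism `U → Aut(P) ≅ (ZMod 5)ˣ`
  set ϕ : (U : Subgroup G) →* (ZMod (Nat.card (P : Subgroup G)))ˣ :=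
    (IsCyclic.mulAutMulEquiv (P : Subgroup G)).toMonoidHom.comp
      ((P : Subgroup G).normalizerMonoidHom.comp (Subgroup.inclusion hUP)) with hϕ
  have hϕu : ϕ ⟨u, huU⟩ ≠ 1 := by
    intro h1
    have h2 : (P : Subgroup G).normalizerMonoidHom (Subgroup.inclusion hUP ⟨u, huU⟩) = 1 := by
      apply (IsCyclic.mulAutMulEquiv (P : Subgroup G)).injective
      rw [map_one]
      exact h1
    have h3 : Subgroup.inclusion hUP ⟨u, huU⟩ ∈ (P : Subgroup G).normalizerMonoidHom.ker := h2
    rw [Subgroup.normalizerMonoidHom_ker, Subgroup.mem_subgroupOf] at h3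
    exact huC h3
  -- the key property: `u` is not conjugate to any other element of `U`
  have key : ∀ (k : ℕ) (g₀ : G), g₀⁻¹ * u ^ k * g₀ ∈ (U : Subgroup G) →
      g₀⁻¹ * u ^ k * g₀ = u ^ k := by
    intro k g₀ hmem
    rcases Nat.even_or_odd k with ⟨m, hm⟩ | ⟨m, hm⟩
    · have : u ^ k = 1 := by
        rw [hm, ← two_mul, pow_mul, hu2, one_pow]
      rw [this]; group
    · have huk : u ^ k = u := by
        rw [hm, pow_succ, pow_mul, hu2, one_pow, one_mul]
      rw [huk] at hmem ⊢
      set u' : G := g₀⁻¹ * u * g₀ with hu'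
      have hu'N : u' ∈ normalizer ((P : Subgroup G) : Set G) := hUP hmem
      have hu'2 : u' ^ 2 = 1 := by
        rw [hu', pow_two]
        calc g₀⁻¹ * u * g₀ * (g₀⁻¹ * u * g₀) = g₀⁻¹ * (u ^ 2) * g₀ := by rw [pow_two]; group
          _ = 1 := by rw [hu2]; group
      have hu'1 : u' ≠ 1 := by
        intro h1
        apply hu1
        have : u = g₀ * u' * g₀⁻¹ := by rw [hu']; group
        rw [this, h1]; group
      have hu'fix : (FixSet 5 u' : Set (Sylow 5 G)).ncard = 5 := by
        rw [hu', ncard_fixSet_conj, hufix]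
      have hu'C : u' ∉ centralizer ((P : Subgroup G) : Set G) := by
        intro hC
        have := ncard_fixSet_involution_centralizer h P u' hu'2 hu'1 hC
        omega
      obtain ⟨j, hj⟩ := U.isPGroup' ⟨u * u', (U : Subgroup G).mul_mem huU hmem⟩
      have hj' : (u * u') ^ 2 ^ j = 1 := congrArg Subtype.val hj
      exact involution_unique h P u u' huN huC hu2 hufix hu'N hu'C hu'2 hu'fix j hj'
  have htr := MonoidHom.transfer_eq_pow ϕ u key
  have hodd : Odd (U : Subgroup G).index := by
    rw [← Nat.not_even_iff_odd]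
    intro he
    exact U.not_dvd_index he.two_dvd
  have hupow : u ^ (U : Subgroup G).index = u := by
    obtain ⟨m, hm⟩ := hodd
    rw [hm, pow_succ, pow_mul, hu2, one_pow, one_mul]
  have htr' : MonoidHom.transfer ϕ u = ϕ ⟨u, huU⟩ := by
    rw [htr]
    congr 1
    exact Subtype.ext hupow
  set M : Subgroup G := (MonoidHom.transfer ϕ).ker with hM
  have hMtop : M ≠ ⊤ := by
    intro htop
    have : u ∈ M := htop ▸ Subgroup.mem_top u
    rw [hM, MonoidHom.mem_ker, htr'] at this
    exact hϕu this
  apply h.false_of_normal M hMtop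
  intro h5
  have hidx : M.index ∣ 4 := by
    rw [hM, Subgroup.index_ker]
    have h1 := Subgroup.card_subgroup_dvd_card (MonoidHom.transfer ϕ).range
    have h2 : Nat.card (ZMod (Nat.card (P : Subgroup G)))ˣ = 4 := by
      rw [← Nat.card_congr (IsCyclic.mulAutMulEquiv (P : Subgroup G)).toEquiv,
        IsCyclic.card_mulAut, hPcard]
      decide
    rwa [h2] at h1
  have := Nat.le_of_dvd (by norm_num) (h5.trans hidx)
  omega

end Cfsg.Agent.Lib.H21.N21
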