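import Cfsg.Agent.Lib.H16.G24M.Base
import Cfsg.Agent.Lib.H17.G2H

set_option autoImplicit false
set_option maxRecDepth 100000

/-!
# S2102 piece GS (helper21): the data `Base am bm cm` on helper17's permutation group `P2` on 1782 points

`am bm cm` are the products of the packed involution tables `RT0 … RT5` written in `tools/blueprints/S2102.md`.
-/

namespace Cfsg.Agent.Lib.H21.G24GS

open Cfsg.Agent.Lib.H17.CosetCert Cfsg.Agent.Lib.H17.G2Gens Cfsg.Agent.Lib.H17.G2Chain
open Cfsg.Agent.Lib.H12.J3M (gl2 wv2 gl3 wv3 wv3_eq_wv2)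
open Cfsg.Agent.Lib.H16.G24M

/-- the tables of `a` -/
def la : List ℕ := [RT1, RT2, RT3, RT4, RT0, RT2, RT5]

/-- the tables of `b` -/
def lb : List ℕ := [RT3, RT5, RT2, RT3] ++ la ++ [RT3, RT2, RT5, RT3]

/-- the tables of `c` -/
def lc : List ℕ := [RT0] ++ la ++ [RT0]

/-- the product of the permutations of a list of tables -/
noncomputable def pr (l : List ℕ) : Equiv.Perm (Fin 1782) := (l.map (σ 11 2048 1782)).prod

theorem pr_nil : pr [] = 1 := rfl

theorem pr_append (l m : List ℕ) : pr (l ++ m) = pr l * pr m := by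
  unfold pr
  rw [List.map_append, List.prod_append]

theorem pr_reverse (l : List ℕ) : pr l.reverse = (pr l)⁻¹ := by
  unfold pr
  rw [List.map_reverse]
  apply prod_reverse_of_invol_list
  intro g hg
  obtain ⟨t, -, rfl⟩ := List.mem_map.mp hg
  exact σ_mul_self 11 2048 1782 t

theorem pr_mem (l : List ℕ) (h : ∀ t ∈ l, t ∈ rtabs) : pr l ∈ P2 := by
  unfold pr
  apply Subgroup.list_prod_mem
  intro x hx
  obtain ⟨t, ht, rfl⟩ := List.mem_map.mp hx
  exact Subgroup.subset_closure ⟨t, h t ht, rfl⟩

/-- the element of `P2` of a list of tables -/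
noncomputable def mkP (l : List ℕ) (h : ∀ t ∈ l, t ∈ rtabs) : ↥P2 := ⟨pr l, pr_mem l h⟩

theorem la_mem : ∀ t ∈ la, t ∈ rtabs := by
  intro t ht
  simp only [la, List.mem_cons, List.not_mem_nil, or_false] at ht
  simp only [rtabs, List.mem_cons, List.not_mem_nil, or_false]
  rcases ht with rfl | rfl | rfl | rfl | rfl | rfl | rfl <;> simp

theorem lb_mem : ∀ t ∈ lb, t ∈ rtabs := by
  intro t ht
  simp only [lb, List.mem_append, List.mem_cons, List.not_mem_nil, or_false] at ht
  rcases ht with (ht | ht) | ht
  · simp only [rtabs, List.mem_cons, List.not_mem_nil, or_false]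
    rcases ht with rfl | rfl | rfl | rfl <;> simp
  · exact la_mem t ht
  · simp only [rtabs, List.mem_cons, List.not_mem_nil, or_false]
    rcases ht with rfl | rfl | rfl | rfl <;> simp

theorem lc_mem : ∀ t ∈ lc, t ∈ rtabs := by
  intro t ht
  simp only [lc, List.mem_append, List.mem_cons, List.not_mem_nil, or_false] at ht
  rcases ht with (ht | ht) | ht
  · subst ht
    simp [rtabs]
  · exact la_mem t ht
  · subst ht
    simp [rtabs]

/-- the three generators -/
noncomputable def am : ↥P2 := mkP la la_mem

noncomputable def bm : ↥P2 := mkP lb lb_mem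

noncomputable def cm : ↥P2 := mkP lc lc_mem

/-- the tables of a letter -/
def letT (x : ℕ) : List ℕ :=
  match x with
  | 0 => la | 1 => la.reverse | 2 => lb | 3 => lb.reverse | 4 => lc | 5 => lc.reverse | _ => []

/-- the tables of a word -/
def expand (w : List ℕ) : List ℕ := w.flatMap letT

theorem expand_nil : expand [] = [] := rfl

theorem expand_cons (x : ℕ) (w : List ℕ) : expand (x :: w) = letT x ++ expand w := rfl

theorem expand_append (u v : List ℕ) : expand (u ++ v) = expand u ++ expand v := by
  unfold expand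
  rw [List.flatMap_append]

theorem letT_mem (x : ℕ) : ∀ t ∈ letT x, t ∈ rtabs := by
  intro t ht
  rcases x with _ | _ | _ | _ | _ | _ | n
  · exact la_mem t ht
  · exact la_mem t (List.mem_reverse.mp ht)
  · exact lb_mem t ht
  · exact lb_mem t (List.mem_reverse.mp ht)
  · exact lc_mem t ht
  · exact lc_mem t (List.mem_reverse.mp ht)
  · exact absurd ht List.not_mem_nil

theorem expand_mem (w : List ℕ) : ∀ t ∈ expand w, t ∈ rtabs := by
  intro t ht
  unfold expand at ht
  obtain ⟨x, -, hx⟩ := List.mem_flatMap.mp ht
  exact letT_mem x t hx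

theorem expand_good (w : List ℕ) : ∀ t ∈ expand w, Good 11 2048 1782 t :=
  fun t ht => good_rtabs t (expand_mem w t ht)

theorem gl3_val (x : ℕ) : ((gl3 am bm cm x : ↥P2) : Equiv.Perm (Fin 1782)) = pr (letT x) := by
  rcases x with _ | _ | _ | _ | _ | _ | n
  · rfl
  · show ((am⁻¹ : ↥P2) : Equiv.Perm (Fin 1782)) = pr la.reverse
    rw [pr_reverse]; rfl
  · rfl
  · show ((bm⁻¹ : ↥P2) : Equiv.Perm (Fin 1782)) = pr lb.reverse
    rw [pr_reverse]; rfl
  · rfl
  · show ((cm⁻¹ : ↥P2) : Equiv.Perm (Fin 1782)) = pr lc.reverse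
    rw [pr_reverse]; rfl
  · rfl

/-- the permutation of a word in the three generators -/
theorem wv3_val (w : List ℕ) : ((wv3 am bm cm w : ↥P2) : Equiv.Perm (Fin 1782)) = pr (expand w) := by
  induction w with
  | nil => rfl
  | cons x w ih =>
    have e : wv3 am bm cm (x :: w) = gl3 am bm cm x * wv3 am bm cm w := by
      unfold wv3
      rw [List.map_cons, List.prod_cons]
    rw [e, expand_cons, pr_append, Subgroup.coe_mul, gl3_val, ih]

theorem wv3_eq_one_of_check (w : List ℕ) (h : checkWord 11 2048 (expand w) 1782 = true) :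
    wv3 am bm cm w = 1 := by
  apply Subtype.ext
  rw [wv3_val, Subgroup.coe_one]
  exact prod_eq_one_of_check 11 2048 1782 (expand w) (expand_good w) h

/-- a word which moves a point is not trivial -/
theorem wv3_ne_one_of_moved (w : List ℕ) (i : ℕ) (hi : i < 1782)
    (h : applyT 11 2048 (expand w).reverse i ≠ i) : wv3 am bm cm w ≠ 1 := by
  intro hw
  have h1 : pr (expand w) = 1 := by rw [← wv3_val, hw]; rfl
  have h2 := prod_apply 11 2048 1782 (expand w) (expand_good w) ⟨i, hi⟩
  have h3 : (expand w |>.map (σ 11 2048 1782)).prod = 1 := h1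
  rw [h3] at h2
  exact h h2.symm

/-! ## the checks (one declaration per word: the kernel frees its memory between declarations) -/

/-- the list of relators `C2.exactL ++ (C2.symL ++ C2.cenL)` -/
def L2 : List (List ℕ) := C2.exactL ++ (C2.symL ++ C2.cenL)

theorem L2_len : L2.length = 46 := by decide

theorem chk2_0 : checkWord 11 2048 (expand (L2.getD 0 [])) 1782 = true := by
  decide +kernel

theorem chk2_1 : checkWord 11 2048 (expand (L2.getD 1 [])) 1782 = true := by
  decide +kernel

theorem chk2_2 : checkWord 11 2048 (expand (L2.getD 2 [])) 1782 = true := by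
  decide +kernel

theorem chk2_3 : checkWord 11 2048 (expand (L2.getD 3 [])) 1782 = true := by
  decide +kernel

theorem chk2_4 : checkWord 11 2048 (expand (L2.getD 4 [])) 1782 = true := by
  decide +kernel

theorem chk2_5 : checkWord 11 2048 (expand (L2.getD 5 [])) 1782 = true := by
  decide +kernel

theorem chk2_6 : checkWord 11 2048 (expand (L2.getD 6 [])) 1782 = true := by
  decide +kernel

theorem chk2_7 : checkWord 11 2048 (expand (L2.getD 7 [])) 1782 = true := by
  decide +kernel

theorem chk2_8 : checkWord 11 2048 (expand (L2.getD 8 [])) 1782 = true := by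
  decide +kernel

theorem chk2_9 : checkWord 11 2048 (expand (L2.getD 9 [])) 1782 = true := by
  decide +kernel

theorem chk2_10 : checkWord 11 2048 (expand (L2.getD 10 [])) 1782 = true := by
  decide +kernel

theorem chk2_11 : checkWord 11 2048 (expand (L2.getD 11 [])) 1782 = true := by
  decide +kernel

theorem chk2_12 : checkWord 11 2048 (expand (L2.getD 12 [])) 1782 = true := by
  decide +kernel

theorem chk2_13 : checkWord 11 2048 (expand (L2.getD 13 [])) 1782 = true := by
  decide +kernel

theorem chk2_14 : checkWord 11 2048 (expand (L2.getD 14 [])) 1782 = true := by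
  decide +kernel

theorem chk2_15 : checkWord 11 2048 (expand (L2.getD 15 [])) 1782 = true := by
  decide +kernel

theorem chk2_16 : checkWord 11 2048 (expand (L2.getD 16 [])) 1782 = true := by
  decide +kernel

theorem chk2_17 : checkWord 11 2048 (expand (L2.getD 17 [])) 1782 = true := by
  decide +kernel

theorem chk2_18 : checkWord 11 2048 (expand (L2.getD 18 [])) 1782 = true := by
  decide +kernel

theorem chk2_19 : checkWord 11 2048 (expand (L2.getD 19 [])) 1782 = true := by
  decide +kernel

theorem chk2_20 : checkWord 11 2048 (expand (L2.getD 20 [])) 1782 = true := by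
  decide +kernel

theorem chk2_21 : checkWord 11 2048 (expand (L2.getD 21 [])) 1782 = true := by
  decide +kernel

theorem chk2_22 : checkWord 11 2048 (expand (L2.getD 22 [])) 1782 = true := by
  decide +kernel

theorem chk2_23 : checkWord 11 2048 (expand (L2.getD 23 [])) 1782 = true := by
  decide +kernel

theorem chk2_24 : checkWord 11 2048 (expand (L2.getD 24 [])) 1782 = true := by
  decide +kernel

theorem chk2_25 : checkWord 11 2048 (expand (L2.getD 25 [])) 1782 = true := by
  decide +kernel

theorem chk2_26 : checkWord 11 2048 (expand (L2.getD 26 [])) 1782 = true := by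
  decide +kernel

theorem chk2_27 : checkWord 11 2048 (expand (L2.getD 27 [])) 1782 = true := by
  decide +kernel

theorem chk2_28 : checkWord 11 2048 (expand (L2.getD 28 [])) 1782 = true := by
  decide +kernel

theorem chk2_29 : checkWord 11 2048 (expand (L2.getD 29 [])) 1782 = true := by
  decide +kernel

theorem chk2_30 : checkWord 11 2048 (expand (L2.getD 30 [])) 1782 = true := by
  decide +kernel

theorem chk2_31 : checkWord 11 2048 (expand (L2.getD 31 [])) 1782 = true := by
  decide +kernel

theorem chk2_32 : checkWord 11 2048 (expand (L2.getD 32 [])) 1782 = true := by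
  decide +kernel

theorem chk2_33 : checkWord 11 2048 (expand (L2.getD 33 [])) 1782 = true := by
  decide +kernel

theorem chk2_34 : checkWord 11 2048 (expand (L2.getD 34 [])) 1782 = true := by
  decide +kernel

theorem chk2_35 : checkWord 11 2048 (expand (L2.getD 35 [])) 1782 = true := by
  decide +kernel

theorem chk2_36 : checkWord 11 2048 (expand (L2.getD 36 [])) 1782 = true := by
  decide +kernel

theorem chk2_37 : checkWord 11 2048 (expand (L2.getD 37 [])) 1782 = true := by
  decide +kernel

theorem chk2_38 : checkWord 11 2048 (expand (L2.getD 38 [])) 1782 = true := by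
  decide +kernel

theorem chk2_39 : checkWord 11 2048 (expand (L2.getD 39 [])) 1782 = true := by
  decide +kernel

theorem chk2_40 : checkWord 11 2048 (expand (L2.getD 40 [])) 1782 = true := by
  decide +kernel

theorem chk2_41 : checkWord 11 2048 (expand (L2.getD 41 [])) 1782 = true := by
  decide +kernel

theorem chk2_42 : checkWord 11 2048 (expand (L2.getD 42 [])) 1782 = true := by
  decide +kernel

theorem chk2_43 : checkWord 11 2048 (expand (L2.getD 43 [])) 1782 = true := by
  decide +kernel

theorem chk2_44 : checkWord 11 2048 (expand (L2.getD 44 [])) 1782 = true := by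
  decide +kernel

theorem chk2_45 : checkWord 11 2048 (expand (L2.getD 45 [])) 1782 = true := by
  decide +kernel

theorem chk2_all : ∀ k < 46, checkWord 11 2048 (expand (L2.getD k [])) 1782 = true := by
  intro k hk
  interval_cases k
  · exact chk2_0
  · exact chk2_1
  · exact chk2_2
  · exact chk2_3
  · exact chk2_4
  · exact chk2_5
  · exact chk2_6
  · exact chk2_7
  · exact chk2_8
  · exact chk2_9
  · exact chk2_10
  · exact chk2_11
  · exact chk2_12
  · exact chk2_13
  · exact chk2_14
  · exact chk2_15
  · exact chk2_16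
  · exact chk2_17
  · exact chk2_18
  · exact chk2_19
  · exact chk2_20
  · exact chk2_21
  · exact chk2_22
  · exact chk2_23
  · exact chk2_24
  · exact chk2_25
  · exact chk2_26
  · exact chk2_27
  · exact chk2_28
  · exact chk2_29
  · exact chk2_30
  · exact chk2_31
  · exact chk2_32
  · exact chk2_33
  · exact chk2_34
  · exact chk2_35
  · exact chk2_36
  · exact chk2_37
  · exact chk2_38
  · exact chk2_39
  · exact chk2_40
  · exact chk2_41
  · exact chk2_42
  · exact chk2_43
  · exact chk2_44
  · exact chk2_45

theorem chk2 : ∀ w ∈ C2.exactL ++ (C2.symL ++ C2.cenL), checkWord 11 2048 (expand w) 1782 = true := by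
  intro w hw
  have hw' : w ∈ L2 := hw
  obtain ⟨k, hk, rfl⟩ := List.mem_iff_getElem.mp hw'
  have h := chk2_all k (by rw [← L2_len]; exact hk)
  rwa [List.getD_eq_getElem _ _ hk] at h

/-- the list of relators `C1.exactL ++ (C1.symL ++ C1.cenL)` -/
def L1 : List (List ℕ) := C1.exactL ++ (C1.symL ++ C1.cenL)

theorem L1_len : L1.length = 16 := by decide

theorem chk1_0 : checkWord 11 2048 (expand (L1.getD 0 [])) 1782 = true := by
  decide +kernel

theorem chk1_1 : checkWord 11 2048 (expand (L1.getD 1 [])) 1782 = true := by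
  decide +kernel

theorem chk1_2 : checkWord 11 2048 (expand (L1.getD 2 [])) 1782 = true := by
  decide +kernel

theorem chk1_3 : checkWord 11 2048 (expand (L1.getD 3 [])) 1782 = true := by
  decide +kernel

theorem chk1_4 : checkWord 11 2048 (expand (L1.getD 4 [])) 1782 = true := by
  decide +kernel

theorem chk1_5 : checkWord 11 2048 (expand (L1.getD 5 [])) 1782 = true := by
  decide +kernel

theorem chk1_6 : checkWord 11 2048 (expand (L1.getD 6 [])) 1782 = true := by
  decide +kernel

theorem chk1_7 : checkWord 11 2048 (expand (L1.getD 7 [])) 1782 = true := by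
  decide +kernel

theorem chk1_8 : checkWord 11 2048 (expand (L1.getD 8 [])) 1782 = true := by
  decide +kernel

theorem chk1_9 : checkWord 11 2048 (expand (L1.getD 9 [])) 1782 = true := by
  decide +kernel

theorem chk1_10 : checkWord 11 2048 (expand (L1.getD 10 [])) 1782 = true := by
  decide +kernel

theorem chk1_11 : checkWord 11 2048 (expand (L1.getD 11 [])) 1782 = true := by
  decide +kernel

theorem chk1_12 : checkWord 11 2048 (expand (L1.getD 12 [])) 1782 = true := by
  decide +kernel

theorem chk1_13 : checkWord 11 2048 (expand (L1.getD 13 [])) 1782 = true := by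
  decide +kernel

theorem chk1_14 : checkWord 11 2048 (expand (L1.getD 14 [])) 1782 = true := by
  decide +kernel

theorem chk1_15 : checkWord 11 2048 (expand (L1.getD 15 [])) 1782 = true := by
  decide +kernel

theorem chk1_all : ∀ k < 16, checkWord 11 2048 (expand (L1.getD k [])) 1782 = true := by
  intro k hk
  interval_cases k
  · exact chk1_0
  · exact chk1_1
  · exact chk1_2
  · exact chk1_3
  · exact chk1_4
  · exact chk1_5
  · exact chk1_6
  · exact chk1_7
  · exact chk1_8
  · exact chk1_9
  · exact chk1_10
  · exact chk1_11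
  · exact chk1_12
  · exact chk1_13
  · exact chk1_14
  · exact chk1_15

theorem chk1 : ∀ w ∈ C1.exactL ++ (C1.symL ++ C1.cenL), checkWord 11 2048 (expand w) 1782 = true := by
  intro w hw
  have hw' : w ∈ L1 := hw
  obtain ⟨k, hk, rfl⟩ := List.mem_iff_getElem.mp hw'
  have h := chk1_all k (by rw [← L1_len]; exact hk)
  rwa [List.getD_eq_getElem _ _ hk] at h

/-- the list of relators `xL` -/
def Lx : List (List ℕ) := xL

theorem Lx_len : Lx.length = 3 := by decide

theorem chkx_0 : checkWord 11 2048 (expand (Lx.getD 0 [])) 1782 = true := by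
  decide +kernel

theorem chkx_1 : checkWord 11 2048 (expand (Lx.getD 1 [])) 1782 = true := by
  decide +kernel

theorem chkx_2 : checkWord 11 2048 (expand (Lx.getD 2 [])) 1782 = true := by
  decide +kernel

theorem chkx_all : ∀ k < 3, checkWord 11 2048 (expand (Lx.getD k [])) 1782 = true := by
  intro k hk
  interval_cases k
  · exact chkx_0
  · exact chkx_1
  · exact chkx_2

theorem chkx : ∀ w ∈ xL, checkWord 11 2048 (expand w) 1782 = true := by
  intro w hw
  have hw' : w ∈ Lx := hw
  obtain ⟨k, hk, rfl⟩ := List.mem_iff_getElem.mp hw'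
  have h := chkx_all k (by rw [← Lx_len]; exact hk)
  rwa [List.getD_eq_getElem _ _ hk] at h

theorem lt1 : ∀ w ∈ C1.exactL ++ (C1.symL ++ C1.cenL), ∀ x ∈ w, x < 4 := by
  decide

theorem chkd : checkWord 11 2048 (expand (dW ++ (dW ++ (dW ++ (dW ++ (dW ++ (dW ++ dW))))))) 1782 = true := by
  decide +kernel

theorem chkg_0 : checkWord 11 2048 (expand (rtW 0) ++ [rtabs.getD 0 0]) 1782 = true := by
  decide +kernel

theorem chkg_1 : checkWord 11 2048 (expand (rtW 1) ++ [rtabs.getD 1 0]) 1782 = true := by
  decide +kernel

theorem chkg_2 : checkWord 11 2048 (expand (rtW 2) ++ [rtabs.getD 2 0]) 1782 = true := by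
  decide +kernel

theorem chkg_3 : checkWord 11 2048 (expand (rtW 3) ++ [rtabs.getD 3 0]) 1782 = true := by
  decide +kernel

theorem chkg_4 : checkWord 11 2048 (expand (rtW 4) ++ [rtabs.getD 4 0]) 1782 = true := by
  decide +kernel

theorem chkg_5 : checkWord 11 2048 (expand (rtW 5) ++ [rtabs.getD 5 0]) 1782 = true := by
  decide +kernel

theorem chkg : ∀ k < 6, checkWord 11 2048 (expand (rtW k) ++ [rtabs.getD k 0]) 1782 = true := by
  intro k hk
  interval_cases k
  · exact chkg_0
  · exact chkg_1
  · exact chkg_2
  · exact chkg_3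
  · exact chkg_4
  · exact chkg_5

theorem mv_a : applyT 11 2048 (expand [0]).reverse 1 ≠ 1 := by
  decide +kernel

theorem mv_d : applyT 11 2048 (expand dW).reverse 1 ≠ 1 := by
  decide +kernel

/-! ## generation -/

theorem rt_mem_closure (k : ℕ) (hk : k < 6) :
    ∃ z ∈ Subgroup.closure ({am, bm, cm} : Set ↥P2), (z : Equiv.Perm (Fin 1782)) = σ 11 2048 1782 (rtabs.getD k 0) := by
  have hw : ∀ w : List ℕ, wv3 am bm cm w ∈ Subgroup.closure ({am, bm, cm} : Set ↥P2) := by
    intro w
    unfold wv3
    apply Subgroup.list_prod_mem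
    intro x hx
    obtain ⟨i, -, rfl⟩ := List.mem_map.mp hx
    have ha : am ∈ Subgroup.closure ({am, bm, cm} : Set ↥P2) := Subgroup.subset_closure (by simp)
    have hb : bm ∈ Subgroup.closure ({am, bm, cm} : Set ↥P2) := Subgroup.subset_closure (by simp)
    have hc : cm ∈ Subgroup.closure ({am, bm, cm} : Set ↥P2) := Subgroup.subset_closure (by simp)
    rcases i with _ | _ | _ | _ | _ | _ | n
    · exact ha
    · exact inv_mem ha
    · exact hb
    · exact inv_mem hb
    · exact hc
    · exact inv_mem hc
    · exact one_mem _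
  refine ⟨(wv3 am bm cm (rtW k))⁻¹, inv_mem (hw _), ?_⟩
  have hmem : rtabs.getD k 0 ∈ rtabs := by
    interval_cases k <;> simp [rtabs]
  have hgood : ∀ t ∈ expand (rtW k) ++ [rtabs.getD k 0], Good 11 2048 1782 t := by
    intro t ht
    rcases List.mem_append.mp ht with h | h
    · exact expand_good _ t h
    · rw [List.mem_singleton] at h
      subst h
      exact good_rtabs _ hmem
  have h1 := prod_eq_one_of_check 11 2048 1782 _ hgood (chkg k hk)
  rw [List.map_append, List.prod_append, List.map_singleton, List.prod_singleton] at h1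
  rw [Subgroup.coe_inv, wv3_val]
  exact (eq_inv_of_mul_eq_one_right h1).symm ▸ rfl

theorem gen_P2 : Subgroup.closure ({am, bm, cm} : Set ↥P2) = ⊤ := by
  rw [eq_top_iff]
  intro y _
  have hle : P2 ≤ (Subgroup.closure ({am, bm, cm} : Set ↥P2)).map P2.subtype := by
    unfold P2
    rw [Subgroup.closure_le]
    rintro p ⟨t, ht, rfl⟩
    simp only [rtabs, List.mem_cons, List.not_mem_nil, or_false] at ht
    have key : ∀ k < 6, σ 11 2048 1782 (rtabs.getD k 0) ∈
        (Subgroup.closure ({am, bm, cm} : Set ↥P2)).map P2.subtype := by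
      intro k hk
      obtain ⟨z, hz, hzv⟩ := rt_mem_closure k hk
      exact ⟨z, hz, hzv⟩
    rcases ht with rfl | rfl | rfl | rfl | rfl | rfl
    · exact key 0 (by norm_num)
    · exact key 1 (by norm_num)
    · exact key 2 (by norm_num)
    · exact key 3 (by norm_num)
    · exact key 4 (by norm_num)
    · exact key 5 (by norm_num)
  obtain ⟨z, hz, hzy⟩ := hle y.2
  have : z = y := Subtype.ext hzy
  rw [← this]
  exact hz

/-! ## the result -/

theorem base_P2 : Base am bm cm where
  rel1 := fun w hw => by
    rw [← wv3_eq_wv2 am bm cm w (lt1 w hw)]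
    exact wv3_eq_one_of_check w (chk1 w hw)
  rel2 := fun w hw => wv3_eq_one_of_check w (chk2 w hw)
  relx := fun w hw => wv3_eq_one_of_check w (chkx w hw)
  gen := gen_P2
  card := Cfsg.Agent.Lib.H17.G2H.card_P2
  a_ne := by
    have h := wv3_ne_one_of_moved [0] 1 (by norm_num) mv_a
    have e : wv3 am bm cm [0] = am := by simp [wv3, Cfsg.Agent.Lib.H12.J3M.gl3]
    rwa [e] at h
  d7 := by
    have h := wv3_eq_one_of_check _ chkd
    rw [wv3_append, wv3_append, wv3_append, wv3_append, wv3_append, wv3_append] at h
    have e : wv3 am bm cm dW ^ 7 = wv3 am bm cm dW * (wv3 am bm cm dW * (wv3 am bm cm dW *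
        (wv3 am bm cm dW * (wv3 am bm cm dW * (wv3 am bm cm dW * wv3 am bm cm dW))))) := by
      simp only [pow_succ', pow_zero, mul_one]
    rw [e]
    exact h
  d_ne := wv3_ne_one_of_moved dW 1 (by norm_num) mv_d

end Cfsg.Agent.Lib.H21.G24GS
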