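import Mathlib
import Cfsg.Agent.Lib.H14.ThetaDefs

/-!
# S1632 piece LAT-a (architect helper14): `qf_Br`, `qfR_Br`, `Br_mul_inv`, `exists_equiv_dual`.
-/

set_option autoImplicit false

namespace Cfsg.Agent.Lib.H21.Theta

open Complex Matrix
open Cfsg.Agent.Lib.H14.Theta

section LAT

variable {n : ℕ} (B : Matrix (Fin n) (Fin n) ℤ)

theorem qf_Br (x : Fin n → ℤ) : qf (Br B) (zc x) = ((Bq B x : ℤ) : ℂ) := by
  simp only [qf, Br, zc, Bq, dotProduct, mulVec, Matrix.map_apply, Int.cast_sum, Int.cast_mul,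
    Finset.mul_sum]
  refine Finset.sum_congr rfl fun i _ => Finset.sum_congr rfl fun j _ => ?_
  push_cast
  ring

theorem qfR_Br (x : Fin n → ℤ) : qfR (Br B) (zr x) = ((Bq B x : ℤ) : ℝ) := by
  simp only [qfR, Br, zr, Bq, dotProduct, mulVec, Matrix.map_apply, Int.cast_sum, Int.cast_mul,
    Finset.mul_sum]
  refine Finset.sum_congr rfl fun i _ => Finset.sum_congr rfl fun j _ => ?_
  ring

theorem Br_eq_map (M : Matrix (Fin n) (Fin n) ℤ) : Br M = M.map (Int.castRingHom ℝ) := rfl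

theorem Br_mul (M N : Matrix (Fin n) (Fin n) ℤ) : Br (M * N) = Br M * Br N := by
  rw [Br_eq_map, Br_eq_map, Br_eq_map, Matrix.map_mul]

theorem Br_one : Br (1 : Matrix (Fin n) (Fin n) ℤ) = 1 := by
  rw [Br_eq_map, Matrix.map_one _ (map_zero _) (map_one _)]

theorem Br_mul_inv (hdet : B.det = 1) : Br B * Br B⁻¹ = 1 := by
  rw [← Br_mul, Matrix.mul_nonsing_inv B (by rw [hdet]; exact isUnit_one), Br_one]

theorem Br_inv_mul (hdet : B.det = 1) : Br B⁻¹ * Br B = 1 := by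
  rw [← Br_mul, Matrix.nonsing_inv_mul B (by rw [hdet]; exact isUnit_one), Br_one]

theorem exists_equiv_dual (hsymm : B.IsSymm) (hdet : B.det = 1) :
    ∃ e : (Fin n → ℤ) ≃ (Fin n → ℤ), ∀ x, Bq B⁻¹ (e x) = Bq B x := by
  have hu : IsUnit B.det := by rw [hdet]; exact isUnit_one
  refine ⟨⟨fun x => B *ᵥ x, fun y => B⁻¹ *ᵥ y, fun x => ?_, fun y => ?_⟩, fun x => ?_⟩
  · simp only [Matrix.mulVec_mulVec, Matrix.nonsing_inv_mul B hu, Matrix.one_mulVec]
  · simp only [Matrix.mulVec_mulVec, Matrix.mul_nonsing_inv B hu, Matrix.one_mulVec]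
  · simp only [Bq, Equiv.coe_fn_mk, Matrix.mulVec_mulVec, Matrix.nonsing_inv_mul B hu,
      Matrix.one_mulVec]
    exact dotProduct_comm _ _

end LAT

end Cfsg.Agent.Lib.H21.Theta
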