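import Mathlib
import Cfsg.Agent.Lib.H14.ThetaDefs
import Cfsg.Agent.Lib.H21.ThetaLATa

/-!
# S1632 piece LAT-b (architect helper14): `isPD_Br`, `finite_Bq_eq`.
-/

set_option autoImplicit false

namespace Cfsg.Agent.Lib.H21.Theta

open Complex Matrix
open Cfsg.Agent.Lib.H14.Theta

section LAT

variable {n : ℕ} (B : Matrix (Fin n) (Fin n) ℤ)

/-! ### The real form -/

theorem qfR_eq_dot (A : Matrix (Fin n) (Fin n) ℝ) (x : Fin n → ℝ) :
    qfR A x = star x ⬝ᵥ (A *ᵥ x) := by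
  simp only [qfR, dotProduct, mulVec, star_trivial, Finset.mul_sum]
  refine Finset.sum_congr rfl fun i _ => Finset.sum_congr rfl fun j _ => ?_
  ring

theorem qfR_smul (A : Matrix (Fin n) (Fin n) ℝ) (c : ℝ) (x : Fin n → ℝ) :
    qfR A (c • x) = c ^ 2 * qfR A x := by
  simp only [qfR, Pi.smul_apply, smul_eq_mul, Finset.mul_sum]
  refine Finset.sum_congr rfl fun i _ => Finset.sum_congr rfl fun j _ => ?_
  ring

theorem continuous_qfR (A : Matrix (Fin n) (Fin n) ℝ) : Continuous (qfR A) := by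
  unfold qfR
  fun_prop

theorem Bq_zero : Bq B 0 = 0 := by
  simp [Bq]

theorem Bq_nonneg (hpos : ∀ x : Fin n → ℤ, x ≠ 0 → 0 < Bq B x) (x : Fin n → ℤ) : 0 ≤ Bq B x := by
  by_cases hx : x = 0
  · rw [hx, Bq_zero]
  · exact (hpos x hx).le

theorem qfR_Br_rat_nonneg (hpos : ∀ x : Fin n → ℤ, x ≠ 0 → 0 < Bq B x) (q : Fin n → ℚ) :
    0 ≤ qfR (Br B) (fun i => ((q i : ℚ) : ℝ)) := by
  obtain ⟨b, hb⟩ := IsLocalization.exist_integer_multiples_of_finite (nonZeroDivisors ℤ) q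
  choose z hz using hb
  have hb0 : ((b : ℤ) : ℝ) ≠ 0 := by
    have : (b : ℤ) ≠ 0 := nonZeroDivisors.coe_ne_zero b
    exact_mod_cast this
  have hzr : zr z = ((b : ℤ) : ℝ) • (fun i => ((q i : ℚ) : ℝ)) := by
    funext i
    have h := hz i
    simp only [zr, Pi.smul_apply, smul_eq_mul]
    have h' : ((z i : ℤ) : ℚ) = ((b : ℤ) : ℚ) * q i := by
      rw [eq_intCast, zsmul_eq_mul] at h; exact h
    have h'' := congrArg (fun r : ℚ => (r : ℝ)) h'
    simp only [Rat.cast_mul, Rat.cast_intCast] at h''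
    exact h''
  have h1 : qfR (Br B) (zr z) = ((b : ℤ) : ℝ) ^ 2 * qfR (Br B) (fun i => ((q i : ℚ) : ℝ)) := by
    rw [hzr, qfR_smul]
  rw [qfR_Br] at h1
  have h2 : (0 : ℝ) ≤ ((Bq B z : ℤ) : ℝ) := by exact_mod_cast Bq_nonneg B hpos z
  have h3 : (0 : ℝ) < ((b : ℤ) : ℝ) ^ 2 := by positivity
  rw [h1] at h2
  exact nonneg_of_mul_nonneg_right h2 h3

theorem qfR_Br_nonneg (hpos : ∀ x : Fin n → ℤ, x ≠ 0 → 0 < Bq B x) (x : Fin n → ℝ) :
    0 ≤ qfR (Br B) x := by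
  have hd : DenseRange (Pi.map (fun (_ : Fin n) (r : ℚ) => (r : ℝ))) :=
    DenseRange.piMap (fun _ => Rat.denseRange_cast)
  refine hd.induction_on (p := fun x => 0 ≤ qfR (Br B) x) x ?_ ?_
  · exact isClosed_le continuous_const (continuous_qfR _)
  · intro q
    exact qfR_Br_rat_nonneg B hpos q

theorem Br_isSymm (hsymm : B.IsSymm) : (Br B).IsSymm := by
  unfold Matrix.IsSymm
  rw [Br_eq_map, ← Matrix.transpose_map, hsymm.eq]

theorem isPD_Br (hsymm : B.IsSymm) (hpos : ∀ x : Fin n → ℤ, x ≠ 0 → 0 < Bq B x) (hdet : B.det = 1) :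
    IsPD (Br B) := by
  refine ⟨Br_isSymm B hsymm, ?_⟩
  have hherm : (Br B).IsHermitian := by
    unfold Matrix.IsHermitian
    rw [Matrix.conjTranspose_eq_transpose_of_trivial]
    exact Br_isSymm B hsymm
  have hpsd : (Br B).PosSemidef :=
    Matrix.PosSemidef.of_dotProduct_mulVec_nonneg hherm (fun x => by
      rw [← qfR_eq_dot]; exact qfR_Br_nonneg B hpos x)
  have hunit : IsUnit (Br B) := ⟨⟨Br B, Br B⁻¹, Br_mul_inv B hdet, Br_inv_mul B hdet⟩, rfl⟩
  have hpd : (Br B).PosDef := hpsd.posDef_iff_isUnit.2 hunit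
  intro x hx
  rw [qfR_eq_dot]
  exact hpd.dotProduct_mulVec_pos hx

/-! ### Finiteness, by the integral Cauchy–Schwarz inequality -/

/-- The bilinear form of `B`. -/
def blZ (u x : Fin n → ℤ) : ℤ := u ⬝ᵥ (B *ᵥ x)

theorem Bq_eq_blZ (x : Fin n → ℤ) : Bq B x = blZ B x x := rfl

theorem blZ_symm (hsymm : B.IsSymm) (u x : Fin n → ℤ) : blZ B u x = blZ B x u := by
  unfold blZ
  rw [Matrix.dotProduct_mulVec, ← Matrix.mulVec_transpose, hsymm.eq, dotProduct_comm]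

theorem Bq_comb (hsymm : B.IsSymm) (a b : ℤ) (u x : Fin n → ℤ) :
    Bq B (a • u + b • x) = a ^ 2 * Bq B u + 2 * a * b * blZ B u x + b ^ 2 * Bq B x := by
  rw [Bq_eq_blZ, Bq_eq_blZ, Bq_eq_blZ]
  have h := blZ_symm B hsymm x u
  unfold blZ at *
  simp only [Matrix.mulVec_add, Matrix.mulVec_smul, dotProduct_add, add_dotProduct,
    smul_dotProduct, dotProduct_smul, smul_eq_mul]
  rw [h]
  ring

theorem blZ_sq_le (hsymm : B.IsSymm) (hpos : ∀ x : Fin n → ℤ, x ≠ 0 → 0 < Bq B x)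
    (u x : Fin n → ℤ) : blZ B u x ^ 2 ≤ Bq B u * Bq B x := by
  by_cases hx : x = 0
  · subst hx
    simp [blZ, Bq_zero]
  · have hQx : 0 < Bq B x := hpos x hx
    have h := Bq_nonneg B hpos (Bq B x • u + (-blZ B u x) • x)
    rw [Bq_comb B hsymm] at h
    have h' : 0 ≤ Bq B x * (Bq B u * Bq B x - blZ B u x ^ 2) := by
      calc (0 : ℤ) ≤ _ := h
        _ = _ := by ring
    have := nonneg_of_mul_nonneg_right h' hQx
    linarith

theorem coord_sq_le (hsymm : B.IsSymm) (hpos : ∀ x : Fin n → ℤ, x ≠ 0 → 0 < Bq B x)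
    (hdet : B.det = 1) (x : Fin n → ℤ) (i : Fin n) :
    x i ^ 2 ≤ Bq B (B⁻¹ *ᵥ Pi.single i 1) * Bq B x := by
  have hu : IsUnit B.det := by rw [hdet]; exact isUnit_one
  have h := blZ_sq_le B hsymm hpos (B⁻¹ *ᵥ Pi.single i 1) x
  have h2 : blZ B (B⁻¹ *ᵥ Pi.single i 1) x = x i := by
    rw [blZ_symm B hsymm]
    unfold blZ
    rw [Matrix.mulVec_mulVec, Matrix.mul_nonsing_inv B hu, Matrix.one_mulVec,
      dotProduct_single, mul_one]
  rwa [h2] at h

theorem finite_Bq_eq (hsymm : B.IsSymm) (hpos : ∀ x : Fin n → ℤ, x ≠ 0 → 0 < Bq B x) (hdet : B.det = 1) (m : ℤ) :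
    {x : Fin n → ℤ | Bq B x = m}.Finite := by
  set K : ℤ := ∑ i, |Bq B (B⁻¹ *ᵥ Pi.single i 1) * m| with hK
  refine (Set.finite_Icc (fun _ : Fin n => -K) (fun _ : Fin n => K)).subset ?_
  intro x hx
  have hx' : Bq B x = m := hx
  have hi : ∀ i, |x i| ≤ K := by
    intro i
    have h1 := coord_sq_le B hsymm hpos hdet x i
    rw [hx'] at h1
    have h2 : Bq B (B⁻¹ *ᵥ Pi.single i 1) * m ≤ K := by
      rw [hK]
      calc Bq B (B⁻¹ *ᵥ Pi.single i 1) * m ≤ |Bq B (B⁻¹ *ᵥ Pi.single i 1) * m| := le_abs_self _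
        _ ≤ _ := Finset.single_le_sum (f := fun i => |Bq B (B⁻¹ *ᵥ Pi.single i 1) * m|)
            (fun j _ => abs_nonneg _) (Finset.mem_univ i)
    have h3 : |x i| ≤ x i ^ 2 := by
      rw [← sq_abs]
      have h0 : 0 ≤ |x i| := abs_nonneg _
      nlinarith [h0]
    linarith
  rw [Set.mem_Icc]
  constructor
  · intro i
    have := hi i
    have := neg_abs_le (x i)
    simp only
    linarith
  · intro i
    have := hi i
    have := le_abs_self (x i)
    simp only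
    linarith

end LAT

end Cfsg.Agent.Lib.H21.Theta
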