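import Cfsg.Agent.Lib.H15.LSDefs
import Cfsg.Prelude.Def_Classical
import Cfsg.Agent.S0782
import Cfsg.Agent.S0837
import Cfsg.Agent.Lib.H11.UnitaryGen3

/-!
# S2335 / S2334 farm-out, piece LS-SO: the Heisenberg structure inside `SU_{2m+1}(q)`

Blueprint: `tools/blueprints/S2335.md` §6.  Part A: transport from a Gram matrix `J` to the standard form.
Part B: `3 × 3` block matrices.  Part C: the elements `u(b,Z)`, `l(g)` and the final statement.
-/

set_option autoImplicit false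
set_option linter.unusedSimpArgs false
set_option linter.unusedSectionVars false
set_option linter.unusedVariables false

namespace Cfsg.Agent.Lib.H21.LS

open Matrix Cfsg.Agent.Lib.H15.LS

/-! ## Part A: transport -/

section transport

variable {F : Type*} [Field F] {q : ℕ}

/-- matrices with `Aᵀ * A.map σ = 1` preserve the standard hermitian form -/
theorem hermForm_mulVec_of_unitary {n : ℕ} (σ : F →+* F) (hσ : ∀ x, σ x = x ^ q)
    (A : Matrix (Fin n) (Fin n) F) (hA : Aᵀ * A.map σ = 1) (u v : Fin n → F) :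
    Cfsg.hermForm n F q (A *ᵥ u) (A *ᵥ v) = Cfsg.hermForm n F q u v := by
  have key : ∀ u v : Fin n → F, Cfsg.hermForm n F q u v = u ⬝ᵥ (σ ∘ v) := by
    intro u v
    simp [Cfsg.hermForm, dotProduct, hσ]
  rw [key, key]
  have h1 : σ ∘ (A *ᵥ v) = (A.map σ) *ᵥ (σ ∘ v) := by
    ext i
    simp [Matrix.mulVec, dotProduct, map_sum]
  rw [h1, ← Matrix.vecMul_transpose, ← Matrix.dotProduct_mulVec, Matrix.mulVec_mulVec, hA,
    Matrix.one_mulVec]

variable {ι : Type*} [Fintype ι] [DecidableEq ι] {n : ℕ}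

/-- conjugation by `P` followed by reindexing -/
noncomputable def conjP (P : Matrix ι ι F) (e : ι ≃ Fin n) (M : Matrix ι ι F) :
    Matrix (Fin n) (Fin n) F := (P * M * P⁻¹).submatrix e.symm e.symm

theorem conjP_mul (P : Matrix ι ι F) (hP : IsUnit P.det) (e : ι ≃ Fin n) (A B : Matrix ι ι F) :
    conjP P e (A * B) = conjP P e A * conjP P e B := by
  unfold conjP
  rw [Matrix.submatrix_mul_equiv]
  congr 1
  calc P * (A * B) * P⁻¹ = P * A * (P⁻¹ * P) * B * P⁻¹ := by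
        rw [Matrix.nonsing_inv_mul P hP, Matrix.mul_one]; simp only [Matrix.mul_assoc]
    _ = P * A * P⁻¹ * (P * B * P⁻¹) := by simp only [Matrix.mul_assoc]

theorem conjP_one (P : Matrix ι ι F) (hP : IsUnit P.det) (e : ι ≃ Fin n) :
    conjP P e 1 = 1 := by
  unfold conjP
  rw [Matrix.mul_one, Matrix.mul_nonsing_inv P hP, Matrix.submatrix_one_equiv]

theorem conjP_det (P : Matrix ι ι F) (hP : IsUnit P.det) (e : ι ≃ Fin n) (M : Matrix ι ι F) :
    (conjP P e M).det = M.det := by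
  unfold conjP
  rw [Matrix.det_submatrix_equiv_self, Matrix.det_mul, Matrix.det_mul, Matrix.det_nonsing_inv,
    mul_comm P.det, mul_assoc, Ring.mul_inverse_cancel _ hP, mul_one]

theorem conjP_inj (P : Matrix ι ι F) (hP : IsUnit P.det) (e : ι ≃ Fin n) {A B : Matrix ι ι F}
    (h : conjP P e A = conjP P e B) : A = B := by
  unfold conjP at h
  have h1 : P * A * P⁻¹ = P * B * P⁻¹ := by
    ext i j
    have := congrFun (congrFun h (e i)) (e j)
    simpa using this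
  have h2 : P⁻¹ * (P * A * P⁻¹) * P = P⁻¹ * (P * B * P⁻¹) * P := by rw [h1]
  simp only [Matrix.mul_assoc] at h2
  rw [Matrix.nonsing_inv_mul P hP, Matrix.mul_one, Matrix.mul_one] at h2
  rw [← Matrix.mul_assoc, ← Matrix.mul_assoc, Matrix.nonsing_inv_mul P hP, Matrix.one_mul,
    Matrix.one_mul] at h2
  exact h2

theorem conjP_unitary (σ : F →+* F) (P J : Matrix ι ι F) (hP : IsUnit P.det)
    (hPJ : Pᵀ * P.map σ = J) (e : ι ≃ Fin n) {M : Matrix ι ι F}
    (hM : Mᵀ * J * M.map σ = J) :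
    (conjP P e M)ᵀ * (conjP P e M).map σ = 1 := by
  unfold conjP
  have h1 : (P * M * P⁻¹)ᵀ * (P * M * P⁻¹).map σ = 1 := by
    rw [Matrix.map_mul, Matrix.map_mul, Matrix.transpose_mul, Matrix.transpose_mul]
    calc (P⁻¹)ᵀ * (Mᵀ * Pᵀ) * (P.map σ * M.map σ * (P⁻¹).map σ)
        = (P⁻¹)ᵀ * (Mᵀ * (Pᵀ * P.map σ) * M.map σ) * (P⁻¹).map σ := by
          simp only [Matrix.mul_assoc]
      _ = (P⁻¹)ᵀ * (Pᵀ * P.map σ) * (P⁻¹).map σ := by rw [hPJ, hM]
      _ = (P * P⁻¹)ᵀ * (P * P⁻¹).map σ := by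
          rw [Matrix.map_mul, Matrix.transpose_mul]; simp only [Matrix.mul_assoc]
      _ = 1 := by
          rw [Matrix.mul_nonsing_inv P hP, Matrix.transpose_one, Matrix.one_mul]
          ext i j
          by_cases h : i = j <;> simp [Matrix.one_apply, h]
  rw [Matrix.transpose_submatrix, ← Matrix.submatrix_map, Matrix.submatrix_mul_equiv, h1,
    Matrix.submatrix_one_equiv]

/-- the element of `SU_n` attached to a matrix preserving the Gram matrix `J` -/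
noncomputable def mkSU (σ : F →+* F) (hσ : ∀ x, σ x = x ^ q) (P J : Matrix ι ι F)
    (hP : IsUnit P.det) (hPJ : Pᵀ * P.map σ = J) (e : ι ≃ Fin n) (M : Matrix ι ι F)
    (hdet : M.det = 1) (hM : Mᵀ * J * M.map σ = J) : Cfsg.SU n F q :=
  ⟨⟨conjP P e M, by rw [conjP_det P hP e, hdet]⟩, by
    intro u v
    exact hermForm_mulVec_of_unitary σ hσ _ (conjP_unitary σ P J hP hPJ e hM) u v⟩

theorem mkSU_val (σ : F →+* F) (hσ : ∀ x, σ x = x ^ q) (P J : Matrix ι ι F)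
    (hP : IsUnit P.det) (hPJ : Pᵀ * P.map σ = J) (e : ι ≃ Fin n) (M : Matrix ι ι F)
    (hdet : M.det = 1) (hM : Mᵀ * J * M.map σ = J) :
    ((mkSU σ hσ P J hP hPJ e M hdet hM : Cfsg.SU n F q) :
      Matrix.SpecialLinearGroup (Fin n) F).1 = conjP P e M := rfl

end transport

/-! ## Part B: `3 × 3` block matrices -/

section blocks

variable {R : Type*} [CommRing R] {a b c : Type*} [Fintype a] [Fintype b] [Fintype c]
  [DecidableEq a] [DecidableEq b] [DecidableEq c]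

/-- a `3 × 3` block matrix -/
def blk (A11 : Matrix a a R) (A12 : Matrix a b R) (A13 : Matrix a c R)
    (A21 : Matrix b a R) (A22 : Matrix b b R) (A23 : Matrix b c R)
    (A31 : Matrix c a R) (A32 : Matrix c b R) (A33 : Matrix c c R) :
    Matrix (a ⊕ (b ⊕ c)) (a ⊕ (b ⊕ c)) R :=
  Matrix.fromBlocks A11 (Matrix.fromCols A12 A13) (Matrix.fromRows A21 A31)
    (Matrix.fromBlocks A22 A23 A32 A33)

theorem blk_mul (A11 : Matrix a a R) (A12 : Matrix a b R) (A13 : Matrix a c R)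
    (A21 : Matrix b a R) (A22 : Matrix b b R) (A23 : Matrix b c R)
    (A31 : Matrix c a R) (A32 : Matrix c b R) (A33 : Matrix c c R)
    (B11 : Matrix a a R) (B12 : Matrix a b R) (B13 : Matrix a c R)
    (B21 : Matrix b a R) (B22 : Matrix b b R) (B23 : Matrix b c R)
    (B31 : Matrix c a R) (B32 : Matrix c b R) (B33 : Matrix c c R) :
    blk A11 A12 A13 A21 A22 A23 A31 A32 A33 * blk B11 B12 B13 B21 B22 B23 B31 B32 B33 =
      blk (A11 * B11 + A12 * B21 + A13 * B31) (A11 * B12 + A12 * B22 + A13 * B32)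
        (A11 * B13 + A12 * B23 + A13 * B33)
        (A21 * B11 + A22 * B21 + A23 * B31) (A21 * B12 + A22 * B22 + A23 * B32)
        (A21 * B13 + A22 * B23 + A23 * B33)
        (A31 * B11 + A32 * B21 + A33 * B31) (A31 * B12 + A32 * B22 + A33 * B32)
        (A31 * B13 + A32 * B23 + A33 * B33) := by
  ext (i | i | i) (j | j | j) <;>
    simp [blk, Matrix.mul_apply, Fintype.sum_sum_type, Matrix.add_apply, add_assoc]

theorem blk_transpose (A11 : Matrix a a R) (A12 : Matrix a b R) (A13 : Matrix a c R)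
    (A21 : Matrix b a R) (A22 : Matrix b b R) (A23 : Matrix b c R)
    (A31 : Matrix c a R) (A32 : Matrix c b R) (A33 : Matrix c c R) :
    (blk A11 A12 A13 A21 A22 A23 A31 A32 A33)ᵀ =
      blk A11ᵀ A21ᵀ A31ᵀ A12ᵀ A22ᵀ A32ᵀ A13ᵀ A23ᵀ A33ᵀ := by
  ext (i | i | i) (j | j | j) <;> simp [blk]

theorem blk_map (f : R → R) (A11 : Matrix a a R) (A12 : Matrix a b R) (A13 : Matrix a c R)
    (A21 : Matrix b a R) (A22 : Matrix b b R) (A23 : Matrix b c R)
    (A31 : Matrix c a R) (A32 : Matrix c b R) (A33 : Matrix c c R) :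
    (blk A11 A12 A13 A21 A22 A23 A31 A32 A33).map f =
      blk (A11.map f) (A12.map f) (A13.map f) (A21.map f) (A22.map f) (A23.map f)
        (A31.map f) (A32.map f) (A33.map f) := by
  ext (i | i | i) (j | j | j) <;> simp [blk]

theorem blk_one : (1 : Matrix (a ⊕ (b ⊕ c)) (a ⊕ (b ⊕ c)) R) = blk 1 0 0 0 1 0 0 0 1 := by
  ext (i | i | i) (j | j | j) <;> simp [blk, Matrix.one_apply]

theorem blk_det_upper (A11 : Matrix a a R) (A12 : Matrix a b R) (A13 : Matrix a c R)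
    (A22 : Matrix b b R) (A23 : Matrix b c R) (A33 : Matrix c c R) :
    (blk A11 A12 A13 0 A22 A23 0 0 A33).det = A11.det * (A22.det * A33.det) := by
  unfold blk
  rw [Matrix.fromRows_zero, Matrix.det_fromBlocks_zero₂₁, Matrix.det_fromBlocks_zero₂₁]

theorem blk_13_inj {A11 : Matrix a a R} {A12 : Matrix a b R} {A13 A13' : Matrix a c R}
    {A21 : Matrix b a R} {A22 : Matrix b b R} {A23 : Matrix b c R}
    {A31 : Matrix c a R} {A32 : Matrix c b R} {A33 : Matrix c c R}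
    (h : blk A11 A12 A13 A21 A22 A23 A31 A32 A33 = blk A11 A12 A13' A21 A22 A23 A31 A32 A33) :
    A13 = A13' := by
  ext i j
  have := congrFun (congrFun h (Sum.inl i)) (Sum.inr (Sum.inr j))
  simpa [blk] using this

end blocks

section heis

variable {F : Type*} [Field F] {m : ℕ}

/-- the Gram matrix of the basis `e, x0, f` -/
def J3 (F : Type*) [Field F] (m : ℕ) :
    Matrix (Fin m ⊕ (Unit ⊕ Fin m)) (Fin m ⊕ (Unit ⊕ Fin m)) F :=
  blk 0 0 1 0 1 0 1 0 0

/-- the unipotent element `u(B, Z)` -/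
def uu (σ : F →+* F) (B : Matrix (Fin m) Unit F) (Z : Matrix (Fin m) (Fin m) F) :
    Matrix (Fin m ⊕ (Unit ⊕ Fin m)) (Fin m ⊕ (Unit ⊕ Fin m)) F :=
  blk 1 B Z 0 1 (-(B.map σ)ᵀ) 0 0 1

theorem uu_mul (σ : F →+* F) (B B' : Matrix (Fin m) Unit F) (Z Z' : Matrix (Fin m) (Fin m) F) :
    uu σ B Z * uu σ B' Z' = uu σ (B + B') (Z + Z' - B * (B'.map σ)ᵀ) := by
  unfold uu
  rw [blk_mul]
  have h1 : ((B + B').map σ)ᵀ = (B.map σ)ᵀ + (B'.map σ)ᵀ := by
    ext i j; simp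
  rw [h1]
  congr 1
  · simp
  · simp [add_comm]
  · simp only [Matrix.one_mul, Matrix.mul_one, Matrix.mul_neg]; abel
  · simp
  · simp
  · simp only [Matrix.zero_mul, Matrix.one_mul, Matrix.mul_one, zero_add, neg_add_rev]
  · simp
  · simp
  · simp

theorem uu_det (σ : F →+* F) (B : Matrix (Fin m) Unit F) (Z : Matrix (Fin m) (Fin m) F) :
    (uu σ B Z).det = 1 := by
  unfold uu
  rw [blk_det_upper]; simp

theorem uu_zero (σ : F →+* F) : uu σ (0 : Matrix (Fin m) Unit F) 0 = 1 := by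
  unfold uu
  rw [blk_one]
  congr 1
  ext i j; simp

theorem uu_isom (σ : F →+* F) (hσ2 : ∀ x, σ (σ x) = x) (B : Matrix (Fin m) Unit F)
    (Z : Matrix (Fin m) (Fin m) F) (h : Z + (Z.map σ)ᵀ = -(B * (B.map σ)ᵀ)) :
    (uu σ B Z)ᵀ * J3 F m * (uu σ B Z).map σ = J3 F m := by
  unfold uu J3
  rw [blk_transpose, blk_map, blk_mul, blk_mul]
  have hB : ((-(B.map σ)ᵀ).map σ) = -Bᵀ := by
    ext i j; simp [hσ2]
  have h' : Zᵀ + Z.map σ + (B.map σ) * Bᵀ = 0 := by
    have h2 := congrArg Matrix.transpose h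
    rw [Matrix.transpose_add, Matrix.transpose_transpose, Matrix.transpose_neg,
      Matrix.transpose_mul, Matrix.transpose_transpose] at h2
    rw [h2]; simp
  congr 1
  · simp
  · simp
  · simp
  · simp
  · simp
  · simp [hB]
  · simp
  · simp
  · simp only [Matrix.transpose_one, Matrix.transpose_zero, Matrix.transpose_neg,
      Matrix.transpose_transpose, Matrix.mul_zero, Matrix.zero_mul, Matrix.mul_one,
      Matrix.one_mul, add_zero, zero_add, hB, Matrix.neg_mul, Matrix.mul_neg, neg_neg]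
    have e1 : (1 : Matrix (Fin m) (Fin m) F).map σ = 1 := by
      ext i j; by_cases hij : i = j <;> simp [Matrix.one_apply, hij]
    rw [e1, Matrix.mul_one]
    rw [← h']; abel


/-- the block diagonal element -/
def dg (A : Matrix (Fin m) (Fin m) F) (δ : F) (D : Matrix (Fin m) (Fin m) F) :
    Matrix (Fin m ⊕ (Unit ⊕ Fin m)) (Fin m ⊕ (Unit ⊕ Fin m)) F :=
  blk A 0 0 0 (δ • (1 : Matrix Unit Unit F)) 0 0 0 D

theorem dg_mul (A A' : Matrix (Fin m) (Fin m) F) (δ δ' : F) (D D' : Matrix (Fin m) (Fin m) F) :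
    dg A δ D * dg A' δ' D' = dg (A * A') (δ * δ') (D * D') := by
  unfold dg
  rw [blk_mul]
  congr 1 <;> simp [smul_smul, mul_comm]

theorem dg_det (A : Matrix (Fin m) (Fin m) F) (δ : F) (D : Matrix (Fin m) (Fin m) F) :
    (dg A δ D).det = A.det * (δ * D.det) := by
  unfold dg
  rw [blk_det_upper]; simp

theorem map_one_eq (σ : F →+* F) {k : Type*} [DecidableEq k] :
    (1 : Matrix k k F).map σ = 1 := by
  ext i j; by_cases hij : i = j <;> simp [Matrix.one_apply, hij]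

theorem dg_isom (σ : F →+* F) (A : Matrix (Fin m) (Fin m) F) (δ : F)
    (D : Matrix (Fin m) (Fin m) F) (h1 : Aᵀ * D.map σ = 1) (h2 : Dᵀ * A.map σ = 1)
    (h3 : δ * σ δ = 1) :
    (dg A δ D)ᵀ * J3 F m * (dg A δ D).map σ = J3 F m := by
  unfold dg J3
  rw [blk_transpose, blk_map, blk_mul, blk_mul]
  have e1 : ((δ • (1 : Matrix Unit Unit F)).map σ) = σ δ • (1 : Matrix Unit Unit F) := by
    ext i j; simp [Matrix.one_apply]
  congr 1
  · simp
  · simp
  · simp [h1]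
  · simp
  · have h3' : σ δ * δ = 1 := by rw [mul_comm]; exact h3
    simp [e1, smul_smul, h3']
  · simp
  · simp [h2]
  · simp
  · simp

theorem dg_uu (σ : F →+* F) (A : Matrix (Fin m) (Fin m) F) (δ : F)
    (D Z Z' : Matrix (Fin m) (Fin m) F) (h : A * Z = Z' * D) :
    dg A δ D * uu σ 0 Z = uu σ 0 Z' * dg A δ D := by
  unfold dg uu
  rw [blk_mul, blk_mul]
  congr 1 <;> simp [h]

/-- the change of basis matrix -/
def PP (m : ℕ) (α β γ δ : F) :
    Matrix (Fin m ⊕ (Unit ⊕ Fin m)) (Fin m ⊕ (Unit ⊕ Fin m)) F :=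
  blk (α • (1 : Matrix (Fin m) (Fin m) F)) 0 (β • (1 : Matrix (Fin m) (Fin m) F)) 0 1 0
    (γ • (1 : Matrix (Fin m) (Fin m) F)) 0 (δ • (1 : Matrix (Fin m) (Fin m) F))

theorem PP_gram (σ : F →+* F) (α β γ δ : F) (h11 : α * σ α + γ * σ γ = 0)
    (h13 : α * σ β + γ * σ δ = 1) (h31 : β * σ α + δ * σ γ = 1) (h33 : β * σ β + δ * σ δ = 0) :
    (PP m α β γ δ)ᵀ * (PP m α β γ δ).map σ = J3 F m := by
  unfold PP J3
  rw [blk_transpose, blk_map, blk_mul]
  have e1 : ∀ x : F, ((x • (1 : Matrix (Fin m) (Fin m) F)).map σ) =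
      σ x • (1 : Matrix (Fin m) (Fin m) F) := by
    intro x
    ext i j; by_cases hij : i = j <;> simp [Matrix.one_apply, hij]
  have h11' : σ α * α + σ γ * γ = 0 := by linear_combination h11
  have h13' : σ β * α + σ δ * γ = 1 := by linear_combination h13
  have h31' : σ α * β + σ γ * δ = 1 := by linear_combination h31
  have h33' : σ β * β + σ δ * δ = 0 := by linear_combination h33
  congr 1
  · simp [e1, smul_smul, ← add_smul, h11']
  · simp
  · simp [e1, smul_smul, ← add_smul, h13']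
  · simp
  · simp [map_one_eq]
  · simp
  · simp [e1, smul_smul, ← add_smul, h31']
  · simp
  · simp [e1, smul_smul, ← add_smul, h33']

theorem J3_mul_J3 : J3 F m * J3 F m = 1 := by
  unfold J3
  rw [blk_mul, blk_one]
  congr 1 <;> simp

theorem PP_isUnit (σ : F →+* F) (α β γ δ : F)
    (hG : (PP m α β γ δ)ᵀ * (PP m α β γ δ).map σ = J3 F m) : IsUnit (PP m α β γ δ).det := by
  have h1 : (J3 F m).det * (J3 F m).det = 1 := by
    rw [← Matrix.det_mul, J3_mul_J3, Matrix.det_one]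
  have h2 := congrArg Matrix.det hG
  rw [Matrix.det_mul, Matrix.det_transpose] at h2
  rw [isUnit_iff_ne_zero]
  intro h0
  rw [h0, zero_mul] at h2
  rw [← h2, zero_mul] at h1
  exact zero_ne_one h1

end heis

/-! ## Part C: the structure inside `SU_{2m+1}` -/

section final

variable {F : Type*} [Field F] {q m : ℕ}

/-- the transport data -/
structure TD (F : Type*) [Field F] (q m : ℕ) where
  /-- the involution -/
  σ : F →+* F
  hσ : ∀ x, σ x = x ^ q
  hσ2 : ∀ x, σ (σ x) = x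
  /-- the change of basis -/
  P : Matrix (Fin m ⊕ (Unit ⊕ Fin m)) (Fin m ⊕ (Unit ⊕ Fin m)) F
  hP : IsUnit P.det
  hPJ : Pᵀ * P.map σ = J3 F m
  /-- the reindexing -/
  e : (Fin m ⊕ (Unit ⊕ Fin m)) ≃ Fin (2 * m + 1)

namespace TD

variable (D : TD F q m)

/-- the element of `SU` attached to a `J3`-isometry of determinant one -/
noncomputable def el (M : Matrix (Fin m ⊕ (Unit ⊕ Fin m)) (Fin m ⊕ (Unit ⊕ Fin m)) F)
    (hdet : M.det = 1) (hM : Mᵀ * J3 F m * M.map D.σ = J3 F m) : Cfsg.SU (2 * m + 1) F q :=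
  mkSU D.σ D.hσ D.P (J3 F m) D.hP D.hPJ D.e M hdet hM

theorem el_mul {A B C : Matrix (Fin m ⊕ (Unit ⊕ Fin m)) (Fin m ⊕ (Unit ⊕ Fin m)) F}
    (hA1 : A.det = 1) (hA2 : Aᵀ * J3 F m * A.map D.σ = J3 F m)
    (hB1 : B.det = 1) (hB2 : Bᵀ * J3 F m * B.map D.σ = J3 F m)
    (hC1 : C.det = 1) (hC2 : Cᵀ * J3 F m * C.map D.σ = J3 F m) (h : A * B = C) :
    D.el A hA1 hA2 * D.el B hB1 hB2 = D.el C hC1 hC2 := by
  apply Subtype.ext
  apply Subtype.ext
  show conjP D.P D.e A * conjP D.P D.e B = conjP D.P D.e C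
  rw [← conjP_mul _ D.hP, h]

theorem el_one {A : Matrix (Fin m ⊕ (Unit ⊕ Fin m)) (Fin m ⊕ (Unit ⊕ Fin m)) F}
    (hA1 : A.det = 1) (hA2 : Aᵀ * J3 F m * A.map D.σ = J3 F m) (h : A = 1) :
    D.el A hA1 hA2 = 1 := by
  apply Subtype.ext
  apply Subtype.ext
  show conjP D.P D.e A = 1
  rw [h, conjP_one _ D.hP]

theorem el_congr {A B : Matrix (Fin m ⊕ (Unit ⊕ Fin m)) (Fin m ⊕ (Unit ⊕ Fin m)) F}
    (hA1 : A.det = 1) (hA2 : Aᵀ * J3 F m * A.map D.σ = J3 F m)
    (hB1 : B.det = 1) (hB2 : Bᵀ * J3 F m * B.map D.σ = J3 F m) (h : A = B) :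
    D.el A hA1 hA2 = D.el B hB1 hB2 := by
  subst h; rfl

theorem el_inj {A B : Matrix (Fin m ⊕ (Unit ⊕ Fin m)) (Fin m ⊕ (Unit ⊕ Fin m)) F}
    (hA1 : A.det = 1) (hA2 : Aᵀ * J3 F m * A.map D.σ = J3 F m)
    (hB1 : B.det = 1) (hB2 : Bᵀ * J3 F m * B.map D.σ = J3 F m)
    (h : D.el A hA1 hA2 = D.el B hB1 hB2) : A = B := by
  have h1 : conjP D.P D.e A = conjP D.P D.e B := congrArg (fun x => x.1.1) h
  exact conjP_inj _ D.hP _ h1

theorem el_mul_eq {A B C E : Matrix (Fin m ⊕ (Unit ⊕ Fin m)) (Fin m ⊕ (Unit ⊕ Fin m)) F}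
    (hA1 : A.det = 1) (hA2 : Aᵀ * J3 F m * A.map D.σ = J3 F m)
    (hB1 : B.det = 1) (hB2 : Bᵀ * J3 F m * B.map D.σ = J3 F m)
    (hC1 : C.det = 1) (hC2 : Cᵀ * J3 F m * C.map D.σ = J3 F m)
    (hE1 : E.det = 1) (hE2 : Eᵀ * J3 F m * E.map D.σ = J3 F m) (h : A * B = C * E) :
    D.el A hA1 hA2 * D.el B hB1 hB2 = D.el C hC1 hC2 * D.el E hE1 hE2 := by
  apply Subtype.ext
  apply Subtype.ext
  show conjP D.P D.e A * conjP D.P D.e B = conjP D.P D.e C * conjP D.P D.e E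
  rw [← conjP_mul _ D.hP, ← conjP_mul _ D.hP, h]

/-- the unipotent elements -/
noncomputable def us (B : Matrix (Fin m) Unit F) (Z : Matrix (Fin m) (Fin m) F)
    (h : Z + (Z.map D.σ)ᵀ = -(B * (B.map D.σ)ᵀ)) : Cfsg.SU (2 * m + 1) F q :=
  D.el (uu D.σ B Z) (uu_det D.σ B Z) (uu_isom D.σ D.hσ2 B Z h)

theorem us_mul {B B' B'' : Matrix (Fin m) Unit F} {Z Z' Z'' : Matrix (Fin m) (Fin m) F}
    (h : Z + (Z.map D.σ)ᵀ = -(B * (B.map D.σ)ᵀ))
    (h' : Z' + (Z'.map D.σ)ᵀ = -(B' * (B'.map D.σ)ᵀ))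
    (h'' : Z'' + (Z''.map D.σ)ᵀ = -(B'' * (B''.map D.σ)ᵀ))
    (hB : B'' = B + B') (hZ : Z'' = Z + Z' - B * (B'.map D.σ)ᵀ) :
    D.us B Z h * D.us B' Z' h' = D.us B'' Z'' h'' := by
  unfold us
  apply el_mul
  rw [uu_mul, hB, hZ]

theorem us_congr {B B' : Matrix (Fin m) Unit F} {Z Z' : Matrix (Fin m) (Fin m) F}
    (h : Z + (Z.map D.σ)ᵀ = -(B * (B.map D.σ)ᵀ))
    (h' : Z' + (Z'.map D.σ)ᵀ = -(B' * (B'.map D.σ)ᵀ)) (hB : B = B') (hZ : Z = Z') :
    D.us B Z h = D.us B' Z' h' := by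
  subst hB; subst hZ; rfl


/-- the validity condition is stable under products -/
theorem valid_mul {B B' B'' : Matrix (Fin m) Unit F} {Z Z' Z'' : Matrix (Fin m) (Fin m) F}
    (h : Z + (Z.map D.σ)ᵀ = -(B * (B.map D.σ)ᵀ))
    (h' : Z' + (Z'.map D.σ)ᵀ = -(B' * (B'.map D.σ)ᵀ))
    (hB : B'' = B + B') (hZ : Z'' = Z + Z' - B * (B'.map D.σ)ᵀ) :
    Z'' + (Z''.map D.σ)ᵀ = -(B'' * (B''.map D.σ)ᵀ) := by
  subst hB; subst hZ
  have hσ2 := D.hσ2
  ext i j
  have h1 := congrFun (congrFun h i) j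
  have h2 := congrFun (congrFun h' i) j
  simp only [Matrix.add_apply, Matrix.sub_apply, Matrix.neg_apply, Matrix.transpose_apply,
    Matrix.map_apply, Matrix.mul_apply, Finset.univ_unique, Finset.sum_singleton, map_add,
    map_sub, map_mul, hσ2] at h1 h2 ⊢
  linear_combination h1 + h2

/-- column vectors -/
def cl (b : Fin m → F) : Matrix (Fin m) Unit F := Matrix.replicateCol Unit b

theorem cl_apply (b : Fin m → F) (i : Fin m) (u : Unit) : cl b i u = b i := rfl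

theorem cl_add (b b' : Fin m → F) : cl (b + b') = cl b + cl b' := by
  ext i j; simp [cl]

theorem cl_zero : cl (0 : Fin m → F) = 0 := by
  ext i j; simp [cl]

theorem cl_mul_star (σ : F →+* F) (d b' : Fin m → F) :
    cl d * ((cl b').map σ)ᵀ = vecMulVec d (σ ∘ b') := by
  ext i j
  simp [cl, Matrix.mul_apply, Matrix.vecMulVec_apply]

theorem valid_t (ε : F) (hε : D.σ ε = -ε) (X : Herm D.σ m) :
    ε • X.1 + ((ε • X.1).map D.σ)ᵀ =
      -((0 : Matrix (Fin m) Unit F) * ((0 : Matrix (Fin m) Unit F).map D.σ)ᵀ) := by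
  have hX : (X.1.map D.σ)ᵀ = X.1 := X.2
  ext i j
  have h1 := congrFun (congrFun hX i) j
  simp only [Matrix.transpose_apply, Matrix.map_apply] at h1
  simp only [Matrix.add_apply, Matrix.smul_apply, Matrix.transpose_apply, Matrix.map_apply,
    smul_eq_mul, map_mul, hε, h1, Matrix.zero_mul, neg_zero, Matrix.zero_apply]
  ring

theorem valid_w (τ : F) (hτ : τ + D.σ τ = 1) (B : Matrix (Fin m) Unit F) :
    (-τ) • (B * (B.map D.σ)ᵀ) + (((-τ) • (B * (B.map D.σ)ᵀ)).map D.σ)ᵀ =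
      -(B * (B.map D.σ)ᵀ) := by
  have hσ2 := D.hσ2
  ext i j
  simp only [Matrix.add_apply, Matrix.smul_apply, Matrix.transpose_apply, Matrix.map_apply,
    smul_eq_mul, map_mul, map_neg, Matrix.mul_apply, Finset.univ_unique, Finset.sum_singleton,
    Matrix.neg_apply, hσ2]
  linear_combination (-(B i default * D.σ (B j default))) * hτ

/-- the central elements -/
noncomputable def tt (ε : F) (hε : D.σ ε = -ε) (X : Herm D.σ m) : Cfsg.SU (2 * m + 1) F q :=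
  D.us 0 (ε • X.1) (D.valid_t ε hε X)

/-- the Heisenberg elements -/
noncomputable def ww (τ : F) (hτ : τ + D.σ τ = 1) (b : Fin m → F) : Cfsg.SU (2 * m + 1) F q :=
  D.us (cl b) ((-τ) • (cl b * ((cl b).map D.σ)ᵀ)) (D.valid_w τ hτ (cl b))

theorem tt_add (ε : F) (hε : D.σ ε = -ε) (X X' : Herm D.σ m) :
    D.tt ε hε (X + X') = D.tt ε hε X * D.tt ε hε X' := by
  unfold tt
  rw [D.us_mul (D.valid_t ε hε X) (D.valid_t ε hε X') (D.valid_t ε hε (X + X')) (by simp)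
    (by simp [smul_add])]

theorem tt_inj (ε : F) (hε : D.σ ε = -ε) (hε0 : ε ≠ 0) : Function.Injective (D.tt ε hε) := by
  intro X X' h
  unfold tt us at h
  have h1 := D.el_inj _ _ _ _ h
  unfold uu at h1
  have h2 := blk_13_inj h1
  apply Subtype.ext
  have h3 : ε⁻¹ • (ε • X.1) = ε⁻¹ • (ε • X'.1) := by rw [h2]
  rwa [smul_smul, smul_smul, inv_mul_cancel₀ hε0, one_smul, one_smul] at h3

theorem ww_tt_comm (ε : F) (hε : D.σ ε = -ε) (τ : F) (hτ : τ + D.σ τ = 1) (b : Fin m → F)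
    (X : Herm D.σ m) : D.ww τ hτ b * D.tt ε hε X = D.tt ε hε X * D.ww τ hτ b := by
  unfold ww tt
  have hv := D.valid_mul (D.valid_w τ hτ (cl b)) (D.valid_t ε hε X)
    (B'' := cl b) (Z'' := (-τ) • (cl b * ((cl b).map D.σ)ᵀ) + ε • X.1) (by simp) (by simp)
  rw [D.us_mul (D.valid_w τ hτ (cl b)) (D.valid_t ε hε X) hv (by simp) (by simp),
    D.us_mul (D.valid_t ε hε X) (D.valid_w τ hτ (cl b)) hv (by simp) (by simp [add_comm])]

theorem ww_zero (τ : F) (hτ : τ + D.σ τ = 1) : D.ww τ hτ 0 = 1 := by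
  unfold ww us
  apply D.el_one
  rw [cl_zero, Matrix.zero_mul, smul_zero, uu_zero]

theorem ww_add (ε : F) (hε : D.σ ε = -ε) (hε0 : ε ≠ 0) (τ : F) (hτ : τ + D.σ τ = 1)
    (b b' : Fin m → F) :
    ∃ X : Herm D.σ m, D.ww τ hτ (b + b') = D.ww τ hτ b * D.ww τ hτ b' * D.tt ε hε X := by
  have hσ2 := D.hσ2
  have hX : ε⁻¹ • (D.σ τ • (cl b * ((cl b').map D.σ)ᵀ) - τ • (cl b' * ((cl b).map D.σ)ᵀ)) ∈
      Herm D.σ m := by
    rw [mem_Herm]
    ext i j
    simp only [Matrix.transpose_apply, Matrix.map_apply, Matrix.smul_apply, Matrix.sub_apply,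
      Matrix.mul_apply, Finset.univ_unique, Finset.sum_singleton, smul_eq_mul, map_mul, map_sub,
      map_inv₀, hε, hσ2]
    field_simp
    ring
  refine ⟨⟨_, hX⟩, ?_⟩
  unfold ww tt
  have hv1 := D.valid_mul (D.valid_w τ hτ (cl b)) (D.valid_w τ hτ (cl b')) rfl rfl
  rw [D.us_mul (D.valid_w τ hτ (cl b)) (D.valid_w τ hτ (cl b')) hv1 rfl rfl]
  rw [D.us_mul hv1 (D.valid_t ε hε ⟨_, hX⟩) (D.valid_w τ hτ (cl (b + b')))]
  · rw [cl_add]; simp
  · rw [cl_add]
    simp only [smul_smul, mul_inv_cancel₀ hε0, one_smul]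
    ext i j
    simp only [Matrix.add_apply, Matrix.smul_apply, Matrix.transpose_apply, Matrix.map_apply,
      Matrix.sub_apply, Matrix.mul_apply, Finset.univ_unique, Finset.sum_singleton, smul_eq_mul,
      map_add, Matrix.zero_apply, Matrix.map_zero, Matrix.transpose_zero, Matrix.mul_zero,
      sub_zero, map_zero, mul_zero, add_zero]
    linear_combination (-(cl b i default * D.σ (cl b' j default))) * hτ


theorem ww_conj (ε : F) (hε : D.σ ε = -ε) (hε0 : ε ≠ 0) (τ : F) (hτ : τ + D.σ τ = 1)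
    (d b' : Fin m → F) (s : Herm D.σ m)
    (hs : (s : Matrix (Fin m) (Fin m) F) =
      ε⁻¹ • (vecMulVec d (D.σ ∘ b') - vecMulVec b' (D.σ ∘ d))) :
    D.ww τ hτ b' * D.ww τ hτ d * (D.ww τ hτ b')⁻¹ = D.ww τ hτ d * D.tt ε hε s := by
  rw [mul_inv_eq_iff_eq_mul]
  have hes : ε • s.1 = cl d * ((cl b').map D.σ)ᵀ - cl b' * ((cl d).map D.σ)ᵀ := by
    rw [hs, smul_smul, mul_inv_cancel₀ hε0, one_smul, cl_mul_star, cl_mul_star]
  unfold ww tt
  have hv1 := D.valid_mul (D.valid_w τ hτ (cl b')) (D.valid_w τ hτ (cl d)) rfl rfl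
  have hv2 := D.valid_mul (D.valid_w τ hτ (cl d)) (D.valid_t ε hε s)
    (B'' := cl d) (Z'' := (-τ) • (cl d * ((cl d).map D.σ)ᵀ) + ε • s.1) (by simp) (by simp)
  rw [D.us_mul (D.valid_w τ hτ (cl b')) (D.valid_w τ hτ (cl d)) hv1 rfl rfl,
    D.us_mul (D.valid_w τ hτ (cl d)) (D.valid_t ε hε s) hv2 (by simp) (by simp),
    D.us_mul hv2 (D.valid_w τ hτ (cl b')) hv1 (add_comm _ _) (by rw [hes]; abel)]

/-- the matrix `(g⁻¹)^*` -/
def gst (σ : F →+* F) (g : Matrix.GeneralLinearGroup (Fin m) F) : Matrix (Fin m) (Fin m) F :=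
  (((g⁻¹ : Matrix.GeneralLinearGroup (Fin m) F) : Matrix (Fin m) (Fin m) F).map σ)ᵀ

/-- the middle entry -/
def gde (σ : F →+* F) (g : Matrix.GeneralLinearGroup (Fin m) F) : F :=
  σ ((g : Matrix (Fin m) (Fin m) F).det) * ((g : Matrix (Fin m) (Fin m) F).det)⁻¹

theorem gst_mul (σ : F →+* F) (g h : Matrix.GeneralLinearGroup (Fin m) F) :
    gst σ (g * h) = gst σ g * gst σ h := by
  unfold gst
  rw [_root_.mul_inv_rev, Units.val_mul, Matrix.map_mul, Matrix.transpose_mul]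

theorem det_ne_zero_GL (g : Matrix.GeneralLinearGroup (Fin m) F) :
    (g : Matrix (Fin m) (Fin m) F).det ≠ 0 := by
  intro h
  have h1 : (g : Matrix (Fin m) (Fin m) F) * ((g⁻¹ : Matrix.GeneralLinearGroup (Fin m) F) :
      Matrix (Fin m) (Fin m) F) = 1 := by
    rw [← Units.val_mul, mul_inv_cancel, Units.val_one]
  have h2 := congrArg Matrix.det h1
  rw [Matrix.det_mul, h, zero_mul, Matrix.det_one] at h2
  exact zero_ne_one h2

theorem gde_mul (σ : F →+* F) (g h : Matrix.GeneralLinearGroup (Fin m) F) :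
    gde σ (g * h) = gde σ g * gde σ h := by
  unfold gde
  rw [Units.val_mul, Matrix.det_mul, map_mul, mul_inv]
  ring

theorem gst_det (σ : F →+* F) (g : Matrix.GeneralLinearGroup (Fin m) F) :
    (gst σ g).det = (σ ((g : Matrix (Fin m) (Fin m) F).det))⁻¹ := by
  unfold gst
  have h1 : (g : Matrix (Fin m) (Fin m) F) * ((g⁻¹ : Matrix.GeneralLinearGroup (Fin m) F) :
      Matrix (Fin m) (Fin m) F) = 1 := by
    rw [← Units.val_mul, mul_inv_cancel, Units.val_one]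
  have h2 := congrArg Matrix.det h1
  rw [Matrix.det_mul, Matrix.det_one] at h2
  have h3 : ((g⁻¹ : Matrix.GeneralLinearGroup (Fin m) F) : Matrix (Fin m) (Fin m) F).det =
      ((g : Matrix (Fin m) (Fin m) F).det)⁻¹ := eq_inv_of_mul_eq_one_right h2
  rw [Matrix.det_transpose]
  have h4 : (((g⁻¹ : Matrix.GeneralLinearGroup (Fin m) F) : Matrix (Fin m) (Fin m) F).map σ) =
      σ.mapMatrix ((g⁻¹ : Matrix.GeneralLinearGroup (Fin m) F) : Matrix (Fin m) (Fin m) F) := rfl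
  rw [h4, ← RingHom.map_det, h3, map_inv₀]

theorem lg_det (σ : F →+* F) (g : Matrix.GeneralLinearGroup (Fin m) F) :
    (dg (g : Matrix (Fin m) (Fin m) F) (gde σ g) (gst σ g)).det = 1 := by
  rw [dg_det, gst_det]
  unfold gde
  have h1 := det_ne_zero_GL g
  have h2 : σ ((g : Matrix (Fin m) (Fin m) F).det) ≠ 0 := (map_ne_zero σ).2 h1
  field_simp

theorem lg_isom (g : Matrix.GeneralLinearGroup (Fin m) F) :
    (dg (g : Matrix (Fin m) (Fin m) F) (gde D.σ g) (gst D.σ g))ᵀ * J3 F m *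
      (dg (g : Matrix (Fin m) (Fin m) F) (gde D.σ g) (gst D.σ g)).map D.σ = J3 F m := by
  have hσ2 := D.hσ2
  have h1 : ((g⁻¹ : Matrix.GeneralLinearGroup (Fin m) F) : Matrix (Fin m) (Fin m) F) *
      (g : Matrix (Fin m) (Fin m) F) = 1 := by
    rw [← Units.val_mul, inv_mul_cancel, Units.val_one]
  apply dg_isom
  · unfold gst
    have e1 : ((((g⁻¹ : Matrix.GeneralLinearGroup (Fin m) F) :
        Matrix (Fin m) (Fin m) F).map D.σ)ᵀ.map D.σ) =
        ((g⁻¹ : Matrix.GeneralLinearGroup (Fin m) F) : Matrix (Fin m) (Fin m) F)ᵀ := by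
      ext i j; simp [hσ2]
    rw [e1, ← Matrix.transpose_mul, h1, Matrix.transpose_one]
  · unfold gst
    rw [Matrix.transpose_transpose, ← Matrix.map_mul, h1, map_one_eq]
  · unfold gde
    have h1 := det_ne_zero_GL g
    have h2 : D.σ ((g : Matrix (Fin m) (Fin m) F).det) ≠ 0 := (map_ne_zero D.σ).2 h1
    rw [map_mul, map_inv₀, hσ2]
    field_simp

/-- the Levi elements -/
noncomputable def ll : Matrix.GeneralLinearGroup (Fin m) F →* Cfsg.SU (2 * m + 1) F q :=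
  MonoidHom.mk' (fun g => D.el (dg (g : Matrix (Fin m) (Fin m) F) (gde D.σ g) (gst D.σ g))
    (lg_det D.σ g) (D.lg_isom g)) (by
    intro g h
    symm
    apply D.el_mul
    rw [dg_mul, gst_mul, gde_mul, Units.val_mul])

theorem ll_apply (g : Matrix.GeneralLinearGroup (Fin m) F) :
    D.ll g = D.el (dg (g : Matrix (Fin m) (Fin m) F) (gde D.σ g) (gst D.σ g))
      (lg_det D.σ g) (D.lg_isom g) := rfl

theorem ll_conj (ε : F) (hε : D.σ ε = -ε) (g : Matrix.GeneralLinearGroup (Fin m) F)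
    (X Y : Herm D.σ m)
    (hY : (Y : Matrix (Fin m) (Fin m) F) = hAct D.σ g.1 X.1) :
    D.ll g * D.tt ε hε X * (D.ll g)⁻¹ = D.tt ε hε Y := by
  rw [mul_inv_eq_iff_eq_mul]
  rw [ll_apply]
  unfold tt us
  apply D.el_mul_eq
  apply dg_uu
  rw [hY]
  unfold hAct gst
  have h1 : ((g⁻¹ : Matrix.GeneralLinearGroup (Fin m) F) : Matrix (Fin m) (Fin m) F) *
      (g : Matrix (Fin m) (Fin m) F) = 1 := by
    rw [← Units.val_mul, inv_mul_cancel, Units.val_one]
  rw [Matrix.smul_mul, Matrix.mul_smul]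
  congr 1
  rw [Matrix.mul_assoc, Matrix.mul_assoc, ← Matrix.transpose_mul, ← Matrix.map_mul, h1,
    map_one_eq, Matrix.transpose_one, Matrix.mul_one]



end TD

/-- the scalars needed for the construction -/
theorem exists_scalars [Fintype F] (hF : Fintype.card F = q ^ 2) (σ : F →+* F)
    (hσ : ∀ x, σ x = x ^ q) (hσ2 : ∀ x, σ (σ x) = x) :
    ∃ ε τ μ κ : F, ε ≠ 0 ∧ σ ε = -ε ∧ τ + σ τ = 1 ∧ μ * σ μ = -1 ∧ κ * σ κ = 1 ∧ κ ≠ 1 := by
  have hne := Cfsg.Agent.S0837.phi_ne_id σ hF hσ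
  obtain ⟨x, hx⟩ : ∃ x, σ x ≠ x := by
    by_contra hcon
    push Not at hcon
    exact hne (RingHom.ext hcon)
  have hx0 : x ≠ 0 := by
    rintro rfl
    exact hx (map_zero σ)
  have hsx0 : σ x ≠ 0 := (map_ne_zero σ).2 hx0
  obtain ⟨τ, hτ⟩ := Cfsg.Agent.S0782.exists_trace hne hσ2 (-1) (by rw [map_neg, map_one])
  obtain ⟨μ, hμ⟩ := Cfsg.Agent.Lib.H11.UGen.exists_norm σ hF hσ (-1)
    (neg_ne_zero.2 one_ne_zero) (by rw [map_neg, map_one])
  refine ⟨x - σ x, τ, μ, σ x * x⁻¹, sub_ne_zero.2 (Ne.symm hx), ?_, ?_, hμ, ?_, ?_⟩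
  · rw [map_sub, hσ2]; ring
  · linear_combination hτ
  · rw [map_mul, map_inv₀, hσ2]
    field_simp
  · intro h
    apply hx
    field_simp at h
    exact h

/-- the change of basis exists -/
theorem exists_TD [Fintype F] (hF : Fintype.card F = q ^ 2) (σ : F →+* F)
    (hσ : ∀ x, σ x = x ^ q) (hσ2 : ∀ x, σ (σ x) = x) (m : ℕ) :
    ∃ D : TD F q m, D.σ = σ := by
  obtain ⟨ε, τ, μ, κ, hε0, hε, hτ, hμ, hκ, hκ1⟩ := exists_scalars hF σ hσ hσ2
  have h1 : 1 - κ ≠ 0 := sub_ne_zero.2 (Ne.symm hκ1)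
  have h2 : 1 - σ κ ≠ 0 := by
    intro h
    apply hκ1
    have h3 : σ κ = 1 := by linear_combination -h
    have h4 := congrArg σ h3
    rwa [hσ2, map_one] at h4
  have hc : σ ((1 - κ)⁻¹) = (1 - σ κ)⁻¹ := by
    rw [map_inv₀, map_sub, map_one]
  have hG : (PP m 1 ((1 - κ)⁻¹) μ ((1 - κ)⁻¹ * κ * μ))ᵀ *
      (PP m 1 ((1 - κ)⁻¹) μ ((1 - κ)⁻¹ * κ * μ)).map σ = J3 F m := by
    apply PP_gram
    · rw [map_one]; linear_combination hμ
    · rw [map_mul, map_mul, hc]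
      field_simp
      linear_combination (σ κ) * hμ
    · rw [map_one]
      field_simp
      linear_combination κ * hμ
    · rw [map_mul, map_mul, hc]
      field_simp
      linear_combination (κ * σ κ) * hμ - hκ
  have hcard : Fintype.card (Fin m ⊕ (Unit ⊕ Fin m)) = 2 * m + 1 := by
    simp only [Fintype.card_sum, Fintype.card_fin, Fintype.card_unit]
    omega
  exact ⟨⟨σ, hσ, hσ2, _, PP_isUnit σ _ _ _ _ hG, hG, Fintype.equivFinOfCardEq hcard⟩, rfl⟩

/-- **LS-SO**: the Heisenberg structure inside `SU_{2m+1}(q)` -/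
theorem exists_odd_structure [Fintype F] (hF : Fintype.card F = q ^ 2) (σ : F →+* F)
    (hσ : ∀ x, σ x = x ^ q) (hσ2 : ∀ x, σ (σ x) = x) (m : ℕ) (hm : 1 ≤ m) :
    ∃ (ε : F) (t : Herm σ m → Cfsg.SU (2 * m + 1) F q)
      (l : Matrix.GeneralLinearGroup (Fin m) F →* Cfsg.SU (2 * m + 1) F q)
      (w : (Fin m → F) → Cfsg.SU (2 * m + 1) F q),
      ε ≠ 0 ∧ σ ε = -ε ∧
      (∀ X X', t (X + X') = t X * t X') ∧ Function.Injective t ∧
      (∀ (g : Matrix.GeneralLinearGroup (Fin m) F) (X Y : Herm σ m),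
        (Y : Matrix (Fin m) (Fin m) F) = hAct σ g.1 X.1 → l g * t X * (l g)⁻¹ = t Y) ∧
      (∀ b X, w b * t X = t X * w b) ∧
      (∀ b b', ∃ X : Herm σ m, w (b + b') = w b * w b' * t X) ∧
      w 0 = 1 ∧
      (∀ (d b' : Fin m → F) (s : Herm σ m),
        (s : Matrix (Fin m) (Fin m) F) = ε⁻¹ • (vecMulVec d (σ ∘ b') - vecMulVec b' (σ ∘ d)) →
        w b' * w d * (w b')⁻¹ = w d * t s) := by
  obtain ⟨D, rfl⟩ := exists_TD hF σ hσ hσ2 m
  obtain ⟨ε, τ, μ, κ, hε0, hε, hτ, hμ, hκ, hκ1⟩ := exists_scalars hF D.σ D.hσ D.hσ2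
  exact ⟨ε, D.tt ε hε, D.ll, D.ww τ hτ, hε0, hε, D.tt_add ε hε, D.tt_inj ε hε hε0,
    D.ll_conj ε hε, D.ww_tt_comm ε hε τ hτ, D.ww_add ε hε hε0 τ hτ, D.ww_zero τ hτ,
    D.ww_conj ε hε hε0 τ hτ⟩

end final

end Cfsg.Agent.Lib.H21.LS
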