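import Mathlib
import Cfsg.Agent.Lib.H9.CoprimeGeneration

set_option autoImplicit false

namespace Cfsg.Agent.Lib.H21

open Cfsg.Agent.Lib.H1 Cfsg.Agent.Lib.H9

open SemidirectProduct in
/-- Generation by centralizers, abstract-action form: `P` a `p`-group acting on a `p'`-group `Q`,
`x, y ∈ P` commuting of exponent `p`; a subgroup containing the fixed points of `x` and of all
`x ^ i * y` is everything. -/
theorem gen_abs {P Q : Type*} [Group P] [Group Q] [Finite P] [Finite Q] (φ : P →* MulAut Q)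
    {p : ℕ} [Fact p.Prime] (hP : IsPGroup p P) (hQ : (Nat.card Q).Coprime p) (x y : P)
    (hxy : x * y = y * x) (hx : x ^ p = 1) (hy : y ^ p = 1) (W : Subgroup Q)
    (h1 : ∀ k : Q, φ x k = k → k ∈ W)
    (h2 : ∀ (i : ℕ) (k : Q), φ (x ^ i * y) k = k → k ∈ W) : W = ⊤ := by
  haveI : Finite (Q ⋊[φ] P) := Finite.of_equiv _ (SemidirectProduct.equivProd (φ := φ)).symm
  set K : Subgroup (Q ⋊[φ] P) := (inl : Q →* Q ⋊[φ] P).range with hK
  set A : Subgroup (Q ⋊[φ] P) := (inr : P →* Q ⋊[φ] P).range with hA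
  haveI hKn : K.Normal := by
    rw [hK, range_inl_eq_ker_rightHom]; infer_instance
  have hcK : Nat.card K = Nat.card Q :=
    (Nat.card_congr (MonoidHom.ofInjective (inl_injective (φ := φ))).toEquiv).symm
  have hcA : Nat.card A = Nat.card P :=
    (Nat.card_congr (MonoidHom.ofInjective (inr_injective (φ := φ))).toEquiv).symm
  obtain ⟨n, hn⟩ := IsPGroup.iff_card.mp hP
  have hact : CoprimeAction A K := by
    refine ⟨?_, ?_, ?_⟩
    · rw [Subgroup.normalizer_eq_top_iff.2 hKn]; exact le_top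
    · rw [hcK, hcA, hn]
      exact (Nat.Coprime.pow_right n hQ).symm
    · left
      haveI : Group.IsNilpotent P := hP.isNilpotent
      exact Group.isSolvable_of_surjective (f := (inr : P →* Q ⋊[φ] P).rangeRestrict)
        (MonoidHom.rangeRestrict_surjective _)
  have hfix : ∀ (a : P) (g : Q ⋊[φ] P), g ∈ K ⊓ Subgroup.centralizer {(inr a : Q ⋊[φ] P)} →
      ∃ k : Q, g = inl k ∧ φ a k = k := by
    intro a g hg
    obtain ⟨⟨k, rfl⟩, hc⟩ := hg
    refine ⟨k, rfl, ?_⟩
    have hc : (inl k : Q ⋊[φ] P) ∈ Subgroup.centralizer {(inr a : Q ⋊[φ] P)} := hc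
    rw [Subgroup.mem_centralizer_iff] at hc
    have h := hc (inr a) (Set.mem_singleton _)
    have h' : (inl (φ a k) : Q ⋊[φ] P) = inl k := by
      rw [inl_aut, h, map_inv, mul_inv_cancel_right]
    exact inl_injective h'
  have hle : K ≤ W.map (inl : Q →* Q ⋊[φ] P) := by
    apply le_of_centralizers_le (p := p) hact (by rw [hcK]; exact hQ)
      (x := inr x) (y := inr y) ⟨x, rfl⟩ ⟨y, rfl⟩
    · rw [← map_mul, ← map_mul, hxy]
    · rw [← map_pow, hx, map_one]
    · rw [← map_pow, hy, map_one]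
    · intro g hg
      obtain ⟨k, rfl, hk⟩ := hfix x g hg
      exact ⟨k, h1 k hk, rfl⟩
    · intro i g hg
      have : ((inr x : Q ⋊[φ] P)) ^ i * inr y = inr (x ^ i * y) := by
        rw [map_mul, map_pow]
      rw [this] at hg
      obtain ⟨k, rfl, hk⟩ := hfix (x ^ i * y) g hg
      exact ⟨k, h2 i k hk, rfl⟩
  rw [eq_top_iff]
  intro k _
  obtain ⟨k', hk', hkk⟩ := hle ⟨k, rfl⟩
  have := inl_injective hkk
  rwa [← this]

/-- fixed points of an automorphism, as a subgroup -/
def fixSub {Q : Type*} [Group Q] (α : MulAut Q) : Subgroup Q :=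
  MonoidHom.eqLocus α.toMonoidHom (MonoidHom.id Q)

theorem mem_fixSub {Q : Type*} [Group Q] (α : MulAut Q) (k : Q) : k ∈ fixSub α ↔ α k = k :=
  Iff.rfl

/-- The faithful case of the fixed-point lemma. -/
theorem fix_faithful {P Q : Type*} [Group P] [Group Q] [Finite P] [Finite Q] [Nontrivial Q]
    (φ : P →* MulAut Q) (hφ : Function.Injective φ) {p : ℕ} [hp : Fact p.Prime]
    (hP : IsPGroup p P) (hQ : (Nat.card Q).Coprime p) (P₀ : Subgroup P) (hP₀ : P₀ ≠ ⊤)
    (h : ∀ x : P, x ∉ P₀ → x ^ p = 1 ∧ ∀ k : Q, φ x k = k → k = 1) :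
    P₀ = ⊥ ∧ Nat.card P = p := by
  obtain ⟨x₀, hx₀⟩ : ∃ x₀ : P, x₀ ∉ P₀ := by
    by_contra hcon
    push Not at hcon
    exact hP₀ (eq_top_iff.mpr fun x _ => hcon x)
  haveI : Nontrivial P := ⟨⟨x₀, 1, fun h1 => hx₀ (h1 ▸ P₀.one_mem)⟩⟩
  haveI := hP.center_nontrivial
  -- an element of order p in the centre
  have hpdvd : p ∣ Nat.card (Subgroup.center P) := by
    obtain ⟨n, hn⟩ := IsPGroup.iff_card.mp (hP.to_subgroup (Subgroup.center P))
    have hn0 : n ≠ 0 := by
      rintro rfl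
      rw [pow_zero] at hn
      have := (Subgroup.card_eq_one.mp hn)
      exact (Subgroup.nontrivial_iff_ne_bot _).mp inferInstance this
    rw [hn]; exact dvd_pow_self p hn0
  obtain ⟨⟨z, hzc⟩, hz⟩ := exists_prime_orderOf_dvd_card' p hpdvd
  have hzo : orderOf z = p := by
    rw [← hz, Subgroup.orderOf_mk]
  have hzp : z ^ p = 1 := by rw [← hzo]; exact pow_orderOf_eq_one z
  have hz1 : z ≠ 1 := by
    intro h1
    rw [h1, orderOf_one] at hzo
    exact hp.out.one_lt.ne hzo
  have hzcomm : ∀ y : P, y * z = z * y := fun y => (Subgroup.mem_center_iff.mp hzc y)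
  have hfixtop : ∀ a : P, fixSub (φ a) = ⊤ → a = 1 := by
    intro a ha
    apply hφ
    rw [map_one]
    ext k
    have : k ∈ fixSub (φ a) := ha ▸ Subgroup.mem_top k
    exact this
  -- z ∉ P₀
  have hzP₀ : z ∉ P₀ := by
    intro hzmem
    apply hz1
    apply hfixtop
    apply gen_abs φ hP hQ z x₀ (hzcomm x₀).symm hzp (h x₀ hx₀).1
    · intro k hk; exact hk
    · intro i k hk
      have hnot : z ^ i * x₀ ∉ P₀ := by
        intro hmem
        apply hx₀
        have := P₀.mul_mem (P₀.inv_mem (P₀.pow_mem hzmem i)) hmem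
        rwa [inv_mul_cancel_left] at this
      rw [(h _ hnot).2 k hk]
      exact Subgroup.one_mem _
  have hP₀bot : P₀ = ⊥ := by
    by_contra hne
    have hpdvd' : p ∣ Nat.card P₀ := by
      obtain ⟨n, hn⟩ := IsPGroup.iff_card.mp (hP.to_subgroup P₀)
      have hn0 : n ≠ 0 := by
        rintro rfl
        rw [pow_zero] at hn
        exact hne (Subgroup.card_eq_one.mp hn)
      rw [hn]; exact dvd_pow_self p hn0
    obtain ⟨⟨y, hyP₀⟩, hy⟩ := exists_prime_orderOf_dvd_card' p hpdvd'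
    have hyo : orderOf y = p := by rw [← hy, Subgroup.orderOf_mk]
    have hyp : y ^ p = 1 := by rw [← hyo]; exact pow_orderOf_eq_one y
    have hy1 : y ≠ 1 := by
      intro h1
      rw [h1, orderOf_one] at hyo
      exact hp.out.one_lt.ne hyo
    apply hy1
    apply hfixtop
    apply gen_abs φ hP hQ y z (hzcomm y) hyp hzp
    · intro k hk; exact hk
    · intro i k hk
      have hnot : y ^ i * z ∉ P₀ := by
        intro hmem
        apply hzP₀
        have := P₀.mul_mem (P₀.inv_mem (P₀.pow_mem hyP₀ i)) hmem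
        rwa [inv_mul_cancel_left] at this
      rw [(h _ hnot).2 k hk]
      exact Subgroup.one_mem _
  refine ⟨hP₀bot, ?_⟩
  by_contra hcard
  have hzcard : Nat.card (Subgroup.zpowers z) = p := by rw [Nat.card_zpowers, hzo]
  have hne : Subgroup.zpowers z ≠ ⊤ := by
    intro htop
    rw [htop, Subgroup.card_top] at hzcard
    exact hcard hzcard
  obtain ⟨y, hy⟩ : ∃ y : P, y ∉ Subgroup.zpowers z := by
    by_contra hcon
    push Not at hcon
    exact hne (eq_top_iff.mpr fun x _ => hcon x)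
  have hy1 : y ∉ P₀ := by
    rw [hP₀bot, Subgroup.mem_bot]
    rintro rfl
    exact hy (Subgroup.one_mem _)
  have htop : (⊥ : Subgroup Q) = ⊤ := by
    apply gen_abs φ hP hQ z y (hzcomm y).symm hzp (h y hy1).1
    · intro k hk
      rw [(h z hzP₀).2 k hk]
      exact Subgroup.one_mem _
    · intro i k hk
      have hnot : z ^ i * y ∉ P₀ := by
        rw [hP₀bot, Subgroup.mem_bot]
        intro h1
        apply hy
        have : y = (z ^ i)⁻¹ := by
          rw [eq_inv_iff_mul_eq_one]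
          have hc : Commute z y := (hzcomm y).symm
          rw [← (hc.pow_left i).eq]
          exact h1
        rw [this]
        exact Subgroup.inv_mem _ (Subgroup.pow_mem _ (Subgroup.mem_zpowers z) i)
      rw [(h _ hnot).2 k hk]
      exact Subgroup.one_mem _
  exact bot_ne_top htop

/-- The fixed-point lemma: a `p`-group `P` acts on a nontrivial `p'`-group `Q`; every element
outside the proper subgroup `P₀` has exponent `p` and acts fixed-point-freely. Then `P₀` acts
trivially and has index `p`. -/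
theorem fix_abs {P Q : Type*} [Group P] [Group Q] [Finite P] [Finite Q] [Nontrivial Q]
    (φ : P →* MulAut Q) {p : ℕ} [hp : Fact p.Prime]
    (hP : IsPGroup p P) (hQ : (Nat.card Q).Coprime p) (P₀ : Subgroup P) (hP₀ : P₀ ≠ ⊤)
    (h : ∀ x : P, x ∉ P₀ → x ^ p = 1 ∧ ∀ k : Q, φ x k = k → k = 1) :
    P₀ ≤ φ.ker ∧ P₀.index = p := by
  have hker : φ.ker ≤ P₀ := by
    intro x hx
    by_contra hxP
    obtain ⟨k, hk⟩ := exists_ne (1 : Q)
    apply hk
    apply (h x hxP).2 k
    rw [MonoidHom.mem_ker] at hx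
    rw [hx]; rfl
  have hinj : Function.Injective (QuotientGroup.kerLift φ) := QuotientGroup.kerLift_injective φ
  have hP' : IsPGroup p (P ⧸ φ.ker) := hP.to_quotient φ.ker
  set P₁ : Subgroup (P ⧸ φ.ker) := P₀.map (QuotientGroup.mk' φ.ker) with hP₁
  have hmem : ∀ x : P, (QuotientGroup.mk' φ.ker x) ∈ P₁ → x ∈ P₀ := by
    intro x hx
    obtain ⟨y, hy, hyx⟩ := hx
    have h1 : y⁻¹ * x ∈ φ.ker := by
      rw [← QuotientGroup.eq]
      exact hyx
    have := P₀.mul_mem hy (hker h1)
    rwa [mul_inv_cancel_left] at this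
  have hP₁ne : P₁ ≠ ⊤ := by
    intro htop
    apply hP₀
    rw [eq_top_iff]
    intro x _
    apply hmem
    rw [htop]; exact Subgroup.mem_top _
  have hh : ∀ x : P ⧸ φ.ker, x ∉ P₁ → x ^ p = 1 ∧
      ∀ k : Q, QuotientGroup.kerLift φ x k = k → k = 1 := by
    intro x hx
    obtain ⟨x', rfl⟩ := QuotientGroup.mk'_surjective φ.ker x
    have hx' : x' ∉ P₀ := fun hm => hx ⟨x', hm, rfl⟩
    obtain ⟨h1, h2⟩ := h x' hx'
    refine ⟨?_, ?_⟩
    · rw [← map_pow, h1, map_one]
    · intro k hk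
      apply h2 k
      exact hk
  obtain ⟨hbot, hcard⟩ := fix_faithful (QuotientGroup.kerLift φ) hinj hP' hQ P₁ hP₁ne hh
  have hle : P₀ ≤ φ.ker := by
    intro x hx
    have : (QuotientGroup.mk' φ.ker x) ∈ P₁ := ⟨x, hx, rfl⟩
    rw [hbot, Subgroup.mem_bot] at this
    rwa [QuotientGroup.mk'_apply, QuotientGroup.eq_one_iff] at this
  refine ⟨hle, ?_⟩
  rw [le_antisymm hle hker, Subgroup.index_eq_card]
  exact hcard

end Cfsg.Agent.Lib.H21
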