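/-
S3174 (architect helper16), auxiliary lemmas for the pieces DER, CORE, COREIDX (helper21):
* `exists_index_p`: in a finite `p`-group `G`, a subgroup `N` with `G/N` elementary abelian and `g ∉ N`: some subgroup
  of index `p` contains `N` and misses `g`;
* `exists_relIndex_two`: the same relative to a subgroup `W` of an ambient 2-group;
* `exists_central_mod`: `P < K` normal in a nilpotent group: some `u ∈ K ∖ P` is central modulo `P`.
-/
import Mathlib
import Cfsg.Agent.Lib.H1.PGroupBasic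
import Cfsg.Agent.Lib.H1.NilpotentBasic

set_option autoImplicit false
set_option linter.unusedSectionVars false
set_option linter.unusedVariables false

namespace Cfsg.Agent.Lib.H21.RTW

open scoped commutatorElement

/-- In a finite `p`-group, if `G/N` is elementary abelian and `g ∉ N`, some subgroup of index `p` contains `N` and
misses `g`. -/
theorem exists_index_p {G : Type*} [Group G] [Finite G] {p : ℕ} [hp : Fact p.Prime] (hG : IsPGroup p G)
    (N : Subgroup G) (hcomm : commutator G ≤ N) (hpow : ∀ x : G, x ^ p ∈ N) (g : G) (hgN : g ∉ N) :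
    ∃ M : Subgroup G, N ≤ M ∧ g ∉ M ∧ M.index = p := by
  -- choose `M` maximal with `N ≤ M`, `g ∉ M`
  let S : Set (Subgroup G) := {K | N ≤ K ∧ g ∉ K}
  have hSfin : S.Finite := Set.toFinite S
  have hNS : N ∈ S := ⟨le_rfl, hgN⟩
  obtain ⟨M, hNM, hMmax⟩ := hSfin.exists_le_maximal hNS
  have hMS : M ∈ S := hMmax.prop
  have hMn : M.Normal := Cfsg.Agent.Lib.H1.normal_of_commutator_le (hcomm.trans hMS.1)
  have hgK : ∀ K : Subgroup G, M < K → g ∈ K := by
    intro K hMK
    by_contra hgK
    have hKS : K ∈ S := ⟨hMS.1.trans hMK.le, hgK⟩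
    exact hMK.not_ge (hMmax.le_of_ge hKS hMK.le)
  have hcoatom : IsCoatom M := by
    refine ⟨fun h => hMS.2 (h ▸ Subgroup.mem_top g), ?_⟩
    intro K hMK
    rw [eq_top_iff]
    intro y _
    by_cases hyM : y ∈ M
    · exact hMK.le hyM
    · have hlt : M < M ⊔ Subgroup.zpowers y := by
        apply lt_of_le_of_ne le_sup_left
        intro h
        apply hyM
        rw [h]
        exact (le_sup_right : Subgroup.zpowers y ≤ M ⊔ Subgroup.zpowers y) (Subgroup.mem_zpowers y)
      have hg := hgK _ hlt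
      rw [Subgroup.mem_sup_of_normal_left] at hg
      obtain ⟨m, hm, z, hz, hmz⟩ := hg
      obtain ⟨i, rfl⟩ := Subgroup.mem_zpowers_iff.mp hz
      have hyiK : y ^ i ∈ K := by
        have : y ^ i = m⁻¹ * g := by rw [← hmz]; group
        rw [this]
        exact K.mul_mem (K.inv_mem (hMK.le hm)) (hgK K hMK)
      have hypK : y ^ (p : ℤ) ∈ K := by
        rw [zpow_natCast]
        exact hMK.le (hMS.1 (hpow y))
      have hcop : IsCoprime i (p : ℤ) := by
        rw [isCoprime_comm]
        apply (Nat.prime_iff_prime_int.mp hp.out).coprime_iff_not_dvd.mpr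
        rintro ⟨j, rfl⟩
        apply hMS.2
        rw [← hmz]
        apply M.mul_mem hm
        rw [zpow_mul, zpow_natCast]
        exact M.zpow_mem (hMS.1 (hpow y)) j
      obtain ⟨a, b, hab⟩ := hcop
      have : y = (y ^ i) ^ a * (y ^ (p : ℤ)) ^ b := by
        rw [← zpow_mul, ← zpow_mul, ← zpow_add, mul_comm i a, mul_comm (p : ℤ) b, hab, zpow_one]
      rw [this]
      exact K.mul_mem (K.zpow_mem hyiK a) (K.zpow_mem hypK b)
  exact ⟨M, hMS.1, hMS.2, Cfsg.Agent.Lib.H1.isPGroup_coatom_index hG hcoatom⟩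

variable {T : Type*} [Group T] [Finite T]

/-- `W/P` elementary abelian inside a 2-group and `c ∈ W ∖ P`: some `M` with `P ≤ M ≤ W` of index 2 in `W` misses `c`. -/
theorem exists_relIndex_two (hT : IsPGroup 2 T) (W P : Subgroup T) (hPW : P ≤ W)
    (hsq : ∀ u ∈ W, u ^ 2 ∈ P) (hcomm : ∀ u ∈ W, ∀ v ∈ W, ⁅u, v⁆ ∈ P) (c : T) (hcW : c ∈ W) (hcP : c ∉ P) :
    ∃ M : Subgroup T, P ≤ M ∧ M ≤ W ∧ c ∉ M ∧ M.relIndex W = 2 := by
  have : Fact (Nat.Prime 2) := ⟨Nat.prime_two⟩
  have hWp : IsPGroup 2 ↥W := hT.to_subgroup W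
  obtain ⟨M, hNM, hgM, hidx⟩ := exists_index_p hWp (P.subgroupOf W)
    (by
      rw [commutator_eq_closure, Subgroup.closure_le]
      rintro x ⟨a, b, rfl⟩
      rw [SetLike.mem_coe, Subgroup.mem_subgroupOf]
      have : ((⁅a, b⁆ : ↥W) : T) = ⁅(a : T), (b : T)⁆ := by
        simp [commutatorElement_def]
      rw [this]
      exact hcomm _ a.2 _ b.2)
    (by
      intro x
      rw [Subgroup.mem_subgroupOf]
      simpa using hsq _ x.2)
    ⟨c, hcW⟩ (by rw [Subgroup.mem_subgroupOf]; exact hcP)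
  refine ⟨M.map W.subtype, ?_, Subgroup.map_subtype_le M, ?_, ?_⟩
  · intro x hx
    exact Subgroup.mem_map.mpr ⟨⟨x, hPW hx⟩, hNM (by rw [Subgroup.mem_subgroupOf]; exact hx), rfl⟩
  · intro h
    obtain ⟨y, hy, hyc⟩ := Subgroup.mem_map.mp h
    apply hgM
    have : y = ⟨c, hcW⟩ := Subtype.ext hyc
    rw [← this]
    exact hy
  · rw [Subgroup.relIndex, Subgroup.subgroupOf, Subgroup.comap_map_eq_self_of_injective W.subtype_injective]
    exact hidx

/-- `P < K`, both normal in a nilpotent group: some element of `K ∖ P` is central modulo `P`. -/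
theorem exists_central_mod [Group.IsNilpotent T] (K P : Subgroup T) [K.Normal] [P.Normal] (hPK : P ≤ K)
    (hne : ¬ K ≤ P) : ∃ u ∈ K, u ∉ P ∧ ∀ t : T, ⁅u, t⁆ ∈ P := by
  have : Group.IsNilpotent (T ⧸ P) :=
    Group.nilpotent_of_surjective (QuotientGroup.mk' P) (QuotientGroup.mk'_surjective P)
  have hKn : (K.map (QuotientGroup.mk' P)).Normal :=
    Subgroup.Normal.map inferInstance _ (QuotientGroup.mk'_surjective P)
  have hK1 : K.map (QuotientGroup.mk' P) ≠ ⊥ := by
    intro h
    apply hne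
    intro x hx
    have : (QuotientGroup.mk' P) x ∈ K.map (QuotientGroup.mk' P) := Subgroup.mem_map_of_mem _ hx
    rw [h, Subgroup.mem_bot] at this
    exact (QuotientGroup.eq_one_iff x).mp this
  have h2 := Cfsg.Agent.Lib.H1.normal_inf_center_ne_bot (K.map (QuotientGroup.mk' P)) hK1
  obtain ⟨⟨q, hq⟩, hq1⟩ := (Subgroup.ne_bot_iff_exists_ne_one).mp h2
  obtain ⟨hqK, hqc⟩ := Subgroup.mem_inf.mp hq
  obtain ⟨u, huK, rfl⟩ := Subgroup.mem_map.mp hqK
  refine ⟨u, huK, ?_, ?_⟩
  · intro huP
    apply hq1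
    apply Subtype.ext
    exact (QuotientGroup.eq_one_iff u).mpr huP
  · intro t
    rw [← QuotientGroup.eq_one_iff, commutatorElement_def]
    have := (Subgroup.mem_center_iff.mp hqc) (QuotientGroup.mk' P t)
    simp only [QuotientGroup.mk'_apply] at this
    simp only [QuotientGroup.mk_mul, QuotientGroup.mk_inv]
    rw [← this]
    group

end Cfsg.Agent.Lib.H21.RTW
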