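/-
S3174 (architect helper16), piece CORE (helper21): `P ≤ W` normal in the 2-group `T`, `W/P` elementary abelian, and the
preimage of `C_{W/P}(T)` has order at most `2|P|`: some `M` of index `≤ 2` in `W` containing `P` has `T`-core `P`.
-/
import Mathlib
import Cfsg.Agent.Lib.H21.RTWAux

set_option autoImplicit false
set_option linter.unusedSectionVars false
set_option linter.unusedVariables false

namespace Cfsg.Agent.Lib.H21.RTW

open scoped commutatorElement

variable {T : Type*} [Group T] [Finite T]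

/-- **CORE**: `P ≤ W` normal in the 2-group `T`, `W/P` elementary abelian, and the preimage of `C_{W/P}(T)` has
order at most `2|P|`.  Then some `M` of index `≤ 2` in `W` containing `P` has `T`-core `P`. -/
theorem exists_core_free_maximal (hT : IsPGroup 2 T) (W P : Subgroup T) [W.Normal] [P.Normal] (hPW : P ≤ W)
    (hsq : ∀ u ∈ W, u ^ 2 ∈ P) (hcomm : ∀ u ∈ W, ∀ v ∈ W, ⁅u, v⁆ ∈ P)
    (hC : ∀ C : Subgroup T, P ≤ C → C ≤ W → (∀ x ∈ C, ∀ t : T, ⁅x, t⁆ ∈ P) →
      Nat.card C ≤ 2 * Nat.card P) :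
    ∃ M : Subgroup T, P ≤ M ∧ M ≤ W ∧ M.relIndex W ≤ 2 ∧
      ∀ u ∈ W, (∀ t : T, t * u * t⁻¹ ∈ M) → u ∈ P := by
  by_cases hWP : W ≤ P
  · refine ⟨W, hPW, le_rfl, ?_, fun u hu _ => hWP hu⟩
    rw [Subgroup.relIndex_self]
    norm_num
  have hnil : Group.IsNilpotent T := hT.isNilpotent
  obtain ⟨c, hcW, hcP, hcT⟩ := exists_central_mod W P hPW hWP
  -- the preimage of the centre of `T/P` in `W`
  let C₀ : Subgroup T :=
    { carrier := {x | x ∈ W ∧ ∀ t : T, ⁅x, t⁆ ∈ P}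
      one_mem' := ⟨W.one_mem, fun t => by simp [commutatorElement_def]⟩
      mul_mem' := by
        rintro x y ⟨hx, hxt⟩ ⟨hy, hyt⟩
        refine ⟨mul_mem hx hy, fun t => ?_⟩
        have e : ⁅x * y, t⁆ = x * ⁅y, t⁆ * x⁻¹ * ⁅x, t⁆ := by
          simp only [commutatorElement_def]
          group
        rw [e]
        exact mul_mem (‹P.Normal›.conj_mem _ (hyt t) x) (hxt t)
      inv_mem' := by
        rintro x ⟨hx, hxt⟩
        refine ⟨inv_mem hx, fun t => ?_⟩
        have e : ⁅x⁻¹, t⁆ = x⁻¹ * (⁅x, t⁆)⁻¹ * (x⁻¹)⁻¹ := by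
          simp only [commutatorElement_def]
          group
        rw [e]
        exact ‹P.Normal›.conj_mem _ (inv_mem (hxt t)) x⁻¹ }
  have hC₀mem : ∀ x : T, x ∈ C₀ ↔ x ∈ W ∧ ∀ t : T, ⁅x, t⁆ ∈ P := fun x => Iff.rfl
  have hPC₀ : P ≤ C₀ := by
    intro x hx
    refine ⟨hPW hx, fun t => ?_⟩
    have e : ⁅x, t⁆ = x * (t * x⁻¹ * t⁻¹) := by
      simp only [commutatorElement_def]
      group
    rw [e]
    exact mul_mem hx (‹P.Normal›.conj_mem _ (inv_mem hx) t)
  have hC₀W : C₀ ≤ W := fun x hx => hx.1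
  have hcC₀ : c ∈ C₀ := ⟨hcW, hcT⟩
  have hcard := hC C₀ hPC₀ hC₀W (fun x hx t => hx.2 t)
  have hrel : P.relIndex C₀ = 2 := by
    have h1 := Subgroup.relIndex_mul_relIndex ⊥ P C₀ bot_le hPC₀
    rw [Subgroup.relIndex_bot_left, Subgroup.relIndex_bot_left] at h1
    have hPpos : 0 < Nat.card P := Nat.card_pos
    have hle : P.relIndex C₀ ≤ 2 := by
      rw [← h1, mul_comm] at hcard
      exact Nat.le_of_mul_le_mul_right hcard hPpos
    have hne1 : P.relIndex C₀ ≠ 1 := by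
      intro h
      exact hcP (Subgroup.relIndex_eq_one.mp h hcC₀)
    have hne0 : P.relIndex C₀ ≠ 0 := by
      intro h
      rw [h, mul_zero] at h1
      have : 0 < Nat.card C₀ := Nat.card_pos
      omega
    omega
  -- two elements of `C₀` outside `P` have their product in `P`
  have hprod : ∀ x ∈ C₀, ∀ y ∈ C₀, x ∉ P → y ∉ P → x * y ∈ P := by
    intro x hx y hy hxP hyP
    have h := Subgroup.mul_mem_iff_of_index_two (H := P.subgroupOf C₀) hrel (a := ⟨x, hx⟩) (b := ⟨y, hy⟩)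
    simp only [Subgroup.mem_subgroupOf] at h
    exact h.mpr (iff_of_false hxP hyP)
  obtain ⟨M, hPM, hMW, hcM, hMidx⟩ := exists_relIndex_two hT W P hPW hsq hcomm c hcW hcP
  refine ⟨M, hPM, hMW, hMidx.le, ?_⟩
  intro u huW hut
  by_contra huP
  -- the core of `M`
  let K : Subgroup T :=
    { carrier := {x | x ∈ W ∧ ∀ t : T, t * x * t⁻¹ ∈ M}
      one_mem' := ⟨W.one_mem, fun t => by simp [M.one_mem]⟩
      mul_mem' := by
        rintro x y ⟨hx, hxt⟩ ⟨hy, hyt⟩
        refine ⟨mul_mem hx hy, fun t => ?_⟩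
        have e : t * (x * y) * t⁻¹ = (t * x * t⁻¹) * (t * y * t⁻¹) := by group
        rw [e]
        exact mul_mem (hxt t) (hyt t)
      inv_mem' := by
        rintro x ⟨hx, hxt⟩
        refine ⟨inv_mem hx, fun t => ?_⟩
        have e : t * x⁻¹ * t⁻¹ = (t * x * t⁻¹)⁻¹ := by group
        rw [e]
        exact inv_mem (hxt t) }
  have hKn : K.Normal := by
    constructor
    rintro x ⟨hx, hxt⟩ g
    refine ⟨‹W.Normal›.conj_mem _ hx g, fun t => ?_⟩
    have e : t * (g * x * g⁻¹) * t⁻¹ = (t * g) * x * (t * g)⁻¹ := by group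
    rw [e]
    exact hxt (t * g)
  have hPK : P ≤ K := by
    intro x hx
    exact ⟨hPW hx, fun t => hPM (‹P.Normal›.conj_mem _ hx t)⟩
  have hKM : K ≤ M := by
    rintro x ⟨hx, hxt⟩
    have := hxt 1
    simpa using this
  have huK : u ∈ K := ⟨huW, hut⟩
  obtain ⟨u', hu'K, hu'P, hu'T⟩ := exists_central_mod K P hPK (fun h => huP (h huK))
  have hu'C₀ : u' ∈ C₀ := ⟨hu'K.1, hu'T⟩
  have h1 : u' * c ∈ P := hprod u' hu'C₀ c hcC₀ hu'P hcP
  apply hcM
  apply hKM
  have e : c = u'⁻¹ * (u' * c) := by group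
  rw [e]
  exact mul_mem (inv_mem hu'K) (hPK h1)

end Cfsg.Agent.Lib.H21.RTW
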