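/-
S3174 (architect helper16), piece COREIDX (helper21): the `T`-core of a subgroup `M` of index `≤ 2` in the normal
subgroup `W` has index at most `2 ^ |T : W|` in `W`.
-/
import Mathlib

set_option autoImplicit false
set_option linter.unusedSectionVars false
set_option linter.unusedVariables false

namespace Cfsg.Agent.Lib.H21.RTW

open scoped commutatorElement

variable {T : Type*} [Group T] [Finite T]

/-- a subgroup of index at most two of `W` is normalized by `W` -/
theorem conj_mem_of_relIndex_le_two (W M : Subgroup T) (hMW : M ≤ W) (hidx : M.relIndex W ≤ 2)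
    (s : T) (hs : s ∈ W) (m : T) (hm : m ∈ M) : s * m * s⁻¹ ∈ M := by
  have h0 : M.relIndex W ≠ 0 := Subgroup.index_ne_zero_of_finite
  have h12 : M.relIndex W = 1 ∨ M.relIndex W = 2 := by omega
  rcases h12 with h1 | h2
  · exact Subgroup.relIndex_eq_one.mp h1 (mul_mem (mul_mem hs (hMW hm)) (inv_mem hs))
  · have hn : (M.subgroupOf W).Normal := Subgroup.normal_of_index_eq_two h2
    have := hn.conj_mem ⟨m, hMW hm⟩ (by rw [Subgroup.mem_subgroupOf]; exact hm) ⟨s, hs⟩
    rw [Subgroup.mem_subgroupOf] at this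
    simpa using this

/-- **COREIDX**: the `T`-core of a subgroup `M` of index `≤ 2` in the normal subgroup `W` has index at most
`2 ^ |T : W|` in `W` (`W` normalizes `M`, so there are at most `|T : W|` conjugates). -/
theorem relIndex_core_le (W M : Subgroup T) [W.Normal] (hMW : M ≤ W) (hidx : M.relIndex W ≤ 2) :
    (⨅ t : T, M.map (MulAut.conj t).toMonoidHom).relIndex W ≤ 2 ^ W.index := by
  classical
  let _ : Fintype (T ⧸ W) := Fintype.ofFinite _
  have hnorm := conj_mem_of_relIndex_le_two W M hMW hidx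
  -- the conjugate of `M` by `t` only depends on the coset `tW`
  have hle : (⨅ q : T ⧸ W, M.map (MulAut.conj q.out).toMonoidHom) ≤
      ⨅ t : T, M.map (MulAut.conj t).toMonoidHom := by
    refine le_iInf fun t => ?_
    refine (iInf_le _ (QuotientGroup.mk t : T ⧸ W)).trans ?_
    rintro x ⟨m, hm, rfl⟩
    set r := (QuotientGroup.mk t : T ⧸ W).out with hr
    have hrt : t⁻¹ * r ∈ W := by
      have : (QuotientGroup.mk r : T ⧸ W) = QuotientGroup.mk t := QuotientGroup.out_eq' _
      exact QuotientGroup.eq.mp this.symm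
    refine ⟨(t⁻¹ * r) * m * (t⁻¹ * r)⁻¹, hnorm _ hrt m hm, ?_⟩
    simp only [MulEquiv.coe_toMonoidHom, MulAut.conj_apply]
    group
  have hne : (⨅ q : T ⧸ W, M.map (MulAut.conj q.out).toMonoidHom).relIndex W ≠ 0 :=
    Subgroup.index_ne_zero_of_finite
  refine (Subgroup.relIndex_le_of_le_left hle hne).trans ?_
  refine (Subgroup.relIndex_iInf_le _).trans ?_
  have hWmap : ∀ t : T, W.map (MulAut.conj t).toMonoidHom = W := by
    intro t
    apply le_antisymm
    · rintro x ⟨y, hy, rfl⟩
      simp only [MulEquiv.coe_toMonoidHom, MulAut.conj_apply]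
      exact ‹W.Normal›.conj_mem y hy t
    · intro x hx
      refine ⟨t⁻¹ * x * (t⁻¹)⁻¹, ‹W.Normal›.conj_mem x hx t⁻¹, ?_⟩
      simp only [MulEquiv.coe_toMonoidHom, MulAut.conj_apply]
      group
  have heach : ∀ q : T ⧸ W, (M.map (MulAut.conj q.out).toMonoidHom).relIndex W ≤ 2 := by
    intro q
    have h := Subgroup.relIndex_map_map_of_injective M W (f := (MulAut.conj q.out).toMonoidHom)
      (MulAut.conj q.out).injective
    rw [hWmap] at h
    rw [h]
    exact hidx
  calc ∏ q : T ⧸ W, (M.map (MulAut.conj q.out).toMonoidHom).relIndex W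
      ≤ 2 ^ (Finset.univ : Finset (T ⧸ W)).card := Finset.prod_le_pow_card _ _ _ (fun q _ => heach q)
    _ = 2 ^ W.index := by
      rw [Finset.card_univ, Subgroup.index_eq_card, Nat.card_eq_fintype_card]

end Cfsg.Agent.Lib.H21.RTW
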