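/-
S3174 (architect helper16), piece DER (helper21): a finite 2-group `X` with `Φ(X) ≤ Z(X)` all of whose subgroups of
index `≤ 4` contain `Φ(X)` has `X' = Φ(X)` of exponent 2.
-/
import Mathlib
import Cfsg.Agent.Lib.H1.PGroupBasic
import Cfsg.Agent.Lib.H21.RTWAux

set_option autoImplicit false
set_option linter.unusedSectionVars false
set_option linter.unusedVariables false

namespace Cfsg.Agent.Lib.H21.RTW

open scoped commutatorElement

/-- **DER**: a finite 2-group `X` with `Φ(X) ≤ Z(X)` all of whose subgroups of index `≤ 4` contain `Φ(X)` has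
`X' = Φ(X)` of exponent 2. -/
theorem commutator_eq_frattini_of_small_index {X : Type*} [Group X] [Finite X] (hX : IsPGroup 2 X)
    (hcen : frattini X ≤ Subgroup.center X)
    (hd : ∀ U : Subgroup X, U.index ≤ 4 → frattini X ≤ U) :
    commutator X = frattini X ∧ ∀ z ∈ frattini X, z ^ 2 = 1 := by
  have : Fact (Nat.Prime 2) := ⟨Nat.prime_two⟩
  have hXΦ : commutator X ≤ frattini X := Cfsg.Agent.Lib.H1.isPGroup_commutator_le_frattini hX
  have hsqΦ : ∀ x : X, x ^ 2 ∈ frattini X := Cfsg.Agent.Lib.H1.isPGroup_pow_mem_frattini hX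
  have hcX : ∀ x y : X, ⁅x, y⁆ ∈ commutator X := fun x y =>
    Subgroup.commutator_mem_commutator (Subgroup.mem_top x) (Subgroup.mem_top y)
  have hcc : ∀ x y : X, ∀ g : X, g * ⁅x, y⁆ = ⁅x, y⁆ * g := fun x y =>
    Subgroup.mem_center_iff.mp (hcen (hXΦ (hcX x y)))
  -- `(xy)² = x² y² ⁅y,x⁆`
  have hsqmul : ∀ x y : X, (x * y) ^ 2 = x ^ 2 * y ^ 2 * ⁅y, x⁆ := by
    intro x y
    have h1 := hcc y x
    obtain ⟨c, hc⟩ : ∃ c : X, c = ⁅y, x⁆ := ⟨_, rfl⟩
    rw [← hc] at h1 ⊢
    have hyx : y * x = c * (x * y) := by rw [hc, commutatorElement_def]; group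
    calc (x * y) ^ 2 = x * (y * x) * y := by simp only [pow_two, mul_assoc]
      _ = x * (c * (x * y)) * y := by rw [hyx]
      _ = x * (c * (x * y * y)) := by group
      _ = x * ((x * y * y) * c) := by rw [← h1 (x * y * y)]
      _ = x ^ 2 * y ^ 2 * c := by simp only [pow_two, mul_assoc]
  -- commutators have order at most two
  have hsqc : ∀ x y : X, ⁅x, y⁆ ^ 2 = 1 := by
    intro x y
    have h1 := hcc x y
    have h2 := Subgroup.mem_center_iff.mp (hcen (hsqΦ x))
    obtain ⟨c, hc⟩ : ∃ c : X, c = ⁅x, y⁆ := ⟨_, rfl⟩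
    rw [← hc] at h1 ⊢
    have e1 : x * y = c * (y * x) := by rw [hc, commutatorElement_def]; group
    have e2 : x ^ 2 * y = c ^ 2 * (y * x ^ 2) := by
      calc x ^ 2 * y = x * (x * y) := by simp only [pow_two, mul_assoc]
        _ = x * (c * (y * x)) := by rw [e1]
        _ = (x * c) * (y * x) := by group
        _ = (c * x) * (y * x) := by rw [h1 x]
        _ = c * (x * y) * x := by group
        _ = c * (c * (y * x)) * x := by rw [e1]
        _ = c ^ 2 * (y * x ^ 2) := by simp only [pow_two, mul_assoc]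
    have e3 : c ^ 2 * (y * x ^ 2) = 1 * (y * x ^ 2) := by
      rw [← e2, one_mul, h2 y]
    exact mul_right_cancel e3
  -- the derived subgroup has exponent two
  have hexpX' : ∀ z ∈ commutator X, z ^ 2 = 1 := by
    let E : Subgroup X :=
      { carrier := {z | z ∈ Subgroup.center X ∧ z ^ 2 = 1}
        one_mem' := ⟨Subgroup.one_mem _, one_pow 2⟩
        mul_mem' := by
          rintro a b ⟨ha, ha2⟩ ⟨hb, hb2⟩
          refine ⟨mul_mem ha hb, ?_⟩
          have hab : Commute a b := (Subgroup.mem_center_iff.mp hb a)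
          rw [hab.mul_pow, ha2, hb2, one_mul]
        inv_mem' := by
          rintro a ⟨ha, ha2⟩
          exact ⟨inv_mem ha, by rw [inv_pow, ha2, inv_one]⟩ }
    have hE : commutator X ≤ E := by
      rw [commutator_eq_closure, Subgroup.closure_le]
      rintro z ⟨x, y, rfl⟩
      exact ⟨hcen (hXΦ (hcX x y)), hsqc x y⟩
    intro z hz
    exact (hE hz).2
  have heq : commutator X = frattini X := by
    apply le_antisymm hXΦ
    by_contra hne
    have hΦp : IsPGroup 2 ↥(frattini X) := hX.to_subgroup _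
    have hne' : (commutator X).subgroupOf (frattini X) ≠ ⊤ := by
      intro h
      exact hne (Subgroup.subgroupOf_eq_top.mp h)
    obtain ⟨N', hN'co, hN'le⟩ := (eq_top_or_exists_le_coatom _).resolve_left hne'
    have hN'idx : N'.index = 2 := Cfsg.Agent.Lib.H1.isPGroup_coatom_index hΦp hN'co
    obtain ⟨N, hN⟩ : ∃ N : Subgroup X, N = N'.map (frattini X).subtype := ⟨_, rfl⟩
    have hNΦ : N ≤ frattini X := by rw [hN]; exact Subgroup.map_subtype_le N'
    have hmemN : ∀ (z : X) (hz : z ∈ frattini X), z ∈ N ↔ (⟨z, hz⟩ : ↥(frattini X)) ∈ N' := by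
      intro z hz
      rw [hN]
      constructor
      · intro h
        obtain ⟨y, hy, hyz⟩ := Subgroup.mem_map.mp h
        have : y = ⟨z, hz⟩ := Subtype.ext hyz
        rw [← this]
        exact hy
      · intro h
        exact Subgroup.mem_map.mpr ⟨_, h, rfl⟩
    have hN1 : commutator X ≤ N := by
      intro x hx
      rw [hmemN x (hXΦ hx)]
      exact hN'le (by rw [Subgroup.mem_subgroupOf]; exact hx)
    have hN3 : ∀ z ∈ frattini X, ∀ z' ∈ frattini X, z ∉ N → z' ∉ N → z * z' ∈ N := by
      intro z hz z' hz' h1 h2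
      rw [hmemN _ (mul_mem hz hz')]
      rw [hmemN z hz] at h1
      rw [hmemN z' hz'] at h2
      have := Subgroup.mul_mem_iff_of_index_two hN'idx (a := ⟨z, hz⟩) (b := ⟨z', hz'⟩)
      exact this.mpr (iff_of_false h1 h2)
    -- a square outside `N`
    have hex : ∃ a : X, a ^ 2 ∉ N := by
      by_contra hall
      push Not at hall
      have hΦN := Cfsg.Agent.Lib.H1.frattini_le_of_commutator_le_of_pow_mem N hN1 hall
      apply hN'co.1
      rw [eq_top_iff]
      intro y _
      exact (hmemN y.1 y.2).mp (hΦN y.2)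
    obtain ⟨a, ha⟩ := hex
    -- `Ω = {x | x² ∈ N}`
    let Ω : Subgroup X :=
      { carrier := {x | x ^ 2 ∈ N}
        one_mem' := by
          show (1 : X) ^ 2 ∈ N
          rw [one_pow]
          exact N.one_mem
        mul_mem' := by
          intro x y hx hy
          show (x * y) ^ 2 ∈ N
          rw [hsqmul]
          exact mul_mem (mul_mem hx hy) (hN1 (hcX y x))
        inv_mem' := by
          intro x hx
          show (x⁻¹) ^ 2 ∈ N
          rw [inv_pow]
          exact inv_mem hx }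
    have hΩmem : ∀ x : X, x ∈ Ω ↔ x ^ 2 ∈ N := fun x => Iff.rfl
    have hΩidx : Ω.index = 2 := by
      rw [Subgroup.index_eq_two_iff]
      refine ⟨a, fun b => ?_⟩
      have hba : (b * a) ^ 2 = b ^ 2 * a ^ 2 * ⁅a, b⁆ := hsqmul b a
      by_cases hb : b ∈ Ω
      · refine Or.inr ⟨hb, ?_⟩
        intro h
        rw [hΩmem, hba] at h
        rw [hΩmem] at hb
        apply ha
        have h1 : b ^ 2 * a ^ 2 ∈ N := (Subgroup.mul_mem_cancel_right N (hN1 (hcX a b))).mp h
        exact (Subgroup.mul_mem_cancel_left N hb).mp h1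
      · refine Or.inl ⟨?_, hb⟩
        rw [hΩmem, hba]
        rw [hΩmem] at hb
        exact mul_mem (hN3 _ (hsqΦ b) _ (hsqΦ a) hb ha) (hN1 (hcX a b))
    have hΦΩ : frattini X ≤ Ω := by
      intro z hz
      rw [hΩmem]
      by_cases hzN : z ∈ N
      · exact pow_mem hzN 2
      · rw [pow_two]
        exact hN3 z hz z hz hzN hzN
    have hΩp : IsPGroup 2 ↥Ω := hX.to_subgroup Ω
    have ha2Ω : a ^ 2 ∈ Ω := hΦΩ (hsqΦ a)
    obtain ⟨B, hNB, hgB, hBidx⟩ := exists_index_p hΩp (N.subgroupOf Ω)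
      (by
        rw [commutator_eq_closure, Subgroup.closure_le]
        rintro x ⟨u, v, rfl⟩
        rw [SetLike.mem_coe, Subgroup.mem_subgroupOf]
        have : ((⁅u, v⁆ : ↥Ω) : X) = ⁅(u : X), (v : X)⁆ := by
          simp [commutatorElement_def]
        rw [this]
        exact hN1 (hcX _ _))
      (by
        intro x
        rw [Subgroup.mem_subgroupOf]
        have := (hΩmem x.1).mp x.2
        simpa using this)
      ⟨a ^ 2, ha2Ω⟩ (by rw [Subgroup.mem_subgroupOf]; exact ha)
    have hU : (B.map Ω.subtype).index = 4 := by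
      rw [Subgroup.index_map_subtype, hBidx, hΩidx]
    have hΦU := hd (B.map Ω.subtype) (by rw [hU])
    obtain ⟨y, hy, hya⟩ := Subgroup.mem_map.mp (hΦU (hsqΦ a))
    apply hgB
    have : y = ⟨a ^ 2, ha2Ω⟩ := Subtype.ext hya
    rw [← this]
    exact hy
  refine ⟨heq, ?_⟩
  intro z hz
  rw [← heq] at hz
  exact hexpX' z hz

end Cfsg.Agent.Lib.H21.RTW
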