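/-
S3175 (architect helper15), piece WC (helper21): if `W ≤ T` (a finite 2-group) has index `≤ 8`, `W/Φ` is elementary
abelian, every subgroup of `W` of index `≤ 16` contains `Φ`, and `gWg⁻¹ ≤ T`, then `gΦg⁻¹ = Φ`.
-/
import Mathlib
import Cfsg.Agent.Lib.H21.RTWAux

set_option autoImplicit false
set_option linter.unusedSectionVars false
set_option linter.unusedVariables false

namespace Cfsg.Agent.Lib.H21.RTN

open scoped commutatorElement
open Cfsg.Agent.Lib.H21.RTW

/-- `W/P` elementary abelian, `W` a finite 2-group inside any group, and `c ∈ W ∖ P`: some `M` with `P ≤ M ≤ W` of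
index 2 in `W` misses `c`. -/
theorem exists_relIndex_two' {G : Type*} [Group G] (W P : Subgroup G) [Finite W] (hWp : IsPGroup 2 W)
    (hPW : P ≤ W) (hsq : ∀ u ∈ W, u ^ 2 ∈ P) (hcomm : ∀ u ∈ W, ∀ v ∈ W, ⁅u, v⁆ ∈ P) (c : G) (hcW : c ∈ W)
    (hcP : c ∉ P) : ∃ M : Subgroup G, P ≤ M ∧ M ≤ W ∧ c ∉ M ∧ M.relIndex W = 2 := by
  have : Fact (Nat.Prime 2) := ⟨Nat.prime_two⟩
  obtain ⟨M, hNM, hgM, hidx⟩ := exists_index_p hWp (P.subgroupOf W)
    (by
      rw [commutator_eq_closure, Subgroup.closure_le]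
      rintro x ⟨a, b, rfl⟩
      rw [SetLike.mem_coe, Subgroup.mem_subgroupOf]
      have : ((⁅a, b⁆ : ↥W) : G) = ⁅(a : G), (b : G)⁆ := by
        simp [commutatorElement_def]
      rw [this]
      exact hcomm _ a.2 _ b.2)
    (by
      intro x
      rw [Subgroup.mem_subgroupOf]
      simpa using hsq _ x.2)
    ⟨c, hcW⟩ (by rw [Subgroup.mem_subgroupOf]; exact hcP)
  refine ⟨M.map W.subtype, ?_, Subgroup.map_subtype_le M, ?_, ?_⟩
  · intro x hx
    exact Subgroup.mem_map.mpr ⟨⟨x, hPW hx⟩, hNM (by rw [Subgroup.mem_subgroupOf]; exact hx), rfl⟩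
  · intro h
    obtain ⟨y, hy, hyc⟩ := Subgroup.mem_map.mp h
    apply hgM
    have : y = ⟨c, hcW⟩ := Subtype.ext hyc
    rw [← this]
    exact hy
  · rw [Subgroup.relIndex, Subgroup.subgroupOf, Subgroup.comap_map_eq_self_of_injective W.subtype_injective]
    exact hidx

/-- **WC** (core, one ambient group): `Φ` plays the role of `Φ(W)`. -/
theorem map_conj_eq_of_le {G : Type*} [Group G] (T W Φ : Subgroup G) [Finite T] (hT : IsPGroup 2 T)
    (hWT : W ≤ T) (hidx : W.relIndex T ≤ 8)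
    (hΦW : Φ ≤ W) (hsq : ∀ u ∈ W, u ^ 2 ∈ Φ) (hcomm : ∀ u ∈ W, ∀ v ∈ W, ⁅u, v⁆ ∈ Φ)
    (hd : ∀ U : Subgroup G, U ≤ W → U.relIndex W ≤ 16 → Φ ≤ U)
    (g : G) (hg : W.map (MulAut.conj g).toMonoidHom ≤ T) :
    Φ.map (MulAut.conj g).toMonoidHom = Φ := by
  obtain ⟨φ, hφ⟩ : ∃ φ : G →* G, φ = (MulAut.conj g).toMonoidHom := ⟨_, rfl⟩
  rw [← hφ] at hg ⊢
  have hφinj : Function.Injective φ := by
    rw [hφ]
    exact (MulAut.conj g).injective
  have hfinW : Finite ↥W := Finite.of_injective (Subgroup.inclusion hWT) (Subgroup.inclusion_injective hWT)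
  have hfinW₁ : Finite ↥(W.map φ) := Finite.of_injective (Subgroup.inclusion hg) (Subgroup.inclusion_injective hg)
  -- indices
  have hcardW₁ : Nat.card ↥(W.map φ) = Nat.card ↥W := Subgroup.card_map_of_injective hφinj
  have hWpos : 0 < Nat.card ↥W := Nat.card_pos
  have hidx₁ : (W.map φ).relIndex T ≤ 8 := by
    have h1 := Subgroup.relIndex_mul_relIndex ⊥ W T bot_le hWT
    have h2 := Subgroup.relIndex_mul_relIndex ⊥ (W.map φ) T bot_le hg
    rw [Subgroup.relIndex_bot_left, Subgroup.relIndex_bot_left] at h1 h2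
    rw [hcardW₁, ← h1] at h2
    have := Nat.eq_of_mul_eq_mul_left hWpos h2
    rw [this]
    exact hidx
  have hne₁ : (W.map φ).relIndex T ≠ 0 := Subgroup.index_ne_zero_of_finite
  have hne : W.relIndex T ≠ 0 := Subgroup.index_ne_zero_of_finite
  have hDW : (W ⊓ W.map φ).relIndex W ≤ 8 := by
    rw [Subgroup.inf_relIndex_left]
    exact (Subgroup.relIndex_le_of_le_right hWT hne₁).trans hidx₁
  have hDW₁ : (W ⊓ W.map φ).relIndex (W.map φ) ≤ 8 := by
    rw [Subgroup.inf_relIndex_right]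
    exact (Subgroup.relIndex_le_of_le_right hg hne).trans hidx
  -- `Φ ≤ D` and `Φ₁ ≤ D`
  have hΦD : Φ ≤ W ⊓ W.map φ := hd _ inf_le_left (hDW.trans (by norm_num))
  have hΦ₁D : Φ.map φ ≤ W ⊓ W.map φ := by
    rw [Subgroup.map_le_iff_le_comap]
    apply hd
    · intro x hx
      have : φ x ∈ W.map φ := (Subgroup.mem_inf.mp (Subgroup.mem_comap.mp hx)).2
      obtain ⟨y, hy, hyx⟩ := Subgroup.mem_map.mp this
      rw [← hφinj hyx]
      exact hy
    · rw [Subgroup.relIndex_comap]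
      exact hDW₁.trans (by norm_num)
  -- `Φ ≤ Φ₁`
  have hle : Φ ≤ Φ.map φ := by
    intro z hz
    by_contra hz₁
    have hDT : W ⊓ W.map φ ≤ T := inf_le_left.trans hWT
    have hfinD : Finite ↥(W ⊓ W.map φ) :=
      Finite.of_injective (Subgroup.inclusion hDT) (Subgroup.inclusion_injective hDT)
    have hDp : IsPGroup 2 ↥(W ⊓ W.map φ) := hT.to_le hDT
    obtain ⟨M, hΦ₁M, hMD, hzM, hMidx⟩ := exists_relIndex_two' (W ⊓ W.map φ) (Φ.map φ) hDp hΦ₁D
      (by
        intro u hu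
        obtain ⟨w, hw, rfl⟩ := Subgroup.mem_map.mp (Subgroup.mem_inf.mp hu).2
        rw [← map_pow]
        exact Subgroup.mem_map_of_mem φ (hsq w hw))
      (by
        intro u hu v hv
        obtain ⟨w, hw, rfl⟩ := Subgroup.mem_map.mp (Subgroup.mem_inf.mp hu).2
        obtain ⟨w', hw', rfl⟩ := Subgroup.mem_map.mp (Subgroup.mem_inf.mp hv).2
        rw [← map_commutatorElement]
        exact Subgroup.mem_map_of_mem φ (hcomm w hw w' hw'))
      z (hΦD hz) hz₁
    have hMW : M ≤ W := hMD.trans inf_le_left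
    have hrel : M.relIndex W ≤ 16 := by
      rw [← Subgroup.relIndex_mul_relIndex M (W ⊓ W.map φ) W hMD inf_le_left, hMidx]
      omega
    exact hzM (hd M hMW hrel hz)
  have hfinΦ₁ : Finite ↥(Φ.map φ) := by
    have h : Φ.map φ ≤ T := (hΦ₁D.trans inf_le_left).trans hWT
    exact Finite.of_injective (Subgroup.inclusion h) (Subgroup.inclusion_injective h)
  exact (Subgroup.eq_of_le_of_card_ge hle (Subgroup.card_map_of_injective hφinj).le).symm

end Cfsg.Agent.Lib.H21.RTN
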