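/-
S3175 (architect helper15), piece WCF (helper21): `W = C_T(Z₃)` is weakly closed in `T` with respect to `G`.
-/
import Mathlib
import Cfsg.Prelude.Def_Transfer
import Cfsg.Agent.Lib.H16.RTWDefs
import Cfsg.Agent.Lib.H21.RTNWC

set_option autoImplicit false
set_option linter.unusedSectionVars false
set_option linter.unusedVariables false

namespace Cfsg.Agent.Lib.H21.RTN

open scoped commutatorElement
open Cfsg.Agent.Lib.H16.RTW

/-- **WCF**: `W` is weakly closed in `T` with respect to `G`. -/
theorem isWeaklyClosed_of_ctx {G : Type*} [Group G] (T : Subgroup G) [Finite T] (c : Ctx ↥T) :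
    Cfsg.IsWeaklyClosed (c.W.map T.subtype) T := by
  refine ⟨Subgroup.map_subtype_le _, ?_⟩
  intro g hg
  have hWGT : c.W.map T.subtype ≤ T := Subgroup.map_subtype_le _
  -- the core statement
  have hΦ := map_conj_eq_of_le T (c.W.map T.subtype) ((Subgroup.upperCentralSeries ↥T 3).map T.subtype) c.hT
    hWGT
    (by
      rw [Subgroup.relIndex, Subgroup.subgroupOf, Subgroup.comap_map_eq_self_of_injective T.subtype_injective,
        c.hidx])
    (Subgroup.map_mono c.hZW)
    (by
      rintro u hu
      obtain ⟨w, hw, rfl⟩ := Subgroup.mem_map.mp hu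
      rw [← map_pow]
      exact Subgroup.mem_map_of_mem _ (c.hsq w hw))
    (by
      rintro u hu v hv
      obtain ⟨w, hw, rfl⟩ := Subgroup.mem_map.mp hu
      obtain ⟨w', hw', rfl⟩ := Subgroup.mem_map.mp hv
      rw [← map_commutatorElement]
      exact Subgroup.mem_map_of_mem _ (c.hcomm w hw w' hw'))
    (by
      intro U hUW hUidx
      have hU' : U.comap T.subtype ≤ c.W := by
        intro x hx
        obtain ⟨w, hw, hwx⟩ := Subgroup.mem_map.mp (hUW (Subgroup.mem_comap.mp hx))
        rw [← T.subtype_injective hwx]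
        exact hw
      have hrel : (U.comap T.subtype).relIndex c.W ≤ 16 := by
        rw [Subgroup.relIndex_comap]
        exact hUidx
      have h3 := c.hd (U.comap T.subtype) hU' hrel
      rintro z hz
      obtain ⟨z', hz', rfl⟩ := Subgroup.mem_map.mp hz
      exact Subgroup.mem_comap.mp (h3 hz'))
    g hg
  -- the conjugate of `W` centralizes `Z₃`
  have hle : (c.W.map T.subtype).map (MulAut.conj g).toMonoidHom ≤ c.W.map T.subtype := by
    intro x hx
    have hxT : x ∈ T := hg hx
    obtain ⟨w, hw, rfl⟩ := Subgroup.mem_map.mp hx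
    obtain ⟨w', hw', rfl⟩ := Subgroup.mem_map.mp hw
    refine Subgroup.mem_map.mpr ⟨⟨_, hxT⟩, ?_, rfl⟩
    have hcW := c.hW
    rw [hcW, Subgroup.mem_centralizer_iff]
    intro z hz
    have hz1 : (T.subtype z) ∈ ((Subgroup.upperCentralSeries ↥T 3).map T.subtype).map
        (MulAut.conj g).toMonoidHom := by
      rw [hΦ]
      exact Subgroup.mem_map_of_mem _ hz
    obtain ⟨f, hf, hfz⟩ := Subgroup.mem_map.mp hz1
    obtain ⟨z', hz', rfl⟩ := Subgroup.mem_map.mp hf
    have hcomm : z' * w' = w' * z' := by
      have := hw'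
      rw [hcW, Subgroup.mem_centralizer_iff] at this
      exact this z' hz'
    apply Subtype.ext
    have h1 : (T.subtype z' : G) * (T.subtype w' : G) = (T.subtype w' : G) * (T.subtype z' : G) := by
      rw [← map_mul, ← map_mul, hcomm]
    simp only [MulEquiv.coe_toMonoidHom, MulAut.conj_apply] at hfz ⊢
    show (z : G) * (g * (T.subtype w') * g⁻¹) = (g * (T.subtype w') * g⁻¹) * (z : G)
    have hz2 : (z : G) = g * (T.subtype z') * g⁻¹ := hfz.symm
    rw [hz2]
    calc g * T.subtype z' * g⁻¹ * (g * T.subtype w' * g⁻¹)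
        = g * (T.subtype z' * T.subtype w') * g⁻¹ := by group
      _ = g * (T.subtype w' * T.subtype z') * g⁻¹ := by rw [h1]
      _ = g * T.subtype w' * g⁻¹ * (g * T.subtype z' * g⁻¹) := by group
  have hfin : Finite ↥(c.W.map T.subtype) :=
    Finite.of_injective (Subgroup.inclusion hWGT) (Subgroup.inclusion_injective hWGT)
  exact Subgroup.eq_of_le_of_card_ge hle
    (Subgroup.card_map_of_injective (MulAut.conj g).injective).ge

end Cfsg.Agent.Lib.H21.RTN
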