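import Mathlib
import Cfsg.Prelude.Def_CaseTheorems

set_option autoImplicit false

/-!
# Part E: transfer of rank conditions, generic lemmas
-/

namespace Cfsg.Agent.Lib.H21.SecRank2

universe u

theorem pRankLE_of_mulEquiv {p k : ℕ} {X Y : Type*} [Group X] [Group Y] (e : X ≃* Y)
    (h : Cfsg.PRankLE p k X) : Cfsg.PRankLE p k Y := by
  intro A hA hexp
  have h1 := h (A.comap e.toMonoidHom) ?_ ?_
  · have hc : Nat.card (A.comap e.toMonoidHom) = Nat.card A := by
      refine Nat.card_congr ⟨fun x => ⟨e x.1, x.2⟩, fun y => ⟨e.symm y.1, ?_⟩, ?_, ?_⟩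
      · rw [Subgroup.mem_comap]; simp
      · intro x; apply Subtype.ext; simp
      · intro y; apply Subtype.ext; simp
    rwa [hc] at h1
  · refine ⟨⟨?_⟩⟩
    rintro ⟨a, ha⟩ ⟨b, hb⟩
    apply Subtype.ext
    apply e.injective
    have := hA.is_comm.comm ⟨e a, ha⟩ ⟨e b, hb⟩
    have := congrArg Subtype.val this
    simp only [Subgroup.coe_mul] at this
    simp only [Subgroup.coe_mul, map_mul]
    exact this
  · intro a ha
    apply e.injective
    rw [map_pow, map_one]
    exact hexp (e a) ha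

/-- Sectional rank passes to quotients. -/
theorem sectionalPRankLE_quotient {p k : ℕ} {S : Type*} [Group S]
    (hr : Cfsg.SectionalPRankLE p k S) (N : Subgroup S) [N.Normal] :
    Cfsg.SectionalPRankLE p k (S ⧸ N) := by
  intro Hq Kq hKq
  set φ := (QuotientGroup.mk' N).subgroupComap Hq with hφ
  have hφs : Function.Surjective φ :=
    MonoidHom.subgroupComap_surjective_of_surjective _ _ (QuotientGroup.mk'_surjective N)
  set ψ := (QuotientGroup.mk' Kq).comp φ with hψ
  have hψs : Function.Surjective ψ := (QuotientGroup.mk'_surjective Kq).comp hφs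
  exact pRankLE_of_mulEquiv (QuotientGroup.quotientKerEquivOfSurjective ψ hψs)
    (hr (Hq.comap (QuotientGroup.mk' N)) ψ.ker)

/-- Sectional rank bounds the order of elementary abelian subgroups. -/
theorem card_le_of_sectional {p k : ℕ} {S : Type*} [Group S]
    (hr : Cfsg.SectionalPRankLE p k S) (E : Subgroup S) (hc : ∀ x ∈ E, ∀ y ∈ E, x * y = y * x)
    (hexp : ∀ x ∈ E, x ^ p = 1) : Nat.card E ≤ p ^ k := by
  have h := hr E ⊥ ⊤ ?_ ?_
  · rw [Subgroup.card_top] at h
    have e : Nat.card (↥E ⧸ (⊥ : Subgroup ↥E)) = Nat.card E :=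
      Nat.card_congr (QuotientGroup.quotientBot (G := ↥E)).toEquiv
    rwa [e] at h
  · refine ⟨⟨?_⟩⟩
    rintro ⟨a, _⟩ ⟨b, _⟩
    apply Subtype.ext
    induction a using QuotientGroup.induction_on with
    | H a =>
    induction b using QuotientGroup.induction_on with
    | H b =>
      show ((a : ↥E ⧸ (⊥ : Subgroup ↥E)) * (b : ↥E ⧸ (⊥ : Subgroup ↥E))) = b * a
      rw [← QuotientGroup.mk_mul, ← QuotientGroup.mk_mul]
      congr 1
      exact Subtype.ext (hc a.1 a.2 b.1 b.2)
  · intro a _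
    induction a using QuotientGroup.induction_on with
    | H a =>
      rw [← QuotientGroup.mk_pow]
      have : a ^ p = 1 := Subtype.ext (by simpa using hexp a.1 a.2)
      rw [this]
      rfl

/-- If the commutators of generators lie in a normal subgroup `C`, then all commutators do. -/
theorem comm_mem_of_gens {S : Type*} [Group S] (C : Subgroup S) [hC : C.Normal] (T : Set S)
    (hT : Subgroup.closure T = ⊤) (h : ∀ s ∈ T, ∀ t ∈ T, s * t * s⁻¹ * t⁻¹ ∈ C) :
    ∀ x y : S, x * y * x⁻¹ * y⁻¹ ∈ C := by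
  have hq : ∀ x y : S, ((x : S ⧸ C) * y = y * x) → x * y * x⁻¹ * y⁻¹ ∈ C := by
    intro x y hxy
    rw [← QuotientGroup.eq_one_iff]
    simp only [QuotientGroup.mk_mul, QuotientGroup.mk_inv]
    rw [hxy]; group
  have hq' : ∀ x y : S, x * y * x⁻¹ * y⁻¹ ∈ C → ((x : S ⧸ C) * y = y * x) := by
    intro x y hxy
    rw [← QuotientGroup.eq_one_iff] at hxy
    simp only [QuotientGroup.mk_mul, QuotientGroup.mk_inv] at hxy
    calc (x : S ⧸ C) * y = ((x : S ⧸ C) * y * (x : S ⧸ C)⁻¹ * (y : S ⧸ C)⁻¹) * (y * x) := by group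
      _ = y * x := by rw [hxy, one_mul]
  -- step 1: generators commute with everything mod C
  have key1 : ∀ s ∈ T, ∀ y : S, ((s : S ⧸ C) * y = y * s) := by
    intro s hs y
    have hy : y ∈ Subgroup.closure T := hT ▸ Subgroup.mem_top y
    induction hy using Subgroup.closure_induction with
    | mem t ht => exact hq' s t (h s hs t ht)
    | one => simp
    | mul a b _ _ iha ihb =>
      rw [QuotientGroup.mk_mul, ← mul_assoc, iha, mul_assoc, ihb, mul_assoc]
    | inv a _ iha =>
      rw [QuotientGroup.mk_inv]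
      calc (s : S ⧸ C) * (a : S ⧸ C)⁻¹ = (a : S ⧸ C)⁻¹ * ((a : S ⧸ C) * s) * (a : S ⧸ C)⁻¹ := by group
        _ = (a : S ⧸ C)⁻¹ * ((s : S ⧸ C) * a) * (a : S ⧸ C)⁻¹ := by rw [iha]
        _ = (a : S ⧸ C)⁻¹ * s := by group
  intro x y
  apply hq
  have hx : x ∈ Subgroup.closure T := hT ▸ Subgroup.mem_top x
  induction hx using Subgroup.closure_induction with
  | mem s hs => exact key1 s hs y
  | one => simp
  | mul a b _ _ iha ihb =>
    rw [QuotientGroup.mk_mul, mul_assoc, ihb, ← mul_assoc, iha, mul_assoc]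
  | inv a _ iha =>
    rw [QuotientGroup.mk_inv]
    calc (a : S ⧸ C)⁻¹ * (y : S ⧸ C) = (a : S ⧸ C)⁻¹ * ((y : S ⧸ C) * a) * (a : S ⧸ C)⁻¹ := by group
      _ = (a : S ⧸ C)⁻¹ * ((a : S ⧸ C) * y) * (a : S ⧸ C)⁻¹ := by rw [iha]
      _ = y * (a : S ⧸ C)⁻¹ := by group

end Cfsg.Agent.Lib.H21.SecRank2
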