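import Mathlib
import Cfsg.Agent.Lib.H7.BG14w
import Cfsg.Agent.S1378
import Cfsg.Agent.S1350

/-!
# BG 14.5/14.6 counting (helper21), part A: black boxes and `supportR`

`Hyp1374 G`, `Hyp1375 G` are the frozen statements S1374, S1375 (BG Theorem 14.4) as hypotheses.
-/

set_option autoImplicit false
set_option linter.style.haveILetI false
set_option linter.unusedSectionVars false
set_option linter.unusedVariables false
open Cfsg
open Cfsg.Agent.Lib.H16.BG

namespace Cfsg.Agent.Lib.H21.BGTilde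

universe u
variable {G : Type u} [Group G] [Finite G]

local notation:max "cj(" g ", " X ")" => Subgroup.map (MulEquiv.toMonoidHom (MulAut.conj g)) X

/-- the frozen statement S1374 as a hypothesis. -/
def Hyp1374 (G : Type u) [Group G] : Prop :=
  ∀ (M : Subgroup G) (hM : IsCoatom M) (x : G) (hx : x ∈ Cfsg.sigmaCore M) (hx1 : x ≠ 1),
    (Nat.card ↥(M ⊓ Subgroup.centralizer ({x} : Set G))).Coprime ((M ⊓ Subgroup.centralizer ({x} : Set G)).relIndex (Subgroup.centralizer ({x} : Set G))) ∧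
      ∃ R : Subgroup G, Subgroup.centralizer ({x} : Set G) ≤ Subgroup.normalizer (R : Set G) ∧ Cfsg.IsComplIn (M ⊓ Subgroup.centralizer ({x} : Set G)) R (Subgroup.centralizer ({x} : Set G)) ∧
        ∀ g : G, x ∈ M.map (MulAut.conj g).toMonoidHom → ∃! r : G, r ∈ R ∧ M.map (MulAut.conj r).toMonoidHom = M.map (MulAut.conj g).toMonoidHom

/-- the frozen statement S1375 as a hypothesis. -/
def Hyp1375 (G : Type u) [Group G] : Prop :=
  ∀ (M : Subgroup G) (hM : IsCoatom M) (x : G) (hx : x ∈ Cfsg.sigmaCore M) (hx1 : x ≠ 1) (hxM : ¬ Subgroup.centralizer ({x} : Set G) ≤ M),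
    ∃ N : Subgroup G, (IsCoatom N ∧ Subgroup.centralizer ({x} : Set G) ≤ N) ∧ (∀ L : Subgroup G, IsCoatom L → Subgroup.centralizer ({x} : Set G) ≤ L → L = N) ∧
        Cfsg.sigmaCore N = Cfsg.fittingHallOf N ∧
        Subgroup.centralizer ({x} : Set G) ≤ Subgroup.normalizer ((Cfsg.sigmaCore N ⊓ Subgroup.centralizer ({x} : Set G) : Subgroup G) : Set G) ∧
        Cfsg.IsComplIn (M ⊓ Subgroup.centralizer ({x} : Set G)) (Cfsg.sigmaCore N ⊓ Subgroup.centralizer ({x} : Set G)) (Subgroup.centralizer ({x} : Set G)) ∧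
        Cfsg.IsComplIn (M ⊓ N) (Cfsg.sigmaCore N) N ∧
        ∀ K' U' : Subgroup G, Cfsg.IsSigmaDecomposition N K' U' → U' ≠ ⊥ ∧ x ∈ Cfsg.sigmaA N U' ∧ x ∉ Cfsg.sigmaCore N

/-! ### `supportR` -/

theorem supportR_eq_bot_of_le {M : Subgroup G} {x : G}
    (h : Subgroup.centralizer ({x} : Set G) ≤ M) : supportR M x = ⊥ := by
  unfold supportR
  rw [dif_neg]
  exact fun h' => h'.1 h

theorem supportR_eq_of_uniq {M N : Subgroup G} {x : G}
    (h : ¬ Subgroup.centralizer ({x} : Set G) ≤ M) (hN : IsCoatom N)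
    (hxN : Subgroup.centralizer ({x} : Set G) ≤ N)
    (hu : ∀ L : Subgroup G, IsCoatom L → Subgroup.centralizer ({x} : Set G) ≤ L → L = N) :
    supportR M x = fittingHallOf N ⊓ Subgroup.centralizer ({x} : Set G) := by
  have hex : ∃! L : Subgroup G, IsCoatom L ∧ Subgroup.centralizer ({x} : Set G) ≤ L :=
    ⟨N, ⟨hN, hxN⟩, fun L hL => hu L hL.1 hL.2⟩
  unfold supportR
  rw [dif_pos ⟨h, hex⟩]
  have h1 := Classical.choose_spec hex.exists
  rw [hu _ h1.1 h1.2]

theorem normalizer_coatom (hG : IsMinSimpleOddOrder G) {M : Subgroup G} (hM : IsCoatom M) :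
    Subgroup.normalizer (M : Set G) = M :=
  normalizer_eq_of_coatom hG hM le_rfl (Cfsg.Agent.Lib.H8.BG12.coatom_ne_bot hG hM)
    Subgroup.le_normalizer

end Cfsg.Agent.Lib.H21.BGTilde
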