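import Mathlib
import Cfsg.Agent.Lib.H21.BGTildeA

/-!
# BG 14.5/14.6 counting (helper21), part B: the structure of `supportR M a` for `a ∈ M_σ#`
-/

set_option autoImplicit false
set_option linter.style.haveILetI false
set_option linter.unusedSectionVars false
set_option linter.unusedVariables false
open Cfsg
open Cfsg.Agent.Lib.H16.BG

namespace Cfsg.Agent.Lib.H21.BGTilde

universe u
variable {G : Type u} [Group G] [Finite G]

local notation:max "cj(" g ", " X ")" => Subgroup.map (MulEquiv.toMonoidHom (MulAut.conj g)) X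
local notation:max "Cx(" a ")" => Subgroup.centralizer ({a} : Set G)

/-- the maximal subgroup `N ⊇ C(a)` of S1375 is not conjugate to `M`, so `σ(N) ∩ σ(M) = ∅`. -/
theorem sigma_disjoint (hG : IsMinSimpleOddOrder G) {M N : Subgroup G} (hM : IsCoatom M)
    (hN : IsCoatom N) {a : G} (ha : a ∈ sigmaCore M) (ha1 : a ≠ 1) (haN : a ∈ N)
    (hc : IsComplIn (M ⊓ N) (sigmaCore N) N) {p : ℕ} (hpM : p ∈ sigma M) (hpN : p ∈ sigma N) :
    False := by
  obtain ⟨g, hg⟩ := Cfsg.Agent.Lib.H7.BG14v.sigma_partition' hG hM hN hpM hpN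
  have hσ : sigma N = sigma M := by rw [hg, sigma_cj]
  -- the order of `a` is a `σ(M)`-number
  have hao : orderOf a ∣ Nat.card (sigmaCore M) := by
    have := orderOf_dvd_natCard (⟨a, ha⟩ : sigmaCore M)
    rwa [Subgroup.orderOf_mk] at this
  have hao2 : orderOf a ∣ Nat.card ↥(M ⊓ N) := by
    have haMN : a ∈ M ⊓ N := ⟨Cfsg.Agent.Lib.H20.BGS.sigmaCore_le M ha, haN⟩
    have := orderOf_dvd_natCard (⟨a, haMN⟩ : ↥(M ⊓ N))
    rwa [Subgroup.orderOf_mk] at this
  have hne : orderOf a ≠ 1 := by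
    intro h; exact ha1 (orderOf_eq_one_iff.1 h)
  obtain ⟨q, hq, hqd⟩ := Nat.exists_prime_and_dvd hne
  have hqM : q ∈ sigma M :=
    Cfsg.Agent.Lib.H20.BGS.sigmaCore_isPiCard M q hq (hqd.trans hao)
  have hqN : q ∈ sigma N := hσ ▸ hqM
  have hrel2 : (sigmaCore N).relIndex N = Nat.card ↥(M ⊓ N) :=
    (Cfsg.Agent.Lib.H8.BG12.compl_card_eq_relIndex hc).symm
  have hhall := (sigmaCore_hallOf hG hN).2.2 q hq hqN
  apply hhall
  rw [hrel2]
  exact hqd.trans hao2

/-- the structure of `supportR M a` for `1 ≠ a ∈ M_σ`. -/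
theorem supportR_structure (hG : IsMinSimpleOddOrder G) (h75 : Hyp1375 G) {M : Subgroup G}
    (hM : IsCoatom M) {a : G} (ha : a ∈ sigmaCore M) (ha1 : a ≠ 1) :
    supportR M a ≤ Cx(a) ∧
      Nat.card ↥(M ⊓ Cx(a)) * Nat.card (supportR M a) = Nat.card Cx(a) ∧
      (Nat.card (supportR M a)).Coprime (Nat.card (sigmaCore M)) := by
  by_cases h : Cx(a) ≤ M
  · rw [supportR_eq_bot_of_le h]
    refine ⟨bot_le, ?_, ?_⟩
    · rw [inf_eq_right.2 h, Subgroup.card_bot, mul_one]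
    · rw [Subgroup.card_bot]; exact Nat.coprime_one_left _
  · obtain ⟨N, ⟨hN, haN⟩, hu, hσF, -, hc1, hc2, -⟩ := h75 M hM a ha ha1 h
    rw [supportR_eq_of_uniq h hN haN hu, ← hσF]
    refine ⟨inf_le_right, Cfsg.Agent.Lib.H7.isComplIn_card_mul hc1, ?_⟩
    apply Nat.Coprime.coprime_dvd_left (Subgroup.card_dvd_of_le inf_le_left)
    apply Nat.Coprime.symm
    rw [Nat.coprime_iff_isRelPrime] 
    rw [← Nat.coprime_iff_isRelPrime]
    apply Nat.coprime_of_dvd
    intro p hp hpM hpN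
    have h1 : p ∈ sigma M := Cfsg.Agent.Lib.H20.BGS.sigmaCore_isPiCard M p hp hpM
    have h2 : p ∈ sigma N := Cfsg.Agent.Lib.H20.BGS.sigmaCore_isPiCard N p hp hpN
    have haN' : a ∈ N := haN (Subgroup.mem_centralizer_singleton_iff.2 rfl)
    exact sigma_disjoint hG hM hN ha ha1 haN' hc2 h1 h2


/-- the number of `g` with `a ∈ gMg⁻¹` is `|R(a)| |M|`. -/
theorem card_conj_containing (hG : IsMinSimpleOddOrder G) (h74 : Hyp1374 G) (h75 : Hyp1375 G)
    {M : Subgroup G} (hM : IsCoatom M) {a : G} (ha : a ∈ sigmaCore M) (ha1 : a ≠ 1) :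
    Nat.card {g : G // a ∈ cj(g, M)} = Nat.card (supportR M a) * Nat.card M := by
  obtain ⟨-, R, -, hRc, hreg⟩ := h74 M hM a ha ha1
  obtain ⟨-, hcard, -⟩ := supportR_structure hG h75 hM ha ha1
  have hR : Nat.card R = Nat.card (supportR M a) := by
    have h1 := Cfsg.Agent.Lib.H7.isComplIn_card_mul hRc
    have h2 : Nat.card ↥(M ⊓ Cx(a)) * Nat.card R = Nat.card ↥(M ⊓ Cx(a)) * Nat.card (supportR M a) := by
      rw [h1, hcard]
    exact Nat.eq_of_mul_eq_mul_left Nat.card_pos h2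
  have haM : a ∈ M := Cfsg.Agent.Lib.H20.BGS.sigmaCore_le M ha
  have hNM := normalizer_coatom hG hM
  have hRa : ∀ r ∈ R, a ∈ cj(r, M) := by
    intro r hr
    rw [mem_cj_iff]
    have h1 : r ∈ Cx(a) := hRc.2.1 hr
    rw [Subgroup.mem_centralizer_singleton_iff] at h1
    have : r⁻¹ * a * r = a := by
      rw [mul_assoc, ← h1, ← mul_assoc, inv_mul_cancel, one_mul]
    rw [this]; exact haM
  have hcjm : ∀ (r m : G), m ∈ M → cj(r * m, M) = cj(r, M) := by
    intro r m hm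
    rw [← cj_cj, cj_eq_self_of_mem hm]
  let f : R × M → {g : G // a ∈ cj(g, M)} := fun x =>
    ⟨(x.1 : G) * (x.2 : G), by rw [hcjm _ _ x.2.2]; exact hRa _ x.1.2⟩
  have hf : Function.Bijective f := by
    constructor
    · rintro ⟨⟨r, hr⟩, ⟨m, hm⟩⟩ ⟨⟨r', hr'⟩, ⟨m', hm'⟩⟩ he
      have he' : r * m = r' * m' := congrArg Subtype.val he
      have h1 : cj(r', M) = cj(r, M) := by
        rw [← hcjm r m hm, ← hcjm r' m' hm', he']
      obtain ⟨r₀, -, hu⟩ := hreg r (hRa r hr)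
      have h2 : r = r₀ := hu r ⟨hr, rfl⟩
      have h3 : r' = r₀ := hu r' ⟨hr', h1⟩
      have h4 : r = r' := h2.trans h3.symm
      subst h4
      have h5 : m = m' := mul_left_cancel he'
      subst h5
      rfl
    · rintro ⟨g, hg⟩
      obtain ⟨r, ⟨hr, hrg⟩, -⟩ := hreg g hg
      have h1 : cj(r⁻¹ * g, M) = M := by
        rw [← cj_cj, ← hrg, cj_inv_cj]
      have h2 : r⁻¹ * g ∈ M := by
        have : r⁻¹ * g ∈ Subgroup.normalizer (M : Set G) :=
          Subgroup.mem_normalizer_iff_map_conj_eq.2 h1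
        rwa [hNM] at this
      refine ⟨(⟨r, hr⟩, ⟨r⁻¹ * g, h2⟩), Subtype.ext ?_⟩
      show r * (r⁻¹ * g) = g
      rw [← mul_assoc, mul_inv_cancel, one_mul]
  rw [← hR, ← Nat.card_prod]
  exact (Nat.card_congr (Equiv.ofBijective f hf)).symm

end Cfsg.Agent.Lib.H21.BGTilde
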