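import Mathlib
import Cfsg.Agent.Lib.H21.BGTildeB

/-!
# BG 14.5/14.6 counting (helper21), part C: `supportR` is compatible with fusion in `M_σ`
-/

set_option autoImplicit false
set_option linter.style.haveILetI false
set_option linter.unusedSectionVars false
set_option linter.unusedVariables false
open Cfsg
open Cfsg.Agent.Lib.H16.BG

namespace Cfsg.Agent.Lib.H21.BGTilde

universe u
variable {G : Type u} [Group G] [Finite G]

local notation:max "cj(" g ", " X ")" => Subgroup.map (MulEquiv.toMonoidHom (MulAut.conj g)) X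
local notation:max "Cx(" a ")" => Subgroup.centralizer ({a} : Set G)

theorem centralizer_singleton_conj (z a : G) : Cx(z * a * z⁻¹) = cj(z, Cx(a)) := by
  ext x
  rw [mem_cj_iff, Subgroup.mem_centralizer_singleton_iff, Subgroup.mem_centralizer_singleton_iff]
  constructor
  · intro h
    have : z⁻¹ * (x * (z * a * z⁻¹)) * z = z⁻¹ * ((z * a * z⁻¹) * x) * z := by rw [h]
    calc z⁻¹ * x * z * a = z⁻¹ * (x * (z * a * z⁻¹)) * z := by group
      _ = z⁻¹ * ((z * a * z⁻¹) * x) * z := this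
      _ = a * (z⁻¹ * x * z) := by group
  · intro h
    calc x * (z * a * z⁻¹) = z * ((z⁻¹ * x * z) * a) * z⁻¹ := by group
      _ = z * (a * (z⁻¹ * x * z)) * z⁻¹ := by rw [h]
      _ = z * a * z⁻¹ * x := by group

/-- a regular set of representatives: every `g` with `a ∈ gMg⁻¹` is `r m` with `r ∈ R`, `m ∈ M`,
where `|R| = |supportR M a|`. -/
theorem exists_regular (hG : IsMinSimpleOddOrder G) (h74 : Hyp1374 G) (h75 : Hyp1375 G)
    {M : Subgroup G} (hM : IsCoatom M) {a : G} (ha : a ∈ sigmaCore M) (ha1 : a ≠ 1) :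
    ∃ R : Subgroup G, R ≤ Cx(a) ∧ Nat.card R = Nat.card (supportR M a) ∧
      ∀ g : G, a ∈ cj(g, M) → ∃ r ∈ R, ∃ m ∈ M, g = r * m := by
  obtain ⟨-, R, -, hRc, hreg⟩ := h74 M hM a ha ha1
  obtain ⟨-, hcard, -⟩ := supportR_structure hG h75 hM ha ha1
  have hR : Nat.card R = Nat.card (supportR M a) := by
    have h1 := Cfsg.Agent.Lib.H7.isComplIn_card_mul hRc
    have h2 : Nat.card ↥(M ⊓ Cx(a)) * Nat.card R = Nat.card ↥(M ⊓ Cx(a)) * Nat.card (supportR M a) := by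
      rw [h1, hcard]
    exact Nat.eq_of_mul_eq_mul_left Nat.card_pos h2
  have hNM := normalizer_coatom hG hM
  refine ⟨R, hRc.2.1, hR, ?_⟩
  intro g hg
  obtain ⟨r, ⟨hr, hrg⟩, -⟩ := hreg g hg
  have h1 : cj(r⁻¹ * g, M) = M := by
    rw [← cj_cj, ← hrg, cj_inv_cj]
  have h2 : r⁻¹ * g ∈ M := by
    have : r⁻¹ * g ∈ Subgroup.normalizer (M : Set G) :=
      Subgroup.mem_normalizer_iff_map_conj_eq.2 h1
    rwa [hNM] at this
  exact ⟨r, hr, r⁻¹ * g, h2, by rw [← mul_assoc, mul_inv_cancel, one_mul]⟩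

/-- if `C(a) ≤ M` then every `z` with `z a z⁻¹ ∈ M` lies in `M`. -/
theorem mem_of_conj_mem_of_centralizer_le (hG : IsMinSimpleOddOrder G) (h74 : Hyp1374 G)
    (h75 : Hyp1375 G) {M : Subgroup G} (hM : IsCoatom M) {a : G} (ha : a ∈ sigmaCore M)
    (ha1 : a ≠ 1) (hC : Cx(a) ≤ M) {z : G} (hz : z * a * z⁻¹ ∈ M) : z ∈ M := by
  obtain ⟨R, hRa, hRcard, hreg⟩ := exists_regular hG h74 h75 hM ha ha1
  rw [supportR_eq_bot_of_le hC, Subgroup.card_bot] at hRcard
  have hRbot : R = ⊥ := Subgroup.card_eq_one.1 hRcard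
  have h1 : a ∈ cj(z⁻¹, M) := by
    rw [mem_cj_iff, inv_inv]; exact hz
  obtain ⟨r, hr, m, hm, he⟩ := hreg z⁻¹ h1
  rw [hRbot, Subgroup.mem_bot] at hr
  rw [hr, one_mul] at he
  have : z⁻¹ ∈ M := he ▸ hm
  exact (Subgroup.inv_mem_iff M).1 this

/-- **well-definedness**: `supportR M` is compatible with `G`-fusion inside `M_σ`. -/
theorem supportR_conj (hG : IsMinSimpleOddOrder G) (h74 : Hyp1374 G) (h75 : Hyp1375 G)
    {M : Subgroup G} (hM : IsCoatom M) {a b : G} (ha : a ∈ sigmaCore M) (ha1 : a ≠ 1)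
    (hb : b ∈ sigmaCore M) {z : G} (hz : z * a * z⁻¹ = b) :
    cj(z, supportR M a) = supportR M b := by
  have hb1 : b ≠ 1 := by
    intro h
    apply ha1
    rw [h] at hz
    have : a = z⁻¹ * (z * a * z⁻¹) * z := by group
    rw [this, hz]; group
  have hbM : b ∈ M := Cfsg.Agent.Lib.H20.BGS.sigmaCore_le M hb
  have haM : a ∈ M := Cfsg.Agent.Lib.H20.BGS.sigmaCore_le M ha
  have hz' : z⁻¹ * b * z⁻¹⁻¹ = a := by rw [← hz]; group
  have hCb : Cx(b) = cj(z, Cx(a)) := by rw [← hz, centralizer_singleton_conj]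
  have hCa : Cx(a) = cj(z⁻¹, Cx(b)) := by rw [hCb, cj_inv_cj]
  by_cases hC : Cx(a) ≤ M
  · have hzM : z ∈ M :=
      mem_of_conj_mem_of_centralizer_le hG h74 h75 hM ha ha1 hC (by rw [hz]; exact hbM)
    have hCbM : Cx(b) ≤ M := by
      rw [hCb, ← cj_eq_self_of_mem hzM]
      conv_rhs => rw [cj_eq_self_of_mem hzM]
      exact (cj_mono z hC).trans (le_of_eq (cj_eq_self_of_mem hzM))
    rw [supportR_eq_bot_of_le hC, supportR_eq_bot_of_le hCbM, cj_bot]
  · have hCb' : ¬ Cx(b) ≤ M := by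
      intro hCbM
      have hzM : z⁻¹ ∈ M :=
        mem_of_conj_mem_of_centralizer_le hG h74 h75 hM hb hb1 hCbM (by rw [hz']; exact haM)
      apply hC
      rw [hCa]
      exact (cj_mono z⁻¹ hCbM).trans (le_of_eq (cj_eq_self_of_mem hzM))
    obtain ⟨Na, ⟨hNa, haNa⟩, hua, hσFa, -, -, -, -⟩ := h75 M hM a ha ha1 hC
    obtain ⟨Nb, ⟨hNb, hbNb⟩, hub, hσFb, -, -, -, -⟩ := h75 M hM b hb hb1 hCb'
    have hNab : cj(z, Na) = Nb :=
      hub _ (Cfsg.Agent.Lib.H16.BG.isCoatom_map_conj hNa z) (by rw [hCb]; exact cj_mono z haNa)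
    rw [supportR_eq_of_uniq hC hNa haNa hua, supportR_eq_of_uniq hCb' hNb hbNb hub,
      ← hσFa, ← hσFb, ← hNab, sigmaCore_cj hG hNa, hCb, cj_inf]

end Cfsg.Agent.Lib.H21.BGTilde
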