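import Mathlib
import Cfsg.Agent.Lib.H21.BGTildeC

/-!
# BG 14.5/14.6 counting (helper21), part D: the count `|M̃| = (|M_σ| - 1) |G : M|`
-/

set_option autoImplicit false
set_option linter.style.haveILetI false
set_option linter.unusedSectionVars false
set_option linter.unusedVariables false
open Cfsg
open Cfsg.Agent.Lib.H16.BG

namespace Cfsg.Agent.Lib.H21.BGTilde

universe u

section pure
variable {G : Type u} [Group G]

/-- commuting factorisations with coprime orders are unique. -/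
theorem eq_of_mul_eq_of_coprime {a a' r r' : G} {s : ℕ} (hs : 0 < s) (ha : a ^ s = 1)
    (ha' : a' ^ s = 1) (hr : Commute a r) (hr' : Commute a' r')
    (hrs : (orderOf r).Coprime s) (hrs' : (orderOf r').Coprime s) (h : a * r = a' * r') :
    a = a' ∧ r = r' := by
  have key : a = a' := by
    rcases Nat.lt_or_ge 1 s with h1 | h1
    · set m := orderOf r * orderOf r' with hm
      have hms : m.Coprime s := Nat.Coprime.mul_left hrs hrs'
      have e1 : (a * r) ^ m = a ^ m := by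
        rw [hr.mul_pow, hm, pow_mul r, pow_orderOf_eq_one, one_pow, mul_one]
      have e2 : (a' * r') ^ m = a' ^ m := by
        rw [hr'.mul_pow, hm, mul_comm (orderOf r), pow_mul r', pow_orderOf_eq_one, one_pow, mul_one]
      have e3 : a ^ m = a' ^ m := by rw [← e1, ← e2, h]
      obtain ⟨k, -, hk⟩ := Nat.exists_mul_mod_eq_one_of_coprime hms h1
      calc a = a ^ (m * k % s) := by rw [hk, pow_one]
        _ = a ^ (m * k) := (pow_eq_pow_mod (m * k) ha).symm
        _ = a' ^ (m * k) := by rw [pow_mul, e3, ← pow_mul]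
        _ = a' ^ (m * k % s) := pow_eq_pow_mod (m * k) ha'
        _ = a' := by rw [hk, pow_one]
    · have hs1 : s = 1 := le_antisymm h1 hs
      rw [hs1, pow_one] at ha ha'
      rw [ha, ha']
  refine ⟨key, ?_⟩
  rw [key] at h
  exact mul_left_cancel h

end pure

variable {G : Type u} [Group G] [Finite G]

local notation:max "cj(" g ", " X ")" => Subgroup.map (MulEquiv.toMonoidHom (MulAut.conj g)) X
local notation:max "Cx(" a ")" => Subgroup.centralizer ({a} : Set G)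

/-- `X`: the non-identity elements of the conjugates of `M_σ`. -/
def XSet (M : Subgroup G) : Set G :=
  {a' | ∃ y : G, ∃ a ∈ sigmaCore M, a ≠ 1 ∧ a' = y * a * y⁻¹}

open Classical in
/-- `ρ(a')`: the conjugate of `R(a)` attached to `a' = y a y⁻¹`. -/
noncomputable def rho (M : Subgroup G) (a' : G) : Subgroup G :=
  if h : a' ∈ XSet M then cj(h.choose, supportR M h.choose_spec.choose) else ⊥

theorem rho_eq (hG : IsMinSimpleOddOrder G) (h74 : Hyp1374 G) (h75 : Hyp1375 G)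
    {M : Subgroup G} (hM : IsCoatom M) {a' y a : G} (ha : a ∈ sigmaCore M) (ha1 : a ≠ 1)
    (he : a' = y * a * y⁻¹) : rho M a' = cj(y, supportR M a) := by
  have hX : a' ∈ XSet M := ⟨y, a, ha, ha1, he⟩
  unfold rho
  rw [dif_pos hX]
  obtain ⟨ha₀, ha₀1, he₀⟩ := hX.choose_spec.choose_spec
  set y₀ := hX.choose
  set a₀ := hX.choose_spec.choose
  have hz : (y⁻¹ * y₀) * a₀ * (y⁻¹ * y₀)⁻¹ = a := by
    have : y₀ * a₀ * y₀⁻¹ = y * a * y⁻¹ := he₀.symm.trans he
    calc (y⁻¹ * y₀) * a₀ * (y⁻¹ * y₀)⁻¹ = y⁻¹ * (y₀ * a₀ * y₀⁻¹) * y := by group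
      _ = y⁻¹ * (y * a * y⁻¹) * y := by rw [this]
      _ = a := by group
  have h1 := supportR_conj hG h74 h75 hM ha₀ ha₀1 ha hz
  rw [← h1, cj_cj, ← mul_assoc, mul_inv_cancel, one_mul]

theorem rho_le_centralizer (hG : IsMinSimpleOddOrder G) (h74 : Hyp1374 G) (h75 : Hyp1375 G)
    {M : Subgroup G} (hM : IsCoatom M) {a' y a : G} (ha : a ∈ sigmaCore M) (ha1 : a ≠ 1)
    (he : a' = y * a * y⁻¹) : rho M a' ≤ Cx(a') := by
  rw [rho_eq hG h74 h75 hM ha ha1 he, he, centralizer_singleton_conj]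
  exact cj_mono y (supportR_structure hG h75 hM ha ha1).1

theorem card_rho (hG : IsMinSimpleOddOrder G) (h74 : Hyp1374 G) (h75 : Hyp1375 G)
    {M : Subgroup G} (hM : IsCoatom M) {a' y a : G} (ha : a ∈ sigmaCore M) (ha1 : a ≠ 1)
    (he : a' = y * a * y⁻¹) : Nat.card (rho M a') = Nat.card (supportR M a) := by
  rw [rho_eq hG h74 h75 hM ha ha1 he, card_cj]

/-- a `σ(M)`-element of `M` lies in `M_σ`. -/
theorem mem_sigmaCore_of_pow (hG : IsMinSimpleOddOrder G) {M : Subgroup G} (hM : IsCoatom M)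
    {x : G} (hxM : x ∈ M) (hx : x ^ Nat.card (sigmaCore M) = 1) : x ∈ sigmaCore M := by
  have h1 : Subgroup.zpowers x ≤ sigmaCore M := by
    apply le_sigmaCore_of hG hM (Subgroup.zpowers_le.2 hxM)
    intro q hq hqd
    rw [Nat.card_zpowers] at hqd
    exact Cfsg.Agent.Lib.H20.BGS.sigmaCore_isPiCard M q hq (hqd.trans (orderOf_dvd_of_pow_eq_one hx))
  exact h1 (Subgroup.mem_zpowers x)

theorem pow_card_sigmaCore_conj {M : Subgroup G} {a : G} (ha : a ∈ sigmaCore M) (y : G) :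
    (y * a * y⁻¹) ^ Nat.card (sigmaCore M) = 1 := by
  have h1 : a ^ Nat.card (sigmaCore M) = 1 := by
    have := pow_card_eq_one' (G := sigmaCore M) (x := ⟨a, ha⟩)
    exact congrArg Subtype.val this
  rw [conj_pow, h1, mul_one, mul_inv_cancel]

/-- the number of `y` with `y⁻¹ a' y ∈ M_σ` is `|ρ(a')| |M|`. -/
theorem card_fiber (hG : IsMinSimpleOddOrder G) (h74 : Hyp1374 G) (h75 : Hyp1375 G)
    {M : Subgroup G} (hM : IsCoatom M) {a' : G} (hX : a' ∈ XSet M) :
    Nat.card {y : G // y⁻¹ * a' * y ∈ sigmaCore M} = Nat.card (rho M a') * Nat.card M := by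
  obtain ⟨y₀, a₀, ha₀, ha₀1, he⟩ := hX
  rw [card_rho hG h74 h75 hM ha₀ ha₀1 he, ← card_conj_containing hG h74 h75 hM ha₀ ha₀1]
  have hiff : ∀ y : G, y⁻¹ * a' * y ∈ sigmaCore M ↔ a₀ ∈ cj(y₀⁻¹ * y, M) := by
    intro y
    rw [mem_cj_iff]
    have e : (y₀⁻¹ * y)⁻¹ * a₀ * (y₀⁻¹ * y) = y⁻¹ * a' * y := by rw [he]; group
    rw [e]
    constructor
    · intro h; exact Cfsg.Agent.Lib.H20.BGS.sigmaCore_le M h
    · intro h
      apply mem_sigmaCore_of_pow hG hM h
      have := pow_card_sigmaCore_conj ha₀ (y⁻¹ * y₀) (M := M)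
      have e2 : y⁻¹ * y₀ * a₀ * (y⁻¹ * y₀)⁻¹ = y⁻¹ * a' * y := by rw [he]; group
      rwa [e2] at this
  let f : {y : G // y⁻¹ * a' * y ∈ sigmaCore M} → {g : G // a₀ ∈ cj(g, M)} :=
    fun y => ⟨y₀⁻¹ * y.1, (hiff y.1).1 y.2⟩
  have hf : Function.Bijective f := by
    constructor
    · rintro ⟨y, hy⟩ ⟨y', hy'⟩ h
      have : y₀⁻¹ * y = y₀⁻¹ * y' := congrArg Subtype.val h
      exact Subtype.ext (mul_left_cancel this)
    · rintro ⟨g, hg⟩
      refine ⟨⟨y₀ * g, (hiff _).2 (by rwa [← mul_assoc, inv_mul_cancel, one_mul])⟩, Subtype.ext ?_⟩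
      show y₀⁻¹ * (y₀ * g) = g
      rw [← mul_assoc, inv_mul_cancel, one_mul]
  exact Nat.card_congr (Equiv.ofBijective f hf)

end Cfsg.Agent.Lib.H21.BGTilde
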