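import Mathlib
import Cfsg.Agent.Lib.H21.BGTildeD

/-!
# BG 14.5/14.6 counting (helper21), part E: assembly
-/

set_option autoImplicit false
set_option linter.style.haveILetI false
set_option linter.unusedSectionVars false
set_option linter.unusedVariables false
open Cfsg
open Cfsg.Agent.Lib.H16.BG

namespace Cfsg.Agent.Lib.H21.BGTilde

universe u
variable {G : Type u} [Group G] [Finite G]

local notation:max "cj(" g ", " X ")" => Subgroup.map (MulEquiv.toMonoidHom (MulAut.conj g)) X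
local notation:max "Cx(" a ")" => Subgroup.centralizer ({a} : Set G)

/-- `M̃ = {a' r' : a' ∈ X, r' ∈ ρ(a')}`. -/
theorem tildeOf_eq (hG : IsMinSimpleOddOrder G) (h74 : Hyp1374 G) (h75 : Hyp1375 G)
    {M : Subgroup G} (hM : IsCoatom M) :
    tildeOf M ((sigmaCore M : Set G) \ {1}) =
      {t | ∃ a' ∈ XSet M, ∃ r' ∈ rho M a', t = a' * r'} := by
  ext t
  constructor
  · rintro ⟨a, ⟨ha, ha1⟩, r, hr, y, rfl⟩
    have ha1' : a ≠ 1 := ha1
    refine ⟨y * a * y⁻¹, ⟨y, a, ha, ha1', rfl⟩, y * r * y⁻¹, ?_, by group⟩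
    rw [rho_eq hG h74 h75 hM ha ha1' rfl]
    exact conj_mem_cj hr
  · rintro ⟨a', ⟨y, a, ha, ha1, he⟩, r', hr', rfl⟩
    rw [rho_eq hG h74 h75 hM ha ha1 he, mem_cj_iff] at hr'
    refine ⟨a, ⟨ha, ha1⟩, y⁻¹ * r' * y, hr', y, ?_⟩
    rw [he]; group

theorem mul_injective (hG : IsMinSimpleOddOrder G) (h74 : Hyp1374 G) (h75 : Hyp1375 G)
    {M : Subgroup G} (hM : IsCoatom M) {a₁ a₂ r₁ r₂ : G} (h1 : a₁ ∈ XSet M) (h2 : a₂ ∈ XSet M)
    (hr1 : r₁ ∈ rho M a₁) (hr2 : r₂ ∈ rho M a₂) (he : a₁ * r₁ = a₂ * r₂) :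
    a₁ = a₂ ∧ r₁ = r₂ := by
  obtain ⟨y₁, b₁, hb₁, hb₁1, he₁⟩ := h1
  obtain ⟨y₂, b₂, hb₂, hb₂1, he₂⟩ := h2
  have hs : 0 < Nat.card (sigmaCore M) := Nat.card_pos
  have hp1 : a₁ ^ Nat.card (sigmaCore M) = 1 := by rw [he₁]; exact pow_card_sigmaCore_conj hb₁ y₁
  have hp2 : a₂ ^ Nat.card (sigmaCore M) = 1 := by rw [he₂]; exact pow_card_sigmaCore_conj hb₂ y₂
  have hc1 : Commute a₁ r₁ := by
    have := rho_le_centralizer hG h74 h75 hM hb₁ hb₁1 he₁ hr1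
    rw [Subgroup.mem_centralizer_singleton_iff] at this
    exact this.symm
  have hc2 : Commute a₂ r₂ := by
    have := rho_le_centralizer hG h74 h75 hM hb₂ hb₂1 he₂ hr2
    rw [Subgroup.mem_centralizer_singleton_iff] at this
    exact this.symm
  have ho : ∀ {a' y b r : G} (hb : b ∈ sigmaCore M) (hb1 : b ≠ 1) (he : a' = y * b * y⁻¹),
      r ∈ rho M a' → (orderOf r).Coprime (Nat.card (sigmaCore M)) := by
    intro a' y b r hb hb1 he hr
    have h3 : orderOf r ∣ Nat.card (rho M a') := by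
      have := orderOf_dvd_natCard (⟨r, hr⟩ : rho M a')
      rwa [Subgroup.orderOf_mk] at this
    rw [card_rho hG h74 h75 hM hb hb1 he] at h3
    exact Nat.Coprime.coprime_dvd_left h3 (supportR_structure hG h75 hM hb hb1).2.2
  exact eq_of_mul_eq_of_coprime hs hp1 hp2 hc1 hc2 (ho hb₁ hb₁1 he₁ hr1) (ho hb₂ hb₂1 he₂ hr2) he

/-- `|M̃| = Σ_{a' ∈ X} |ρ(a')|`. -/
theorem card_tilde_eq_sum (hG : IsMinSimpleOddOrder G) (h74 : Hyp1374 G) (h75 : Hyp1375 G)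
    {M : Subgroup G} (hM : IsCoatom M) :
    Nat.card (tildeOf M ((sigmaCore M : Set G) \ {1})) =
      Nat.card (Σ a' : XSet M, rho M a'.1) := by
  rw [tildeOf_eq hG h74 h75 hM]
  symm
  let f : (Σ a' : XSet M, rho M a'.1) → {t | ∃ a' ∈ XSet M, ∃ r' ∈ rho M a', t = a' * r'} :=
    fun p => ⟨p.1.1 * p.2.1, p.1.1, p.1.2, p.2.1, p.2.2, rfl⟩
  have hf : Function.Bijective f := by
    constructor
    · rintro ⟨⟨a₁, h1⟩, ⟨r₁, hr1⟩⟩ ⟨⟨a₂, h2⟩, ⟨r₂, hr2⟩⟩ h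
      have he : a₁ * r₁ = a₂ * r₂ := congrArg Subtype.val h
      obtain ⟨e1, e2⟩ := mul_injective hG h74 h75 hM h1 h2 hr1 hr2 he
      subst e1; subst e2; rfl
    · rintro ⟨t, a', ha', r', hr', rfl⟩
      exact ⟨⟨⟨a', ha'⟩, ⟨r', hr'⟩⟩, rfl⟩
  exact Nat.card_congr (Equiv.ofBijective f hf)

/-- `|G| (|M_σ| - 1) = Σ_{a' ∈ X} #{y : y⁻¹ a' y ∈ M_σ}`. -/
theorem card_pairs_eq_sum (M : Subgroup G) :
    Nat.card (G × ↥((sigmaCore M : Set G) \ {1})) =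
      Nat.card (Σ a' : XSet M, {y : G // y⁻¹ * a'.1 * y ∈ sigmaCore M}) := by
  symm
  let f : (Σ a' : XSet M, {y : G // y⁻¹ * a'.1 * y ∈ sigmaCore M}) →
      G × ↥((sigmaCore M : Set G) \ {1}) :=
    fun p => (p.2.1, ⟨p.2.1⁻¹ * p.1.1 * p.2.1, p.2.2, by
      obtain ⟨y, a, ha, ha1, he⟩ := p.1.2
      intro h
      rw [Set.mem_singleton_iff] at h
      apply ha1
      have e : a = y⁻¹ * p.1.1 * y := by rw [he]; group
      have e2 : p.1.1 = p.2.1 * (p.2.1⁻¹ * p.1.1 * p.2.1) * p.2.1⁻¹ := by group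
      rw [e, e2, h]; group⟩)
  have hf : Function.Bijective f := by
    constructor
    · rintro ⟨⟨a₁, h1⟩, ⟨y₁, hy1⟩⟩ ⟨⟨a₂, h2⟩, ⟨y₂, hy2⟩⟩ h
      have e1 : y₁ = y₂ := congrArg Prod.fst h
      have e2 : y₁⁻¹ * a₁ * y₁ = y₂⁻¹ * a₂ * y₂ := congrArg (fun q => (q.2 : G)) h
      subst e1
      have e3 : a₁ = a₂ := by
        have : a₁ = y₁ * (y₁⁻¹ * a₁ * y₁) * y₁⁻¹ := by group
        rw [this, e2]; group
      subst e3
      rfl
    · rintro ⟨y, ⟨a, ha, ha1⟩⟩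
      have ha1' : a ≠ 1 := ha1
      refine ⟨⟨⟨y * a * y⁻¹, y, a, ha, ha1', rfl⟩, ⟨y, ?_⟩⟩, ?_⟩
      · have : y⁻¹ * (y * a * y⁻¹) * y = a := by group
        rw [this]; exact ha
      · refine Prod.ext rfl (Subtype.ext ?_)
        show y⁻¹ * (y * a * y⁻¹) * y = a
        group
  exact Nat.card_congr (Equiv.ofBijective f hf)

/-- **BG 14.5/14.6 (S1377) from S1374 and S1375**. -/
theorem card_tilde (hG : IsMinSimpleOddOrder G) (h74 : Hyp1374 G) (h75 : Hyp1375 G)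
    {M : Subgroup G} (hM : IsCoatom M) :
    Set.ncard (tildeOf M ((sigmaCore M : Set G) \ {1})) =
      (Nat.card (sigmaCore M) - 1) * M.index := by
  classical
  haveI : Fintype (XSet M) := Fintype.ofFinite _
  have h1 := card_tilde_eq_sum hG h74 h75 hM
  have h2 := card_pairs_eq_sum M
  rw [Nat.card_sigma] at h1 h2
  have h3 : ∀ a' : XSet M, Nat.card {y : G // y⁻¹ * a'.1 * y ∈ sigmaCore M} =
      Nat.card (rho M a'.1) * Nat.card M := fun a' => card_fiber hG h74 h75 hM a'.2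
  simp_rw [h3] at h2
  rw [← Finset.sum_mul, ← h1, Nat.card_prod] at h2
  have h4 : Nat.card ↥((sigmaCore M : Set G) \ {1}) = Nat.card (sigmaCore M) - 1 := by
    rw [Nat.card_coe_set_eq, Set.ncard_diff_singleton_of_mem (Subgroup.one_mem _)]
    rw [← Nat.card_coe_set_eq]
    rfl
  rw [h4, ← Subgroup.index_mul_card M] at h2
  rw [← Nat.card_coe_set_eq]
  have h5 : Nat.card ↥(tildeOf M ((sigmaCore M : Set G) \ {1})) * Nat.card M =
      (Nat.card (sigmaCore M) - 1) * M.index * Nat.card M := by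
    rw [← h2]; ring
  exact Nat.eq_of_mul_eq_mul_right Nat.card_pos h5

end Cfsg.Agent.Lib.H21.BGTilde
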