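import Mathlib
import Cfsg.Agent.S1429
import Cfsg.Agent.S1430
import Cfsg.Agent.S1446
import Cfsg.Agent.Lib.H7.BG14x
import Cfsg.Agent.Lib.H7.BG147a
import Cfsg.Agent.Lib.H20.BGZ1
import Cfsg.Agent.Lib.H16.BGb
import Cfsg.Agent.Lib.H16.SylCommA

/-!
# Maximal subgroups of type `P₂` (`K ≠ 1`, `U ≠ 1`): the Frobenius order formula (helper21)

`M = K U M_σ` with `K ≠ 1 ≠ U`.  Then `M_σ` is nilpotent (S1429), and for `A = Ω₁` of the
(`K`-invariant) Sylow `p`-subgroup of `U` the group `A K` is a Frobenius group acting on `M_σ`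
with `C_{M_σ}(A) = 1` and `K` acting "primely"; S1446 gives `|K|` prime and
`|W| = |C_W(K)| ^ |K|` for every nontrivial subgroup `W ≤ M_σ` normalized by `M`.
-/

set_option autoImplicit false
set_option linter.style.haveILetI false
set_option linter.unusedSectionVars false
set_option linter.unusedVariables false
open Cfsg
open Cfsg.Agent.Lib.H16.BG
open Cfsg.Agent.Lib.H7.BG7
open Cfsg.Agent.Lib.H19 (IsPiCard)

namespace Cfsg.Agent.Lib.H21.BGP2

universe u
variable {G : Type u} [Group G] [Finite G] {M K U : Subgroup G}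

/-- conjugation-invariant generating sets generate normalized subgroups. -/
theorem le_normalizer_closure {H : Subgroup G} {S : Set G}
    (h : ∀ k ∈ H, ∀ x ∈ S, k * x * k⁻¹ ∈ S) : H ≤ Subgroup.normalizer (Subgroup.closure S : Set G) := by
  apply Cfsg.Agent.Lib.H16.SylComm.le_normalizer_of_conj_mem
  intro k hk x hx
  induction hx using Subgroup.closure_induction with
  | mem y hy => exact Subgroup.subset_closure (h k hk y hy)
  | one => simp
  | mul a b _ _ ha hb =>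
    have : k * (a * b) * k⁻¹ = (k * a * k⁻¹) * (k * b * k⁻¹) := by group
    rw [this]; exact Subgroup.mul_mem _ ha hb
  | inv a _ ha =>
    have : k * a⁻¹ * k⁻¹ = (k * a * k⁻¹)⁻¹ := by group
    rw [this]; exact Subgroup.inv_mem _ ha

/-- `U` is nilpotent (Thompson), for `K ≠ 1`. -/
theorem isNilpotent_U (hG : IsMinSimpleOddOrder G) (hM : IsCoatom M)
    (hKU : IsSigmaDecomposition M K U) (hK1 : K ≠ ⊥) : Group.IsNilpotent ↥U := by
  obtain ⟨r, hr, X, hXK, hXc⟩ := Cfsg.Agent.Lib.H7.BG14u.exists_le_card_prime hK1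
  obtain ⟨x, hxX, hx1, hxr⟩ : ∃ x ∈ X, x ≠ 1 ∧ x ^ r = 1 := by
    haveI : Fact r.Prime := ⟨hr⟩
    have hd : r ∣ Nat.card ↥X := by rw [hXc]
    obtain ⟨x, hx⟩ := exists_prime_orderOf_dvd_card' r hd
    refine ⟨x, x.2, ?_, ?_⟩
    · intro h
      have h1 : x = 1 := Subtype.ext h
      rw [h1, orderOf_one] at hx
      exact hr.one_lt.ne hx
    · have := pow_orderOf_eq_one x
      rw [hx] at this
      exact congrArg Subtype.val this
  have hxK : x ∈ K := hXK hxX
  apply Cfsg.Agent.Lib.H7.FrobNil.isNilpotent_of_fpf hr (hKU.normal hxK) hxr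
  intro u hu hxu
  have : u ∈ U ⊓ Subgroup.centralizer ({x} : Set G) := by
    refine Subgroup.mem_inf.2 ⟨hu, ?_⟩
    rw [Subgroup.mem_centralizer_iff]
    intro z hz
    rw [Set.mem_singleton_iff] at hz
    rw [hz]; exact hxu
  rw [Cfsg.Agent.Lib.H7.BG14u.inf_centralizer_singleton_eq_bot hG hM hKU hxK hx1] at this
  exact Subgroup.mem_bot.1 this

/-- `U` is a Hall subgroup of `M` for the primes outside `κ(M) ∪ σ(M)`. -/
theorem isPiHallOf_U (hG : IsMinSimpleOddOrder G) (hM : IsCoatom M)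
    (hKU : IsSigmaDecomposition M K U) :
    IsPiHallOf {q | q.Prime ∧ q ∉ kappa M ∧ q ∉ sigma M} U M := by
  have hK := hKU.hall
  refine ⟨hKU.compl.1, ?_, ?_⟩
  · intro q hq hd
    have := Cfsg.Agent.Lib.H7.BG14.not_mem_sigma_kappa_of_isSigmaDecomposition hG hM hKU hq hd
    exact ⟨hq, this.2, this.1⟩
  · intro q hq hqπ hd
    have h1 := Cfsg.Agent.Lib.H7.isComplIn_card_mul hKU.compl
    have h2 := Cfsg.Agent.Lib.H19.card_mul_relIndex hKU.compl.1
    have h3 : U.relIndex M = Nat.card ↥(K ⊔ sigmaCore M : Subgroup G) := by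
      have hpos : 0 < Nat.card ↥U := Nat.card_pos
      exact Nat.eq_of_mul_eq_mul_left hpos (h2.trans h1.symm)
    rw [h3] at hd
    have hKσ : K ≤ Subgroup.normalizer ((sigmaCore M : Subgroup G) : Set G) :=
      hK.1.trans (Cfsg.Agent.Lib.H20.BGS.le_normalizer_sigmaCore M)
    have h4 : Nat.card ↥(K ⊔ sigmaCore M : Subgroup G) ∣
        Nat.card ↥K * Nat.card ↥(sigmaCore M) :=
      Cfsg.Agent.Lib.H19.card_sup_dvd_mul_of_le_normalizer hKσ
    rcases (Nat.Prime.dvd_mul hq).1 (hd.trans h4) with h5 | h5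
    · exact hqπ.2.1 (hK.2.1 q hq h5)
    · exact hqπ.2.2 (Cfsg.Agent.Lib.H20.BGS.sigmaCore_isPiCard M q hq h5)

/-- the Frobenius data of a maximal subgroup of type `P₂`. -/
structure FrobData (M K A : Subgroup G) : Prop where
  nil : Group.IsNilpotent ↥(sigmaCore M)
  A_ne : A ≠ ⊥
  A_le : A ≤ M
  A_inf : A ⊓ K = ⊥
  K_norm : K ≤ Subgroup.normalizer (A : Set G)
  fpf : ∀ r ∈ K, r ≠ 1 → A ⊓ Subgroup.centralizer ({r} : Set G) = ⊥
  cent : sigmaCore M ⊓ Subgroup.centralizer (A : Set G) = ⊥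
  cop : (Nat.card ↥(A ⊔ K : Subgroup G)).Coprime (Nat.card ↥(sigmaCore M))

theorem exists_frobData (hG : IsMinSimpleOddOrder G) (hM : IsCoatom M)
    (hKU : IsSigmaDecomposition M K U) (hK1 : K ≠ ⊥) (hU1 : U ≠ ⊥) :
    ∃ A : Subgroup G, FrobData M K A := by
  have hK := hKU.hall
  have hUM : U ≤ M := hKU.compl.1
  have hc1 : Nat.card ↥U ≠ 1 := fun h => hU1 (Subgroup.card_eq_one.1 h)
  obtain ⟨p, hp, hpU⟩ := Nat.exists_prime_and_dvd hc1
  haveI : Fact p.Prime := ⟨hp⟩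
  have hnot := Cfsg.Agent.Lib.H7.BG14.not_mem_sigma_kappa_of_isSigmaDecomposition hG hM hKU hp hpU
  have hpM : p ∣ Nat.card ↥M := hpU.trans (Subgroup.card_dvd_of_le hUM)
  have hUnil := isNilpotent_U hG hM hKU hK1
  -- the Sylow `p`-subgroup of `U`
  set Up := piCoreOf {p} U with hUp
  have hUpU : Up ≤ U := piCoreOf_le _ _
  have hUpp : IsPGroup p Up := isPGroup_piCoreOf_singleton p U
  have hUp1 : Up ≠ ⊥ := piCoreOf_singleton_ne_bot hUnil hpU
  have hSU : SylIn p Up U := by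
    obtain ⟨Q, hQ⟩ := SylIn.exists_sylIn p U
    have hQle : Q ≤ Up := le_piCoreOf_of_nilpotent hUnil hQ.le
      (isPiCard_card_of_isPGroup (Set.mem_singleton p) hQ.isPGroup)
    have : Q = Up := hQ.eq_of_le hQle hUpU hUpp
    rw [← this]; exact hQ
  have hSM : SylIn p Up M :=
    SylIn.of_hall (isPiHallOf_U hG hM hKU) ⟨hp, hnot.2, hnot.1⟩ hSU
  obtain ⟨S, hS⟩ := hSM.exists_sylow
  have hP1 : ¬ (∀ q : ℕ, q.Prime → q ∣ Nat.card M → q ∉ sigma M → q ∈ kappa M) :=
    fun h => hnot.2 (h p hp hpM hnot.1)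
  have h29 := Cfsg.Agent.S1429.result hG M hM hP1 p hpM
    (by rintro (h | h); exact hnot.1 h; exact hnot.2 h) S
  rw [hS] at h29
  set A := Subgroup.closure {x : G | x ∈ Up ∧ x ^ p = 1} with hA
  have hAUp : A ≤ Up := (Subgroup.closure_le _).2 (fun x hx => hx.1)
  have hAU : A ≤ U := hAUp.trans hUpU
  have hKUp : K ≤ Subgroup.normalizer (Up : Set G) :=
    hKU.normal.trans (normalizer_le_normalizer_piCoreOf {p} U)
  have hE := Cfsg.Agent.Lib.H20.BGZ.isComplIn_sup hG hM hKU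
  have hinf : U ⊓ (K ⊔ sigmaCore M) = ⊥ := hKU.compl.2.2.1
  refine ⟨A, h29.2.2, ?_, hAU.trans hUM, ?_, ?_, ?_, h29.2.1, ?_⟩
  · -- `A ≠ ⊥`
    have hd : p ∣ Nat.card ↥Up := by
      obtain ⟨k, hk⟩ := IsPGroup.iff_card.1 hUpp
      have hk0 : k ≠ 0 := by
        rintro rfl
        rw [pow_zero] at hk
        exact hUp1 (Subgroup.card_eq_one.1 hk)
      rw [hk]; exact dvd_pow_self p hk0
    obtain ⟨x, hx⟩ := exists_prime_orderOf_dvd_card' p hd
    intro hbot
    have hxA : (x : G) ∈ A := by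
      apply Subgroup.subset_closure
      refine ⟨x.2, ?_⟩
      have := pow_orderOf_eq_one x
      rw [hx] at this
      exact congrArg Subtype.val this
    rw [hbot, Subgroup.mem_bot] at hxA
    have h1 : x = 1 := Subtype.ext hxA
    rw [h1, orderOf_one] at hx
    exact hp.one_lt.ne hx
  · -- `A ⊓ K = ⊥`
    rw [eq_bot_iff, ← hinf]
    exact inf_le_inf hAU le_sup_left
  · -- `K ≤ N(A)`
    apply le_normalizer_closure
    rintro k hk x ⟨hx, hxp⟩
    refine ⟨(Subgroup.mem_normalizer_iff.1 (hKUp hk) x).1 hx, ?_⟩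
    rw [conj_pow, hxp]; group
  · intro r hr hr1
    rw [eq_bot_iff,
      ← Cfsg.Agent.Lib.H7.BG14u.inf_centralizer_singleton_eq_bot hG hM hKU hr hr1]
    exact inf_le_inf_right _ hAU
  · have hcop := (Cfsg.Agent.Lib.H7.BG14t.coprimeAction_compl hG hM hE).coprime
    exact Nat.Coprime.coprime_dvd_left
      (Subgroup.card_dvd_of_le (sup_le (hAU.trans le_sup_right) le_sup_left)) hcop

/-- **the order formula** (S1446): `|K|` is prime and `|W| = |C_W(K)| ^ |K|`. -/
theorem FrobData.formula {A : Subgroup G} (d : FrobData M K A) (hG : IsMinSimpleOddOrder G)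
    (hM : IsCoatom M) (hK : IsPiHallOf (kappa M) K M) (hK1 : K ≠ ⊥) {W : Subgroup G}
    (hW : W ≤ sigmaCore M) (hAW : A ≤ Subgroup.normalizer (W : Set G))
    (hKW : K ≤ Subgroup.normalizer (W : Set G)) (hW1 : W ≠ ⊥) :
    (Nat.card ↥K).Prime ∧
      Nat.card ↥W = Nat.card ↥(W ⊓ Subgroup.centralizer (K : Set G)) ^ Nat.card ↥K := by
  have h30 := (Cfsg.Agent.S1430.result hG M hM K hK hK1).1
  have hsolv : Group.IsSolvable ↥(A ⊔ K : Subgroup G) :=
    solvable_of_le_ne_top hG hM.1 (sup_le d.A_le hK.1)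
  have hodd : Odd (Nat.card ↥(A ⊔ K : Subgroup G)) :=
    Odd.of_dvd_nat hG.1 (Subgroup.card_subgroup_dvd_card _)
  have hMn : Group.IsNilpotent ↥W := isNilpotent_of_le d.nil hW
  have hcop : (Nat.card ↥(A ⊔ K : Subgroup G)).Coprime (Nat.card ↥W) :=
    Nat.Coprime.coprime_dvd_right (Subgroup.card_dvd_of_le hW) d.cop
  have hCK : W ⊓ Subgroup.centralizer (A : Set G) = ⊥ := by
    rw [eq_bot_iff, ← d.cent]
    exact inf_le_inf_right _ hW
  have hpr : ∀ x ∈ K, x ≠ 1 → W ⊓ Subgroup.centralizer ({x} : Set G) =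
      W ⊓ Subgroup.centralizer (K : Set G) := by
    intro x hx hx1
    have h := h30 x hx hx1
    apply le_antisymm
    · intro w hw
      have : w ∈ sigmaCore M ⊓ Subgroup.centralizer ({x} : Set G) :=
        Subgroup.mem_inf.2 ⟨hW hw.1, hw.2⟩
      rw [h] at this
      exact Subgroup.mem_inf.2 ⟨hw.1, this.2⟩
    · exact inf_le_inf_left _ (Subgroup.centralizer_le (Set.singleton_subset_iff.2 hx))
  have := Cfsg.Agent.S1446.result A K W d.A_ne hK1 d.A_inf d.K_norm d.fpf hsolv hodd hW1 hMn hAW hKW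
    hcop hCK hpr
  exact ⟨this.1, this.2.1⟩

end Cfsg.Agent.Lib.H21.BGP2
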