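import Mathlib
import Cfsg.Agent.Lib.H21.BGP2a
import Cfsg.Agent.S1439
import Cfsg.Agent.S1420
import Cfsg.Agent.S1431
import Cfsg.Agent.Lib.H7.BG13a0
import Cfsg.Agent.Lib.H8.BG12k
import Cfsg.Agent.Lib.H10.BG144d

/-!
# Maximal subgroups of type `P₂`: `F(M)` is a TI-subset (helper21)
-/

set_option autoImplicit false
set_option linter.style.haveILetI false
set_option linter.unusedSectionVars false
set_option linter.unusedVariables false
open Cfsg
open Cfsg.Agent.Lib.H16.BG
open Cfsg.Agent.Lib.H7.BG7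
open Cfsg.Agent.Lib.H19 (IsPiCard)

namespace Cfsg.Agent.Lib.H21.BGP2

universe u
variable {G : Type u} [Group G] [Finite G] {M K U : Subgroup G}

local notation:max "cj(" g ", " X ")" => Subgroup.map (MulEquiv.toMonoidHom (MulAut.conj g)) X

/-- an element of prime order `r ∉ σ(M)` of `F(M)` has its centralizer in the unique maximal
subgroup `M`. -/
theorem uniq_of_mem_fittingOf_not_sigma (hG : IsMinSimpleOddOrder G) (hM : IsCoatom M) {y : G}
    (hy : y ∈ fittingOf M) {r : ℕ} (hr : r.Prime) (hyr : orderOf y = r) (hrσ : r ∉ sigma M) :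
    Subgroup.centralizer ({y} : Set G) ≤ M ∧
      ∀ L : Subgroup G, IsCoatom L → Subgroup.centralizer ({y} : Set G) ≤ L → L = M := by
  have h39 := Cfsg.Agent.S1439.result hG M hM
  set Y := piCoreOf {q | q.Prime ∧ q ∉ sigma M} (fittingOf M) with hY
  have hFnil := fittingOf_isNilpotent M
  have hyM : y ∈ M := fittingOf_le M hy
  have hy1 : y ≠ 1 := by
    rintro rfl
    rw [orderOf_one] at hyr
    exact hr.one_lt.ne hyr
  have hzc : Nat.card ↥(Subgroup.zpowers y) = r := by rw [Nat.card_zpowers, hyr]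
  have hyY : Subgroup.zpowers y ≤ Y := by
    apply le_piCoreOf_of_nilpotent hFnil (Subgroup.zpowers_le.2 hy)
    intro p hp hd
    rw [hzc] at hd
    have : p = r := (Nat.prime_dvd_prime_iff_eq hp hr).1 hd
    rw [this]; exact ⟨hr, hrσ⟩
  have hrY : r ∣ Nat.card ↥Y := by
    rw [← hzc]; exact Subgroup.card_dvd_of_le hyY
  have hτ2 : r ∈ tau2 M := h39.2.1 r hr hrY
  -- `y` centralizes a non-identity element of `M_σ`
  have hσ1 : sigmaCore M ≠ ⊥ := Cfsg.Agent.Lib.H8.BG12.sigmaCore_ne_bot' hG hM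
  have hσM : sigmaCore M ≤ M := Cfsg.Agent.Lib.H20.BGS.sigmaCore_le M
  have hσsolv : Group.IsSolvable ↥(sigmaCore M) := solvable_of_le_ne_top hG hM.1 hσM
  have hFσ1 : fittingOf (sigmaCore M) ≠ ⊥ := fittingOf_ne_bot hσsolv hσ1
  have hFσF : fittingOf (sigmaCore M) ≤ fittingOf M := by
    rw [h39.2.2]; exact le_sup_left
  have hFσσ : fittingOf (sigmaCore M) ≤ sigmaCore M := fittingOf_le _
  have hFσle : fittingOf (sigmaCore M) ≤ piCoreOf (sigma M) (fittingOf M) := by
    apply le_piCoreOf_of_nilpotent hFnil hFσF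
    intro p hp hd
    exact Cfsg.Agent.Lib.H20.BGS.sigmaCore_isPiCard M p hp
      (hd.trans (Subgroup.card_dvd_of_le hFσσ))
  have hdisj : Disjoint {q : ℕ | q.Prime ∧ q ∉ sigma M} (sigma M) := by
    rw [Set.disjoint_left]
    intro q hq hq'
    exact hq.2 hq'
  have hYc := piCoreOf_le_centralizer_piCoreOf hdisj (fittingOf M)
  obtain ⟨z, hz1⟩ := (Subgroup.ne_bot_iff_exists_ne_one.1 hFσ1)
  have hzz : ((z : ↥(fittingOf (sigmaCore M))) : G) ≠ 1 := fun h => hz1 (Subtype.ext h)
  have hcomm : y * (z : G) = (z : G) * y := by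
    have h1 : y ∈ Subgroup.centralizer
        ((piCoreOf (sigma M) (fittingOf M) : Subgroup G) : Set G) :=
      hYc (hyY (Subgroup.mem_zpowers y))
    exact (Subgroup.mem_centralizer_iff.1 h1 (z : G) (hFσle z.2)).symm
  have hhat : y ∈ sigmaHat M := ⟨hyM, (z : G), hFσσ z.2, hzz, hcomm⟩
  obtain ⟨E, hE, -⟩ := Cfsg.Agent.Lib.H7.BG13.exists_compl_ge hG hM (bot_le : (⊥ : Subgroup G) ≤ M)
    (by
      intro q hq hd
      rw [Subgroup.card_bot] at hd
      exact absurd (Nat.dvd_one.1 hd) hq.one_lt.ne')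
  refine (Cfsg.Agent.S1420.result hG M hM E hE).2.2.2 y hyM hy1 ?_ hhat
  intro p hp hd
  rw [hyr] at hd
  have : p = r := (Nat.prime_dvd_prime_iff_eq hp hr).1 hd
  rw [this]; exact hτ2

/-- commuting generators of exponent `r` generate an elementary abelian subgroup. -/
theorem elemAb_closure {r : ℕ} {S : Set G} (hcomm : ∀ x ∈ S, ∀ y ∈ S, x * y = y * x)
    (hexp : ∀ x ∈ S, x ^ r = 1) : IsElementaryAbelian r (Subgroup.closure S) := by
  have hc : IsMulCommutative ↥(Subgroup.closure S) := Subgroup.isMulCommutative_closure hcomm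
  refine ⟨hc, ?_⟩
  intro b hb
  induction hb using Subgroup.closure_induction with
  | mem y hy => exact hexp y hy
  | one => exact one_pow r
  | mul a b ha hb iha ihb =>
    have h1 := hc.is_comm.comm ⟨a, ha⟩ ⟨b, hb⟩
    have h2 : Commute a b := congrArg Subtype.val h1
    rw [h2.mul_pow, iha, ihb, one_mul]
  | inv a _ iha => rw [inv_pow, iha, inv_one]

theorem card_le_of_pRankLE {p k : ℕ} {B Z : Subgroup G} (hBZ : B ≤ Z)
    (hB : IsElementaryAbelian p B) (h : PRankLE p k ↥Z) : Nat.card ↥B ≤ p ^ k := by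
  by_contra hlt
  push Not at hlt
  exact not_pRankLE_of_elemAb hBZ hB hlt h

theorem isPGroup_of_elemAb' {p : ℕ} {B : Subgroup G} (hB : IsElementaryAbelian p B) :
    IsPGroup p B := by
  intro b
  refine ⟨1, ?_⟩
  rw [pow_one]
  exact Subtype.ext (by rw [Subgroup.coe_pow, hB.2 _ b.2]; rfl)

/-- **`C_G(y) ≤ M`** for every element `y` of prime order of `M_σ`, `M` of type `P₂`. -/
theorem centralizer_le_of_P2 (hG : IsMinSimpleOddOrder G) (hM : IsCoatom M)
    (hKU : IsSigmaDecomposition M K U) (hK1 : K ≠ ⊥) (hU1 : U ≠ ⊥) {y : G}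
    (hy : y ∈ sigmaCore M) {r : ℕ} [hr : Fact r.Prime] (hyr : orderOf y = r) :
    Subgroup.centralizer ({y} : Set G) ≤ M := by
  by_contra hC
  obtain ⟨N, hN⟩ := Cfsg.Agent.Lib.H10.BG144.exists_cfg hG hM hy hyr hC
  obtain ⟨A, d⟩ := exists_frobData hG hM hKU hK1 hU1
  have hK := hKU.hall
  have hnil := d.nil
  have hσM : sigmaCore M ≤ M := Cfsg.Agent.Lib.H20.BGS.sigmaCore_le M
  have hMσ : M ≤ Subgroup.normalizer ((sigmaCore M : Subgroup G) : Set G) :=
    Cfsg.Agent.Lib.H20.BGS.le_normalizer_sigmaCore M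
  have hy1 : y ≠ 1 := by
    rintro rfl
    rw [orderOf_one] at hyr
    exact hr.out.one_lt.ne hyr
  have hzc : Nat.card ↥(Subgroup.zpowers y) = r := by rw [Nat.card_zpowers, hyr]
  have hrd : r ∣ Nat.card ↥(sigmaCore M) := by
    rw [← hzc]; exact Subgroup.card_dvd_of_le (Subgroup.zpowers_le.2 hy)
  -- the Sylow `r`-subgroup `R` of `M_σ`
  set R := piCoreOf {r} (sigmaCore M) with hR
  have hRσ : R ≤ sigmaCore M := piCoreOf_le _ _
  have hRp : IsPGroup r R := isPGroup_piCoreOf_singleton r (sigmaCore M)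
  have hR1 : R ≠ ⊥ := piCoreOf_singleton_ne_bot hnil hrd
  have hMR : M ≤ Subgroup.normalizer (R : Set G) :=
    hMσ.trans (normalizer_le_normalizer_piCoreOf {r} (sigmaCore M))
  have hyR : y ∈ R := by
    have : Subgroup.zpowers y ≤ R := by
      apply le_piCoreOf_of_nilpotent hnil (Subgroup.zpowers_le.2 hy)
      intro p hp hd
      rw [hzc] at hd
      exact (Nat.prime_dvd_prime_iff_eq hp hr.out).1 hd
    exact this (Subgroup.mem_zpowers y)
  have hSyl : SylIn r R (sigmaCore M) := by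
    obtain ⟨Q, hQ⟩ := SylIn.exists_sylIn r (sigmaCore M)
    have hQle : Q ≤ R := le_piCoreOf_of_nilpotent hnil hQ.le
      (isPiCard_card_of_isPGroup (Set.mem_singleton r) hQ.isPGroup)
    have : Q = R := hQ.eq_of_le hQle hRσ hRp
    rw [← this]; exact hQ
  have hAM : A ≤ M := d.A_le
  -- `r` divides `|K*|`
  have hfR := (d.formula hG hM hK hK1 hRσ (hAM.trans hMR) (hK.1.trans hMR) hR1)
  have hpK : (Nat.card ↥K).Prime := hfR.1
  have hRK1 : R ⊓ Subgroup.centralizer (K : Set G) ≠ ⊥ := by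
    intro h
    have h1 := hfR.2
    rw [h, Subgroup.card_bot, one_pow] at h1
    exact hR1 (Subgroup.card_eq_one.1 h1)
  have hrKs : r ∣ Nat.card ↥(sigmaCore M ⊓ Subgroup.centralizer (K : Set G)) := by
    have h1 : IsPGroup r ↥(R ⊓ Subgroup.centralizer (K : Set G) : Subgroup G) :=
      hRp.to_le inf_le_left
    obtain ⟨k, hk⟩ := IsPGroup.iff_card.1 h1
    have hk0 : k ≠ 0 := by
      rintro rfl
      rw [pow_zero] at hk
      exact hRK1 (Subgroup.card_eq_one.1 hk)
    have h2 : r ∣ Nat.card ↥(R ⊓ Subgroup.centralizer (K : Set G) : Subgroup G) := by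
      rw [hk]; exact dvd_pow_self r hk0
    exact h2.trans (Subgroup.card_dvd_of_le (inf_le_inf_right _ hRσ))
  obtain ⟨S, hS⟩ := hSyl.exists_sylow
  have h31 := (Cfsg.Agent.S1431.result hG M hM K hK hK1).2.2.1 r hr.out hrKs S
  rw [hS] at h31
  -- `R ≰ N`
  have hRN : ¬ R ≤ N := by
    intro hle
    obtain ⟨L, -, hL⟩ := h31.1
    have e1 := hL M ⟨hM, h31.2.1⟩
    have e2 := hL N ⟨hN.hN, hle⟩
    apply hN.nconj 1
    rw [Cfsg.Agent.Lib.H10.map_conj_one, e1, e2]
  -- the centre of `R` and its `Ω₁`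
  set Z := R ⊓ Subgroup.centralizer (R : Set G) with hZ
  have hZ1 : Z ≠ ⊥ := inf_centralizer_self_ne_bot hRp hR1
  have hMZ : M ≤ Subgroup.normalizer (Z : Set G) :=
    hMR.trans (normalizer_le_normalizer_inf_centralizer R)
  have hZcomm : ∀ a ∈ Z, ∀ b ∈ Z, a * b = b * a := fun a ha b hb =>
    (Subgroup.mem_centralizer_iff.1 hb.2 a ha.1)
  set S₀ : Set G := {z | z ∈ Z ∧ z ^ r = 1} with hS₀
  set W := Subgroup.closure S₀ with hW
  have hS₀comm : ∀ a ∈ S₀, ∀ b ∈ S₀, a * b = b * a := fun a ha b hb => hZcomm a ha.1 b hb.1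
  have hWe : IsElementaryAbelian r W := elemAb_closure hS₀comm (fun x hx => hx.2)
  have hWZ : W ≤ Z := (Subgroup.closure_le _).2 (fun x hx => hx.1)
  have hWσ : W ≤ sigmaCore M := hWZ.trans (inf_le_left.trans hRσ)
  have hMW : M ≤ Subgroup.normalizer (W : Set G) := by
    apply le_normalizer_closure
    rintro k hk x ⟨hx, hxp⟩
    refine ⟨(Subgroup.mem_normalizer_iff.1 (hMZ hk) x).1 hx, ?_⟩
    rw [conj_pow, hxp]; group
  have hW1 : W ≠ ⊥ := by
    have hZp : IsPGroup r Z := hRp.to_le inf_le_left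
    have hd : r ∣ Nat.card ↥Z := by
      obtain ⟨k, hk⟩ := IsPGroup.iff_card.1 hZp
      have hk0 : k ≠ 0 := by
        rintro rfl
        rw [pow_zero] at hk
        exact hZ1 (Subgroup.card_eq_one.1 hk)
      rw [hk]; exact dvd_pow_self r hk0
    obtain ⟨x, hx⟩ := exists_prime_orderOf_dvd_card' r hd
    intro hbot
    have hxW : (x : G) ∈ W := by
      apply Subgroup.subset_closure
      refine ⟨x.2, ?_⟩
      have := pow_orderOf_eq_one x
      rw [hx] at this
      exact congrArg Subtype.val this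
    rw [hbot, Subgroup.mem_bot] at hxW
    have h1 : x = 1 := Subtype.ext hxW
    rw [h1, orderOf_one] at hx
    exact hr.out.one_lt.ne hx
  -- `y ∉ W`
  have hyW : y ∉ W := by
    intro hyW
    apply hRN
    refine le_trans ?_ hN.hCN
    intro x hx
    rw [Subgroup.mem_centralizer_iff]
    intro z hz
    rw [Set.mem_singleton_iff] at hz
    subst hz
    exact (Subgroup.mem_centralizer_iff.1 (hWZ hyW).2 x hx).symm
  -- the elementary abelian subgroup `B = W ⟨y⟩` of `C_G(y)`
  set B := Subgroup.closure (S₀ ∪ {y}) with hB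
  have hyr' : y ^ r = 1 := by rw [← hyr]; exact pow_orderOf_eq_one y
  have hycomm : ∀ a ∈ S₀, a * y = y * a := fun a ha =>
    (Subgroup.mem_centralizer_iff.1 ha.1.2 y hyR).symm
  have hBe : IsElementaryAbelian r B := by
    apply elemAb_closure
    · rintro a (ha | ha) b (hb | hb)
      · exact hS₀comm a ha b hb
      · rw [Set.mem_singleton_iff] at hb; subst hb; exact hycomm a ha
      · rw [Set.mem_singleton_iff] at ha; subst ha; exact (hycomm b hb).symm
      · rw [Set.mem_singleton_iff] at ha hb; rw [ha, hb]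
    · rintro a (ha | ha)
      · exact ha.2
      · rw [Set.mem_singleton_iff] at ha; rw [ha]; exact hyr'
  have hWB : W ≤ B := Subgroup.closure_mono Set.subset_union_left
  have hyB : y ∈ B := Subgroup.subset_closure (Or.inr rfl)
  have hBN : B ≤ N := by
    refine le_trans ?_ hN.hCN
    rw [hB, Subgroup.closure_le]
    rintro a (ha | ha)
    · rw [SetLike.mem_coe, Subgroup.mem_centralizer_iff]
      intro z hz
      rw [Set.mem_singleton_iff] at hz
      subst hz
      exact (hycomm a ha).symm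
    · rw [Set.mem_singleton_iff] at ha
      rw [ha, SetLike.mem_coe, Subgroup.mem_centralizer_iff]
      intro z hz
      rw [Set.mem_singleton_iff] at hz
      rw [hz]
  have hBcard : Nat.card ↥B ≤ r ^ 2 := card_le_of_pRankLE hBN hBe hN.tau2.2.2.1
  -- `|W| = r`
  obtain ⟨a, ha⟩ := IsPGroup.iff_card.1 (isPGroup_of_elemAb' hWe)
  obtain ⟨b, hb⟩ := IsPGroup.iff_card.1 (isPGroup_of_elemAb' hBe)
  have hlt : Nat.card ↥W < Nat.card ↥B := by
    rcases lt_or_eq_of_le (Subgroup.card_le_of_le hWB) with h | h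
    · exact h
    · exfalso
      have : W = B := Subgroup.eq_of_le_of_card_ge hWB h.ge
      exact hyW (this ▸ hyB)
  have hr1 : 1 < r := hr.out.one_lt
  have hab : a < b := by
    rw [ha, hb] at hlt
    exact (Nat.pow_lt_pow_iff_right hr1).1 hlt
  have hb2 : b ≤ 2 := by
    rw [hb] at hBcard
    exact (Nat.pow_le_pow_iff_right hr1).1 hBcard
  have ha0 : a ≠ 0 := by
    rintro rfl
    rw [pow_zero] at ha
    exact hW1 (Subgroup.card_eq_one.1 ha)
  have ha1 : a = 1 := by omega
  rw [ha1, pow_one] at ha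
  -- the formula for `W`
  have hfW := (d.formula hG hM hK hK1 hWσ (hAM.trans hMW) (hK.1.trans hMW) hW1).2
  rw [ha] at hfW
  have h2 : 2 ≤ Nat.card ↥K := hpK.two_le
  exact Nat.Prime.not_prime_pow h2 (hfW ▸ hr.out)

end Cfsg.Agent.Lib.H21.BGP2
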