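import Mathlib
import Cfsg.Agent.Lib.H21.BGP2b

/-!
# BG Corollary 15.3 for maximal subgroups of type `P₂` (statement S1372) (helper21)
-/

set_option autoImplicit false
set_option linter.style.haveILetI false
set_option linter.unusedSectionVars false
set_option linter.unusedVariables false
open Cfsg
open Cfsg.Agent.Lib.H16.BG
open Cfsg.Agent.Lib.H7.BG7
open Cfsg.Agent.Lib.H19 (IsPiCard)

namespace Cfsg.Agent.Lib.H21.BGP2

universe u
variable {G : Type u} [Group G] [Finite G] {M K U : Subgroup G}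

local notation:max "cj(" g ", " X ")" => Subgroup.map (MulEquiv.toMonoidHom (MulAut.conj g)) X

theorem mem_of_cj_eq (hG : IsMinSimpleOddOrder G) (hM : IsCoatom M) {g : G}
    (h : cj(g, M) = M) : g ∈ M := by
  have hM1 : M ≠ ⊥ := by
    rintro rfl
    have hσ1 := Cfsg.Agent.Lib.H8.BG12.sigmaCore_ne_bot' hG hM
    exact hσ1 (le_bot_iff.1 (Cfsg.Agent.Lib.H20.BGS.sigmaCore_le ⊥))
  have hN := normalizer_eq_of_coatom hG hM le_rfl hM1 Subgroup.le_normalizer
  rw [← hN]
  exact Subgroup.mem_normalizer_iff_map_conj_eq.2 h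

theorem card_K_prime (hG : IsMinSimpleOddOrder G) (hM : IsCoatom M)
    (hKU : IsSigmaDecomposition M K U) (hK1 : K ≠ ⊥) (hU1 : U ≠ ⊥) : (Nat.card ↥K).Prime := by
  obtain ⟨A, d⟩ := exists_frobData hG hM hKU hK1 hU1
  have hMσ : M ≤ Subgroup.normalizer ((sigmaCore M : Subgroup G) : Set G) :=
    Cfsg.Agent.Lib.H20.BGS.le_normalizer_sigmaCore M
  exact (d.formula hG hM hKU.hall hK1 le_rfl (d.A_le.trans hMσ) (hKU.hall.1.trans hMσ)
    (Cfsg.Agent.Lib.H8.BG12.sigmaCore_ne_bot' hG hM)).1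

theorem sigmaCore_le_fittingOf (hG : IsMinSimpleOddOrder G) (hM : IsCoatom M)
    (hKU : IsSigmaDecomposition M K U) (hK1 : K ≠ ⊥) (hU1 : U ≠ ⊥) :
    sigmaCore M ≤ fittingOf M := by
  obtain ⟨A, d⟩ := exists_frobData hG hM hKU hK1 hU1
  exact le_fittingOf (Cfsg.Agent.Lib.H20.BGS.sigmaCore_le M)
    (Cfsg.Agent.Lib.H20.BGS.le_normalizer_sigmaCore M) d.nil

theorem isTISubset_fittingOf (hG : IsMinSimpleOddOrder G) (hM : IsCoatom M)
    (hKU : IsSigmaDecomposition M K U) (hK1 : K ≠ ⊥) (hU1 : U ≠ ⊥) :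
    IsTISubset (fittingOf M : Set G) := by
  intro g hg x hx hgx
  by_contra hx1
  have hgM : g ∉ M := fun h => hg (le_normalizer_fittingOf M h)
  have ho : orderOf x ≠ 1 := fun h => hx1 (orderOf_eq_one_iff.1 h)
  obtain ⟨r, hr, hrx⟩ := Nat.exists_prime_and_dvd ho
  haveI : Fact r.Prime := ⟨hr⟩
  set y := x ^ (orderOf x / r) with hy
  have hyr : orderOf y = r := orderOf_pow_orderOf_div (orderOf_pos x).ne' hrx
  have hyF : y ∈ fittingOf M := Subgroup.pow_mem _ hx _
  have hgyF : g * y * g⁻¹ ∈ fittingOf M := by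
    have : g * y * g⁻¹ = (g * x * g⁻¹) ^ (orderOf x / r) := by rw [hy, conj_pow]
    rw [this]; exact Subgroup.pow_mem _ hgx _
  have hyM : y ∈ M := fittingOf_le M hyF
  have hgyM : g * y * g⁻¹ ∈ M := fittingOf_le M hgyF
  have hgyr : orderOf (g * y * g⁻¹) = r := by
    have h : SemiconjBy g y (g * y * g⁻¹) := by
      unfold SemiconjBy; group
    rw [← h.orderOf_eq, hyr]
  by_cases hrσ : r ∈ sigma M
  · have hyσ : y ∈ sigmaCore M := by
      have hzp : IsPGroup r (Subgroup.zpowers y) :=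
        IsPGroup.of_card (n := 1) (by rw [Nat.card_zpowers, hyr, pow_one])
      exact isPGroup_le_sigmaCore hG hM hrσ (Subgroup.zpowers_le.2 hyM) hzp
        (Subgroup.mem_zpowers y)
    have hC := centralizer_le_of_P2 hG hM hKU hK1 hU1 hyσ hyr
    have htr := Cfsg.Agent.Lib.H10.BG144.trans_prime hG hM hyσ hyr
    have hmem : y ∈ cj(g⁻¹, M) := by
      rw [mem_cj_iff]
      simpa using hgyM
    obtain ⟨c, hc, hceq⟩ := htr g⁻¹ hmem
    rw [cj_eq_self_of_mem (hC hc)] at hceq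
    exact hgM (by simpa using M.inv_mem (mem_of_cj_eq hG hM hceq))
  · have h1 := uniq_of_mem_fittingOf_not_sigma hG hM hgyF hr hgyr hrσ
    have h2 := uniq_of_mem_fittingOf_not_sigma hG hM hyF hr hyr hrσ
    have hle : Subgroup.centralizer ({g * y * g⁻¹} : Set G) ≤ cj(g, M) := by
      intro c hc
      rw [mem_cj_iff]
      apply h2.1
      rw [Subgroup.mem_centralizer_iff] at hc ⊢
      intro z hz
      rw [Set.mem_singleton_iff] at hz
      rw [hz]
      have := hc (g * y * g⁻¹) (Set.mem_singleton _)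
      have e1 : y * (g⁻¹ * c * g) = g⁻¹ * (g * y * g⁻¹ * c) * g := by group
      have e2 : g⁻¹ * c * g * y = g⁻¹ * (c * (g * y * g⁻¹)) * g := by group
      rw [e1, e2, this]
    have := h1.2 _ (isCoatom_map_conj hM g) hle
    exact hgM (mem_of_cj_eq hG hM this)

/-- **S1372**. -/
theorem thm_S1372 (hG : IsMinSimpleOddOrder G) (hM : IsCoatom M)
    (hKU : IsSigmaDecomposition M K U) (hK1 : K ≠ ⊥) (hU1 : U ≠ ⊥) :
    (Nat.card K).Prime ∧ IsTISubset (fittingOf M : Set G) ∧ sigmaCore M ≤ fittingOf M :=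
  ⟨card_K_prime hG hM hKU hK1 hU1, isTISubset_fittingOf hG hM hKU hK1 hU1,
    sigmaCore_le_fittingOf hG hM hKU hK1 hU1⟩

end Cfsg.Agent.Lib.H21.BGP2
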