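import Mathlib
import Cfsg.Agent.Lib.H21.BGP2c
import Cfsg.Agent.S1351
import Cfsg.Agent.S1369
import Cfsg.Agent.Lib.H20.BGY1

/-!
# Type `P₁` (`K ≠ 1`, `U = 1`): `|K*|` is prime (statement S1373), modulo the existence of `M*`
(helper21)
-/

set_option autoImplicit false
set_option linter.style.haveILetI false
set_option linter.unusedSectionVars false
set_option linter.unusedVariables false
open Cfsg

namespace Cfsg.Agent.Lib.H21.BGP1

universe u
variable {G : Type u} [Group G] [Finite G]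

/-- the existence part of the frozen statement `S1366`. -/
def Hyp1366e (G : Type u) [Group G] : Prop :=
  ∀ (M : Subgroup G), IsCoatom M → ∀ (K U : Subgroup G), IsSigmaDecomposition M K U → K ≠ ⊥ →
    ∃ Mstar : Subgroup G, IsCoatom Mstar ∧
      K = sigmaCore Mstar ⊓ Subgroup.centralizer
        ((sigmaCore M ⊓ Subgroup.centralizer (K : Set G)) : Set G) ∧
      IsPiHallOf (kappa Mstar) (sigmaCore M ⊓ Subgroup.centralizer (K : Set G)) Mstar

/-- **S1373** modulo the existence of `M*`. -/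
theorem thm_S1373 (hG : IsMinSimpleOddOrder G) (h66 : Hyp1366e G)
    (M : Subgroup G) (hM : IsCoatom M) (K U : Subgroup G) (hKU : IsSigmaDecomposition M K U)
    (hK1 : K ≠ ⊥) (hU : U = ⊥) :
    (Nat.card ↥(sigmaCore M ⊓ Subgroup.centralizer (K : Set G))).Prime := by
  obtain ⟨Ms, hMs, hKst, hKstH⟩ := h66 M hM K U hKU hK1
  have hcyc : IsCyclic ↥(sigmaCore M ⊓ Subgroup.centralizer (K : Set G)) :=
    (Cfsg.Agent.S1351.result hG Ms hMs).2 _ hKstH
  have hκ := Cfsg.Agent.Lib.H7.BG13t.kappa_subset_tau1 hG hMs hcyc hKstH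
  obtain ⟨N, hN, hcN, hnorm⟩ := Cfsg.Agent.Lib.H20.BGY.exists_normal_hall_kappa_compl hG hMs hκ
  obtain ⟨Us, hUs⟩ := Cfsg.Agent.Lib.H20.BGY.exists_isSigmaDecomposition hG hMs hcyc hKstH hN hnorm
  have h69 := (Cfsg.Agent.S1369.result hG M hM K U hKU hK1 Ms hMs hKst hKstH).1
  have hUs1 : Us ≠ ⊥ := by
    rcases h69 with h | h
    · exact absurd hU h
    · exact h Us hUs
  have hKs1 : sigmaCore M ⊓ Subgroup.centralizer (K : Set G) ≠ ⊥ :=
    Cfsg.Agent.Lib.H7.BG147.star_ne_bot hG hM hKU.hall hK1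
  exact Cfsg.Agent.Lib.H21.BGP2.card_K_prime hG hMs hUs hKs1 hUs1

end Cfsg.Agent.Lib.H21.BGP1
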