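/-
S3174 (architect helper16), piece FINB (helper21, twin): a subgroup `X` of index `≤ 8` in `W` containing `Z₃` with
`Φ(X) ≤ Z₂` contradicts hypothesis (d).
-/
import Mathlib
import Cfsg.Agent.Lib.H16.RTWDefs
import Cfsg.Agent.Lib.H21.RTWAux

set_option autoImplicit false
set_option linter.unusedSectionVars false
set_option linter.unusedVariables false

namespace Cfsg.Agent.Lib.H21.RTW

open scoped commutatorElement
open Cfsg.Agent.Lib.H16.RTW

variable {T : Type*} [Group T] [Finite T]

/-- **FINB**: a subgroup `X` of index `≤ 8` in `W` containing `Z₃` with `Φ(X) ≤ Z₂` contradicts (d): a maximal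
subgroup of `X` missing an element of `Z₃ \ Z₂` has index `≤ 16` in `W`. -/
theorem false_of_small_frattini (c : Ctx T) (X : Subgroup T) (hXW : X ≤ c.W)
    (hZX : Subgroup.upperCentralSeries T 3 ≤ X) (hidx : X.relIndex c.W ≤ 8)
    (hsq : ∀ x ∈ X, x ^ 2 ∈ Subgroup.upperCentralSeries T 2)
    (hcomm : ∀ x ∈ X, ∀ y ∈ X, ⁅x, y⁆ ∈ Subgroup.upperCentralSeries T 2) : False := by
  have h23 : Subgroup.upperCentralSeries T 2 ≤ Subgroup.upperCentralSeries T 3 :=
    Subgroup.upperCentralSeries_mono T (by norm_num)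
  -- an element of `Z₃ ∖ Z₂`
  have hex : ∃ x ∈ Subgroup.upperCentralSeries T 3, x ∉ Subgroup.upperCentralSeries T 2 := by
    by_contra hall
    push Not at hall
    have hle : Subgroup.upperCentralSeries T 3 ≤ Subgroup.upperCentralSeries T 2 := hall
    have := Subgroup.card_le_of_le hle
    rw [c.c2, c.c3] at this
    omega
  obtain ⟨x₃, hx₃, hx₃'⟩ := hex
  obtain ⟨U, hZU, hUX, hxU, hUidx⟩ := exists_relIndex_two c.hT X (Subgroup.upperCentralSeries T 2)
    (h23.trans hZX) hsq hcomm x₃ (hZX hx₃) hx₃'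
  have hrel : U.relIndex c.W ≤ 16 := by
    rw [← Subgroup.relIndex_mul_relIndex U X c.W hUX hXW, hUidx]
    omega
  exact hxU (c.hd U (hUX.trans hXW) hrel hx₃)

end Cfsg.Agent.Lib.H21.RTW
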