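import Mathlib
import Cfsg.Agent.Lib.H10.S4415BadDefs
import Cfsg.Agent.Lib.H21.S4415B4

/-!
# S4415, BAD block: `B4Stmt` in the exact shape of helper10's sub-cut (helper21)
-/

set_option autoImplicit false

namespace Cfsg.Agent.Lib.H21.S4415B4

open Cfsg.Agent.Lib.H10.S4415 Module

/-- `dim W ≤ 4` from `Dim4`. -/
theorem finrank_le_four {S E : Type*} [Group S] [AddCommGroup E] [Module (ZMod 3) E] [Finite E]
    {ρ : Representation (ZMod 3) S E} {b : S} {W : Submodule (ZMod 3) E} {x₁ x₂ x₃ : S}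
    {e₀ e₁ e₂ e₃ : E} (hD : Dim4 ρ b W x₁ x₂ x₃ e₀ e₁ e₂ e₃) : finrank (ZMod 3) W ≤ 4 := by
  have hle : W ≤ Submodule.span (ZMod 3) (Set.range ![e₀, e₁, e₂, e₃]) := by
    intro w hw
    obtain ⟨c₀, c₁, c₂, c₃, rfl⟩ := hD.span w hw
    have hm : ∀ i : Fin 4, ![e₀, e₁, e₂, e₃] i ∈
        Submodule.span (ZMod 3) (Set.range ![e₀, e₁, e₂, e₃]) :=
      fun i => Submodule.subset_span ⟨i, rfl⟩
    exact Submodule.add_mem _ (Submodule.add_mem _ (Submodule.add_mem _
      (Submodule.smul_mem _ _ (hm 0)) (Submodule.smul_mem _ _ (hm 1)))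
      (Submodule.smul_mem _ _ (hm 2))) (Submodule.smul_mem _ _ (hm 3))
  have h1 := Submodule.finrank_mono hle
  have h2 : finrank (ZMod 3) ↥(Submodule.span (ZMod 3) (Set.range ![e₀, e₁, e₂, e₃])) ≤ 4 := by
    have := finrank_range_le_card (R := ZMod 3) ![e₀, e₁, e₂, e₃]
    simpa [Set.finrank] using this
  exact h1.trans h2

/-- **(B4)** in the exact shape of the sub-cut. -/
theorem b4_stmt : B4Stmt := by
  intro S _ _ E _ _ _ ρ R b W x₁ x₂ x₃ e₀ e₁ e₂ e₃ z X hL hQ hD hz hXR hXS g hg hbg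
  refine b4 hL hQ (finrank_le_four hD) X hXR z hz hXS.sq ?_ g hg (mul_inv_eq_iff_eq_mul.2 hbg)
  intro x hx hx1 hxz
  by_contra hno
  push Not at hno
  have hcen : ∀ h ∈ X, x * h = h * x := by
    intro h hh
    rcases hXS.comm h hh x hx with h1 | h1
    · have h2 : h * x = x * h := by
        have h3 : h * x * h⁻¹ * x⁻¹ * x * h = x * h := by rw [h1, one_mul]
        rw [← h3]
        group
      exact h2.symm
    · exfalso
      apply hno h hh
      have h3 : h * x * h⁻¹ * x⁻¹ * x = z * x := by rw [h1]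
      rw [← h3]
      group
  rcases hXS.center x hx hcen with h | h
  · exact hx1 h
  · exact hxz h

end Cfsg.Agent.Lib.H21.S4415B4
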