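import Mathlib
import Cfsg.Prelude.Def_KGroupFacts
import Cfsg.Agent.Lib.H16.SZ8Defs
import Cfsg.Agent.Lib.H2.SzMult4
import Cfsg.Agent.Lib.H18.SchurCover2

/-!
# S2112 (Schur multiplier of Sz(8)), piece DELTA (helper21)

The pairing `δ x y = cc σ hσ (tt x 0) (t0 y)` of a central extension of a Suzuki group is biadditive,
torus invariant, and `δ x (θ x * x) = 1`.
The first three are the three bullets inside helper2's proof of `stepB` (valid for `1 ≤ m`).
-/

set_option autoImplicit false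
set_option linter.unusedSectionVars false

namespace Cfsg.Agent.Lib.H21.SZ8

open scoped commutatorElement
open Matrix Cfsg Projectivization MulAction
open Cfsg.Agent.Lib.H16.SZ8 Cfsg.Agent.Lib.H2.Sz Cfsg.Agent.Lib.H2.Stem

section U

variable {F : Type*} [Field F] {m : ℕ} [Fintype F] (h : Fld F m)
  {Γ : Type*} [Group Γ] (σ : Γ →* Sz F m) (hσ : Function.Surjective σ)
  (hK : σ.ker ≤ Subgroup.center Γ)

include hK

/-- **DELTA-1** -/
theorem cc_tt_t0_add_left (hm : 1 ≤ m) (hF : Fintype.card F = 2 ^ (2 * m + 1)) (x x' y : F) :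
    cc σ hσ (tt h (x + x') 0) (t0 h y) =
      cc σ hσ (tt h x 0) (t0 h y) * cc σ hσ (tt h x' 0) (t0 h y) := by
  have hc1 : cc σ hσ (t0 h (θ m x * x')) (t0 h y) ∈ Subgroup.center Γ :=
    cc_central σ hσ hK (t0_comm h _ _)
  have hc2 : cc σ hσ (tt h x' 0 * t0 h (θ m x * x')) (t0 h y) ∈ Subgroup.center Γ := by
    apply cc_central σ hσ hK
    rw [mul_assoc, t0_comm h, ← mul_assoc, tt_t0_comm h, mul_assoc]
  rw [tt_add_split h, cc_mul_left σ hσ hK hc2, cc_mul_left σ hσ hK hc1,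
    stepA h σ hσ hK hm hF, mul_one]

/-- **DELTA-2** -/
theorem cc_tt_t0_add_right (x y y' : F) :
    cc σ hσ (tt h x 0) (t0 h (y + y')) =
      cc σ hσ (tt h x 0) (t0 h y) * cc σ hσ (tt h x 0) (t0 h y') := by
  have hcen : ∀ x y : F, cc σ hσ (tt h x 0) (t0 h y) ∈ Subgroup.center Γ :=
    fun x y => cc_central σ hσ hK (tt_t0_comm h x 0 y)
  rw [t0_add, cc_mul_right σ hσ hK (hcen _ _)]

/-- **DELTA-3** -/
theorem cc_tt_t0_scale (hm : 1 ≤ m) (hF : Fintype.card F = 2 ^ (2 * m + 1)) (k : F) (hk : k ≠ 0)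
    (x y : F) :
    cc σ hσ (tt h (k * x) 0) (t0 h (k * θ m k * y)) = cc σ hσ (tt h x 0) (t0 h y) := by
  have hcen : ∀ x y : F, cc σ hσ (tt h x 0) (t0 h y) ∈ Subgroup.center Γ :=
    fun x y => cc_central σ hσ hK (tt_t0_comm h x 0 y)
  have e := cc_conj σ hσ hK (dd h (Units.mk0 k hk)) (hcen x y)
  rw [conj_dd_t0 h hm hF, conj_dd_tt h hm hF, Units.val_mk0, mul_zero] at e
  exact e

/-- **DELTA-4**: `t0 (θ x * x) = (tt x 0)²` (`tt_sq`), and a lift commutes with its square. -/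
theorem cc_tt_t0_self (x : F) : cc σ hσ (tt h x 0) (t0 h (θ m x * x)) = 1 := by
  obtain ⟨γ, hγ⟩ := hσ (tt h x 0)
  have hγ2 : σ (γ * γ) = t0 h (θ m x * x) := by
    rw [map_mul, hγ, tt_sq]
  rw [← cc_spec σ hσ hK hγ hγ2, commutatorElement_eq_one_iff_mul_comm, mul_assoc]

end U

end Cfsg.Agent.Lib.H21.SZ8
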