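import Mathlib

/-!
# Alternating nondegenerate forms on elementary abelian 2-groups (multiplicative form)

`sq_val`, `sq_cyclic`: a finite group `V` of exponent 2 with an alternating, biadditive,
nondegenerate form with values in `{1, t}` (resp. in a cyclic group) has order `2 ^ (2 * d)`.
-/

namespace Cfsg.Agent.Lib.H21.Symp

universe u v

section basic
variable {V : Type u} [CommGroup V] {Y : Type v} [CommGroup Y]

theorem form_one_left (B : V → V → Y) (hBl : ∀ u v w, B (u * v) w = B u w * B v w) (w : V) :
    B 1 w = 1 := by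
  have h := hBl 1 1 w
  rw [one_mul] at h
  have h2 : B 1 w * 1 = B 1 w * B 1 w := by rw [mul_one]; exact h
  exact (mul_left_cancel h2).symm

theorem form_one_right (B : V → V → Y) (hBr : ∀ u v w, B u (v * w) = B u v * B u w) (w : V) :
    B w 1 = 1 := by
  have h := hBr w 1 1
  rw [one_mul] at h
  have h2 : B w 1 * 1 = B w 1 * B w 1 := by rw [mul_one]; exact h
  exact (mul_left_cancel h2).symm

theorem form_skew (B : V → V → Y) (hBl : ∀ u v w, B (u * v) w = B u w * B v w)
    (hBr : ∀ u v w, B u (v * w) = B u v * B u w) (halt : ∀ v, B v v = 1) (a b : V) :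
    B a b * B b a = 1 := by
  have h := halt (a * b)
  rw [hBl, hBr, hBr, halt, halt, one_mul, mul_one] at h
  exact h

/-- index-two criterion for the kernel of a "character" with values in `{1, t}` -/
theorem index_two_of_val (H : Subgroup V) (f : V → Y) (hf : ∀ a b, f (a * b) = f a * f b)
    (hH : ∀ w, w ∈ H ↔ f w = 1) (t : Y) (ht : t ≠ 1) (htt : t * t = 1)
    (hval : ∀ w, f w = 1 ∨ f w = t) (a : V) (ha : f a = t) : H.index = 2 := by
  rw [Subgroup.index_eq_two_iff]
  refine ⟨a, fun b => ?_⟩
  rw [hH, hH, hf, ha]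
  rcases hval b with hb | hb
  · rw [hb, one_mul]
    exact Or.inr ⟨rfl, ht⟩
  · rw [hb, htt]
    exact Or.inl ⟨rfl, ht⟩

end basic

theorem sq_val_aux (n : ℕ) : ∀ {V : Type u} [CommGroup V] [Finite V] {Y : Type v} [CommGroup Y]
    (_hcard : Nat.card V = n) (_hexp : ∀ v : V, v ^ 2 = 1) (B : V → V → Y)
    (_hBl : ∀ u v w, B (u * v) w = B u w * B v w) (_hBr : ∀ u v w, B u (v * w) = B u v * B u w)
    (_halt : ∀ v, B v v = 1) (_hnd : ∀ u, (∀ v, B u v = 1) → u = 1) (t : Y)
    (_hval : ∀ u v, B u v = 1 ∨ B u v = t), ∃ d : ℕ, n = 2 ^ (2 * d) := by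
  induction n using Nat.strong_induction_on with
  | _ n ih =>
    intro V _ _ Y _ hcard hexp B hBl hBr halt hnd t hval
    by_cases htriv : ∀ u : V, u = 1
    · refine ⟨0, ?_⟩
      rw [← hcard]
      haveI : Subsingleton V := ⟨fun a b => (htriv a).trans (htriv b).symm⟩
      simp
    · push Not at htriv
      obtain ⟨u, hu⟩ := htriv
      have hex : ∃ v, B u v ≠ 1 := by
        by_contra hcon
        push Not at hcon
        exact hu (hnd u hcon)
      obtain ⟨v, hv⟩ := hex
      have huv : B u v = t := (hval u v).resolve_left hv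
      have ht : t ≠ 1 := huv ▸ hv
      have hsk := form_skew B hBl hBr halt
      have h1l := form_one_left B hBl
      have h1r := form_one_right B hBr
      have hvu : B v u = t := by
        rcases hval v u with h | h
        · exfalso
          have := hsk u v
          rw [h, mul_one] at this
          exact hv this
        · exact h
      have htt : t * t = 1 := by
        have := hsk u v
        rwa [huv, hvu] at this
      have hinv : ∀ w : V, w⁻¹ = w := fun w =>
        inv_eq_of_mul_eq_one_left (by rw [← pow_two]; exact hexp w)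
      -- the subgroups
      let W1 : Subgroup V :=
        { carrier := {w | B u w = 1}
          one_mem' := h1r u
          mul_mem' := by
            intro a b ha hb
            show B u (a * b) = 1
            rw [hBr, ha, hb, one_mul]
          inv_mem' := by
            intro a ha
            show B u a⁻¹ = 1
            rw [hinv]; exact ha }
      let W : Subgroup V :=
        { carrier := {w | B u w = 1 ∧ B v w = 1}
          one_mem' := ⟨h1r u, h1r v⟩
          mul_mem' := by
            intro a b ha hb
            refine ⟨?_, ?_⟩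
            · show B u (a * b) = 1
              rw [hBr, ha.1, hb.1, one_mul]
            · show B v (a * b) = 1
              rw [hBr, ha.2, hb.2, one_mul]
          inv_mem' := by
            intro a ha
            show B u a⁻¹ = 1 ∧ B v a⁻¹ = 1
            rw [hinv]; exact ha }
      have hW1mem : ∀ w, w ∈ W1 ↔ B u w = 1 := fun w => Iff.rfl
      have hWmem : ∀ w, w ∈ W ↔ (B u w = 1 ∧ B v w = 1) := fun w => Iff.rfl
      have hWW1 : W ≤ W1 := fun w hw => hw.1
      have hidx1 : W1.index = 2 :=
        index_two_of_val W1 (fun w => B u w) (fun a b => hBr u a b) hW1mem t ht htt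
          (fun w => hval u w) v huv
      have hidx2 : (W.subgroupOf W1).index = 2 := by
        refine index_two_of_val (W.subgroupOf W1) (fun w : W1 => B v (w : V))
          (fun a b => by simp only [Subgroup.coe_mul]; exact hBr v a b) ?_ t ht htt
          (fun w => hval v w) ⟨u, halt u⟩ hvu
        intro w
        rw [Subgroup.mem_subgroupOf, hWmem]
        constructor
        · intro h; exact h.2
        · intro h; exact ⟨w.2, h⟩
      have hidx : W.index = 4 := by
        have := Subgroup.relIndex_mul_index hWW1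
        rw [Subgroup.relIndex, hidx2, hidx1] at this
        omega
      have hcardW : 4 * Nat.card W = n := by
        have := W.index_mul_card
        rw [hidx, hcard] at this
        exact this
      have hposW : 0 < Nat.card W := Nat.card_pos
      have hlt : Nat.card W < n := by omega
      -- nondegeneracy on W
      have hndW : ∀ w : W, (∀ w' : W, B (w : V) (w' : V) = 1) → w = 1 := by
        intro w hw
        have hwu : B (w : V) u = 1 := by
          have := hsk (w : V) u
          rw [w.2.1, mul_one] at this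
          exact this
        have hwv : B (w : V) v = 1 := by
          have := hsk (w : V) v
          rw [w.2.2, mul_one] at this
          exact this
        have hall : ∀ x : V, B (w : V) x = 1 := by
          intro x
          -- first step
          obtain ⟨x1, hx1, hx1w⟩ : ∃ x1 : V, B u x1 = 1 ∧ B (w : V) x1 = B (w : V) x := by
            rcases hval u x with h | h
            · exact ⟨x, h, rfl⟩
            · refine ⟨x * v, ?_, ?_⟩
              · rw [hBr, h, huv, htt]
              · rw [hBr, hwv, mul_one]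
          obtain ⟨x2, hx2u, hx2v, hx2w⟩ :
              ∃ x2 : V, B u x2 = 1 ∧ B v x2 = 1 ∧ B (w : V) x2 = B (w : V) x := by
            rcases hval v x1 with h | h
            · exact ⟨x1, hx1, h, hx1w⟩
            · refine ⟨x1 * u, ?_, ?_, ?_⟩
              · rw [hBr, hx1, halt, one_mul]
              · rw [hBr, h, hvu, htt]
              · rw [hBr, hwu, mul_one, hx1w]
          rw [← hx2w]
          exact hw ⟨x2, hx2u, hx2v⟩
        have := hnd (w : V) hall
        exact Subtype.ext this
      obtain ⟨d, hd⟩ := ih (Nat.card W) hlt (V := W) (Y := Y) rfl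
        (fun w => Subtype.ext (by simpa using hexp (w : V)))
        (fun a b => B (a : V) (b : V))
        (fun a b c => by simp only [Subgroup.coe_mul]; exact hBl _ _ _)
        (fun a b c => by simp only [Subgroup.coe_mul]; exact hBr _ _ _)
        (fun a => halt _) hndW t (fun a b => hval _ _)
      refine ⟨d + 1, ?_⟩
      rw [← hcardW, hd]
      ring

/-- **REQUEST-C (corrected form C1).** -/
theorem sq_val {V : Type*} [CommGroup V] [Finite V] {Y : Type*} [CommGroup Y]
    (hexp : ∀ v : V, v ^ 2 = 1) (B : V → V → Y)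
    (hBl : ∀ u v w, B (u * v) w = B u w * B v w) (hBr : ∀ u v w, B u (v * w) = B u v * B u w)
    (halt : ∀ v, B v v = 1) (hnd : ∀ u, (∀ v, B u v = 1) → u = 1) (t : Y)
    (hval : ∀ u v, B u v = 1 ∨ B u v = t) : ∃ d : ℕ, Nat.card V = 2 ^ (2 * d) :=
  sq_val_aux (Nat.card V) rfl hexp B hBl hBr halt hnd t hval

/-- in a cyclic group two non-trivial elements of square one coincide -/
theorem eq_of_sq_eq_one_of_cyclic {Y : Type*} [CommGroup Y] [IsCyclic Y] {a b : Y}
    (ha : a ^ 2 = 1) (hb : b ^ 2 = 1) (ha1 : a ≠ 1) (hb1 : b ≠ 1) : a = b := by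
  obtain ⟨g, hg⟩ := IsCyclic.exists_generator (α := Y)
  obtain ⟨i, rfl⟩ := Subgroup.mem_zpowers_iff.mp (hg a)
  obtain ⟨j, rfl⟩ := Subgroup.mem_zpowers_iff.mp (hg b)
  rw [← zpow_natCast, ← zpow_mul] at ha hb
  have hai := orderOf_dvd_iff_zpow_eq_one.mpr ha
  have hbj := orderOf_dvd_iff_zpow_eq_one.mpr hb
  have hai' : ¬ ((orderOf g : ℤ) ∣ i) := fun h => ha1 (orderOf_dvd_iff_zpow_eq_one.mp h)
  have hbj' : ¬ ((orderOf g : ℤ) ∣ j) := fun h => hb1 (orderOf_dvd_iff_zpow_eq_one.mp h)
  -- orderOf g ∣ i - j
  have hkey : (orderOf g : ℤ) ∣ i - j := by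
    obtain ⟨k, hk⟩ := hai
    obtain ⟨l, hl⟩ := hbj
    push_cast at hk hl
    -- i*2 = n*k, j*2 = n*l ; n ∤ i → k odd ; l odd
    have hkodd : ¬ (2 : ℤ) ∣ k := by
      rintro ⟨k', rfl⟩
      exact hai' ⟨k', by linarith⟩
    have hlodd : ¬ (2 : ℤ) ∣ l := by
      rintro ⟨l', rfl⟩
      exact hbj' ⟨l', by linarith⟩
    have hkl : (2 : ℤ) ∣ k - l := by omega
    obtain ⟨m, hm⟩ := hkl
    refine ⟨m, ?_⟩
    have : (i - j) * 2 = (orderOf g : ℤ) * m * 2 := by
      have : (i - j) * 2 = (orderOf g : ℤ) * (k - l) := by ring_nf; linarith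
      rw [this, hm]; ring
    linarith
  have := orderOf_dvd_iff_zpow_eq_one.mp hkey
  rw [zpow_sub, mul_inv_eq_one] at this
  exact this

/-- **REQUEST-C (corrected form C2).** -/
theorem sq_cyclic {V : Type*} [CommGroup V] [Finite V] {Y : Type*} [CommGroup Y] [IsCyclic Y]
    (hexp : ∀ v : V, v ^ 2 = 1) (B : V → V → Y)
    (hBl : ∀ u v w, B (u * v) w = B u w * B v w) (hBr : ∀ u v w, B u (v * w) = B u v * B u w)
    (halt : ∀ v, B v v = 1) (hnd : ∀ u, (∀ v, B u v = 1) → u = 1) :
    ∃ d : ℕ, Nat.card V = 2 ^ (2 * d) := by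
  have hsq : ∀ u v, B u v ^ 2 = 1 := by
    intro u v
    rw [pow_two, ← hBl, ← pow_two, hexp]
    exact form_one_left B hBl v
  by_cases h : ∃ u v, B u v ≠ 1
  · obtain ⟨u0, v0, h0⟩ := h
    refine sq_val hexp B hBl hBr halt hnd (B u0 v0) ?_
    intro u v
    by_cases huv : B u v = 1
    · exact Or.inl huv
    · exact Or.inr (eq_of_sq_eq_one_of_cyclic (hsq u v) (hsq u0 v0) huv h0)
  · push Not at h
    exact sq_val hexp B hBl hBr halt hnd 1 (fun u v => Or.inl (h u v))

end Cfsg.Agent.Lib.H21.Symp
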