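import Mathlib

/-!
# REQUEST-B (`sd`) for S4306

A `c`-invariant symmetric nondegenerate biadditive form on an elementary abelian 2-group `V` of
order `2 ^ (2 * m)`, `c` fixed-point-free of order dividing the prime `2 ^ m + 1`: every isometry
commuting with `c` of order prime to `2 ^ m + 1` is trivial.
-/

namespace Cfsg.Agent.Lib.H21.Symp

section sd
variable {V : Type*} [CommGroup V]

/-- `MulAut V → End (Additive V)` -/
def toE : MulAut V →* AddMonoid.End (Additive V) where
  toFun f := MonoidHom.toAdditive (f : V ≃* V).toMonoidHom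
  map_one' := rfl
  map_mul' _ _ := rfl

/-- application of an additive endomorphism to an element of `V` -/
def ap (r : AddMonoid.End (Additive V)) (v : V) : V := Additive.toMul (r (Additive.ofMul v))

theorem ap_toE (f : MulAut V) (v : V) : ap (toE f) v = f v := rfl
theorem ap_add (r s : AddMonoid.End (Additive V)) (v : V) : ap (r + s) v = ap r v * ap s v := rfl
theorem ap_mul (r s : AddMonoid.End (Additive V)) (v : V) : ap (r * s) v = ap r (ap s v) := rfl
theorem ap_one (v : V) : ap (1 : AddMonoid.End (Additive V)) v = v := rfl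
theorem ap_zero (v : V) : ap (0 : AddMonoid.End (Additive V)) v = 1 := rfl
theorem ap_map_mul (r : AddMonoid.End (Additive V)) (v w : V) :
    ap r (v * w) = ap r v * ap r w := by
  unfold ap
  rw [ofMul_mul, map_add, toMul_add]
theorem ap_map_one (r : AddMonoid.End (Additive V)) : ap r (1 : V) = 1 := by
  unfold ap
  rw [ofMul_one, map_zero, toMul_zero]

theorem ap_ext {r s : AddMonoid.End (Additive V)} (h : ∀ v : V, ap r v = ap s v) : r = s := by
  ext a
  have := h (Additive.toMul a)
  unfold ap at this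
  simpa using this

theorem ap_pow_toE (f : MulAut V) (k : ℕ) (v : V) : ap ((toE f) ^ k) v = (f ^ k) v := by
  rw [← map_pow]; rfl

/-- in exponent 2, `r + r = 0` -/
theorem end_add_self (hexp : ∀ v : V, v ^ 2 = 1) (r : AddMonoid.End (Additive V)) : r + r = 0 := by
  apply ap_ext
  intro v
  rw [ap_add, ap_zero, ← pow_two]
  exact hexp _

theorem frob_add {E : Type*} [Ring E] (h2 : ∀ e : E, e + e = 0) {r s : E} (hrs : Commute r s)
    (m : ℕ) : (r + s) ^ (2 ^ m) = r ^ (2 ^ m) + s ^ (2 ^ m) := by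
  induction m with
  | zero => simp
  | succ m ih =>
    rw [pow_succ, pow_mul, ih, pow_mul, pow_mul]
    have hc : Commute (r ^ 2 ^ m) (s ^ 2 ^ m) := hrs.pow_pow _ _
    set a := r ^ 2 ^ m
    set b := s ^ 2 ^ m
    have hba : b * a = a * b := hc.eq.symm
    calc (a + b) ^ 2 = a ^ 2 + (a * b + a * b) + b ^ 2 := by
          rw [pow_two, pow_two, pow_two, mul_add, add_mul, add_mul, hba]; abel
      _ = a ^ 2 + b ^ 2 := by rw [h2, add_zero]

theorem commute_of_mem_closure {E : Type*} [Ring E] {g t r : E} (ht : t * g = g * t)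
    (hr : r ∈ Subring.closure ({g} : Set E)) : t * r = r * t := by
  have hle : Subring.closure ({g} : Set E) ≤ Subring.centralizer ({t} : Set E) := by
    rw [Subring.closure_le]
    intro z hz
    rw [Set.mem_singleton_iff] at hz
    subst hz
    rw [SetLike.mem_coe, Subring.mem_centralizer_iff]
    intro y hy
    rw [Set.mem_singleton_iff] at hy
    subst hy
    exact ht
  have := hle hr
  rw [Subring.mem_centralizer_iff] at this
  exact this t (Set.mem_singleton t)

theorem fermat_exp {m j : ℕ} (hj0 : 0 < j) (hj : j ≤ 2 * m)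
    (hdvd : 2 ^ m + 1 ∣ 2 ^ j - 1) : j = 2 * m := by
  by_contra hne
  have hlt : j < 2 * m := lt_of_le_of_ne hj hne
  rcases le_or_gt j m with h | h
  · have h1 : 2 ^ j ≤ 2 ^ m := Nat.pow_le_pow_right (by norm_num) h
    have h2 : 2 ^ 1 ≤ 2 ^ j := Nat.pow_le_pow_right (by norm_num) hj0
    have := Nat.le_of_dvd (by omega) hdvd
    omega
  · obtain ⟨i, hi⟩ := Nat.exists_eq_add_of_lt h
    -- j = m + i + 1
    have hpow : 2 ^ j = 2 ^ (i + 1) * 2 ^ m := by
      rw [hi, ← pow_add]; congr 1; omega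
    have hd2 : 2 ^ m + 1 ∣ 2 ^ (i + 1) * (2 ^ m + 1) := Dvd.intro_left _ rfl
    have hsub := Nat.dvd_sub hd2 hdvd
    have hT : 1 ≤ 2 ^ (i + 1) := Nat.one_le_two_pow
    have hP : 1 ≤ 2 ^ m := Nat.one_le_two_pow
    have hX : 1 ≤ 2 ^ (i + 1) * 2 ^ m := Nat.mul_pos hT hP
    have heq : 2 ^ (i + 1) * (2 ^ m + 1) - (2 ^ j - 1) = 2 ^ (i + 1) + 1 := by
      rw [hpow, mul_add, mul_one]
      generalize 2 ^ (i + 1) * 2 ^ m = X at hX
      omega
    rw [heq] at hsub
    have hle := Nat.le_of_dvd (by omega) hsub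
    have h3 : 2 ^ (i + 1) < 2 ^ m := Nat.pow_lt_pow_right (by norm_num) (by omega)
    omega

/-- orbit counting: a subgroup invariant under a fixed-point-free automorphism of prime order. -/
theorem card_modEq_one_of_fpf [Finite V] {q : ℕ} (hq : q.Prime) (c : MulAut V) (hc : c ^ q = 1)
    (hcfpf : ∀ v, c v = v → v = 1) (U : Subgroup V) (hU : ∀ v ∈ U, c v ∈ U) :
    Nat.card U ≡ 1 [MOD q] := by
  classical
  haveI : Fintype U := Fintype.ofFinite _
  haveI : Fact q.Prime := ⟨hq⟩
  let f : Function.End U := fun u => ⟨c u.1, hU u.1 u.2⟩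
  have hfk : ∀ k : ℕ, ∀ u : U, (((f ^ k) u : U) : V) = (c ^ k) u.1 := by
    intro k
    induction k with
    | zero => intro u; rfl
    | succ k ih =>
      intro u
      rw [pow_succ', pow_succ']
      show c ((f ^ k) u : V) = _
      rw [ih u]; rfl
  have hf : f ^ q ^ 1 = 1 := by
    rw [pow_one]
    funext u
    apply Subtype.ext
    rw [hfk q u, hc]; rfl
  have h1 := Equiv.Perm.card_fixedPoints_modEq hf
  rw [Nat.card_eq_fintype_card]
  refine h1.trans ?_
  have h2 : Fintype.card (Function.fixedPoints f) = 1 := by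
    rw [Fintype.card_eq_one_iff]
    refine ⟨⟨1, ?_⟩, ?_⟩
    · show f 1 = 1
      apply Subtype.ext
      show c (1 : V) = 1
      exact map_one c
    · intro y
      apply Subtype.ext
      apply Subtype.ext
      have hy : f y.1 = y.1 := y.2
      have hy' : c (y.1 : V) = (y.1 : V) := congrArg Subtype.val hy
      exact hcfpf _ hy'
  rw [h2]

/-- irreducibility: a nontrivial invariant subgroup is everything -/
theorem eq_top_of_invariant [Finite V] {m : ℕ} (hq : (2 ^ m + 1).Prime)
    (hcard : Nat.card V = 2 ^ (2 * m)) (c : MulAut V) (hc : c ^ (2 ^ m + 1) = 1)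
    (hcfpf : ∀ v, c v = v → v = 1) (U : Subgroup V) (hU : ∀ v ∈ U, c v ∈ U)
    (hne : ∃ v ∈ U, v ≠ 1) : U = ⊤ := by
  have hmod := card_modEq_one_of_fpf hq c hc hcfpf U hU
  have hdvd : Nat.card U ∣ 2 ^ (2 * m) := hcard ▸ Subgroup.card_subgroup_dvd_card U
  obtain ⟨j, hj, hUj⟩ := (Nat.dvd_prime_pow Nat.prime_two).mp hdvd
  have hj0 : 0 < j := by
    rcases Nat.eq_zero_or_pos j with h | h
    · exfalso
      subst h
      rw [pow_zero] at hUj
      obtain ⟨v, hvU, hv1⟩ := hne
      have hbot : U = ⊥ := Subgroup.card_eq_one.mp hUj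
      rw [hbot, Subgroup.mem_bot] at hvU
      exact hv1 hvU
    · exact h
  have hd : 2 ^ m + 1 ∣ 2 ^ j - 1 := by
    rw [hUj] at hmod
    exact (Nat.modEq_iff_dvd' Nat.one_le_two_pow).mp hmod.symm
  have hj2 := fermat_exp hj0 hj hd
  apply Subgroup.eq_top_of_card_eq
  rw [hUj, hcard, hj2]

/-- **REQUEST-B.** -/
theorem sd {V : Type*} [CommGroup V] [Finite V] {Y : Type*} [CommGroup Y] {m : ℕ}
    (hq : (2 ^ m + 1).Prime) (hexp : ∀ v : V, v ^ 2 = 1) (hcard : Nat.card V = 2 ^ (2 * m))
    (B : V → V → Y) (hBl : ∀ u v w, B (u * v) w = B u w * B v w)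
    (hBr : ∀ u v w, B u (v * w) = B u v * B u w) (hsymm : ∀ u v, B u v = B v u)
    (hnd : ∀ u, (∀ v, B u v = 1) → u = 1) (c x : MulAut V) (hc : c ^ (2 ^ m + 1) = 1)
    (hcfpf : ∀ v, c v = v → v = 1) (hcB : ∀ u v, B (c u) (c v) = B u v)
    (hxB : ∀ u v, B (x u) (x v) = B u v) (hxc : x * c = c * x) {n : ℕ} (hxn : x ^ n = 1)
    (hn : n.Coprime (2 ^ m + 1)) : x = 1 := by
  by_cases htriv : ∀ v : V, v = 1
  · ext v
    rw [htriv (x v), htriv ((1 : MulAut V) v)]
  push Not at htriv
  obtain ⟨v0, hv0⟩ := htriv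
  set k := 2 ^ m with hk
  have hk0 : k ≠ 0 := by positivity
  -- basic facts on B
  have hB1l : ∀ w, B 1 w = 1 := by
    intro w
    have h := hBl 1 1 w
    rw [one_mul] at h
    have h2 : B 1 w * 1 = B 1 w * B 1 w := by rw [mul_one]; exact h
    exact (mul_left_cancel h2).symm
  have hB1r : ∀ w, B w 1 = 1 := fun w => by rw [hsymm]; exact hB1l w
  set cE : AddMonoid.End (Additive V) := toE c with hcE
  set xE : AddMonoid.End (Additive V) := toE x with hxE
  have h2 := end_add_self hexp
  have hcEq : cE ^ k * cE = 1 := by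
    rw [← pow_succ, hcE, ← map_pow, hc, map_one]
  have hcEq' : cE * cE ^ k = 1 := by
    rw [← pow_succ', hcE, ← map_pow, hc, map_one]
  set R := Subring.closure ({cE} : Set (AddMonoid.End (Additive V))) with hR
  have hcR : cE ∈ R := Subring.subset_closure (Set.mem_singleton _)
  have hcomm : ∀ r ∈ R, ∀ s ∈ R, r * s = s * r := by
    intro r hr s hs
    have h1 : s * cE = cE * s := (commute_of_mem_closure (g := cE) (t := cE) rfl hs).symm
    exact (commute_of_mem_closure h1 hr).symm
  have hxcomm : ∀ r ∈ R, xE * r = r * xE := by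
    intro r hr
    refine commute_of_mem_closure ?_ hr
    rw [hxE, hcE, ← map_mul, ← map_mul, hxc]
  -- adjoint
  have hadj : ∀ r ∈ R, ∀ u v : V, B (ap r u) v = B u (ap (r ^ k) v) := by
    intro r hr
    induction hr using Subring.closure_induction with
    | mem r hr =>
      intro u v
      rw [Set.mem_singleton_iff] at hr
      subst hr
      have h := hcB u (ap (cE ^ k) v)
      rw [← ap_toE c (ap (cE ^ k) v), ← hcE, ← ap_mul, hcEq', ap_one] at h
      rw [← h]; rfl
    | zero =>
      intro u v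
      rw [zero_pow hk0, ap_zero, ap_zero, hB1l, hB1r]
    | one =>
      intro u v
      rw [one_pow, ap_one, ap_one]
    | add r s hr hs ihr ihs =>
      intro u v
      have hrs : Commute r s := hcomm r hr s hs
      rw [frob_add h2 hrs m, ap_add, ap_add, hBl, hBr, ihr, ihs]
    | neg r hr ihr =>
      intro u v
      have : -r = r := by
        have := h2 r
        exact neg_eq_of_add_eq_zero_left this
      rw [this]
      exact ihr u v
    | mul r s hr hs ihr ihs =>
      intro u v
      have hrs : Commute r s := hcomm r hr s hs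
      rw [hrs.mul_pow, ap_mul, ihr, ihs, ← ap_mul, (hrs.pow_pow k k).eq]
  -- cyclicity
  let U : Subgroup V :=
    { carrier := {v | ∃ r ∈ R, v = ap r v0}
      one_mem' := ⟨0, R.zero_mem, (ap_zero v0).symm⟩
      mul_mem' := by
        rintro a b ⟨r, hr, rfl⟩ ⟨s, hs, rfl⟩
        exact ⟨r + s, R.add_mem hr hs, (ap_add r s v0)⟩
      inv_mem' := by
        rintro a ⟨r, hr, rfl⟩
        refine ⟨r, hr, ?_⟩
        exact inv_eq_of_mul_eq_one_left (by rw [← pow_two]; exact hexp _) }
  have hUtop : U = ⊤ := by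
    refine eq_top_of_invariant hq hcard c hc hcfpf U ?_ ⟨v0, ⟨1, R.one_mem, (ap_one v0).symm⟩, hv0⟩
    rintro v ⟨r, hr, rfl⟩
    exact ⟨cE * r, R.mul_mem hcR hr, by rw [ap_mul, hcE, ap_toE]⟩
  have hcyc : ∀ v : V, ∃ r ∈ R, v = ap r v0 := by
    intro v
    have : v ∈ U := by rw [hUtop]; exact Subgroup.mem_top v
    exact this
  -- x acts as some r ∈ R
  obtain ⟨r, hr, hxr⟩ := hcyc (x v0)
  have hxall : ∀ v : V, x v = ap r v := by
    intro v
    obtain ⟨s, hs, rfl⟩ := hcyc v
    rw [← ap_toE x, ← hxE, ← ap_mul, hxcomm s hs, ap_mul, hxE, ap_toE, hxr, ← ap_mul, ← ap_mul,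
      hcomm r hr s hs]
  -- r ^ (k+1) = 1
  have hrq : ∀ v : V, ap (r ^ k * r) v = v := by
    intro v
    have hall : ∀ u : V, B (ap (r ^ k * r) v * v) u = 1 := by
      intro u
      rw [hsymm, hBr, ap_mul, ← hadj r hr, ← hxall, ← hxall, hxB, ← hBr, ← pow_two, hexp, hB1r]
    have := hnd _ hall
    calc ap (r ^ k * r) v = ap (r ^ k * r) v * v * v := by
            rw [mul_assoc, ← pow_two, hexp, mul_one]
      _ = v := by rw [this, one_mul]
  have hxpow : ∀ j : ℕ, ∀ v : V, (x ^ j) v = ap (r ^ j) v := by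
    intro j
    induction j with
    | zero => intro v; rfl
    | succ j ih =>
      intro v
      rw [pow_succ, pow_succ, ap_mul, ← hxall, ← ih]; rfl
  have hxq : x ^ (k + 1) = 1 := by
    ext v
    rw [hxpow, pow_succ, hrq]; rfl
  have hord1 : orderOf x ∣ n := orderOf_dvd_of_pow_eq_one hxn
  have hord2 : orderOf x ∣ k + 1 := orderOf_dvd_of_pow_eq_one hxq
  have : orderOf x ∣ 1 := by
    have := Nat.dvd_gcd hord1 hord2
    rwa [hn] at this
  exact orderOf_eq_one_iff.mp (Nat.dvd_one.mp this)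

end sd

end Cfsg.Agent.Lib.H21.Symp
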