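import Mathlib
import Cfsg.Agent.Lib.H17.GHDefs
import Cfsg.Agent.Lib.H21.GHKE
/-!
S4402 pieces K1 `card_T_center` and K6 `cent_Omc` (helper21), exact sigs of tools/blueprints/S4402_sigs.lean.
Also `forall_mem_Omc_iff`: quantification over `Omc` as quantification over `Fin 128`.
-/
set_option autoImplicit false
set_option linter.dupNamespace false
namespace Cfsg.Agent.Lib.H21.GH
open Subgroup Cfsg.Agent.Lib.H17.GH Cfsg.Agent.Lib.H14.A8Sylow

theorem zc_mem_T : zc ∈ T := T.mul_mem (dsw_mem_T 0 1) (dsw_mem_T 2 3)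

set_option maxRecDepth 1000000 in
theorem center_enc : ∀ n : Fin 128, (∀ m : Fin 128, enc n * enc m = enc m * enc n) ↔
    (enc n = 1 ∨ enc n = zc) := by decide +kernel

/-- K1. Order and centre. -/
theorem card_T_center : Nat.card T = 128 ∧ zc ∈ T ∧ zc ≠ 1 ∧ zc * zc = 1 ∧
    ∀ x ∈ T, (∀ y ∈ T, x * y = y * x) ↔ (x = 1 ∨ x = zc) := by
  refine ⟨card_T, zc_mem_T, by decide, by decide, ?_⟩
  rw [forall_mem_T_iff]
  intro n
  rw [forall_mem_T_iff (fun y => enc n * y = y * enc n)]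
  exact center_enc n

/-- quantification over `Omc` as quantification over `Fin 128`. -/
theorem forall_mem_Omc_iff (Q : Equiv.Perm (Fin 8) → Prop) :
    (∀ x ∈ Omc, Q x) ↔
      ∀ m : Fin 128, (enc m * enc m = 1 ∧ ∀ i, blk4 (enc m i) ≠ blk4 i) → Q (enc m) := by
  constructor
  · intro h m hm
    exact h _ ⟨enc_mem_T m, hm.1, hm.2⟩
  · rintro h x ⟨hxT, hx2, hx4⟩
    obtain ⟨m, rfl⟩ := (mem_T_iff_enc x).mp hxT
    exact h m ⟨hx2, hx4⟩

set_option maxRecDepth 1000000 in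
theorem cent_Omc_enc : ∀ n : Fin 128,
    (∀ m : Fin 128, (enc m * enc m = 1 ∧ ∀ i, blk4 (enc m i) ≠ blk4 i) →
      enc n * enc m = enc m * enc n) → (enc n = 1 ∨ enc n = zc) := by decide +kernel

/-- K6. The centralizer of `Omc` in `T` is `{1, zc}`. -/
theorem cent_Omc : ∀ y ∈ T, (∀ x ∈ Omc, y * x = x * y) → y = 1 ∨ y = zc := by
  rw [forall_mem_T_iff]
  intro n h
  rw [forall_mem_Omc_iff (fun x => enc n * x = x * enc n)] at h
  exact cent_Omc_enc n h

end Cfsg.Agent.Lib.H21.GH
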