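import Mathlib
import Cfsg.Agent.Lib.H19.SGTDefs

/-!
# S3795 piece MLR (helper21): the main lemma over `𝔽_r`, parametric form

`comm_cent_of_module_of`: the statement of `comm_cent_of_module` with the main lemma
`cfg_centralizes` (over `k = AlgebraicClosure (ZMod r)`, `W = k ⊗ M`) as a hypothesis `hML`
(to be discharged by `fun R htk h2k h => cfg_centralizes htv ht2 hv2 htk h2k hn h`).
`R := closure (commSet U τ)`; `hgen` by the "inverted elements" trick.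
-/

set_option autoImplicit false
set_option linter.unusedSectionVars false
set_option linter.unusedVariables false
set_option linter.style.haveILetI false

namespace Cfsg.Agent.Lib.H21.SGT

open Module Cfsg Cfsg.Agent.Lib.H19.SG Cfsg.Agent.Lib.H19.SGT Cfsg.Agent.Lib.H19.ModRep
  Cfsg.Agent.Lib.H1 Cfsg.Agent.Lib.H1.QuadMul
open scoped TensorProduct

universe u uΓ

variable {Γ : Type uΓ} [Group Γ]

/-- `τ² = 1` -/
theorem mlr_tau_sq {s : Γ} {n : ℕ} (hn : 0 < n) (hs : s ^ (2 ^ n) = 1) :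
    tau s n * tau s n = 1 := by
  unfold tau
  rw [← pow_add, ← two_mul, ← pow_succ', Nat.sub_add_cancel hn, hs]

/-- `τ⁻¹ = τ` -/
theorem mlr_tau_inv {s : Γ} {n : ℕ} (hn : 0 < n) (hs : s ^ (2 ^ n) = 1) :
    (tau s n)⁻¹ = tau s n :=
  inv_eq_of_mul_eq_one_right (mlr_tau_sq hn hs)

/-- `s` commutes with `τ` -/
theorem mlr_s_tau (s : Γ) (n : ℕ) : s * tau s n = tau s n * s := by
  unfold tau
  exact ((Commute.refl s).pow_right _).eq

/-- a subgroup normalized by `s` is normalized by `τ` -/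
theorem mlr_tau_conj_mem {s : Γ} (n : ℕ) (U : Subgroup Γ) (hsU : ∀ x ∈ U, s * x * s⁻¹ ∈ U) :
    ∀ x ∈ U, tau s n * x * (tau s n)⁻¹ ∈ U := by
  have key : ∀ i : ℕ, ∀ x ∈ U, s ^ i * x * (s ^ i)⁻¹ ∈ U := by
    intro i
    induction i with
    | zero => intro x hx; simpa using hx
    | succ i ih =>
      intro x hx
      have h1 := hsU _ (ih x hx)
      have h2 : s ^ (i + 1) * x * (s ^ (i + 1))⁻¹ = s * (s ^ i * x * (s ^ i)⁻¹) * s⁻¹ := by
        rw [pow_succ']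
        group
      rw [h2]
      exact h1
  intro x hx
  exact key _ x hx

/-- conjugation by `g` maps `closure S` into `closure S'` when it maps `S` into `S'` -/
theorem mlr_conj_closure (g : Γ) (S : Set Γ) (K : Subgroup Γ)
    (h : ∀ y ∈ S, g * y * g⁻¹ ∈ K) : ∀ y ∈ Subgroup.closure S, g * y * g⁻¹ ∈ K := by
  intro y hy
  induction hy using Subgroup.closure_induction with
  | mem y hy => exact h y hy
  | one => simp
  | mul a b _ _ iha ihb =>
    have e : g * (a * b) * g⁻¹ = (g * a * g⁻¹) * (g * b * g⁻¹) := by group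
    rw [e]
    exact K.mul_mem iha ihb
  | inv a _ iha =>
    have e : g * a⁻¹ * g⁻¹ = (g * a * g⁻¹)⁻¹ := by group
    rw [e]
    exact K.inv_mem iha

/-- the "inverted elements" trick: an element `c` of odd order inverted by the involution `τ`
is `(d⁻¹ τ d τ⁻¹)⁻¹` for the power `d` of `c` with `d² = c` -/
theorem mlr_inverted {τ c : Γ} (hτ : τ * τ = 1) (hc : τ * c * τ⁻¹ = c⁻¹) (hodd : Odd (orderOf c)) :
    ∃ d ∈ Subgroup.zpowers c, c = (d⁻¹ * τ * d * τ⁻¹)⁻¹ := by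
  obtain ⟨j, hj⟩ := hodd
  refine ⟨c ^ (j + 1), Subgroup.pow_mem _ (Subgroup.mem_zpowers c) _, ?_⟩
  have h1 : τ * c ^ (j + 1) * τ⁻¹ = (c ^ (j + 1))⁻¹ := by
    have h2 : τ * c ^ (j + 1) * τ⁻¹ = (τ * c * τ⁻¹) ^ (j + 1) := by
      rw [conj_pow]
    rw [h2, hc, inv_pow]
  have h3 : c ^ (j + 1) * c ^ (j + 1) = c := by
    rw [← pow_add]
    have : j + 1 + (j + 1) = orderOf c + 1 := by omega
    rw [this, pow_succ, pow_orderOf_eq_one, one_mul]
  have h4 : (c ^ (j + 1))⁻¹ * τ * c ^ (j + 1) * τ⁻¹ = (c ^ (j + 1))⁻¹ * (c ^ (j + 1))⁻¹ := by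
    rw [← h1]
    group
  rw [h4, mul_inv_rev, inv_inv, h3]

variable {r : ℕ} [Fact r.Prime] {M : Type*} [AddCommGroup M] [Module (ZMod r) M]

/-- **MLR, parametric form**: `hML` is the main lemma `cfg_centralizes` over the algebraic
closure. -/
theorem comm_cent_of_module_of [Finite Γ] [Module.Finite (ZMod r) M] (hr2 : r ≠ 2)
    (ρ : Representation (ZMod r) Γ M) {s : Γ} {n : ℕ} (hn : 0 < n) (hs : s ^ (2 ^ n) = 1)
    (hfixM : ∀ m : M, ρ s m = m → m = 0)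
    {t v : ℕ} [Fact t.Prime] [Fact v.Prime] (htv : t ≠ v) (ht2 : t ≠ 2) (hv2 : v ≠ 2)
    (htr : t ≠ r) (Q U : Subgroup Γ) (hQ : IsPGroup t Q) (hU : IsPGroup v U)
    (hsQ : ∀ q ∈ Q, s * q * s⁻¹ ∈ Q) (hsU : ∀ x ∈ U, s * x * s⁻¹ ∈ U)
    (hUQ : ∀ x ∈ U, ∀ q ∈ Q, x * q * x⁻¹ ∈ Q) (hfaith : ∀ q ∈ Q, ρ q = 1 → q = 1)
    (hML : ∀ R : Subgroup Γ, ((t : ℕ) : AlgebraicClosure (ZMod r)) ≠ 0 →
      (2 : AlgebraicClosure (ZMod r)) ≠ 0 →
      Cfg (bc (AlgebraicClosure (ZMod r)) ρ) s n Q R t v → Cent R Q) :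
    ∀ x ∈ U, ∀ q ∈ Q, (x⁻¹ * tau s n * x * (tau s n)⁻¹) * q =
      q * (x⁻¹ * tau s n * x * (tau s n)⁻¹) := by
  have hr : r.Prime := Fact.out
  have hv : v.Prime := Fact.out
  set τ := tau s n with hτdef
  have hτ2 : τ * τ = 1 := mlr_tau_sq hn hs
  have hτinv : τ⁻¹ = τ := mlr_tau_inv hn hs
  have hτU : ∀ x ∈ U, τ * x * τ⁻¹ ∈ U := mlr_tau_conj_mem n U hsU
  -- the field
  let k := AlgebraicClosure (ZMod r)
  haveI : CharP k r := charP_of_injective_algebraMap (algebraMap (ZMod r) k).injective r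
  have h2k : ((2 : ℕ) : k) ≠ 0 := by
    rw [Ne, CharP.cast_eq_zero_iff k r 2]
    intro hdvd
    exact hr2 ((Nat.prime_dvd_prime_iff_eq hr Nat.prime_two).mp hdvd)
  -- the subgroup `R`
  set R : Subgroup Γ := Subgroup.closure (commSet U τ) with hRdef
  have hcU : ∀ y ∈ commSet U τ, y ∈ U := by
    rintro y ⟨x, hx, rfl⟩
    have h1 : x⁻¹ * τ * x * τ⁻¹ = x⁻¹ * (τ * x * τ⁻¹) := by group
    rw [h1]
    exact U.mul_mem (U.inv_mem hx) (hτU x hx)
  have hRU : R ≤ U := (Subgroup.closure_le U).2 hcU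
  have hcfg : Cfg (bc k ρ) s n Q R t v :=
    { hs := hs
      hfpf := by
        have h2nk : ((2 ^ n : ℕ) : k) ≠ 0 := by
          rw [Nat.cast_pow]
          exact pow_ne_zero n h2k
        exact fpf_bc' k h2nk ρ s hs hfixM
      hQ := hQ
      hR := hU.to_le hRU
      hsQ := hsQ
      hsR := by
        apply mlr_conj_closure s (commSet U τ) R
        rintro y ⟨x, hx, rfl⟩
        apply Subgroup.subset_closure
        refine ⟨s * x * s⁻¹, hsU x hx, ?_⟩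
        have h1 : s * τ = τ * s := mlr_s_tau s n
        have e1 : s⁻¹ * τ * s = τ := by
          rw [mul_assoc, ← h1, inv_mul_cancel_left]
        have e2 : s⁻¹ * τ⁻¹ = τ⁻¹ * s⁻¹ := by
          rw [← mul_inv_rev, ← mul_inv_rev, h1]
        symm
        calc (s * x * s⁻¹)⁻¹ * τ * (s * x * s⁻¹) * τ⁻¹
            = s * x⁻¹ * (s⁻¹ * τ * s) * x * (s⁻¹ * τ⁻¹) := by group
          _ = s * x⁻¹ * τ * x * (τ⁻¹ * s⁻¹) := by rw [e1, e2]
          _ = s * (x⁻¹ * τ * x * τ⁻¹) * s⁻¹ := by group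
      hRQ := fun x hx q hq => hUQ x (hRU hx) q hq
      hgen := by
        rw [hRdef, Subgroup.closure_le]
        rintro c ⟨x, hx, rfl⟩
        have hcR : x⁻¹ * τ * x * τ⁻¹ ∈ R := Subgroup.subset_closure ⟨x, hx, rfl⟩
        have hinv : τ * (x⁻¹ * τ * x * τ⁻¹) * τ⁻¹ = (x⁻¹ * τ * x * τ⁻¹)⁻¹ := by
          have e1 : τ * (x⁻¹ * τ * x * τ⁻¹) * τ⁻¹ = τ * x⁻¹ * τ * x * (τ⁻¹ * τ⁻¹) := by group
          have e2 : τ⁻¹ * τ⁻¹ = 1 := by rw [hτinv]; exact hτ2
          have e3 : (x⁻¹ * τ * x * τ⁻¹)⁻¹ = τ * x⁻¹ * τ⁻¹ * x := by group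
          rw [e1, e2, e3, hτinv, mul_one]
        have hodd : Odd (orderOf (x⁻¹ * τ * x * τ⁻¹)) := by
          obtain ⟨j, hj⟩ := (IsPGroup.iff_orderOf.1 hU) ⟨_, hRU hcR⟩
          rw [Subgroup.orderOf_mk] at hj
          rw [hj]
          exact (hv.odd_of_ne_two hv2).pow
        obtain ⟨d, hd, hcd⟩ := mlr_inverted hτ2 hinv hodd
        have hdR : d ∈ R := (Subgroup.zpowers_le.2 hcR) hd
        rw [SetLike.mem_coe, hcd]
        apply Subgroup.inv_mem
        exact Subgroup.subset_closure ⟨d, hdR, rfl⟩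
      hfaith := by
        intro q hq h1
        apply hfaith q hq
        apply bc_injective k
        rw [LinearMap.baseChange_one]
        exact h1 }
  have htk : ((t : ℕ) : k) ≠ 0 := by
    rw [Ne, CharP.cast_eq_zero_iff k r t]
    intro hdvd
    exact htr ((Nat.prime_dvd_prime_iff_eq hr (Fact.out : t.Prime)).mp hdvd).symm
  have h2k' : (2 : k) ≠ 0 := by
    have := h2k
    rwa [Nat.cast_ofNat] at this
  have hcent := hML R htk h2k' hcfg
  intro x hx q hq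
  exact hcent _ (Subgroup.subset_closure ⟨x, hx, rfl⟩) q hq

end Cfsg.Agent.Lib.H21.SGT
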