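import Mathlib
import Cfsg.Agent.Lib.H19.SGTDefs
import Cfsg.Agent.Lib.H19.FittingCrit
import Cfsg.Agent.Lib.H21.SGTMLR
import Cfsg.Agent.Lib.H27.SGTGL1

/-!
# S3795 piece DLIN (helper21): `[H, τ] ≤ F(H)`, parametric form

`sg2_vabs_of`: the statement of `sg2_vabs` with MLR (`comm_cent_of_module`) as a hypothesis.
-/

set_option autoImplicit false
set_option linter.unusedSectionVars false
set_option linter.unusedVariables false
set_option linter.style.haveILetI false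
set_option maxHeartbeats 1000000

namespace Cfsg.Agent.Lib.H21.SGT

open Module Cfsg Cfsg.Agent.Lib.H19.SG Cfsg.Agent.Lib.H19.SGT Cfsg.Agent.Lib.H19.ModRep
  Cfsg.Agent.Lib.H1 Cfsg.Agent.Lib.H1.QuadMul

universe u uΓ

/-- the image of a Sylow subgroup under a homomorphism is a Sylow subgroup of the image -/
theorem dlin_isSylowOf_map {G G' : Type*} [Group G] [Group G'] [Finite G] [Finite G']
    (f : G →* G') {p : ℕ} [Fact p.Prime] {K P : Subgroup G} (h : IsSylowOf p K P) :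
    IsSylowOf p (K.map f) (P.map f) := by
  have hf' := f.subgroupMap_surjective K
  let S' : Sylow p ↥(K.map f) := (h.toSylow).mapSurjective hf'
  have h1 := isSylowOf_map_sylow S'
  have h2 : ((S' : Subgroup ↥(K.map f))).map (K.map f).subtype = P.map f := by
    rw [Sylow.coe_mapSurjective, IsSylowOf.coe_toSylow, Subgroup.map_map]
    have h3 : (K.map f).subtype.comp (f.subgroupMap K) = f.comp K.subtype := by
      ext x
      rfl
    rw [h3, ← Subgroup.map_map, Subgroup.subgroupOf_map_subtype, inf_eq_left.mpr h.le]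
  rwa [h2] at h1

variable {Γ : Type uΓ} [Group Γ] {r : ℕ} [Fact r.Prime] {M : Type*} [AddCommGroup M]
  [Module (ZMod r) M]

/-- **DLIN, parametric form**: `hMLR` is the statement of MLR for the given `ρ`, `s`, `n`. -/
theorem sg2_vabs_of [Finite Γ] [Module.Finite (ZMod r) M] (hr2 : r ≠ 2)
    (ρ : Representation (ZMod r) Γ M) (H : Subgroup Γ) [H.Normal] (hHs : Group.IsSolvable ↥H)
    (hHodd : (Nat.card H).Coprime 2) (hfaith : ∀ h ∈ H, ρ h = 1 → h = 1) {s : Γ} {n : ℕ}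
    (hn : 0 < n) (hs : s ^ (2 ^ n) = 1)
    (hfixM : ∀ m : M, ρ s m = m → m = 0)
    (hOr : ∀ P : Subgroup Γ, P.Normal → P ≤ H → IsPGroup r P → P = ⊥)
    (hMLR : ∀ (t v : ℕ) [Fact t.Prime] [Fact v.Prime], t ≠ v → t ≠ 2 → v ≠ 2 → t ≠ r →
      ∀ (Q U : Subgroup Γ), IsPGroup t Q → IsPGroup v U →
      (∀ q ∈ Q, s * q * s⁻¹ ∈ Q) → (∀ x ∈ U, s * x * s⁻¹ ∈ U) →
      (∀ x ∈ U, ∀ q ∈ Q, x * q * x⁻¹ ∈ Q) → (∀ q ∈ Q, ρ q = 1 → q = 1) →
      ∀ x ∈ U, ∀ q ∈ Q, (x⁻¹ * tau s n * x * (tau s n)⁻¹) * q =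
        q * (x⁻¹ * tau s n * x * (tau s n)⁻¹)) :
    ∃ D : Subgroup Γ, D.Normal ∧ D ≤ H ∧ Group.IsNilpotent ↥D ∧
      ∀ h ∈ H, tau s n * h * (tau s n)⁻¹ * h⁻¹ ∈ D := by
  have hr : r.Prime := Fact.out
  have hHn : H.Normal := inferInstance
  have hNH : Subgroup.normalizer (H : Set Γ) = ⊤ := Subgroup.normalizer_eq_top H
  set τ := tau s n with hτdef
  have hτ2 : τ * τ = 1 := mlr_tau_sq hn hs
  have hτinv : τ⁻¹ = τ := mlr_tau_inv hn hs
  have hcharn : ∀ (C : Subgroup ↥H) [C.Characteristic], (C.map H.subtype).Normal := by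
    intro C _
    have h1 := normalizer_le_normalizer_map_of_characteristic (K := H) C
    rw [hNH, top_le_iff] at h1
    exact Subgroup.normalizer_eq_top_iff.mp h1
  haveI : Group.IsSolvable ↥H := hHs
  have h2H : ¬ 2 ∣ Nat.card H := by
    intro h
    have := Nat.Coprime.eq_one_of_dvd hHodd.symm h
    omega
  -- the subgroup `D`
  set D : Subgroup Γ := (fittingSubgroup ↥H).map H.subtype with hDdef
  have hDn : D.Normal := hcharn (fittingSubgroup ↥H)
  have hDH : D ≤ H := Subgroup.map_subtype_le _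
  have hDnil : Group.IsNilpotent ↥D := by
    haveI := fittingSubgroup_isNilpotent (G := ↥H)
    exact Group.nilpotent_of_mulEquiv
      ((fittingSubgroup ↥H).equivMapOfInjective H.subtype H.subtype_injective)
  refine ⟨D, hDn, hDH, hDnil, ?_⟩
  -- the commutator subgroup `K = [H, τ]`
  set KΓ : Subgroup Γ := Subgroup.closure (commSet H τ) with hKdef
  have hcH : ∀ y ∈ commSet H τ, y ∈ H := by
    rintro y ⟨x, hx, rfl⟩
    have h1 : x⁻¹ * τ * x * τ⁻¹ = x⁻¹ * (τ * x * τ⁻¹) := by group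
    rw [h1]
    exact H.mul_mem (H.inv_mem hx) (hHn.conj_mem x hx τ)
  have hKH : KΓ ≤ H := (Subgroup.closure_le H).2 hcH
  have hKnorm : ∀ g ∈ H, ∀ y ∈ KΓ, g * y * g⁻¹ ∈ KΓ := by
    intro g hg
    apply mlr_conj_closure g (commSet H τ) KΓ
    rintro y ⟨x, hx, rfl⟩
    have e : g * (x⁻¹ * τ * x * τ⁻¹) * g⁻¹ =
        ((x * g⁻¹)⁻¹ * τ * (x * g⁻¹) * τ⁻¹) * ((g⁻¹)⁻¹ * τ * g⁻¹ * τ⁻¹)⁻¹ := by group
    rw [e]
    exact KΓ.mul_mem (Subgroup.subset_closure ⟨x * g⁻¹, H.mul_mem hx (H.inv_mem hg), rfl⟩)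
      (KΓ.inv_mem (Subgroup.subset_closure ⟨g⁻¹, H.inv_mem hg, rfl⟩))
  have hKn : (KΓ.subgroupOf H).Normal := by
    refine ⟨fun y hy g => ?_⟩
    rw [Subgroup.mem_subgroupOf] at hy ⊢
    exact hKnorm g g.2 y hy
  -- the criterion
  have hcrit : KΓ.subgroupOf H ≤ fittingSubgroup ↥H := by
    apply Cfsg.Agent.Lib.H19.le_fittingSubgroup_of_coprime_centralizes hHs _ hKn
    intro t ht y hy hyt z hz
    have htp : t.Prime := ht.out
    rw [Subgroup.mem_subgroupOf] at hy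
    apply Subtype.ext
    show (y : Γ) * (z : Γ) = (z : Γ) * (y : Γ)
    -- the subgroup `Q = O_t(H)`
    set Q : Subgroup Γ := (Cfsg.pCore t ↥H).map H.subtype with hQdef
    have hzQ : (z : Γ) ∈ Q := Subgroup.mem_map_of_mem _ hz
    have hQn : Q.Normal := by
      haveI := pCore_characteristic t ↥H
      exact hcharn (Cfsg.pCore t ↥H)
    have hQH : Q ≤ H := Subgroup.map_subtype_le _
    have hQt : IsPGroup t Q := (pCore_isPGroup t ↥H).map _
    by_cases htr : t = r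
    · have h1 : Q = ⊥ := hOr Q hQn hQH (htr ▸ hQt)
      rw [h1, Subgroup.mem_bot] at hzQ
      rw [hzQ, mul_one, one_mul]
    by_cases ht2 : t = 2
    · have h1 : Cfsg.pCore t ↥H = ⊥ := pCore_eq_bot_of_not_dvd (by rw [ht2]; exact h2H)
      rw [h1, Subgroup.mem_bot] at hz
      rw [hz]
      simp
    -- the subgroup `C = C_H(Q)`
    have hTq : ∀ h z, z ∈ (Q : Set Γ) → h⁻¹ * z * h ∈ (Q : Set Γ) := by
      intro h z hz
      have := hQn.conj_mem z hz h⁻¹
      rwa [inv_inv] at this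
    have hCQn : (Subgroup.centralizer (Q : Set Γ)).Normal :=
      Cfsg.Agent.S3785.normal_centralizer_of_conj_invariant hTq
    set C : Subgroup Γ := H ⊓ Subgroup.centralizer (Q : Set Γ) with hCdef
    have hCn : C.Normal := Subgroup.normal_inf_normal _ _
    suffices hyC : (y : Γ) ∈ C by
      have h1 := (Subgroup.mem_inf.1 hyC).2
      rw [Subgroup.mem_centralizer_iff] at h1
      exact (h1 _ hzQ).symm
    -- invariant Sylow subgroups
    have hAp : IsPGroup 2 (Subgroup.zpowers s) := isPGroup_zpowers' Nat.prime_two hs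
    have hact : CoprimeAction (Subgroup.zpowers s) H :=
      Cfsg.Agent.Lib.H19.Ward.coprimeAction_of_isPGroup hAp hHodd (by rw [hNH]; exact le_top)
    have hsylC : ∀ v : ℕ, v.Prime → v ≠ t → ∃ U : Subgroup Γ, IsSylowOf v H U ∧
        ∀ x ∈ U, x⁻¹ * τ * x * τ⁻¹ ∈ C := by
      intro v hv hvt
      haveI : Fact v.Prime := ⟨hv⟩
      obtain ⟨U, hU, hAU⟩ := coprime_exists_invariant_sylow hact v
      refine ⟨U, hU, ?_⟩
      have hUH : U ≤ H := hU.le
      have hUv : IsPGroup v U := hU.isPGroup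
      have hsU : ∀ x ∈ U, s * x * s⁻¹ ∈ U := by
        intro x hx
        exact (Subgroup.mem_normalizer_iff.mp (hAU (Subgroup.mem_zpowers s)) x).mp hx
      intro x hx
      rw [hCdef, Subgroup.mem_inf]
      refine ⟨hcH _ ⟨x, hUH hx, rfl⟩, ?_⟩
      by_cases hv2 : v = 2
      · -- then `U` is trivial
        have h1 : Nat.card U = 1 := by
          rw [hU.card_eq, hv2, Nat.factorization_eq_zero_of_not_dvd h2H, pow_zero]
        have h2 : U = ⊥ := Subgroup.card_eq_one.mp h1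
        rw [h2, Subgroup.mem_bot] at hx
        rw [hx]
        simp
      · rw [Subgroup.mem_centralizer_iff]
        intro q hq
        exact (hMLR t v (Ne.symm hvt) ht2 hv2 htr Q U hQt hUv
          (fun q hq => hQn.conj_mem q hq s) hsU (fun x _ q hq => hQn.conj_mem q hq x)
          (fun q hq => hfaith q (hQH hq)) x hx q hq).symm
    -- pass to the quotient
    let π : Γ →* Γ ⧸ C := QuotientGroup.mk' C
    have hπ1 : ∀ g : Γ, π g = 1 ↔ g ∈ C := fun g => QuotientGroup.eq_one_iff g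
    haveI : Group.IsSolvable ↥(H.map π) :=
      Group.isSolvable_of_surjective (π.subgroupMap_surjective H)
    have hodd' : (Nat.card (H.map π)).Coprime 2 :=
      Nat.Coprime.coprime_dvd_left (Subgroup.card_map_dvd H π) hHodd
    have hτ2' : (π τ) ^ 2 = 1 := by
      rw [← map_pow, pow_two, hτ2, map_one]
    have hτH' : ∀ h ∈ H.map π, π τ * h * (π τ)⁻¹ ∈ H.map π := by
      rintro _ ⟨h, hh, rfl⟩
      exact ⟨τ * h * τ⁻¹, hHn.conj_mem h hh τ, by simp⟩
    have hsyl' : ∀ v : ℕ, v.Prime → v ≠ t → ∃ U : Subgroup (Γ ⧸ C), IsSylowOf v (H.map π) U ∧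
        ∀ x ∈ U, π τ * x = x * π τ := by
      intro v hv hvt
      haveI : Fact v.Prime := ⟨hv⟩
      obtain ⟨U, hU, hUC⟩ := hsylC v hv hvt
      refine ⟨U.map π, dlin_isSylowOf_map π hU, ?_⟩
      rintro _ ⟨x, hx, rfl⟩
      have h1 := (hπ1 _).2 (hUC x hx)
      rw [map_mul, map_mul, map_mul, map_inv, map_inv] at h1
      calc π τ * π x = π x * ((π x)⁻¹ * π τ * π x * (π τ)⁻¹) * π τ := by group
        _ = π x * π τ := by rw [h1, mul_one]
    obtain ⟨S, hSH, hSt, hS⟩ :=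
      Cfsg.Agent.Lib.H27.SGT.exists_pgroup_of_sylow_cent (H.map π) hodd' (π τ) hτ2' hτH' t hsyl'
    -- the image of `K` lies in `S`
    have hKS : KΓ.map π ≤ S := by
      rw [Subgroup.map_le_iff_le_comap, hKdef, Subgroup.closure_le]
      rintro _ ⟨x, hx, rfl⟩
      show π (x⁻¹ * τ * x * τ⁻¹) ∈ S
      have := hS (π x) ⟨x, hx, rfl⟩
      rwa [map_mul, map_mul, map_mul, map_inv, map_inv]
    have hyS : π (y : Γ) ∈ S := hKS ⟨_, hy, rfl⟩
    obtain ⟨j, hj⟩ := (IsPGroup.iff_orderOf.1 hSt) ⟨_, hyS⟩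
    rw [Subgroup.orderOf_mk] at hj
    have h1 : orderOf (π (y : Γ)) ∣ orderOf (y : Γ) := orderOf_map_dvd π _
    rw [Subgroup.orderOf_coe] at h1
    have h2 : (orderOf (π (y : Γ))).Coprime t := Nat.Coprime.coprime_dvd_left h1 hyt
    have h3 : orderOf (π (y : Γ)) = 1 := by
      rw [hj] at h2 ⊢
      rcases Nat.eq_zero_or_pos j with h0 | h0
      · rw [h0, pow_zero]
      · exfalso
        have h4 := Nat.Coprime.coprime_dvd_left (dvd_pow_self t h0.ne') h2
        rw [Nat.coprime_self] at h4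
        exact htp.one_lt.ne' h4
    exact (hπ1 _).1 (orderOf_eq_one_iff.mp h3)
  -- conclusion
  intro h hh
  have h1 : h * τ * h⁻¹ * τ⁻¹ ∈ KΓ := by
    have h0 : h⁻¹⁻¹ * τ * h⁻¹ * τ⁻¹ ∈ KΓ := Subgroup.subset_closure ⟨h⁻¹, H.inv_mem hh, rfl⟩
    rwa [inv_inv] at h0
  have h2 : (⟨h * τ * h⁻¹ * τ⁻¹, hKH h1⟩ : ↥H) ∈ fittingSubgroup ↥H := by
    apply hcrit
    rw [Subgroup.mem_subgroupOf]
    exact h1
  have h3 : h * τ * h⁻¹ * τ⁻¹ ∈ D := ⟨_, h2, rfl⟩
  have h4 : τ * h * τ⁻¹ * h⁻¹ = (h * τ * h⁻¹ * τ⁻¹)⁻¹ := by group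
  rw [h4]
  exact D.inv_mem h3

end Cfsg.Agent.Lib.H21.SGT
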