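import Mathlib

/-!
# Groups in which every non-normal subgroup is normalized by a maximal subgroup

`NormMax G`: every non-normal subgroup `H` of `G` is normalized by some maximal subgroup `M`
(equivalently: `N_G(H)` is a maximal subgroup).  Transfer along surjective homomorphisms
with suitable kernels.
-/

set_option autoImplicit false

namespace Cfsg.Agent.Lib.H21.NormMax

variable {G G' E : Type*} [Group G] [Group G'] [Group E]

/-- every non-normal subgroup is normalized by a maximal subgroup -/
def NormMax (G : Type*) [Group G] : Prop :=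
  ∀ H : Subgroup G, ¬ H.Normal →
    ∃ M : Subgroup G, IsCoatom M ∧ M ≤ Subgroup.normalizer (H : Set G)

theorem isCoatom_normalizer_of_le {H M : Subgroup G} (hM : IsCoatom M)
    (hMH : M ≤ Subgroup.normalizer (H : Set G)) (hH : ¬ H.Normal) :
    IsCoatom (Subgroup.normalizer (H : Set G)) := by
  have hne : Subgroup.normalizer (H : Set G) ≠ ⊤ := by
    intro h
    exact hH (Subgroup.normalizer_eq_top_iff.mp h)
  rcases eq_or_lt_of_le hMH with h | h
  · rw [← h]; exact hM
  · exact absurd (hM.2 _ h) hne

theorem NormMax.isCoatom_normalizer (h : NormMax G) (H : Subgroup G) (hH : ¬ H.Normal) :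
    IsCoatom (Subgroup.normalizer (H : Set G)) := by
  obtain ⟨M, hM, hMH⟩ := h H hH
  exact isCoatom_normalizer_of_le hM hMH hH

/-- the preimage of a maximal subgroup under a surjective homomorphism is maximal -/
theorem isCoatom_comap (f : E →* G') (hf : Function.Surjective f) {M : Subgroup G'}
    (hM : IsCoatom M) : IsCoatom (M.comap f) := by
  refine ⟨?_, ?_⟩
  · intro h
    apply hM.1
    rw [eq_top_iff]
    intro y _
    obtain ⟨x, rfl⟩ := hf y
    have : x ∈ M.comap f := h ▸ Subgroup.mem_top x
    exact this
  · intro L hL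
    have hker : f.ker ≤ L := by
      refine le_trans ?_ hL.le
      intro x hx
      rw [Subgroup.mem_comap, MonoidHom.mem_ker.mp hx]
      exact M.one_mem
    have h1 : M < L.map f := by
      refine lt_of_le_of_ne ?_ ?_
      · intro y hy
        obtain ⟨x, rfl⟩ := hf y
        exact ⟨x, hL.le hy, rfl⟩
      · intro h
        apply hL.ne
        rw [h, Subgroup.comap_map_eq, sup_eq_left.mpr hker]
    have h2 := hM.2 _ h1
    rw [← sup_eq_left.mpr hker, ← Subgroup.comap_map_eq, h2, Subgroup.comap_top]

/-- transfer of `NormMax` along a surjective homomorphism whose kernel `Z` has the property that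
normalizing `H Z` implies normalizing `H` -/
theorem normMax_of_surjective (f : E →* G') (hf : Function.Surjective f)
    (hZ : ∀ (H : Subgroup E) (g : E),
      g ∈ Subgroup.normalizer ((H ⊔ f.ker : Subgroup E) : Set E) →
      g ∈ Subgroup.normalizer (H : Set E))
    (h : NormMax G') : NormMax E := by
  intro H hH
  have hcm : (H.map f).comap f = H ⊔ f.ker := Subgroup.comap_map_eq f H
  have hn : ¬ (H.map f).Normal := by
    intro hn
    apply hH
    have h1 : ((H.map f).comap f).Normal := hn.comap f
    rw [hcm] at h1
    rw [← Subgroup.normalizer_eq_top_iff, eq_top_iff]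
    intro g _
    apply hZ H g
    rw [Subgroup.normalizer_eq_top_iff.mpr h1]
    exact Subgroup.mem_top g
  obtain ⟨M, hM, hMH⟩ := h (H.map f) hn
  refine ⟨M.comap f, isCoatom_comap f hf hM, ?_⟩
  intro g hg
  apply hZ H g
  rw [← hcm]
  have h2 := hMH hg
  rw [Subgroup.mem_normalizer_iff] at h2 ⊢
  intro x
  rw [Subgroup.mem_comap, Subgroup.mem_comap, map_mul, map_mul, map_inv]
  exact h2 (f x)

/-- transfer along an isomorphism -/
theorem normMax_of_mulEquiv (e : E ≃* G') (h : NormMax G') : NormMax E := by
  apply normMax_of_surjective e.toMonoidHom e.surjective _ h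
  intro H g hg
  have : (e.toMonoidHom).ker = ⊥ := (MonoidHom.ker_eq_bot_iff _).mpr e.injective
  rwa [this, sup_bot_eq] at hg

/-- one-sided invariance suffices for membership in the normalizer of a finite subgroup -/
theorem mem_normalizer_of_forall_conj_mem {H : Subgroup G} [Finite H] {g : G}
    (h : ∀ x ∈ H, g * x * g⁻¹ ∈ H) : g ∈ Subgroup.normalizer (H : Set G) := by
  rw [Subgroup.mem_normalizer_iff]
  intro x
  refine ⟨h x, fun hx => ?_⟩
  -- the injective map `H → H`, `x ↦ g x g⁻¹` is surjective
  let φ : H → H := fun y => ⟨g * y * g⁻¹, h y y.2⟩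
  have hinj : Function.Injective φ := by
    intro a b hab
    have := congrArg Subtype.val hab
    simp only [φ] at this
    exact Subtype.ext (mul_left_cancel (mul_right_cancel this))
  obtain ⟨y, hy⟩ := (Finite.injective_iff_surjective.mp hinj) ⟨g * x * g⁻¹, hx⟩
  have h2 := congrArg Subtype.val hy
  simp only [φ] at h2
  have : (y : G) = x := mul_left_cancel (mul_right_cancel h2)
  rw [← this]; exact y.2

/-- central kernel of exponent two: if `Z ≤ H` or `|H|` is odd then normalizing `H Z` implies
normalizing `H` -/
theorem mem_normalizer_of_sup_central {H Z : Subgroup E} [Finite H] (hZc : Z ≤ Subgroup.center E)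
    (hZ2 : ∀ z ∈ Z, z * z = 1) (hH : Z ≤ H ∨ Odd (Nat.card H)) {g : E}
    (hg : g ∈ Subgroup.normalizer ((H ⊔ Z : Subgroup E) : Set E)) :
    g ∈ Subgroup.normalizer (H : Set E) := by
  rcases hH with hH | hH
  · rwa [sup_eq_left.mpr hH] at hg
  · apply mem_normalizer_of_forall_conj_mem
    intro x hx
    have h1 : g * x * g⁻¹ ∈ H ⊔ Z :=
      (Subgroup.mem_normalizer_iff.mp hg x).mp (Subgroup.mem_sup_left hx)
    have : Z.Normal := by
      constructor
      intro z hz y
      have := Subgroup.mem_center_iff.mp (hZc hz) y
      rw [this, mul_inv_cancel_right]; exact hz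
    rw [Subgroup.mem_sup_of_normal_right] at h1
    obtain ⟨y, hy, z, hz, hyz⟩ := h1
    have hcomm : Commute y z := ((Subgroup.mem_center_iff.mp (hZc hz)) y)
    have hpow : (g * x * g⁻¹) ^ Nat.card H = 1 := by
      rw [conj_pow]
      have : x ^ Nat.card H = 1 := by
        have := pow_card_eq_one' (G := H) (x := ⟨x, hx⟩)
        exact congrArg Subtype.val this
      rw [this, mul_one, mul_inv_cancel]
    rw [← hyz, hcomm.mul_pow] at hpow
    have hy1 : y ^ Nat.card H = 1 := by
      have := pow_card_eq_one' (G := H) (x := ⟨y, hy⟩)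
      exact congrArg Subtype.val this
    rw [hy1, one_mul] at hpow
    obtain ⟨k, hk⟩ := hH
    rw [hk, pow_succ, pow_mul, pow_two, hZ2 z hz, one_pow, one_mul] at hpow
    rw [← hyz, hpow, mul_one]
    exact hy

end Cfsg.Agent.Lib.H21.NormMax
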