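import Cfsg.Agent.Lib.H20.MinIdxD4Defs

/-!
# S2140-D4, piece 5b: `n = 4`, `q ≥ 4`: `T(b, ψ)` is a commutator of two elements of `fr.N`
-/

set_option autoImplicit false

namespace Cfsg.Agent.Lib.H21.MinIdx

open Module Cfsg.Agent.Lib.H26.MinIdx Cfsg.Agent.Lib.H20.MinIdx

variable {F V : Type*} [Field F] [AddCommGroup V] [Module F V]

theorem d4_exists_dual_eq {ι : Type*} (v : ι → V) (hv : LinearIndependent F v) (c : ι → F) :
    ∃ f : Dual F V, ∀ i, f (v i) = c i := by
  obtain ⟨g, hg⟩ := LinearMap.exists_extend ((Basis.span hv).constr F c)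
  refine ⟨g, fun i => ?_⟩
  have h1 := LinearMap.congr_fun hg (Basis.span hv i)
  rw [Basis.constr_basis, LinearMap.comp_apply, Submodule.subtype_apply, Basis.span_apply] at h1
  exact h1

/-- the dilatransvection `x ↦ x + (s - 1) β x • b` (`β b = 1`, `s ≠ 0`), of determinant `s` -/
noncomputable def d4E (s : F) (hs : s ≠ 0) (β : Dual F V) (b : V) (hβb : β b = 1) : V ≃ₗ[F] V :=
  LinearEquiv.dilatransvection (f := (s - 1) • β) (v := b)
    (by rw [LinearMap.smul_apply, hβb, smul_eq_mul, mul_one, add_sub_cancel]; exact hs.isUnit)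

theorem d4E_apply (s : F) (hs : s ≠ 0) (β : Dual F V) (b : V) (hβb : β b = 1) (x : V) :
    d4E s hs β b hβb x = x + ((s - 1) * β x) • b := by
  unfold d4E
  rw [LinearEquiv.dilatransvection.apply, LinearMap.smul_apply, smul_eq_mul]

theorem d4E_det [Module.Finite F V] (s : F) (hs : s ≠ 0) (β : Dual F V) (b : V) (hβb : β b = 1) :
    (d4E s hs β b hβb).det = Units.mk0 s hs := by
  unfold d4E
  rw [← Units.val_inj, LinearEquiv.coe_det, LinearEquiv.dilatransvection.coe_toLinearMap,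
    LinearMap.transvection.det]
  simp [hβb]

/-- the element `x ↦ x + (t - 1) β x • b + (t⁻¹ - 1) ψ x • b'` of `SL(V)` (for `β b' = 0`), as a product of two
dilatransvections -/
noncomputable def d4Diag [Module.Finite F V] (t : F) (ht0 : t ≠ 0) (β ψ : Dual F V) (b b' : V)
    (hβb : β b = 1) (hψb' : ψ b' = 1) : SpecialLinearGroup F V :=
  ⟨d4E t ht0 β b hβb * d4E t⁻¹ (inv_ne_zero ht0) ψ b' hψb', by
    rw [map_mul, d4E_det, d4E_det, ← Units.val_inj]
    simp [ht0]⟩

theorem d4Diag_apply [Module.Finite F V] (t : F) (ht0 : t ≠ 0) (β ψ : Dual F V) (b b' : V)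
    (hβb : β b = 1) (hψb' : ψ b' = 1) (x : V) :
    d4Diag t ht0 β ψ b b' hβb hψb' x =
      x + ((t⁻¹ - 1) * ψ x) • b' + ((t - 1) * β (x + ((t⁻¹ - 1) * ψ x) • b')) • b := by
  have h1 : d4Diag t ht0 β ψ b b' hβb hψb' x =
      d4E t ht0 β b hβb (d4E t⁻¹ (inv_ne_zero ht0) ψ b' hψb' x) := rfl
  rw [h1, d4E_apply, d4E_apply]

/-- **S2140-D4-5b** (n = 4, q ≥ 4, given as: some `t ≠ 0` with `t² ≠ 1`). -/
theorem exists_comm_four [Module.Finite F V] (hn : finrank F V = 4) (t : F) (ht0 : t ≠ 0) (ht : t ^ 2 ≠ 1)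
    (fr : Frame F V) (b : V) (hb1 : fr.δ₁ b = 0) (hb2 : fr.δ₂ b = 0) :
    ∃ (ψ : Dual F V) (hψb : ψ b = 0), ψ ∈ fr.A ∧ ψ ≠ 0 ∧
      ∃ g ∈ fr.N, ∃ g' ∈ fr.N, tv ψ b hψb = g * g' * g⁻¹ * g'⁻¹ := by
  by_cases hb0 : b = 0
  · subst hb0
    have hli2 : LinearIndependent F ![fr.d₁, fr.d₂] := by
      rw [Fintype.linearIndependent_iff]
      intro g hg
      rw [Fin.sum_univ_two] at hg
      simp only [Matrix.cons_val] at hg
      have e1 := congrArg fr.δ₁ hg
      have e2 := congrArg fr.δ₂ hg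
      simp only [map_add, map_smul, smul_eq_mul, fr.h11, fr.h12, fr.h21, fr.h22, mul_one,
        mul_zero, add_zero, zero_add, map_zero] at e1 e2
      intro i; fin_cases i
      · exact e1
      · exact e2
    obtain ⟨x, hx⟩ := exists_linearIndependent_cons_of_lt_finrank hli2 (by omega)
    have hli3 : LinearIndependent F ![x, fr.d₁, fr.d₂] := hx
    obtain ⟨ψ, hψ⟩ := d4_exists_dual_eq _ hli3 ![1, 0, 0]
    have hψx : ψ x = 1 := by simpa using hψ 0
    have hψ1 : ψ fr.d₁ = 0 := by simpa using hψ 1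
    have hψ2 : ψ fr.d₂ = 0 := by simpa using hψ 2
    refine ⟨ψ, map_zero ψ, ⟨hψ1, hψ2⟩, ?_, 1, fr.N.one_mem, 1, fr.N.one_mem, ?_⟩
    · intro h0
      rw [h0] at hψx
      simp at hψx
    · rw [tv_zero_right]; simp
  · have hli3 : LinearIndependent F ![fr.d₁, fr.d₂, b] := by
      rw [Fintype.linearIndependent_iff]
      intro g hg
      rw [Fin.sum_univ_three] at hg
      simp only [Matrix.cons_val] at hg
      have e1 := congrArg fr.δ₁ hg
      have e2 := congrArg fr.δ₂ hg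
      simp only [map_add, map_smul, smul_eq_mul, fr.h11, fr.h12, fr.h21, fr.h22, hb1, hb2, mul_one,
        mul_zero, add_zero, zero_add, map_zero] at e1 e2
      have e3 : g 2 • b = 0 := by
        rw [e1, e2, zero_smul, zero_smul, zero_add, zero_add] at hg
        exact hg
      have e3' : g 2 = 0 := (smul_eq_zero.1 e3).resolve_right hb0
      intro i; fin_cases i
      · exact e1
      · exact e2
      · exact e3'
    obtain ⟨x, hx⟩ := exists_linearIndependent_cons_of_lt_finrank hli3 (by omega)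
    have hli4 : LinearIndependent F ![x, fr.d₁, fr.d₂, b] := hx
    obtain ⟨ψ, hψ⟩ := d4_exists_dual_eq _ hli4 ![1, 0, 0, 0]
    obtain ⟨β, hβ⟩ := d4_exists_dual_eq _ hli4 ![0, 0, 0, 1]
    have hψx : ψ x = 1 := by simpa using hψ 0
    have hψ1 : ψ fr.d₁ = 0 := by simpa using hψ 1
    have hψ2 : ψ fr.d₂ = 0 := by simpa using hψ 2
    have hψb : ψ b = 0 := by simpa using hψ 3
    have hβx : β x = 0 := by simpa using hβ 0
    have hβ1 : β fr.d₁ = 0 := by simpa using hβ 1
    have hβ2 : β fr.d₂ = 0 := by simpa using hβ 2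
    have hβb : β b = 1 := by simpa using hβ 3
    set b' : V := x - fr.δ₁ x • fr.d₁ - fr.δ₂ x • fr.d₂ with hb'
    have hψb' : ψ b' = 1 := by
      rw [hb', map_sub, map_sub, map_smul, map_smul, hψ1, hψ2, hψx]; simp
    have hβb' : β b' = 0 := by
      rw [hb', map_sub, map_sub, map_smul, map_smul, hβ1, hβ2, hβx]; simp
    have hδ2b' : fr.δ₂ b' = 0 := by
      rw [hb', map_sub, map_sub, map_smul, map_smul, fr.h21, fr.h22]; simp
    set h := d4Diag t ht0 β ψ b b' hβb hψb' with hh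
    have happ : ∀ y, h y = y + ((t⁻¹ - 1) * ψ y) • b' + ((t - 1) * β y) • b := by
      intro y
      rw [hh, d4Diag_apply, map_add, map_smul, hβb', smul_eq_mul, mul_zero, add_zero]
    have hh1 : h fr.d₁ = fr.d₁ := by rw [happ, hψ1, hβ1]; simp
    have hh2 : h fr.d₂ = fr.d₂ := by rw [happ, hψ2, hβ2]; simp
    have hhb : h b = t • b := by
      rw [happ, hψb, hβb, mul_zero, zero_smul, add_zero, mul_one, sub_smul, one_smul]; abel
    have hhδ : ∀ y, fr.δ₂ (h y) = fr.δ₂ y := by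
      intro y
      rw [happ, map_add, map_add, map_smul, map_smul, hδ2b', hb2]; simp
    have hψh : ∀ y, ψ (h y) = t⁻¹ * ψ y := by
      intro y
      rw [happ, map_add, map_add, map_smul, map_smul, hψb', hψb]
      simp only [smul_eq_mul, mul_one, mul_zero, add_zero]
      ring
    have hψhinv : ∀ y, ψ (h⁻¹ y) = t * ψ y := by
      intro y
      have := hψh (h⁻¹ y)
      rw [sl_apply_inv_apply] at this
      rw [this, ← mul_assoc, mul_inv_cancel₀ ht0, one_mul]
    have hhN : h ∈ fr.N := ⟨hh1, hh2, hhδ⟩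
    have ht2 : t ^ 2 - 1 ≠ 0 := sub_ne_zero.2 ht
    set c' : F := (t ^ 2 - 1)⁻¹ with hc'
    have hc : c' * (t ^ 2 - 1) = 1 := inv_mul_cancel₀ ht2
    have hg'0 : (c' • ψ) b = 0 := by rw [LinearMap.smul_apply, hψb, smul_zero]
    have hg'N : tv (c' • ψ) b hg'0 ∈ fr.N := by
      refine ⟨?_, ?_, fun y => ?_⟩
      · rw [tv_apply, LinearMap.smul_apply, hψ1, smul_zero, zero_smul, add_zero]
      · rw [tv_apply, LinearMap.smul_apply, hψ2, smul_zero, zero_smul, add_zero]
      · rw [tv_apply, map_add, map_smul, hb2, smul_zero, add_zero]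
    refine ⟨ψ, hψb, ⟨hψ1, hψ2⟩, ?_, h, hhN, tv (c' • ψ) b hg'0, hg'N, ?_⟩
    · intro h0
      rw [h0] at hψx
      simp at hψx
    · rw [conj_tv, tv_inv]
      ext y
      rw [sl_mul_apply, tv_apply, tv_apply, tv_apply, dualConj_apply, LinearMap.smul_apply,
        hψhinv, map_add, map_smul, hψb, hhb, LinearMap.neg_apply, LinearMap.smul_apply]
      simp only [smul_eq_mul, mul_zero, add_zero, smul_smul]
      rw [add_assoc, ← add_smul]
      congr 2
      linear_combination (-(ψ y)) * hc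

end Cfsg.Agent.Lib.H21.MinIdx
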