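import Mathlib
import Cfsg.Prelude.Def_Characters
import Cfsg.Prelude.Def_Blocks
import Cfsg.Agent.Lib.L0.CoverKey
import Cfsg.Agent.Lib.L0.PrincipalCrit
import Cfsg.Agent.Lib.H23.Isaacs1129
import Cfsg.Agent.Lib.H23.BlockCovering
import Cfsg.Agent.Lib.H20.PCentral1

/-!
# S4711 piece U (helper21): the principal block is the only block covering `B₀(N)`

`N ⊴ G` containing a Sylow `p`-subgroup `P` and `C_G(P)`: every irreducible character of `G`
lying over a member of the principal block of `N` lies in the principal block of `G`.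
-/

set_option autoImplicit false

namespace Cfsg.Agent.Lib.H21.PL1

open Cfsg
open scoped ComplexConjugate
open Cfsg.Agent.Lib.H23 Cfsg.Agent.Lib.H24 Cfsg.Agent.Lib.L0

/-- An element outside a normal subgroup containing `C_G(P)`, `P` a Sylow `p`-subgroup, has a
conjugacy class of size divisible by `p`. -/
theorem pl1_dvd_index_centralizer {G : Type*} [Group G] [Finite G] (p : ℕ) [Fact p.Prime]
    (P : Sylow p G) (N : Subgroup G) [hN : N.Normal]
    (hC : Subgroup.centralizer ((P : Subgroup G) : Set G) ≤ N) (g : G) (hg : g ∉ N) :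
    p ∣ (Subgroup.centralizer ({g} : Set G)).index := by
  by_contra h
  obtain ⟨x, hx⟩ := Cfsg.Agent.Lib.H20.PCen.exists_smul_le_of_not_dvd_index P _ h
  apply hg
  have h1 : x⁻¹ * g * x ∈ Subgroup.centralizer ((P : Subgroup G) : Set G) := by
    rw [Subgroup.mem_centralizer_iff]
    intro u hu
    have h2 : x * u * x⁻¹ ∈ ((x • P : Sylow p G) : Subgroup G) := by
      rw [Cfsg.Agent.Lib.H20.PCen.mem_smul_sylow]
      have : x⁻¹ * (x * u * x⁻¹) * x = u := by group
      rw [this]
      exact hu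
    have h3 := hx h2
    rw [Subgroup.mem_centralizer_iff] at h3
    have h4 := h3 g rfl
    have h5 : x⁻¹ * g * x * u = x⁻¹ * (g * (x * u * x⁻¹)) * x := by group
    rw [h5, h4]
    group
  have h5 := hC h1
  have h6 := hN.conj_mem _ h5 x
  have h7 : x * (x⁻¹ * g * x) * x⁻¹ = g := by group
  rwa [h7] at h6

/-- **S4711 piece U.** -/
theorem mem_principalBlock_of_over {G : Type*} [Group G] [Finite G] (p : ℕ) [Fact p.Prime]
    (M : Ideal AlgInt) (hM : IsPModular p M) (P : Sylow p G) (N : Subgroup G) [N.Normal]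
    (hPN : (P : Subgroup G) ≤ N)
    (hC : Subgroup.centralizer ((P : Subgroup G) : Set G) ≤ N)
    (χ : IrrCharacter G) (ψ : IrrCharacter ↥N) (hψ : ψ ∈ principalBlock M ↥N)
    (hcon : ∑ᶠ n : ↥N, (χ : G → ℂ) n * conj ((ψ : ↥N → ℂ) n) ≠ 0) :
    χ ∈ principalBlock M G := by
  classical
  have : Fintype G := Fintype.ofFinite G
  have : Fintype N := Fintype.ofFinite N
  have hP := isPrime_of_isPModular hM
  have hcon' : classInner (fun n : N => (χ : G → ℂ) n) (ψ : N → ℂ) ≠ 0 := by
    unfold classInner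
    rw [finsum_eq_sum_of_fintype] at hcon
    exact mul_ne_zero (inv_ne_zero (Nat.cast_ne_zero.2 Nat.card_pos.ne')) hcon
  have hBblk : IsPBlock M (blockOf M (χ : G → ℂ)) := ⟨χ, rfl⟩
  have hbblk : IsPBlock M (principalBlock M ↥N) := ⟨PrincipalCrit.trivIrr N, rfl⟩
  have hB0blk : IsPBlock M (principalBlock M G) := ⟨PrincipalCrit.trivIrr G, rfl⟩
  have htrivN : PrincipalCrit.trivIrr N ∈ principalBlock M ↥N :=
    sameBlock_refl (M := M) _
  have htrivG : PrincipalCrit.trivIrr G ∈ principalBlock M G :=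
    sameBlock_refl (M := M) _
  have hcov : ∃ χ₁ ∈ blockOf M (χ : G → ℂ), ∃ θ ∈ principalBlock M ↥N,
      classInner (fun n : N => (χ₁ : G → ℂ) n) (θ : N → ℂ) ≠ 0 :=
    ⟨χ, mem_blockOf_self χ, ψ, hψ, hcon'⟩
  have hone : classInner (fun n : N => (PrincipalCrit.trivIrr G : G → ℂ) n)
      (PrincipalCrit.trivIrr N : N → ℂ) ≠ 0 := by
    unfold classInner
    simp only [PrincipalCrit.trivIrr_apply, map_one, mul_one, Finset.sum_const, Finset.card_univ,
      nsmul_eq_mul]
    rw [Nat.card_eq_fintype_card]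
    have : (Fintype.card N : ℂ) ≠ 0 := Nat.cast_ne_zero.2 Fintype.card_ne_zero
    exact mul_ne_zero (inv_ne_zero this) this
  have hcov0 : ∃ χ₁ ∈ principalBlock M G, ∃ θ ∈ principalBlock M ↥N,
      classInner (fun n : N => (χ₁ : G → ℂ) n) (θ : N → ℂ) ≠ 0 :=
    ⟨PrincipalCrit.trivIrr G, htrivG, PrincipalCrit.trivIrr N, htrivN, hone⟩
  obtain ⟨χ', hχ'B, hχ'⟩ := CoverKey.exists_over_of_covers N hM hBblk hbblk hcov htrivN
  -- the degree of `χ'` is prime to `p`
  have hdvd := degree_dvd_index_mul N χ'.2 (PrincipalCrit.trivIrr N).2 hχ'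
  have hdeg1 : charDegree (PrincipalCrit.trivIrr N : N → ℂ) = 1 := by
    simp [charDegree, PrincipalCrit.trivIrr_apply]
  rw [hdeg1, mul_one] at hdvd
  have hpd : ¬ p ∣ charDegree (χ' : G → ℂ) := by
    intro h
    exact P.not_dvd_index ((h.trans hdvd).trans (Subgroup.index_dvd_of_le hPN))
  have hχ'1 := apply_one_eq_charDegree (χ' : G → ℂ) χ'.2
  -- `χ'` lies in the principal block
  have hχ'0 : SameBlock M (fun _ : G => (1 : ℂ)) (χ' : G → ℂ) := by
    intro g
    by_cases hg : g ∈ N
    · have h1 := (covers_iff N hM _ hBblk _ hbblk).1 hcov χ' hχ'B (PrincipalCrit.trivIrr N)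
        htrivN ⟨g, hg⟩
      have h2 := (covers_iff N hM _ hB0blk _ hbblk).1 hcov0 (PrincipalCrit.trivIrr G) htrivG
        (PrincipalCrit.trivIrr N) htrivN ⟨g, hg⟩
      have h3 := memLocalIdeal_sub h2 h1
      rw [sub_sub_sub_cancel_right] at h3
      exact h3
    · have hd := pl1_dvd_index_centralizer p P N hC g hg
      have hI : MemLocalIdeal M (((Subgroup.centralizer ({g} : Set G)).index : ℕ) : ℂ) :=
        (natCast_memLocalIdeal_iff hM _).2 hd
      have e1 : centralChar (fun _ : G => (1 : ℂ)) g =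
          (((Subgroup.centralizer ({g} : Set G)).index : ℕ) : ℂ) := by
        simp [centralChar]
      have e2 : centralChar (χ' : G → ℂ) g =
          (((Subgroup.centralizer ({g} : Set G)).index : ℕ) : ℂ) *
            ((χ' : G → ℂ) g * ((charDegree (χ' : G → ℂ) : ℕ) : ℂ)⁻¹) := by
        unfold centralChar
        rw [hχ'1, div_eq_mul_inv, mul_assoc]
      rw [e1, e2]
      refine memLocalIdeal_sub hI (memLocalIdeal_mul_right hI (memLocalRing_mul ?_ ?_))
      · exact (mem_localRing (M := M)).1 (isIntegral_mem_localRing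
          (isCharacter_isIntegral (isCharacter_of_irr χ'.2) g))
      · exact memLocalRing_inv_natCast hM hpd
  exact sameBlock_trans hχ'0 (sameBlock_symm hχ'B)

end Cfsg.Agent.Lib.H21.PL1
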