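import Mathlib

set_option autoImplicit false

/-!
# Abelian `p`-subgroups of symmetric groups: `|A| ≤ (n/k)^k`
-/

namespace Cfsg.Agent.Lib.H21.AbelPerm

/-- AM-GM for lists of natural numbers. -/
theorem list_amgm (l : List ℕ) : l.length ^ l.length * l.prod ≤ l.sum ^ l.length := by
  rcases Nat.eq_zero_or_pos l.length with h0 | hpos
  · rw [h0]
    have : l = [] := List.length_eq_zero_iff.mp h0
    subst this
    simp
  set k := l.length with hk
  have hkR : (0 : ℝ) < (k : ℝ) := by exact_mod_cast hpos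
  have key := Real.geom_mean_le_arith_mean_weighted (Finset.univ : Finset (Fin k))
    (fun _ => (1 / (k : ℝ))) (fun i => ((l[(i : ℕ)] : ℕ) : ℝ))
    (fun i _ => by positivity)
    (by simp; field_simp)
    (fun i _ => by positivity)
  rw [Real.finsetProd_rpow _ _ (fun i _ => by positivity)] at key
  rw [← Finset.mul_sum] at key
  have hP : (∏ i : Fin k, ((l[(i : ℕ)] : ℕ) : ℝ)) = (l.prod : ℝ) := by
    rw [← Fin.prod_univ_getElem l]
    push_cast
    rfl
  have hS : (∑ i : Fin k, ((l[(i : ℕ)] : ℕ) : ℝ)) = (l.sum : ℝ) := by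
    rw [← Fin.sum_univ_getElem l]
    push_cast
    rfl
  rw [hP, hS] at key
  have hP0 : (0 : ℝ) ≤ (l.prod : ℝ) := by positivity
  have h1 : ((l.prod : ℝ) ^ (1 / (k : ℝ))) ^ k ≤ (1 / (k : ℝ) * (l.sum : ℝ)) ^ k :=
    pow_le_pow_left₀ (by positivity) key k
  have h2 : ((l.prod : ℝ) ^ (1 / (k : ℝ))) ^ k = (l.prod : ℝ) := by
    rw [← Real.rpow_natCast, ← Real.rpow_mul hP0]
    have : (1 / (k : ℝ)) * (k : ℝ) = 1 := by field_simp
    rw [this, Real.rpow_one]
  rw [h2, mul_pow] at h1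
  have h3 : ((k : ℝ) ^ k) * (l.prod : ℝ) ≤ (l.sum : ℝ) ^ k := by
    have hkk : (0 : ℝ) < (k : ℝ) ^ k := by positivity
    calc ((k : ℝ) ^ k) * (l.prod : ℝ) ≤ (k : ℝ) ^ k * ((1 / (k : ℝ)) ^ k * (l.sum : ℝ) ^ k) :=
          mul_le_mul_of_nonneg_left h1 hkk.le
      _ = (l.sum : ℝ) ^ k := by
          rw [← mul_assoc, ← mul_pow]
          have : (k : ℝ) * (1 / (k : ℝ)) = 1 := by field_simp
          rw [this, one_pow, one_mul]
  exact_mod_cast h3


section perm

variable {Ω : Type*} [Fintype Ω]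

/-- the orbit of a point under a permutation group, as a plain set -/
def orb (H : Subgroup (Equiv.Perm Ω)) (ω : Ω) : Set Ω := {a | ∃ g ∈ H, g ω = a}

/-- the point stabilizer in a permutation group, as a permutation group -/
def stab (H : Subgroup (Equiv.Perm Ω)) (ω : Ω) : Subgroup (Equiv.Perm Ω) :=
  H ⊓ MulAction.stabilizer (Equiv.Perm Ω) ω

theorem mem_stab {H : Subgroup (Equiv.Perm Ω)} {ω : Ω} {g : Equiv.Perm Ω} :
    g ∈ stab H ω ↔ g ∈ H ∧ g ω = ω := by
  unfold stab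
  rw [Subgroup.mem_inf, MulAction.mem_stabilizer_iff, Equiv.Perm.smul_def]

theorem stab_le (H : Subgroup (Equiv.Perm Ω)) (ω : Ω) : stab H ω ≤ H := inf_le_left

theorem orb_eq (H : Subgroup (Equiv.Perm Ω)) (ω : Ω) : MulAction.orbit H ω = orb H ω := by
  ext a
  constructor
  · rintro ⟨⟨g, hg⟩, rfl⟩
    exact ⟨g, hg, rfl⟩
  · rintro ⟨g, hg, rfl⟩
    exact ⟨⟨g, hg⟩, rfl⟩

theorem card_eq_orb_mul_stab (H : Subgroup (Equiv.Perm Ω)) (ω : Ω) :
    Nat.card H = (orb H ω).ncard * Nat.card (stab H ω) := by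
  have h1 := Subgroup.card_mul_index (MulAction.stabilizer H ω)
  rw [MulAction.index_stabilizer, orb_eq] at h1
  have h2 : MulAction.stabilizer H ω = (MulAction.stabilizer (Equiv.Perm Ω) ω).subgroupOf H := by
    ext g
    rw [Subgroup.mem_subgroupOf, MulAction.mem_stabilizer_iff, MulAction.mem_stabilizer_iff]
    rfl
  have h3 : Nat.card (MulAction.stabilizer H ω) = Nat.card (stab H ω) := by
    rw [h2]
    unfold stab
    rw [inf_comm, ← Subgroup.inf_subgroupOf_right]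
    exact Nat.card_congr (Subgroup.subgroupOfEquivOfLe inf_le_right).toEquiv
  rw [← h1, h3, mul_comm]

theorem mem_orb_self (H : Subgroup (Equiv.Perm Ω)) (ω : Ω) : ω ∈ orb H ω :=
  ⟨1, H.one_mem, rfl⟩

theorem orb_mono {H K : Subgroup (Equiv.Perm Ω)} (h : H ≤ K) (ω : Ω) : orb H ω ⊆ orb K ω := by
  rintro a ⟨g, hg, rfl⟩
  exact ⟨g, h hg, rfl⟩

end perm

theorem pow_add_le (p : ℕ) (hp : 2 ≤ p) (d c : ℕ) (hc : 1 ≤ c) :
    p ^ (d + 1) + (c - 1) * p ≤ p ^ (d + c) := by
  induction c, hc using Nat.le_induction with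
  | base => simp
  | succ c hc ih =>
    have h1 : p ≤ p ^ (d + c) := by
      calc p = p ^ 1 := (pow_one p).symm
        _ ≤ p ^ (d + c) := Nat.pow_le_pow_right (by omega) (by omega)
    have h2 : p ^ (d + c) + p ≤ p ^ (d + c) * p := by
      have : 2 ≤ p ^ (d + c) := le_trans hp h1
      nlinarith
    have h3 : c + 1 - 1 = (c - 1) + 1 := by omega
    rw [h3, add_mul, one_mul, ← add_assoc, ← add_assoc d c 1, pow_succ (p) (d + c)]
    omega

end Cfsg.Agent.Lib.H21.AbelPerm
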