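import Mathlib
import Cfsg.Agent.Lib.H21.AbelPerm

set_option autoImplicit false

/-!
# Abelian `p`-subgroups of symmetric groups: the induction
-/

namespace Cfsg.Agent.Lib.H21.AbelPerm

variable {Ω : Type*} [Fintype Ω]

theorem card_pow_of_le (p : ℕ) [Fact p.Prime] (A : Subgroup (Equiv.Perm Ω)) (hA : IsPGroup p A)
    (K : Subgroup (Equiv.Perm Ω)) (hK : K ≤ A) : ∃ n, Nat.card K = p ^ n :=
  IsPGroup.exists_card_eq (hA.to_le hK)

theorem main_ind (p : ℕ) (hp : p.Prime) (A W : Subgroup (Equiv.Perm Ω)) (hA : IsPGroup p A)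
    (hc : ∀ x ∈ A, ∀ y ∈ A, x * y = y * x) (hW : ∀ x, x ∈ W ↔ x ∈ A ∧ x ^ p = 1) :
    ∀ k : ℕ, ∀ (K : Subgroup (Equiv.Perm Ω)) (T : Finset Ω), K ≤ A →
      (∀ x ∈ K, ∀ ω ∈ T, x ω ∈ T) → (∀ x ∈ K, (∀ ω ∈ T, x ω = ω) → x = 1) →
      Nat.card (K ⊓ W : Subgroup (Equiv.Perm Ω)) = p ^ k →
      ∃ l : List ℕ, l.length = k ∧ l.sum ≤ T.card ∧ Nat.card K ≤ l.prod := by
  classical
  haveI : Fact p.Prime := ⟨hp⟩
  intro k
  induction k using Nat.strong_induction_on with
  | _ k ih =>
  intro K T hKA hinv hfaith hk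
  rcases Nat.eq_zero_or_pos k with h0 | hpos
  · -- K is trivial
    subst h0
    rw [pow_zero, Subgroup.card_eq_one] at hk
    refine ⟨[], rfl, by simp, ?_⟩
    simp only [List.prod_nil]
    by_contra hlt
    push Not at hlt
    obtain ⟨n, hn⟩ := card_pow_of_le p A hA K hKA
    have hn0 : n ≠ 0 := by
      rintro rfl
      rw [pow_zero] at hn
      omega
    have hdvd : p ∣ Nat.card K := by
      rw [hn]; exact dvd_pow_self p hn0
    obtain ⟨g, hg⟩ := exists_prime_orderOf_dvd_card' p hdvd
    have hgW : (g : Equiv.Perm Ω) ∈ K ⊓ W := by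
      refine ⟨g.2, (hW _).2 ⟨hKA g.2, ?_⟩⟩
      have : g ^ p = 1 := by rw [← hg]; exact pow_orderOf_eq_one g
      have h2 := congrArg (Subtype.val) this
      simpa using h2
    rw [hk, Subgroup.mem_bot] at hgW
    have : g = 1 := Subtype.ext hgW
    rw [this, orderOf_one] at hg
    exact hp.one_lt.ne hg
  · -- the inductive step
    have h1lt : 1 < Nat.card (K ⊓ W : Subgroup (Equiv.Perm Ω)) := by
      rw [hk]; exact Nat.one_lt_pow hpos.ne' hp.one_lt
    rw [Subgroup.one_lt_card_iff_ne_bot, Subgroup.ne_bot_iff_exists_ne_one] at h1lt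
    obtain ⟨⟨x, hxKW⟩, hx1⟩ := h1lt
    have hx1' : x ≠ 1 := fun h => hx1 (Subtype.ext h)
    have hxK : x ∈ K := hxKW.1
    have hxW : x ∈ W := hxKW.2
    obtain ⟨ω, hωT, hxω⟩ : ∃ ω ∈ T, x ω ≠ ω := by
      by_contra hcon
      push Not at hcon
      exact hx1' (hfaith x hxK hcon)
    -- the orbit and stabilizer
    set O := orb K ω with hO
    set K' := stab K ω with hK'
    have hK'K : K' ≤ K := stab_le K ω
    have hcard1 := card_eq_orb_mul_stab K ω
    have hcard2 := card_eq_orb_mul_stab (K ⊓ W) ω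
    have hstab : stab (K ⊓ W) ω = K' ⊓ W := by
      unfold stab
      exact inf_right_comm _ _ _
    rw [hstab] at hcard2
    obtain ⟨n, hn⟩ := card_pow_of_le p A hA K hKA
    obtain ⟨b, hbn, hb⟩ : ∃ b, b ≤ n ∧ O.ncard = p ^ b := by
      have : O.ncard ∣ p ^ n := by rw [← hn, hcard1]; exact dvd_mul_right _ _
      exact (Nat.dvd_prime_pow hp).1 this
    obtain ⟨c, hck, hcc⟩ : ∃ c, c ≤ k ∧ (orb (K ⊓ W) ω).ncard = p ^ c := by
      have : (orb (K ⊓ W) ω).ncard ∣ p ^ k := by rw [← hk, hcard2]; exact dvd_mul_right _ _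
      exact (Nat.dvd_prime_pow hp).1 this
    have hc1 : 1 ≤ c := by
      by_contra hlt
      have : c = 0 := by omega
      subst this
      rw [pow_zero, Set.ncard_eq_one] at hcc
      obtain ⟨a, ha⟩ := hcc
      have h1 : ω ∈ orb (K ⊓ W) ω := mem_orb_self _ _
      have h2 : x ω ∈ orb (K ⊓ W) ω := ⟨x, hxKW, rfl⟩
      rw [ha, Set.mem_singleton_iff] at h1 h2
      exact hxω (h2.trans h1.symm)
    have hcb : c ≤ b := by
      have hsub : orb (K ⊓ W) ω ⊆ O := orb_mono inf_le_left ω
      have := Set.ncard_le_ncard hsub (Set.toFinite _)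
      rw [hcc, hb] at this
      exact (Nat.pow_le_pow_iff_right hp.one_lt).1 this
    -- the rank of `K'`
    have hk' : Nat.card (K' ⊓ W : Subgroup (Equiv.Perm Ω)) = p ^ (k - c) := by
      rw [hk, hcc] at hcard2
      have : p ^ k = p ^ c * p ^ (k - c) := by rw [← pow_add]; congr 1; omega
      rw [this] at hcard2
      exact (Nat.eq_of_mul_eq_mul_left (pow_pos hp.pos c) hcard2).symm
    -- the new set
    set T' := T.filter (fun a => a ∉ O) with hT'
    have hOT : O ⊆ (T : Set Ω) := by
      rintro a ⟨g, hg, rfl⟩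
      exact hinv g hg ω hωT
    have hK'fix : ∀ y ∈ K', ∀ a ∈ O, y a = a := by
      rintro y hy a ⟨g, hg, rfl⟩
      obtain ⟨hyK, hyω⟩ := mem_stab.1 hy
      have hcomm : y * g = g * y := hc y (hKA hyK) g (hKA hg)
      calc y (g ω) = (y * g) ω := rfl
        _ = (g * y) ω := by rw [hcomm]
        _ = g (y ω) := rfl
        _ = g ω := by rw [hyω]
    have hT'card : T'.card + p ^ b = T.card := by
      have h1 := Finset.card_filter_add_card_filter_not (s := T) (fun a => a ∈ O)
      have h2 : (T.filter (fun a => a ∈ O)).card = O.ncard := by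
        have : ((T.filter (fun a => a ∈ O) : Finset Ω) : Set Ω) = O := by
          ext a
          simp only [Finset.coe_filter, Set.mem_ofPred_eq]
          exact ⟨fun h => h.2, fun h => ⟨hOT h, h⟩⟩
        have h3 := Set.ncard_coe_finset (T.filter (fun a => a ∈ O))
        rw [this] at h3
        exact h3.symm
      rw [h2, hb] at h1
      rw [hT', ← h1]
      ring
    obtain ⟨l', hl'len, hl'sum, hl'prod⟩ := ih (k - c) (by omega) K' T' (hK'K.trans hKA)
      (by
        intro y hy a ha
        rw [hT', Finset.mem_filter] at ha ⊢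
        refine ⟨hinv y (hK'K hy) a ha.1, ?_⟩
        intro hya
        apply ha.2
        obtain ⟨g, hg, hga⟩ := hya
        refine ⟨y⁻¹ * g, K.mul_mem (K.inv_mem (hK'K hy)) hg, ?_⟩
        rw [Equiv.Perm.mul_apply, hga]
        simp)
      (by
        intro y hy hfix
        apply hfaith y (hK'K hy)
        intro a ha
        by_cases haO : a ∈ O
        · exact hK'fix y hy a haO
        · exact hfix a (by rw [hT', Finset.mem_filter]; exact ⟨ha, haO⟩))
      hk'
    refine ⟨(p ^ (b - c + 1) :: List.replicate (c - 1) p) ++ l', ?_, ?_, ?_⟩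
    · simp only [List.length_append, List.length_cons, List.length_replicate, hl'len]
      omega
    · simp only [List.sum_append, List.sum_cons, List.sum_replicate, smul_eq_mul]
      have h1 := pow_add_le p hp.two_le (b - c) c hc1
      have h2 : b - c + c = b := by omega
      rw [h2] at h1
      omega
    · simp only [List.prod_append, List.prod_cons, List.prod_replicate]
      rw [hcard1, hb]
      have h1 : p ^ (b - c + 1) * p ^ (c - 1) = p ^ b := by
        rw [← pow_add]; congr 1; omega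
      rw [h1]
      exact Nat.mul_le_mul_left _ hl'prod

end Cfsg.Agent.Lib.H21.AbelPerm
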