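import Mathlib

set_option autoImplicit false

namespace Cfsg.Agent.Lib.H21

open Finset

/-- `p(n+2) ≤ p(n+1) + p(n)`. -/
theorem card_partition_le (n : ℕ) :
    Fintype.card (Nat.Partition (n + 2)) ≤
      Fintype.card (Nat.Partition (n + 1)) + Fintype.card (Nat.Partition n) := by
  classical
  have h1 := Finset.card_filter_add_card_filter_not (s := (univ : Finset (Nat.Partition (n + 2))))
    (fun p => 1 ∈ p.parts)
  rw [Finset.card_univ] at h1
  have h2 : (univ.filter (fun p : Nat.Partition (n + 2) => 1 ∈ p.parts)).card =
      Fintype.card (Nat.Partition (n + 1)) := by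
    rw [← Fintype.card_subtype]
    exact Fintype.card_congr
      (Nat.Partition.partitionWithPartEquiv (n := n + 2) (a := 1) le_rfl (by omega))
  have h3 : (univ.filter (fun p : Nat.Partition (n + 2) => ¬ 1 ∈ p.parts)).card ≤
      (univ : Finset (Nat.Partition n)).card := by
    apply Finset.card_le_card_of_forall_subsingleton
      (fun (l : Nat.Partition (n + 2)) (m : Nat.Partition n) =>
        ∃ s ∈ l.parts, m.parts = l.parts.erase s + Multiset.replicate (s - 2) 1)
    · intro l hl
      simp only [mem_filter, mem_univ, true_and] at hl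
      have hne : l.parts ≠ 0 := by
        intro h0
        have := l.parts_sum
        rw [h0] at this
        simp at this
      obtain ⟨s, hs⟩ := Multiset.exists_mem_of_ne_zero hne
      have hs1 : 0 < s := l.parts_pos hs
      have hs2 : s ≠ 1 := fun h => hl (h ▸ hs)
      have hsle : s ≤ n + 2 := Nat.Partition.le_of_mem_parts hs
      have hsum : s + (l.parts.erase s).sum = n + 2 := by
        have := congrArg Multiset.sum (Multiset.cons_erase hs)
        rw [Multiset.sum_cons, l.parts_sum] at this
        exact this
      refine ⟨⟨l.parts.erase s + Multiset.replicate (s - 2) 1, ?_, ?_⟩, mem_univ _, s, hs, rfl⟩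
      · intro i hi
        rw [Multiset.mem_add] at hi
        rcases hi with hi | hi
        · exact l.parts_pos (Multiset.mem_of_mem_erase hi)
        · rw [Multiset.eq_of_mem_replicate hi]; exact Nat.one_pos
      · rw [Multiset.sum_add, Multiset.sum_replicate, smul_eq_mul, mul_one]
        omega
    · intro m _ l hl l' hl'
      simp only [coe_filter, mem_filter, mem_univ, true_and, Set.mem_setOf_eq] at hl hl'
      obtain ⟨h1l, s, hs, hm⟩ := hl
      obtain ⟨h1l', s', hs', hm'⟩ := hl'
      have hc : ∀ (k : Nat.Partition (n + 2)) (t : ℕ), ¬ 1 ∈ k.parts →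
          Multiset.count 1 (k.parts.erase t + Multiset.replicate (t - 2) 1) = t - 2 := by
        intro k t hk
        rw [Multiset.count_add, Multiset.count_replicate_self,
          Multiset.count_eq_zero_of_notMem (fun h => hk (Multiset.mem_of_mem_erase h)), zero_add]
      have e1 : s - 2 = s' - 2 := by
        rw [← hc l s h1l, ← hc l' s' h1l', ← hm, ← hm']
      have hs1 : 0 < s := l.parts_pos hs
      have hs2 : s ≠ 1 := fun h => h1l (h ▸ hs)
      have hs1' : 0 < s' := l'.parts_pos hs'
      have hs2' : s' ≠ 1 := fun h => h1l' (h ▸ hs')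
      have e2 : s = s' := by omega
      subst e2
      have e3 : l.parts.erase s = l'.parts.erase s := by
        have := hm.symm.trans hm'
        exact add_right_cancel this
      apply Nat.Partition.ext
      rw [← Multiset.cons_erase hs, ← Multiset.cons_erase hs', e3]
  rw [Finset.card_univ] at h3
  omega

theorem card_partition_le_fib : ∀ n : ℕ, Fintype.card (Nat.Partition n) ≤ Nat.fib (n + 1) := by
  intro n
  induction n using Nat.twoStepInduction with
  | zero => simp
  | one => simp
  | more n ih0 ih1 =>
    have := card_partition_le n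
    rw [Nat.fib_add_two (n := n + 1)]
    omega

theorem fib_le_two_pow (k : ℕ) : Nat.fib (k + 6) ≤ 2 ^ (k + 3) ∧ Nat.fib (k + 7) ≤ 2 ^ (k + 4) := by
  induction k with
  | zero => exact ⟨by decide, by decide⟩
  | succ k ih =>
    refine ⟨ih.2, ?_⟩
    have : Nat.fib (k + 1 + 7) = Nat.fib (k + 6) + Nat.fib (k + 7) := Nat.fib_add_two
    rw [this]
    have h1 : 2 ^ (k + 1 + 4) = 2 ^ (k + 3) * 4 := by ring
    have h2 : 2 ^ (k + 4) = 2 ^ (k + 3) * 2 := by ring
    rw [h1]
    rw [h2] at ih
    omega

theorem card_partition_le_two_pow (n : ℕ) (hn : 5 ≤ n) :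
    Fintype.card (Nat.Partition n) ≤ 2 ^ (n - 2) := by
  obtain ⟨k, rfl⟩ : ∃ k, n = k + 5 := ⟨n - 5, by omega⟩
  refine (card_partition_le_fib _).trans ?_
  have := (fib_le_two_pow k).1
  simpa using this

/-- parity predicate: the partition is the cycle type of an even permutation -/
def IsEvenP {n : ℕ} (μ : Nat.Partition n) : Prop := Even (n + Multiset.card μ.parts)

/-- all parts odd and distinct -/
def IsDO {n : ℕ} (μ : Nat.Partition n) : Prop := (∀ i ∈ μ.parts, Odd i) ∧ μ.parts.Nodup

theorem even_sum_add_card_of_odd (s : Multiset ℕ) (h : ∀ i ∈ s, Odd i) :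
    Even (s.sum + Multiset.card s) := by
  induction s using Multiset.induction with
  | empty => simp
  | cons a s ih =>
    have ha : Odd a := h a (Multiset.mem_cons_self a s)
    have hs := ih (fun i hi => h i (Multiset.mem_cons_of_mem hi))
    rw [Multiset.sum_cons, Multiset.card_cons]
    have : a + s.sum + (Multiset.card s + 1) = (s.sum + Multiset.card s) + (a + 1) := by ring
    rw [this]
    exact hs.add ha.add_one

theorem IsDO.isEvenP {n : ℕ} {μ : Nat.Partition n} (h : IsDO μ) : IsEvenP μ := by
  unfold IsEvenP
  have := even_sum_add_card_of_odd _ h.1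
  rwa [μ.parts_sum] at this

theorem card_DO_lt (n : ℕ) (hn : 5 ≤ n)
    [DecidablePred (fun μ : Nat.Partition n => IsDO μ)]
    [DecidablePred (fun μ : Nat.Partition n => ¬ IsEvenP μ)] :
    (univ.filter (fun μ : Nat.Partition n => IsDO μ)).card <
      (univ.filter (fun μ : Nat.Partition n => ¬ IsEvenP μ)).card := by
  classical
  -- the partition (2, 1^(n-2))
  let μ0 : Nat.Partition n := ⟨2 ::ₘ Multiset.replicate (n - 2) 1, by
    intro i hi
    rw [Multiset.mem_cons] at hi
    rcases hi with rfl | hi
    · norm_num
    · rw [Multiset.eq_of_mem_replicate hi]; exact Nat.one_pos, by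
    rw [Multiset.sum_cons, Multiset.sum_replicate, smul_eq_mul, mul_one]; omega⟩
  have hμ0 : μ0 ∈ univ.filter (fun μ : Nat.Partition n => ¬ IsEvenP μ) := by
    simp only [mem_filter, mem_univ, true_and]
    unfold IsEvenP
    show ¬ Even (n + Multiset.card (2 ::ₘ Multiset.replicate (n - 2) 1))
    rw [Multiset.card_cons, Multiset.card_replicate, Nat.not_even_iff_odd]
    exact ⟨n - 1, by omega⟩
  refine lt_of_le_of_lt ?_ (Finset.card_erase_lt_of_mem hμ0)
  apply Finset.card_le_card_of_forall_subsingleton
    (fun (l m : Nat.Partition n) =>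
      ∃ M ∈ l.parts, 3 ≤ M ∧ m.parts = l.parts.erase M + {M - 1, 1})
  · intro l hl
    simp only [mem_filter, mem_univ, true_and] at hl
    -- some part is at least 3
    have hex : ∃ M ∈ l.parts, 3 ≤ M := by
      by_contra hcon
      push Not at hcon
      have hall : ∀ i ∈ l.parts, i = 1 := by
        intro i hi
        have h1 := hcon i hi
        have h2 := l.parts_pos hi
        have h3 := hl.1 i hi
        rcases h3 with ⟨k, hk⟩
        omega
      have hrep := Multiset.eq_replicate_card.mpr hall
      have hcard : Multiset.card l.parts ≤ 1 := by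
        have := Multiset.nodup_iff_count_le_one.mp hl.2 1
        rw [hrep, Multiset.count_replicate_self] at this
        exact this
      have := l.parts_sum
      rw [hrep, Multiset.sum_replicate, smul_eq_mul, mul_one] at this
      omega
    obtain ⟨M, hM, hM3⟩ := hex
    have hMle : M ≤ n := Nat.Partition.le_of_mem_parts hM
    have hsum : M + (l.parts.erase M).sum = n := by
      have := congrArg Multiset.sum (Multiset.cons_erase hM)
      rw [Multiset.sum_cons, l.parts_sum] at this
      exact this
    have hcardl : Multiset.card (l.parts.erase M) + 1 = Multiset.card l.parts := by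
      have := congrArg Multiset.card (Multiset.cons_erase hM)
      rw [Multiset.card_cons] at this
      exact this
    have hMem : ∀ i ∈ l.parts.erase M + ({M - 1, 1} : Multiset ℕ), 0 < i := by
      intro i hi
      rw [Multiset.mem_add] at hi
      rcases hi with hi | hi
      · exact l.parts_pos (Multiset.mem_of_mem_erase hi)
      · rw [Multiset.insert_eq_cons, Multiset.mem_cons, Multiset.mem_singleton] at hi
        rcases hi with rfl | rfl <;> omega
    have hSum : (l.parts.erase M + ({M - 1, 1} : Multiset ℕ)).sum = n := by
      rw [Multiset.sum_add, Multiset.insert_eq_cons, Multiset.sum_cons, Multiset.sum_singleton]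
      omega
    refine ⟨⟨l.parts.erase M + {M - 1, 1}, fun {i} hi => hMem i hi, hSum⟩, ?_, M, hM, hM3, rfl⟩
    rw [Finset.mem_erase]
    constructor
    · -- not μ0: count of 1
      intro heq
      have h1 := congrArg (fun q : Nat.Partition n => Multiset.count 1 q.parts) heq
      simp only at h1
      have h2 : Multiset.count 1 (l.parts.erase M + ({M - 1, 1} : Multiset ℕ)) ≤ 2 := by
        rw [Multiset.count_add, Multiset.insert_eq_cons, Multiset.count_cons_of_ne (by omega),
          Multiset.count_singleton_self]
        have := Multiset.nodup_iff_count_le_one.mp hl.2 1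
        have h3 : Multiset.count 1 (l.parts.erase M) ≤ Multiset.count 1 l.parts :=
          Multiset.count_le_of_le _ (Multiset.erase_le _ _)
        omega
      have h3 : Multiset.count 1 μ0.parts = n - 2 := by
        show Multiset.count 1 (2 ::ₘ Multiset.replicate (n - 2) 1) = n - 2
        rw [Multiset.count_cons_of_ne (by norm_num), Multiset.count_replicate_self]
      rw [h3] at h1
      omega
    · simp only [mem_filter, mem_univ, true_and]
      have he := hl.isEvenP
      unfold IsEvenP at he ⊢
      show ¬ Even (n + Multiset.card (l.parts.erase M + ({M - 1, 1} : Multiset ℕ)))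
      rw [Multiset.card_add, Multiset.insert_eq_cons, Multiset.card_cons, Multiset.card_singleton]
      rw [Nat.not_even_iff_odd]
      have : n + (Multiset.card (l.parts.erase M) + (1 + 1)) =
          (n + Multiset.card l.parts) + 1 := by omega
      rw [this]
      exact he.add_one
  · intro m _ l hl l' hl'
    simp only [mem_filter, mem_univ, true_and, Set.mem_ofPred_eq] at hl hl'
    obtain ⟨hdo, M, hM, hM3, hm⟩ := hl
    obtain ⟨hdo', M', hM', hM3', hm'⟩ := hl'
    have hfil : ∀ (k : Nat.Partition n) (t : ℕ), IsDO k → t ∈ k.parts → 3 ≤ t →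
        Multiset.filter Even (k.parts.erase t + ({t - 1, 1} : Multiset ℕ)) = {t - 1} := by
      intro k t hk ht ht3
      have hodd : Odd t := hk.1 t ht
      have hev : Even (t - 1) := by
        rcases hodd with ⟨j, hj⟩
        exact ⟨j, by omega⟩
      rw [Multiset.filter_add, Multiset.insert_eq_cons, Multiset.filter_cons_of_pos _ hev,
        Multiset.filter_singleton, if_neg (by decide)]
      have : Multiset.filter Even (k.parts.erase t) = 0 := by
        rw [Multiset.filter_eq_nil]
        intro i hi
        rw [Nat.not_even_iff_odd]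
        exact hk.1 i (Multiset.mem_of_mem_erase hi)
      rw [this]
      simp
    have e1 : ({M - 1} : Multiset ℕ) = {M' - 1} := by
      rw [← hfil l M hdo hM hM3, ← hfil l' M' hdo' hM' hM3', ← hm, ← hm']
    have e2 : M - 1 = M' - 1 := Multiset.singleton_inj.mp e1
    have e3 : M = M' := by omega
    subst e3
    have e4 : l.parts.erase M = l'.parts.erase M := by
      have := hm.symm.trans hm'
      exact add_right_cancel this
    apply Nat.Partition.ext
    rw [← Multiset.cons_erase hM, ← Multiset.cons_erase hM', e4]

end Cfsg.Agent.Lib.H21
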