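import Mathlib
import Cfsg.Agent.Lib.H21.PartitionCount

set_option autoImplicit false

namespace Cfsg.Agent.Lib.H21

open Equiv Finset

variable {α : Type*} [Fintype α] [DecidableEq α]

/-- partition map on conjugacy classes of `Perm α` -/
def classPartition : ConjClasses (Perm α) → (Fintype.card α).Partition :=
  Quotient.lift (fun σ : Perm α => σ.partition)
    (fun _ _ h => Equiv.Perm.partition_eq_of_isConj.mp h)

theorem classPartition_injective : Function.Injective (classPartition (α := α)) := by
  intro x y
  induction x using Quotient.inductionOn with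
  | _ a =>
  induction y using Quotient.inductionOn with
  | _ b =>
  intro h
  exact Quotient.sound (Equiv.Perm.partition_eq_of_isConj.mpr h)

theorem classPartition_surjective : Function.Surjective (classPartition (α := α)) := by
  intro μ
  have hsplit := Multiset.filter_add_not (fun i => 2 ≤ i) μ.parts
  have hsum := congrArg Multiset.sum hsplit
  rw [Multiset.sum_add, μ.parts_sum] at hsum
  have hones : Multiset.filter (fun i => ¬ 2 ≤ i) μ.parts =
      Multiset.replicate (Multiset.card (Multiset.filter (fun i => ¬ 2 ≤ i) μ.parts)) 1 := by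
    rw [Multiset.eq_replicate_card]
    intro i hi
    rw [Multiset.mem_filter] at hi
    have := μ.parts_pos hi.1
    omega
  have hsum1 : (Multiset.filter (fun i => ¬ 2 ≤ i) μ.parts).sum =
      Multiset.card (Multiset.filter (fun i => ¬ 2 ≤ i) μ.parts) := by
    conv_lhs => rw [hones]
    rw [Multiset.sum_replicate, smul_eq_mul, mul_one]
  obtain ⟨g, hg⟩ := (Equiv.Perm.exists_with_cycleType_iff α).mpr
    ⟨(by omega : (Multiset.filter (fun i => 2 ≤ i) μ.parts).sum ≤ Fintype.card α),
      fun a ha => (Multiset.mem_filter.mp ha).2⟩
  refine ⟨ConjClasses.mk g, ?_⟩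
  show g.partition = μ
  apply Nat.Partition.ext
  rw [Equiv.Perm.parts_partition, ← Equiv.Perm.sum_cycleType, hg]
  have hk : Fintype.card α - (Multiset.filter (fun i => 2 ≤ i) μ.parts).sum =
      Multiset.card (Multiset.filter (fun i => ¬ 2 ≤ i) μ.parts) := by omega
  rw [hk, ← hones]
  exact hsplit

theorem card_conjClasses_perm :
    Nat.card (ConjClasses (Perm α)) = Fintype.card (Fintype.card α).Partition := by
  rw [← Nat.card_eq_fintype_card]
  exact Nat.card_congr (Equiv.ofBijective _ ⟨classPartition_injective, classPartition_surjective⟩)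

/-- partition map on conjugacy classes of the alternating group -/
def altClassPartition : ConjClasses (alternatingGroup α) → (Fintype.card α).Partition :=
  Quotient.lift (fun σ : alternatingGroup α => (σ : Perm α).partition) (by
    intro a b h
    obtain ⟨c, hc⟩ := isConj_iff.mp h
    apply Equiv.Perm.partition_eq_of_isConj.mp
    exact isConj_iff.mpr ⟨c, by rw [← hc]; rfl⟩)

theorem isEvenP_partition_of_sign (σ : Perm α) (h : Equiv.Perm.sign σ = 1) :
    IsEvenP σ.partition := by
  unfold IsEvenP
  rw [Equiv.Perm.sign_of_cycleType] at h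
  have hev : Even (σ.cycleType.sum + Multiset.card σ.cycleType) := by
    by_contra hodd
    rw [Nat.not_even_iff_odd] at hodd
    rw [Odd.neg_one_pow hodd] at h
    exact absurd h (by decide)
  rw [Equiv.Perm.parts_partition, Multiset.card_add, Multiset.card_replicate]
  have hle : σ.support.card ≤ Fintype.card α := Finset.card_le_univ _
  rw [Equiv.Perm.sum_cycleType] at hev
  have e : Fintype.card α + (Multiset.card σ.cycleType + (Fintype.card α - σ.support.card)) =
      (σ.support.card + Multiset.card σ.cycleType) + 2 * (Fintype.card α - σ.support.card) := by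
    omega
  rw [e]
  exact hev.add (even_two_mul _)

theorem isDO_partition_of_centralizer_le (σ : Perm α)
    (h : Subgroup.centralizer {σ} ≤ alternatingGroup α) : IsDO σ.partition := by
  rw [Equiv.Perm.centralizer_le_alternating_iff] at h
  obtain ⟨h1, h2, h3⟩ := h
  unfold IsDO
  rw [Equiv.Perm.parts_partition]
  have hk : Fintype.card α - σ.support.card ≤ 1 := by
    rw [← Equiv.Perm.sum_cycleType]; omega
  constructor
  · intro i hi
    rw [Multiset.mem_add] at hi
    rcases hi with hi | hi
    · exact h1 i hi
    · rw [Multiset.eq_of_mem_replicate hi]; exact odd_one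
  · rw [Multiset.nodup_iff_count_le_one]
    intro a
    rw [Multiset.count_add]
    by_cases ha : a = 1
    · subst ha
      have h0 : Multiset.count 1 σ.cycleType = 0 := by
        apply Multiset.count_eq_zero_of_notMem
        intro hmem
        have := Equiv.Perm.two_le_of_mem_cycleType hmem
        omega
      rw [h0, Multiset.count_replicate_self]
      omega
    · rw [Multiset.count_replicate, if_neg (fun h => ha h.symm)]
      have := h3 a
      omega

theorem altClass_fiber (τ : Perm α) (hτ : Equiv.Perm.sign τ = -1) (σ : alternatingGroup α)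
    (x : ConjClasses (alternatingGroup α))
    (hx : altClassPartition x = (σ : Perm α).partition) :
    x = ConjClasses.mk σ ∨
      x = ConjClasses.mk ⟨τ * σ * τ⁻¹, (inferInstance : (alternatingGroup α).Normal).conj_mem _ σ.2 τ⟩ := by
  induction x using Quotient.inductionOn with
  | _ σ' =>
  have h1 : (σ' : Perm α).partition = (σ : Perm α).partition := hx
  obtain ⟨g, hg⟩ := isConj_iff.mp (Equiv.Perm.partition_eq_of_isConj.mpr h1.symm)
  rcases Int.units_eq_one_or (Equiv.Perm.sign g) with hs | hs
  · left
    have hgA : g ∈ alternatingGroup α := Equiv.Perm.mem_alternatingGroup.mpr hs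
    apply Eq.symm
    apply ConjClasses.mk_eq_mk_iff_isConj.mpr
    apply isConj_iff.mpr
    exact ⟨⟨g, hgA⟩, Subtype.ext hg⟩
  · right
    have hgA : g * τ⁻¹ ∈ alternatingGroup α := by
      rw [Equiv.Perm.mem_alternatingGroup, map_mul, map_inv, hs, hτ]
      decide
    apply Eq.symm
    apply ConjClasses.mk_eq_mk_iff_isConj.mpr
    apply isConj_iff.mpr
    refine ⟨⟨g * τ⁻¹, hgA⟩, Subtype.ext ?_⟩
    show g * τ⁻¹ * (τ * σ * τ⁻¹) * (g * τ⁻¹)⁻¹ = σ'
    rw [← hg]
    group

theorem altClass_fiber' (h : Perm α) (hh : Equiv.Perm.sign h = -1) (σ : alternatingGroup α)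
    (hcomm : h * (σ : Perm α) = (σ : Perm α) * h)
    (x : ConjClasses (alternatingGroup α))
    (hx : altClassPartition x = (σ : Perm α).partition) :
    x = ConjClasses.mk σ := by
  rcases altClass_fiber h hh σ x hx with h1 | h1
  · exact h1
  · rw [h1]
    congr 1
    apply Subtype.ext
    show h * σ * h⁻¹ = σ
    rw [hcomm, mul_inv_cancel_right]

theorem card_conjClasses_alt_lt (hα : 5 ≤ Fintype.card α) :
    Nat.card (ConjClasses (alternatingGroup α)) < Nat.card (ConjClasses (Perm α)) := by
  classical
  haveI : Fintype (ConjClasses (alternatingGroup α)) := Fintype.ofFinite _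
  obtain ⟨a, b, hab⟩ := Fintype.exists_pair_of_one_lt_card (by omega : 1 < Fintype.card α)
  have hτ : Equiv.Perm.sign (Equiv.swap a b) = -1 := Equiv.Perm.sign_swap hab
  rw [card_conjClasses_perm, Nat.card_eq_fintype_card, ← Finset.card_univ,
    Finset.card_eq_sum_card_fiberwise (f := altClassPartition (α := α))
      (t := (univ : Finset (Fintype.card α).Partition)) (by intro x _; simp)]
  have hbound : ∀ μ ∈ (univ : Finset (Fintype.card α).Partition),
      (univ.filter (fun x : ConjClasses (alternatingGroup α) => altClassPartition x = μ)).card ≤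
        (if IsEvenP μ then 1 else 0) + (if IsDO μ then 1 else 0) := by
    intro μ _
    by_cases hne : (univ.filter
        (fun x : ConjClasses (alternatingGroup α) => altClassPartition x = μ)).Nonempty
    · obtain ⟨x₀, hx₀⟩ := hne
      rw [mem_filter] at hx₀
      obtain ⟨σ, rfl⟩ := Quotient.exists_rep x₀
      have hμ : ((σ : Perm α)).partition = μ := hx₀.2
      have hev : IsEvenP μ := by
        rw [← hμ]
        exact isEvenP_partition_of_sign _ (Equiv.Perm.mem_alternatingGroup.mp σ.2)
      rw [if_pos hev]
      by_cases hdo : IsDO μ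
      · rw [if_pos hdo]
        refine le_trans (Finset.card_le_card ?_) (Finset.card_le_two (a := ConjClasses.mk σ)
          (b := ConjClasses.mk ⟨Equiv.swap a b * σ * (Equiv.swap a b)⁻¹,
            (inferInstance : (alternatingGroup α).Normal).conj_mem _ σ.2 _⟩))
        intro x hx
        rw [mem_filter] at hx
        rw [mem_insert, mem_singleton]
        exact altClass_fiber _ hτ σ x (hx.2.trans hμ.symm)
      · rw [if_neg hdo, add_zero]
        have hnle : ¬ Subgroup.centralizer {(σ : Perm α)} ≤ alternatingGroup α := by
          intro hle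
          apply hdo
          rw [← hμ]
          exact isDO_partition_of_centralizer_le _ hle
        obtain ⟨h, hhc, hhA⟩ := SetLike.not_le_iff_exists.mp hnle
        have hsign : Equiv.Perm.sign h = -1 := by
          rcases Int.units_eq_one_or (Equiv.Perm.sign h) with hs | hs
          · exact absurd (Equiv.Perm.mem_alternatingGroup.mpr hs) hhA
          · exact hs
        have hcomm : h * (σ : Perm α) = (σ : Perm α) * h := by
          rw [Subgroup.mem_centralizer_iff] at hhc
          exact (hhc _ (Set.mem_singleton _)).symm
        refine le_trans (Finset.card_le_card ?_)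
          (le_of_eq (Finset.card_singleton (ConjClasses.mk σ)))
        intro x hx
        rw [mem_filter] at hx
        rw [mem_singleton]
        exact altClass_fiber' h hsign σ hcomm x (hx.2.trans hμ.symm)
    · rw [Finset.not_nonempty_iff_eq_empty] at hne
      rw [hne, Finset.card_empty]
      exact Nat.zero_le _
  refine lt_of_le_of_lt (Finset.sum_le_sum hbound) ?_
  rw [Finset.sum_add_distrib, Finset.sum_boole, Finset.sum_boole]
  simp only [Nat.cast_id]
  have h1 := Finset.card_filter_add_card_filter_not
    (s := (univ : Finset (Fintype.card α).Partition)) (fun μ => IsEvenP μ)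
  have h2 := card_DO_lt (Fintype.card α) hα
  rw [Finset.card_univ] at h1
  omega

end Cfsg.Agent.Lib.H21
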