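/-
Orthogonal Phase 2 (rows S5814, S5835, S5859; helper21): O2-B1, O2-B3k, O2-F1
(consequences of helper11's maximality theorems and helper29's dimension count).
-/
import Cfsg.Agent.Lib.H21.AschO2T
import Cfsg.Agent.Lib.H11.OmTs5
import Cfsg.Agent.Lib.H11.OmImp9
import Cfsg.Agent.Lib.H29.QuadOdd
import Cfsg.Agent.Lib.H29.OrthFrame

set_option autoImplicit false

namespace Cfsg.Agent.Lib.H21.OP2

open Cfsg Cfsg.Geo
open scoped MatrixGroups Matrix Kronecker

variable {F : Type*} [Field F] [Fintype F]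

theorem card_io (m : ℕ) : Fintype.card (Unit ⊕ (Fin m ⊕ Fin m)) = 2 * m + 1 := by
  simp only [Fintype.card_sum, Fintype.card_unit, Fintype.card_fin]; omega

omit [Fintype F] in
theorem finrank_io (m : ℕ) : Module.finrank F (Unit ⊕ (Fin m ⊕ Fin m) → F) = 2 * m + 1 := by
  rw [Module.finrank_fintype_fun_eq_card, card_io]

/-- **O2-B1**. -/
theorem not_omega_le_stab_ts (hodd : Odd (Fintype.card F)) (m : ℕ) (hm : 3 ≤ m)
    (W : Submodule F (Unit ⊕ (Fin m ⊕ Fin m) → F)) (hW0 : W ≠ ⊥)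
    (hW : IsTotallySingularQuad (quadFormOdd m F) W) :
    ¬ omegaGL (quadFormOdd m F) ≤ subspaceStabilizer W := by
  intro h
  have h2 := two_ne_zero_of_odd_card hodd
  have hcard := card_io m
  have hmax := Cfsg.Agent.Lib.H11.OmTs.ts_maximal_any (quadFormOdd m F)
    (Cfsg.Agent.Lib.H29.QuadOdd.isNondegenerateQuadraticForm m h2) (by rw [hcard]; omega) W hW0 hW
    (by rw [hcard]; exact ⟨m, rfl⟩)
  exact hmax.1.ne (inf_eq_right.2 h)

/-- **O2-B3k**. -/
theorem not_omega_le_decomp (hodd : Odd (Fintype.card F)) (m : ℕ) (hm : 3 ≤ m) {t : ℕ} (k : ℕ)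
    (D : Fin t → Submodule F (Unit ⊕ (Fin m ⊕ Fin m) → F))
    (hD : IsOrthogonalMDecomposition (quadFormOdd m F) k D) (hk : 3 ≤ k)
    (hkq : 5 ≤ k ∨ 5 ≤ Fintype.card F) :
    ¬ omegaGL (quadFormOdd m F) ≤ decompositionStabilizer D := by
  intro h
  have h2 := two_ne_zero_of_odd_card hodd
  have hcard := card_io m
  have hmax := Cfsg.Agent.Lib.H11.OmImp.imp_maximal_any (quadFormOdd m F)
    (Cfsg.Agent.Lib.H29.QuadOdd.isNondegenerateQuadraticForm m h2) (by rw [hcard]; omega)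
    (by rw [hcard]; exact ⟨m, rfl⟩) h2 D hD hk hkq
  exact hmax.1.ne (inf_eq_right.2 h)

omit [Fintype F] in
/-- **O2-F1**. -/
theorem mul_eq_of_isMDecomposition (m : ℕ) {t k : ℕ}
    (D : Fin t → Submodule F (Unit ⊕ (Fin m ⊕ Fin m) → F)) (hD : IsMDecomposition k D) :
    t * k = 2 * m + 1 := by
  have h := Cfsg.Agent.Lib.H29.Orth.card_eq_of_decomp D hD.indep hD.iSup_eq_top hD.finrank_eq
  rw [card_io] at h
  exact h.symm

end Cfsg.Agent.Lib.H21.OP2
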