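/-
Orthogonal Phase 2 (helper21): O2-B4, `Ω_{2m+1}(q)` normalises no field subalgebra of prime degree.
Only the explicit long root elements `rootG m i j 1` of `AschO2T` are used.
-/
import Cfsg.Agent.Lib.H21.AschO2T

set_option autoImplicit false

namespace Cfsg.Agent.Lib.H21.OP2

open Cfsg Cfsg.Geo
open scoped MatrixGroups Matrix Kronecker

variable {F : Type*} [Field F]

/-- An element `g` of the normaliser of a field subalgebra `K` such that `g - 1` has image in a subspace `S` with
`2 dim S < dim V` centralises `K`. -/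
theorem commute_of_mem_normalizer_of_small {ι : Type} [Fintype ι] [DecidableEq ι] (r : ℕ)
    (K : Subalgebra F (Matrix ι ι F)) (hK : IsFieldSubalgebra r K) (g : GL ι F)
    (hgN : g ∈ subalgebraNormalizer K) (S : Submodule F (ι → F))
    (hS : ∀ x, (g : Matrix ι ι F) *ᵥ x - x ∈ S) (hdim : 2 * Module.finrank F S < Fintype.card ι)
    (X : Matrix ι ι F) (hX : X ∈ K) :
    (g : Matrix ι ι F) * X = X * (g : Matrix ι ι F) := by
  have hmem : (g : Matrix ι ι F) * X * ((g⁻¹ : GL ι F) : Matrix ι ι F) ∈ K := (hgN X).mp hX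
  set y := (g : Matrix ι ι F) * X * ((g⁻¹ : GL ι F) : Matrix ι ι F) - X with hy
  have hyK : y ∈ K := K.sub_mem hmem hX
  set T : Submodule F (ι → F) := S ⊔ S.map (Matrix.toLin' X) with hT
  have himg : ∀ w : ι → F, y *ᵥ w ∈ T := by
    intro w
    set w' := ((g⁻¹ : GL ι F) : Matrix ι ι F) *ᵥ w with hw'
    have hgw' : (g : Matrix ι ι F) *ᵥ w' = w := by
      rw [hw', Matrix.mulVec_mulVec, ← Units.val_mul, mul_inv_cancel, Units.val_one, Matrix.one_mulVec]
    have hcalc : y *ᵥ w = ((g : Matrix ι ι F) *ᵥ (X *ᵥ w') - X *ᵥ w') -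
        X *ᵥ ((g : Matrix ι ι F) *ᵥ w' - w') := by
      rw [hy, Matrix.sub_mulVec, ← Matrix.mulVec_mulVec, ← Matrix.mulVec_mulVec, ← hw', Matrix.mulVec_sub,
        hgw']
      abel
    rw [hcalc]
    refine T.sub_mem (Submodule.mem_sup_left (hS _)) (Submodule.mem_sup_right ?_)
    exact ⟨_, hS w', by rw [Matrix.toLin'_apply]⟩
  have hy0 : y = 0 := by
    by_contra hne
    obtain ⟨z, -, hz⟩ := hK.inv y hyK hne
    have htop : (⊤ : Submodule F (ι → F)) ≤ T := by
      intro w _
      have : w = y *ᵥ (z *ᵥ w) := by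
        rw [Matrix.mulVec_mulVec, hz, Matrix.one_mulVec]
      rw [this]
      exact himg _
    have h1 := Submodule.finrank_mono htop
    rw [finrank_top, Module.finrank_fintype_fun_eq_card] at h1
    have h2 : Module.finrank F T ≤ Module.finrank F S + Module.finrank F S :=
      (Submodule.finrank_add_le_finrank_add_finrank _ _).trans
        (Nat.add_le_add_left (Submodule.finrank_map_le _ _) _)
    omega
  have h1 : (g : Matrix ι ι F) * X * ((g⁻¹ : GL ι F) : Matrix ι ι F) = X := sub_eq_zero.mp hy0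
  have h3 : (g : Matrix ι ι F) * X * ((g⁻¹ : GL ι F) : Matrix ι ι F) * (g : Matrix ι ι F) =
      X * (g : Matrix ι ι F) := by rw [h1]
  rw [Matrix.mul_assoc, ← Units.val_mul, inv_mul_cancel, Units.val_one, Matrix.mul_one] at h3
  exact h3

/-- the entries of `rootN`. -/
theorem rootN_apply (m : ℕ) (i j : Fin m) (p q : Unit ⊕ (Fin m ⊕ Fin m)) :
    rootN m F i j p q =
      (if p = Sum.inr (Sum.inl i) ∧ q = Sum.inr (Sum.inr j) then 1 else 0) -
        (if p = Sum.inr (Sum.inl j) ∧ q = Sum.inr (Sum.inr i) then 1 else 0) := by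
  simp only [rootN, Matrix.sub_apply, Matrix.single_apply, eq_comm]

theorem rootN_mul_apply (m : ℕ) (i j : Fin m) (X : Matrix (Unit ⊕ (Fin m ⊕ Fin m)) (Unit ⊕ (Fin m ⊕ Fin m)) F)
    (p q : Unit ⊕ (Fin m ⊕ Fin m)) :
    (rootN m F i j * X) p q =
      (if p = Sum.inr (Sum.inl i) then X (Sum.inr (Sum.inr j)) q else 0) -
        (if p = Sum.inr (Sum.inl j) then X (Sum.inr (Sum.inr i)) q else 0) := by
  rw [Matrix.mul_apply]
  simp only [rootN_apply, sub_mul, ite_mul, one_mul, zero_mul, Finset.sum_sub_distrib]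
  congr 1
  · by_cases h : p = Sum.inr (Sum.inl i)
    · simp [h]
    · simp [h]
  · by_cases h : p = Sum.inr (Sum.inl j)
    · simp [h]
    · simp [h]

theorem mul_rootN_apply (m : ℕ) (i j : Fin m) (X : Matrix (Unit ⊕ (Fin m ⊕ Fin m)) (Unit ⊕ (Fin m ⊕ Fin m)) F)
    (p q : Unit ⊕ (Fin m ⊕ Fin m)) :
    (X * rootN m F i j) p q =
      (if q = Sum.inr (Sum.inr j) then X p (Sum.inr (Sum.inl i)) else 0) -
        (if q = Sum.inr (Sum.inr i) then X p (Sum.inr (Sum.inl j)) else 0) := by
  rw [Matrix.mul_apply]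
  simp only [rootN_apply, mul_sub, mul_ite, mul_one, mul_zero, Finset.sum_sub_distrib]
  congr 1
  · by_cases h : q = Sum.inr (Sum.inr j)
    · simp [h]
    · simp [h]
  · by_cases h : q = Sum.inr (Sum.inr i)
    · simp [h]
    · simp [h]

variable [Fintype F]

/-- **O2-B4**. -/
theorem not_omega_le_subalgebraNormalizer (hodd : Odd (Fintype.card F)) (m : ℕ) (hm : 3 ≤ m) (r : ℕ) (hr : r.Prime)
    (K : Subalgebra F (Matrix (Unit ⊕ (Fin m ⊕ Fin m)) (Unit ⊕ (Fin m ⊕ Fin m)) F))
    (hK : IsFieldSubalgebra r K) :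
    ¬ omegaGL (quadFormOdd m F) ≤ subalgebraNormalizer K := by
  intro hle
  have h2 := two_ne_zero_of_odd_card hodd
  have hcard : Fintype.card (Unit ⊕ (Fin m ⊕ Fin m)) = 2 * m + 1 := by
    simp only [Fintype.card_sum, Fintype.card_unit, Fintype.card_fin]; omega
  -- every element of `K` commutes with the matrices `rootN m F i j`
  have hcomm : ∀ X ∈ K, ∀ i j : Fin m, i ≠ j → rootN m F i j * X = X * rootN m F i j := by
    intro X hX i j hij
    have hg := hle (rootG_mem_omegaGL h2 m i j hij (1 : F))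
    set S : Submodule F (Unit ⊕ (Fin m ⊕ Fin m) → F) :=
      Submodule.span F {Pi.single (Sum.inr (Sum.inl i)) (1 : F), Pi.single (Sum.inr (Sum.inl j)) (1 : F)} with hS
    have hSmem : ∀ x, ((rootG m i j (1 : F) : GL _ F) : Matrix (Unit ⊕ (Fin m ⊕ Fin m)) (Unit ⊕ (Fin m ⊕ Fin m)) F) *ᵥ x - x ∈ S := by
      intro x
      rw [rootG_mulVec, add_sub_cancel_left, one_smul]
      refine S.sub_mem (S.smul_mem _ (Submodule.subset_span (Set.mem_insert _ _)))
        (S.smul_mem _ (Submodule.subset_span (Set.mem_insert_of_mem _ (Set.mem_singleton _))))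
    have hSdim : Module.finrank F S ≤ 2 := by
      classical
      refine (finrank_span_le_card _).trans ?_
      rw [Set.toFinset_insert, Set.toFinset_singleton]
      exact (Finset.card_insert_le _ _).trans (by simp)
    have h := commute_of_mem_normalizer_of_small r K hK (rootG m i j (1 : F)) hg S hSmem
      (by rw [hcard]; omega) X hX
    rw [rootG_val, one_smul, add_mul, mul_add, one_mul, mul_one] at h
    exact add_left_cancel h
  -- hence every element of `K` is scalar
  have hscal : ∀ X ∈ K, ∃ c : F, X = c • (1 : Matrix (Unit ⊕ (Fin m ⊕ Fin m)) (Unit ⊕ (Fin m ⊕ Fin m)) F) := by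
    intro X hX
    have i0 : Fin m := ⟨0, by omega⟩
    -- columns `inl i` of `X` vanish off the diagonal
    have hcol : ∀ i : Fin m, ∀ p : Unit ⊕ (Fin m ⊕ Fin m), p ≠ Sum.inr (Sum.inl i) →
        X p (Sum.inr (Sum.inl i)) = 0 := by
      intro i p hp
      -- choose `j ≠ i` with `p ≠ inl j`
      obtain ⟨j, hji, hpj⟩ : ∃ j : Fin m, j ≠ i ∧ p ≠ Sum.inr (Sum.inl j) := by
        by_contra hcon
        push Not at hcon
        -- two different indices `j₁, j₂ ≠ i`
        obtain ⟨j₁, hj₁⟩ : ∃ j₁ : Fin m, j₁ ≠ i := by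
          by_cases h0 : i = ⟨0, by omega⟩
          · exact ⟨⟨1, by omega⟩, by rw [h0]; simp [Fin.ext_iff]⟩
          · exact ⟨⟨0, by omega⟩, fun h => h0 h.symm⟩
        obtain ⟨j₂, hj₂i, hj₂⟩ : ∃ j₂ : Fin m, j₂ ≠ i ∧ j₂ ≠ j₁ := by
          by_contra hc
          push Not at hc
          have key : ∀ j : Fin m, j = i ∨ j = j₁ := by
            intro j
            by_cases hji : j = i
            · exact Or.inl hji
            · exact Or.inr (hc j hji)
          have hcard3 : Fintype.card (Fin m) ≤ 2 := by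
            have : (Finset.univ : Finset (Fin m)) ⊆ {i, j₁} := by
              intro j _
              rcases key j with h | h <;> simp [h]
            calc Fintype.card (Fin m) = (Finset.univ : Finset (Fin m)).card := rfl
              _ ≤ ({i, j₁} : Finset (Fin m)).card := Finset.card_le_card this
              _ ≤ 2 := Finset.card_le_two
          rw [Fintype.card_fin] at hcard3
          omega
        have e1 := hcon j₁ hj₁
        have e2 := hcon j₂ hj₂i
        rw [e1] at e2
        simp only [Sum.inr.injEq, Sum.inl.injEq] at e2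
        exact hj₂ e2.symm
      have h := congrFun (congrFun (hcomm X hX i j (Ne.symm hji)) p) (Sum.inr (Sum.inr j))
      rw [rootN_mul_apply, mul_rootN_apply] at h
      have hne : (Sum.inr (Sum.inr j) : Unit ⊕ (Fin m ⊕ Fin m)) ≠ Sum.inr (Sum.inr i) := by
        simp [hji]
      simp only [if_neg hp, if_neg hpj, if_pos rfl, if_neg hne, sub_zero] at h
      exact h.symm
    set c := X (Sum.inr (Sum.inl i0)) (Sum.inr (Sum.inl i0)) with hc
    refine ⟨c, ?_⟩
    -- `Y = X - c` kills `e_{inl i0}`, so it is not invertible, so it is zero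
    set Y := X - c • (1 : Matrix (Unit ⊕ (Fin m ⊕ Fin m)) (Unit ⊕ (Fin m ⊕ Fin m)) F) with hY
    have hYK : Y ∈ K := by
      refine K.sub_mem hX ?_
      have : c • (1 : Matrix (Unit ⊕ (Fin m ⊕ Fin m)) (Unit ⊕ (Fin m ⊕ Fin m)) F) =
          algebraMap F _ c := by
        rw [Algebra.algebraMap_eq_smul_one]
      rw [this]
      exact K.algebraMap_mem c
    have hYe : Y *ᵥ Pi.single (Sum.inr (Sum.inl i0)) (1 : F) = 0 := by
      funext p
      rw [Matrix.mulVec_single_one]
      simp only [hY, Matrix.col_apply, Matrix.sub_apply, Matrix.smul_apply, Matrix.one_apply, smul_eq_mul,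
        Pi.zero_apply]
      by_cases hp : p = Sum.inr (Sum.inl i0)
      · subst hp
        simp [hc]
      · rw [hcol i0 p hp, if_neg hp]
        simp
    have hY0 : Y = 0 := by
      by_contra hne
      obtain ⟨z, hzK, hz⟩ := hK.inv Y hYK hne
      have hz' : z * Y = 1 := by rw [hK.comm z hzK Y hYK]; exact hz
      have : Pi.single (Sum.inr (Sum.inl i0)) (1 : F) = (0 : Unit ⊕ (Fin m ⊕ Fin m) → F) := by
        have h1 : (z * Y) *ᵥ Pi.single (Sum.inr (Sum.inl i0)) (1 : F) =
            Pi.single (Sum.inr (Sum.inl i0)) (1 : F) := by rw [hz', Matrix.one_mulVec]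
        rw [← Matrix.mulVec_mulVec, hYe, Matrix.mulVec_zero] at h1
        exact h1.symm
      have h1 := congrFun this (Sum.inr (Sum.inl i0))
      simp at h1
    exact sub_eq_zero.mp hY0
  -- so `K` has dimension at most 1
  have hle1 : K.toSubmodule ≤ Submodule.span F {(1 : Matrix (Unit ⊕ (Fin m ⊕ Fin m)) (Unit ⊕ (Fin m ⊕ Fin m)) F)} := by
    intro x hx
    rw [Submodule.mem_span_singleton]
    obtain ⟨c, hc⟩ := hscal x hx
    exact ⟨c, hc.symm⟩
  have hfin : Module.finrank F K.toSubmodule ≤ 1 :=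
    (Submodule.finrank_mono hle1).trans
      ((finrank_span_le_card ({(1 : Matrix (Unit ⊕ (Fin m ⊕ Fin m)) (Unit ⊕ (Fin m ⊕ Fin m)) F)} : Set _)).trans
        (by simp))
  have hKr : Module.finrank F K.toSubmodule = r := hK.finrank_eq
  have := hr.two_le
  omega

end Cfsg.Agent.Lib.H21.OP2
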