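/-
Orthogonal Phase 2 (helper21): generic assembly for the rows S5814 (Ω_7), S5835 (Ω_9), S5859 (Ω_11), from the
FROZEN statement of S5673 (`MainO m F`) and the lemmas O2-xx (tools/blueprints/O2_sigs.lean).
-/
import Cfsg.Agent.Lib.H21.AschO2T
import Cfsg.Agent.Lib.H21.AschO2B1
import Cfsg.Agent.Lib.H21.AschO2F2
import Cfsg.Agent.Lib.H21.AschO2B4
import Cfsg.Agent.Lib.H7.AschO2Z
import Cfsg.Agent.Lib.H7.AschO2E2
import Cfsg.Agent.Lib.H7.AschO2E3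
import Cfsg.Agent.Lib.H17.AschO2E1
import Cfsg.Agent.Lib.H13.AschO2B2
import Cfsg.Agent.Lib.H13.AschO2B3l
import Cfsg.Agent.Lib.H13.AschO2B5
import Cfsg.Agent.Lib.H8.AschO2B6

set_option autoImplicit false

namespace Cfsg.Agent.Lib.H21.OP2

open Cfsg Cfsg.Geo
open scoped MatrixGroups Matrix Kronecker

variable {F : Type*} [Field F] [Fintype F]

/-- The statement of S5673 in dimension `2m+1`. -/
def MainO (m : ℕ) (F : Type*) [Field F] [Fintype F] : Prop :=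
  ∀ H : Subgroup (GL (Unit ⊕ (Fin m ⊕ Fin m)) F), H ≤ omegaGL (quadFormOdd m F) →
    H ⊔ (scalars (Unit ⊕ (Fin m ⊕ Fin m)) F ⊓ omegaGL (quadFormOdd m F)) ≠ omegaGL (quadFormOdd m F) →
    (∃ M : Subgroup (GL (Unit ⊕ (Fin m ⊕ Fin m)) F), InOrthogonalOddClass m F M ∧ H ≤ M) ∨
      InOrthogonalResidualClass H

/-! ## A. Assembly (helper21; PROVED from the statements above) -/

theorem eq_inf_of_maximal {G : Type*} [Group G] {K H M : Subgroup G} (hH : IsMaximalIn K H) (hHM : H ≤ M)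
    (hM : ¬ K ≤ M) : H = M ⊓ K := by
  rcases hH.2 (M ⊓ K) (le_inf hHM hH.1.le) inf_le_right with h | h
  · exact h.symm
  · exact absurd (h ▸ inf_le_left) hM

/-- The non-degenerate subspace case: replace `W` by a subspace of the shape the rows want. -/
theorem nd_case (hodd : Odd (Fintype.card F)) (m : ℕ) (hm : 3 ≤ m)
    (W : Submodule F (Unit ⊕ (Fin m ⊕ Fin m) → F)) (hW0 : W ≠ ⊥) (hW1 : W ≠ ⊤)
    (hW : IsNondegenerateOn (QuadraticMap.polar (quadFormOdd m F)) W) :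
    ∃ W' : Submodule F (Unit ⊕ (Fin m ⊕ Fin m) → F), W' ≠ ⊥ ∧ Even (Module.finrank F W') ∧
      IsNondegenerateOn (QuadraticMap.polar (quadFormOdd m F)) W' ∧
      ¬ (Fintype.card F = 3 ∧ Module.finrank F W' = 2 ∧ IsPlusTypeOn (quadFormOdd m F) W') ∧
      subspaceStabilizer W ⊓ isometryGroup F (quadFormOdd m F) ≤ subspaceStabilizer W' ∧
      ¬ omegaGL (quadFormOdd m F) ≤ subspaceStabilizer W' := by
  -- the even-dimensional case
  have key : ∀ V : Submodule F (Unit ⊕ (Fin m ⊕ Fin m) → F), V ≠ ⊥ → V ≠ ⊤ →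
      IsNondegenerateOn (QuadraticMap.polar (quadFormOdd m F)) V → Even (Module.finrank F V) →
      ∃ W' : Submodule F (Unit ⊕ (Fin m ⊕ Fin m) → F), W' ≠ ⊥ ∧ Even (Module.finrank F W') ∧
        IsNondegenerateOn (QuadraticMap.polar (quadFormOdd m F)) W' ∧
        ¬ (Fintype.card F = 3 ∧ Module.finrank F W' = 2 ∧ IsPlusTypeOn (quadFormOdd m F) W') ∧
        subspaceStabilizer V ⊓ isometryGroup F (quadFormOdd m F) ≤ subspaceStabilizer W' ∧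
        ¬ omegaGL (quadFormOdd m F) ≤ subspaceStabilizer W' := by
    intro V hV0 hV1 hV hev
    by_cases hex : Fintype.card F = 3 ∧ Module.finrank F V = 2 ∧ IsPlusTypeOn (quadFormOdd m F) V
    · obtain ⟨W', hnd, hdim, hle⟩ := Cfsg.Agent.Lib.H7.OP2.exists_of_plus_plane hex.1 m V hex.2.1 hV hex.2.2
      have h0 : W' ≠ ⊥ := by
        intro h
        rw [h, finrank_bot] at hdim
        omega
      have h1 : W' ≠ ⊤ := by
        intro h
        rw [h, finrank_top, finrank_io] at hdim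
        omega
      exact ⟨W', h0, ⟨m, by rw [hdim]; ring⟩, hnd, fun h => by omega, hle,
        Cfsg.Agent.Lib.H13.OP2.not_omega_le_stab_nd hodd m hm W' h0 h1 hnd⟩
    · exact ⟨V, hV0, hev, hV, hex, inf_le_left, Cfsg.Agent.Lib.H13.OP2.not_omega_le_stab_nd hodd m hm V hV0 hV1 hV⟩
  by_cases hev : Even (Module.finrank F W)
  · exact key W hW0 hW1 hW hev
  · obtain ⟨W₁, h0, h1, hnd, hdim, hle⟩ := Cfsg.Agent.Lib.H17.OP2.exists_perp hodd m W hW0 hW1 hW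
    have hev₁ : Even (Module.finrank F W₁) := by
      rw [Nat.not_even_iff_odd] at hev
      obtain ⟨a, ha⟩ := hev
      exact ⟨m - a, by omega⟩
    obtain ⟨W', h0', hev', hnd', hex', hle', hno'⟩ := key W₁ h0 h1 hnd hev₁
    exact ⟨W', h0', hev', hnd', hex', (le_inf hle inf_le_right).trans hle', hno'⟩

/-- Normal form of a maximal subgroup of `Ω_{2m+1}(q)` that is not in the residual class (all `m ≥ 3`; class 4 is
left as a bare arithmetic fact: it does not occur for `2m+1 ∈ {7, 9, 11}`). -/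
def ONF (m : ℕ) (F : Type*) [Field F] [Fintype F] (H : Subgroup (GL (Unit ⊕ (Fin m ⊕ Fin m)) F)) : Prop :=
  (∃ W : Submodule F (Unit ⊕ (Fin m ⊕ Fin m) → F), W ≠ ⊥ ∧ IsTotallySingularQuad (quadFormOdd m F) W ∧
      H = subspaceStabilizer W ⊓ omegaGL (quadFormOdd m F)) ∨
  (∃ W : Submodule F (Unit ⊕ (Fin m ⊕ Fin m) → F), W ≠ ⊥ ∧ Even (Module.finrank F W) ∧
      IsNondegenerateOn (QuadraticMap.polar (quadFormOdd m F)) W ∧
      ¬ (Fintype.card F = 3 ∧ Module.finrank F W = 2 ∧ IsPlusTypeOn (quadFormOdd m F) W) ∧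
      H = subspaceStabilizer W ⊓ omegaGL (quadFormOdd m F)) ∨
  (∃ (t k : ℕ) (D : Fin t → Submodule F (Unit ⊕ (Fin m ⊕ Fin m) → F)), t * k = 2 * m + 1 ∧ 3 ≤ k ∧
      (5 ≤ k ∨ 5 ≤ Fintype.card F) ∧ IsOrthogonalMDecomposition (quadFormOdd m F) k D ∧
      H = decompositionStabilizer D ⊓ omegaGL (quadFormOdd m F)) ∨
  ((Fintype.card F).Prime ∧ ∃ D : Fin (2 * m + 1) → Submodule F (Unit ⊕ (Fin m ⊕ Fin m) → F),
      IsOrthogonalMDecomposition (quadFormOdd m F) 1 D ∧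
      H = decompositionStabilizer D ⊓ omegaGL (quadFormOdd m F)) ∨
  (∃ (r : ℕ) (K : Subalgebra F (Matrix (Unit ⊕ (Fin m ⊕ Fin m)) (Unit ⊕ (Fin m ⊕ Fin m)) F)), r.Prime ∧
      r ∣ 2 * m + 1 ∧ 2 * m + 1 ≠ r ∧ IsFieldSubalgebra r K ∧
      IsSelfAdjointFor (QuadraticMap.polar (quadFormOdd m F)) K ∧
      H = subalgebraNormalizer K ⊓ omegaGL (quadFormOdd m F)) ∨
  (∃ n₁ n₂ : ℕ, 3 ≤ n₁ ∧ n₁ < n₂ ∧ n₁ * n₂ = 2 * m + 1) ∨
  (∃ (F₀ : Subfield F) (r : ℕ) (P : GL (Unit ⊕ (Fin m ⊕ Fin m)) F), r.Prime ∧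
      Fintype.card F = Nat.card F₀ ^ r ∧ IsQuadFormRationalStructure (quadFormOdd m F) F₀ P ∧
      H = subfieldSubgroup F₀ P ⊓ omegaGL (quadFormOdd m F)) ∨
  (∃ (k t : ℕ) (e : (Unit ⊕ (Fin m ⊕ Fin m)) ≃ (Fin t → Fin k)) (P : GL (Unit ⊕ (Fin m ⊕ Fin m)) F)
      (f₁ : (Fin k → F) → (Fin k → F) → F), 3 ≤ k ∧ 2 ≤ t ∧ k ^ t = 2 * m + 1 ∧
      ¬ (Fintype.card F = 3 ∧ k = 3) ∧ IsSymmetricForm f₁ ∧
      IsTensorPowerFormStructure id (QuadraticMap.polar (quadFormOdd m F)) f₁ e P ∧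
      H = tensorWreathSubgroup k t e P ⊓ omegaGL (quadFormOdd m F))

theorem orow_cases (hodd : Odd (Fintype.card F)) (m : ℕ) (hm : 3 ≤ m) (hmain : MainO m F)
    (H : Subgroup (GL (Unit ⊕ (Fin m ⊕ Fin m)) F))
    (hH : IsMaximalIn (omegaGL (quadFormOdd m F)) H) : ONF m F H ∨ InOrthogonalResidualClass H := by
  have hle : H ≤ omegaGL (quadFormOdd m F) := hH.1.le
  have hproper : H ⊔ (scalars (Unit ⊕ (Fin m ⊕ Fin m)) F ⊓ omegaGL (quadFormOdd m F)) ≠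
      omegaGL (quadFormOdd m F) := by
    rw [Cfsg.Agent.Lib.H7.OP2.scalars_inf_omegaGL hodd m, sup_bot_eq]
    exact hH.1.ne
  have hq1 : 1 < Fintype.card F := Fintype.one_lt_card
  rcases hmain H hle hproper with ⟨M, hM, hHM⟩ | hres
  swap
  · exact Or.inr hres
  left
  -- the lines case, used twice
  have lines : ∀ (t : ℕ) (D : Fin t → Submodule F (Unit ⊕ (Fin m ⊕ Fin m) → F)), (Fintype.card F).Prime →
      IsOrthogonalMDecomposition (quadFormOdd m F) 1 D → H ≤ decompositionStabilizer D → ONF m F H := by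
    intro t D hp hD hHD
    have htk := mul_eq_of_isMDecomposition m D hD.decomp.decomp
    obtain rfl : t = 2 * m + 1 := by omega
    exact Or.inr (Or.inr (Or.inr (Or.inl ⟨hp, D, hD,
      eq_inf_of_maximal hH hHD (Cfsg.Agent.Lib.H13.OP2.not_omega_le_decomp_lines hodd m hm D hD)⟩)))
  rcases hM with h | h | h | h | h | h | h | h
  · -- totally singular subspace
    obtain ⟨W, h0, hts, rfl⟩ := h
    exact Or.inl ⟨W, h0, hts, eq_inf_of_maximal hH (hHM.trans inf_le_left)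
      (not_omega_le_stab_ts hodd m hm W h0 hts)⟩
  · -- non-degenerate subspace
    obtain ⟨W, h0, h1, hnd, rfl⟩ := h
    obtain ⟨W', h0', hev', hnd', hex', hle', hno'⟩ := nd_case hodd m hm W h0 h1 hnd
    exact Or.inr (Or.inl ⟨W', h0', hev', hnd', hex', eq_inf_of_maximal hH (hHM.trans hle') hno'⟩)
  · -- blocks of dimension k > 1
    obtain ⟨t, k, D, hk1, hD, rfl⟩ := h
    have htk := mul_eq_of_isMDecomposition m D hD.decomp.decomp
    have hkodd : Odd k := by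
      have : Odd (t * k) := by rw [htk]; exact ⟨m, rfl⟩
      exact (Nat.odd_mul.1 this).2
    have hk3 : 3 ≤ k := by
      obtain ⟨a, ha⟩ := hkodd
      omega
    by_cases hq3 : Fintype.card F = 3 ∧ k = 3
    · obtain ⟨hq, rfl⟩ := hq3
      obtain ⟨t', D', hD', hle'⟩ := Cfsg.Agent.Lib.H7.OP2.exists_lines_of_three_blocks hq m D hD
      exact lines t' D' (by rw [hq]; norm_num) hD' (hHM.trans hle')
    · have hkq : 5 ≤ k ∨ 5 ≤ Fintype.card F := by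
        by_cases h5 : 5 ≤ k
        · exact Or.inl h5
        · right
          have hk3' : k = 3 := by
            obtain ⟨a, ha⟩ := hkodd
            omega
          have hq3' : Fintype.card F ≠ 3 := fun hh => hq3 ⟨hh, hk3'⟩
          obtain ⟨a, ha⟩ := hodd
          omega
      exact Or.inr (Or.inr (Or.inl ⟨t, k, D, htk, hk3, hkq, hD,
        eq_inf_of_maximal hH (hHM.trans inf_le_left) (not_omega_le_decomp hodd m hm k D hD hk3 hkq)⟩))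
  · -- lines over a prime field
    obtain ⟨t, D, hp, hD, rfl⟩ := h
    exact lines t D hp hD (hHM.trans inf_le_left)
  · -- class 3
    obtain ⟨r, K, hr, hne, hK, hsa, rfl⟩ := h
    have hdvd : r ∣ 2 * m + 1 := by
      have := dvd_card_of_isFieldSubalgebra r K hK
      rwa [card_io] at this
    exact Or.inr (Or.inr (Or.inr (Or.inr (Or.inl ⟨r, K, hr, hdvd, hne, hK, hsa,
      eq_inf_of_maximal hH (hHM.trans inf_le_left)
        (not_omega_le_subalgebraNormalizer hodd m hm r hr K hK)⟩))))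
  · -- class 4
    obtain ⟨n₁, n₂, e, P, f₁, f₂, h3, hlt, -, -, -, -⟩ := h
    have hcard : n₁ * n₂ = 2 * m + 1 := by
      have := Fintype.card_congr e
      rw [card_io] at this
      simpa [Fintype.card_prod] using this.symm
    exact Or.inr (Or.inr (Or.inr (Or.inr (Or.inr (Or.inl ⟨n₁, n₂, h3, hlt, hcard⟩)))))
  · -- class 5
    obtain ⟨F₀, r, P, hr, hcard, hP, rfl⟩ := h
    exact Or.inr (Or.inr (Or.inr (Or.inr (Or.inr (Or.inr (Or.inl ⟨F₀, r, P, hr, hcard, hP,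
      eq_inf_of_maximal hH (hHM.trans inf_le_left)
        (Cfsg.Agent.Lib.H13.OP2.not_omega_le_subfieldSubgroup hodd m hm F₀ r hr hcard P)⟩))))))
  · -- class 7
    obtain ⟨k, t, e, P, f₁, hk, ht, hex, hf₁, hT, rfl⟩ := h
    have hcard : k ^ t = 2 * m + 1 := by
      have := Fintype.card_congr e
      rw [card_io] at this
      simpa using this.symm
    exact Or.inr (Or.inr (Or.inr (Or.inr (Or.inr (Or.inr (Or.inr ⟨k, t, e, P, f₁, hk, ht, hcard, hex, hf₁,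
      hT, eq_inf_of_maximal hH (hHM.trans inf_le_left)
        (Cfsg.Agent.Lib.H8.OP2.not_omega_le_tensorWreathSubgroup hodd m hm k t hk ht e P f₁ hf₁ hT)⟩))))))

/-! ## The three rows (PROVED from `orow_cases`) -/

theorem row7 {F : Type*} [Field F] [Fintype F] (hmain : MainO 3 F) (hodd : Odd (Fintype.card F)) (H : Subgroup (Matrix.GeneralLinearGroup (Unit ⊕ (Fin 3 ⊕ Fin 3)) F)) (hH : Cfsg.Geo.IsMaximalIn (Cfsg.Geo.omegaGL (Cfsg.quadFormOdd 3 F)) H) :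
    (∃ W : Submodule F (Unit ⊕ (Fin 3 ⊕ Fin 3) → F), W ≠ ⊥ ∧ Cfsg.Geo.IsTotallySingularQuad (Cfsg.quadFormOdd 3 F) W ∧ H = Cfsg.Geo.subspaceStabilizer W ⊓ Cfsg.Geo.omegaGL (Cfsg.quadFormOdd 3 F)) ∨
    (∃ W : Submodule F (Unit ⊕ (Fin 3 ⊕ Fin 3) → F), W ≠ ⊥ ∧ Even (Module.finrank F W) ∧ Cfsg.Geo.IsNondegenerateOn (QuadraticMap.polar (Cfsg.quadFormOdd 3 F)) W ∧ ¬ (Fintype.card F = 3 ∧ Module.finrank F W = 2 ∧ Cfsg.Geo.IsPlusTypeOn (Cfsg.quadFormOdd 3 F) W) ∧ H = Cfsg.Geo.subspaceStabilizer W ⊓ Cfsg.Geo.omegaGL (Cfsg.quadFormOdd 3 F)) ∨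
    ((Fintype.card F).Prime ∧ ∃ D : Fin 7 → Submodule F (Unit ⊕ (Fin 3 ⊕ Fin 3) → F), Cfsg.Geo.IsOrthogonalMDecomposition (Cfsg.quadFormOdd 3 F) 1 D ∧ H = Cfsg.Geo.decompositionStabilizer D ⊓ Cfsg.Geo.omegaGL (Cfsg.quadFormOdd 3 F)) ∨
    (∃ (F₀ : Subfield F) (r : ℕ) (P : Matrix.GeneralLinearGroup (Unit ⊕ (Fin 3 ⊕ Fin 3)) F), r.Prime ∧ Fintype.card F = Nat.card F₀ ^ r ∧ Cfsg.Geo.IsQuadFormRationalStructure (Cfsg.quadFormOdd 3 F) F₀ P ∧ H = Cfsg.Geo.subfieldSubgroup F₀ P ⊓ Cfsg.Geo.omegaGL (Cfsg.quadFormOdd 3 F)) ∨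
    Cfsg.Geo.InOrthogonalResidualClass H := by
  have hq1 : 1 < Fintype.card F := Fintype.one_lt_card
  rcases orow_cases hodd 3 (by norm_num) hmain H hH with h | h
  swap
  · exact Or.inr (Or.inr (Or.inr (Or.inr h)))
  rcases h with h | h | h | h | h | h | h | h
  · exact Or.inl h
  · exact Or.inr (Or.inl h)
  · exfalso
    obtain ⟨t, k, D, htk, hk3, -, hD, -⟩ := h
    have h2 := hD.decomp.decomp.two_le
    have : 2 * 3 ≤ t * k := Nat.mul_le_mul h2 hk3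
    have hk : k ∣ 7 := ⟨t, by rw [mul_comm]; exact htk.symm⟩
    have hkp : k = 1 ∨ k = 7 := (Nat.dvd_prime (by norm_num)).1 hk
    rcases hkp with rfl | rfl
    · omega
    · have : t = 1 := by
        have h0 : 0 < 7 := by norm_num
        exact Nat.eq_of_mul_eq_mul_right h0 (by rw [htk, one_mul])
      omega
  · exact Or.inr (Or.inr (Or.inl h))
  · exfalso
    obtain ⟨r, K, hr, hdvd, hne, -⟩ := h
    have : r = 7 := (Nat.prime_dvd_prime_iff_eq hr (by norm_num)).1 hdvd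
    exact hne this.symm
  · exfalso
    obtain ⟨n₁, n₂, h3, hlt, hmul⟩ := h
    have h4 : 4 ≤ n₂ := by omega
    have : 3 * 4 ≤ n₁ * n₂ := Nat.mul_le_mul h3 h4
    omega
  · exact Or.inr (Or.inr (Or.inr (Or.inl h)))
  · exfalso
    obtain ⟨k, t, e, P, f₁, hk, ht, hcard, -⟩ := h
    have h1 : k ^ 2 ≤ k ^ t := Nat.pow_le_pow_right (by omega) ht
    have h2 : 3 ^ 2 ≤ k ^ 2 := Nat.pow_le_pow_left hk 2
    have hkk : 7 ∣ k ^ t := by rw [hcard]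
    have hk' : 7 ∣ k := Nat.Prime.dvd_of_dvd_pow (by norm_num) hkk
    have hk'' : 7 ≤ k := Nat.le_of_dvd (by omega) hk'
    have h3 : 7 ^ 2 ≤ k ^ 2 := Nat.pow_le_pow_left hk'' 2
    omega

theorem row9 {F : Type*} [Field F] [Fintype F] (hmain : MainO 4 F) (hodd : Odd (Fintype.card F)) (H : Subgroup (Matrix.GeneralLinearGroup (Unit ⊕ (Fin 4 ⊕ Fin 4)) F)) (hH : Cfsg.Geo.IsMaximalIn (Cfsg.Geo.omegaGL (Cfsg.quadFormOdd 4 F)) H) :
    (∃ W : Submodule F (Unit ⊕ (Fin 4 ⊕ Fin 4) → F), W ≠ ⊥ ∧ Cfsg.Geo.IsTotallySingularQuad (Cfsg.quadFormOdd 4 F) W ∧ H = Cfsg.Geo.subspaceStabilizer W ⊓ Cfsg.Geo.omegaGL (Cfsg.quadFormOdd 4 F)) ∨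
    (∃ W : Submodule F (Unit ⊕ (Fin 4 ⊕ Fin 4) → F), W ≠ ⊥ ∧ Even (Module.finrank F W) ∧ Cfsg.Geo.IsNondegenerateOn (QuadraticMap.polar (Cfsg.quadFormOdd 4 F)) W ∧ ¬ (Fintype.card F = 3 ∧ Module.finrank F W = 2 ∧ Cfsg.Geo.IsPlusTypeOn (Cfsg.quadFormOdd 4 F) W) ∧ H = Cfsg.Geo.subspaceStabilizer W ⊓ Cfsg.Geo.omegaGL (Cfsg.quadFormOdd 4 F)) ∨
    ((Fintype.card F).Prime ∧ ∃ D : Fin 9 → Submodule F (Unit ⊕ (Fin 4 ⊕ Fin 4) → F), Cfsg.Geo.IsOrthogonalMDecomposition (Cfsg.quadFormOdd 4 F) 1 D ∧ H = Cfsg.Geo.decompositionStabilizer D ⊓ Cfsg.Geo.omegaGL (Cfsg.quadFormOdd 4 F)) ∨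
    (5 ≤ Fintype.card F ∧ ∃ D : Fin 3 → Submodule F (Unit ⊕ (Fin 4 ⊕ Fin 4) → F), Cfsg.Geo.IsOrthogonalMDecomposition (Cfsg.quadFormOdd 4 F) 3 D ∧ H = Cfsg.Geo.decompositionStabilizer D ⊓ Cfsg.Geo.omegaGL (Cfsg.quadFormOdd 4 F)) ∨
    (∃ K : Subalgebra F (Matrix (Unit ⊕ (Fin 4 ⊕ Fin 4)) (Unit ⊕ (Fin 4 ⊕ Fin 4)) F), Cfsg.Geo.IsFieldSubalgebra 3 K ∧ Cfsg.Geo.IsSelfAdjointFor (QuadraticMap.polar (Cfsg.quadFormOdd 4 F)) K ∧ H = Cfsg.Geo.subalgebraNormalizer K ⊓ Cfsg.Geo.omegaGL (Cfsg.quadFormOdd 4 F)) ∨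
    (∃ (F₀ : Subfield F) (r : ℕ) (P : Matrix.GeneralLinearGroup (Unit ⊕ (Fin 4 ⊕ Fin 4)) F), r.Prime ∧ Fintype.card F = Nat.card F₀ ^ r ∧ Cfsg.Geo.IsQuadFormRationalStructure (Cfsg.quadFormOdd 4 F) F₀ P ∧ H = Cfsg.Geo.subfieldSubgroup F₀ P ⊓ Cfsg.Geo.omegaGL (Cfsg.quadFormOdd 4 F)) ∨
    (5 ≤ Fintype.card F ∧ ∃ (e : (Unit ⊕ (Fin 4 ⊕ Fin 4)) ≃ (Fin 2 → Fin 3)) (P : Matrix.GeneralLinearGroup (Unit ⊕ (Fin 4 ⊕ Fin 4)) F) (f₁ : (Fin 3 → F) → (Fin 3 → F) → F), Cfsg.Geo.IsSymmetricForm f₁ ∧ Cfsg.Geo.IsTensorPowerFormStructure id (QuadraticMap.polar (Cfsg.quadFormOdd 4 F)) f₁ e P ∧ H = Cfsg.Geo.tensorWreathSubgroup 3 2 e P ⊓ Cfsg.Geo.omegaGL (Cfsg.quadFormOdd 4 F)) ∨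
    Cfsg.Geo.InOrthogonalResidualClass H := by
  have hq1 : 1 < Fintype.card F := Fintype.one_lt_card
  rcases orow_cases hodd 4 (by norm_num) hmain H hH with h | h
  swap
  · exact Or.inr (Or.inr (Or.inr (Or.inr (Or.inr (Or.inr (Or.inr h))))))
  rcases h with h | h | h | h | h | h | h | h
  · exact Or.inl h
  · exact Or.inr (Or.inl h)
  · -- three blocks of dimension 3
    obtain ⟨t, k, D, htk, hk3, hkq, hD, hHD⟩ := h
    have h2 := hD.decomp.decomp.two_le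
    have hk : k = 3 := by
      have hk9 : k ∣ 9 := ⟨t, by rw [mul_comm]; exact htk.symm⟩
      have hk' : k ≤ 9 := Nat.le_of_dvd (by norm_num) hk9
      interval_cases k <;> omega
    subst hk
    have ht : t = 3 := by omega
    subst ht
    have hq5 : 5 ≤ Fintype.card F := by omega
    exact Or.inr (Or.inr (Or.inr (Or.inl ⟨hq5, D, hD, hHD⟩)))
  · exact Or.inr (Or.inr (Or.inl h))
  · -- class 3, r = 3
    obtain ⟨r, K, hr, hdvd, hne, hK, hsa, hHK⟩ := h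
    have hr3 : r = 3 := by
      have h9 : (9 : ℕ) = 3 ^ 2 := by norm_num
      have hdvd' : r ∣ 3 ^ 2 := by
        have : r ∣ 9 := hdvd
        rwa [h9] at this
      have := (Nat.prime_dvd_prime_iff_eq hr Nat.prime_three).1 (hr.dvd_of_dvd_pow hdvd')
      exact this
    subst hr3
    exact Or.inr (Or.inr (Or.inr (Or.inr (Or.inl ⟨K, hK, hsa, hHK⟩))))
  · exfalso
    obtain ⟨n₁, n₂, h3, hlt, hmul⟩ := h
    have h4 : 4 ≤ n₂ := by omega
    have : 3 * 4 ≤ n₁ * n₂ := Nat.mul_le_mul h3 h4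
    omega
  · exact Or.inr (Or.inr (Or.inr (Or.inr (Or.inr (Or.inl h)))))
  · -- class 7: k = 3, t = 2
    obtain ⟨k, t, e, P, f₁, hk, ht, hcard, hex, hf₁, hT, hHT⟩ := h
    have ht2 : t = 2 := by
      by_contra hne
      have ht3 : 3 ≤ t := by omega
      have h1 : k ^ 3 ≤ k ^ t := Nat.pow_le_pow_right (by omega) ht3
      have h2 : 3 ^ 3 ≤ k ^ 3 := Nat.pow_le_pow_left hk 3
      omega
    subst ht2
    have hk3 : k = 3 := by
      by_contra hne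
      have hk4 : 4 ≤ k := by omega
      have h2 : 4 ^ 2 ≤ k ^ 2 := Nat.pow_le_pow_left hk4 2
      omega
    subst hk3
    have hq5 : 5 ≤ Fintype.card F := by
      have hq3 : Fintype.card F ≠ 3 := fun hh => hex ⟨hh, rfl⟩
      obtain ⟨a, ha⟩ := hodd
      omega
    exact Or.inr (Or.inr (Or.inr (Or.inr (Or.inr (Or.inr (Or.inl ⟨hq5, e, P, f₁, hf₁, hT, hHT⟩))))))

theorem row11 {F : Type*} [Field F] [Fintype F] (hmain : MainO 5 F) (hodd : Odd (Fintype.card F)) (H : Subgroup (Matrix.GeneralLinearGroup (Unit ⊕ (Fin 5 ⊕ Fin 5)) F)) (hH : Cfsg.Geo.IsMaximalIn (Cfsg.Geo.omegaGL (Cfsg.quadFormOdd 5 F)) H) :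
    (∃ W : Submodule F (Unit ⊕ (Fin 5 ⊕ Fin 5) → F), W ≠ ⊥ ∧ Cfsg.Geo.IsTotallySingularQuad (Cfsg.quadFormOdd 5 F) W ∧ H = Cfsg.Geo.subspaceStabilizer W ⊓ Cfsg.Geo.omegaGL (Cfsg.quadFormOdd 5 F)) ∨
    (∃ W : Submodule F (Unit ⊕ (Fin 5 ⊕ Fin 5) → F), W ≠ ⊥ ∧ Even (Module.finrank F W) ∧ Cfsg.Geo.IsNondegenerateOn (QuadraticMap.polar (Cfsg.quadFormOdd 5 F)) W ∧ ¬ (Fintype.card F = 3 ∧ Module.finrank F W = 2 ∧ Cfsg.Geo.IsPlusTypeOn (Cfsg.quadFormOdd 5 F) W) ∧ H = Cfsg.Geo.subspaceStabilizer W ⊓ Cfsg.Geo.omegaGL (Cfsg.quadFormOdd 5 F)) ∨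
    ((Fintype.card F).Prime ∧ ∃ D : Fin 11 → Submodule F (Unit ⊕ (Fin 5 ⊕ Fin 5) → F), Cfsg.Geo.IsOrthogonalMDecomposition (Cfsg.quadFormOdd 5 F) 1 D ∧ H = Cfsg.Geo.decompositionStabilizer D ⊓ Cfsg.Geo.omegaGL (Cfsg.quadFormOdd 5 F)) ∨
    (∃ (F₀ : Subfield F) (r : ℕ) (P : Matrix.GeneralLinearGroup (Unit ⊕ (Fin 5 ⊕ Fin 5)) F), r.Prime ∧ Fintype.card F = Nat.card F₀ ^ r ∧ Cfsg.Geo.IsQuadFormRationalStructure (Cfsg.quadFormOdd 5 F) F₀ P ∧ H = Cfsg.Geo.subfieldSubgroup F₀ P ⊓ Cfsg.Geo.omegaGL (Cfsg.quadFormOdd 5 F)) ∨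
    Cfsg.Geo.InOrthogonalResidualClass H := by
  have hq1 : 1 < Fintype.card F := Fintype.one_lt_card
  rcases orow_cases hodd 5 (by norm_num) hmain H hH with h | h
  swap
  · exact Or.inr (Or.inr (Or.inr (Or.inr h)))
  rcases h with h | h | h | h | h | h | h | h
  · exact Or.inl h
  · exact Or.inr (Or.inl h)
  · exfalso
    obtain ⟨t, k, D, htk, hk3, -, hD, -⟩ := h
    have h2 := hD.decomp.decomp.two_le
    have : 2 * 3 ≤ t * k := Nat.mul_le_mul h2 hk3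
    have hk : k ∣ 11 := ⟨t, by rw [mul_comm]; exact htk.symm⟩
    have hkp : k = 1 ∨ k = 11 := (Nat.dvd_prime (by norm_num)).1 hk
    rcases hkp with rfl | rfl
    · omega
    · have : t = 1 := by
        have h0 : 0 < 11 := by norm_num
        exact Nat.eq_of_mul_eq_mul_right h0 (by rw [htk, one_mul])
      omega
  · exact Or.inr (Or.inr (Or.inl h))
  · exfalso
    obtain ⟨r, K, hr, hdvd, hne, -⟩ := h
    have : r = 11 := (Nat.prime_dvd_prime_iff_eq hr (by norm_num)).1 hdvd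
    exact hne this.symm
  · exfalso
    obtain ⟨n₁, n₂, h3, hlt, hmul⟩ := h
    have h4 : 4 ≤ n₂ := by omega
    have : 3 * 4 ≤ n₁ * n₂ := Nat.mul_le_mul h3 h4
    omega
  · exact Or.inr (Or.inr (Or.inr (Or.inl h)))
  · exfalso
    obtain ⟨k, t, e, P, f₁, hk, ht, hcard, -⟩ := h
    have h1 : k ^ 2 ≤ k ^ t := Nat.pow_le_pow_right (by omega) ht
    have h2 : 3 ^ 2 ≤ k ^ 2 := Nat.pow_le_pow_left hk 2
    have hkk : 11 ∣ k ^ t := by rw [hcard]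
    have hk' : 11 ∣ k := Nat.Prime.dvd_of_dvd_pow (by norm_num) hkk
    have hk'' : 11 ≤ k := Nat.le_of_dvd (by omega) hk'
    have h3 : 11 ^ 2 ≤ k ^ 2 := Nat.pow_le_pow_left hk'' 2
    omega


end Cfsg.Agent.Lib.H21.OP2
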