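import Cfsg.Agent.Lib.H26.AschEDefs
import Cfsg.Agent.Lib.H13.AschEOGen
import Cfsg.Agent.Lib.H13.AschEOB45
import Cfsg.Agent.Lib.H17.AschO2E1
import Cfsg.Agent.Lib.H17.AschSP2F0
import Cfsg.Agent.Lib.H17.AschEM1
import Cfsg.Agent.Lib.H21.AschO2F2
import Cfsg.Agent.Lib.H21.AschO2Gen
import Cfsg.Agent.Lib.H11.AschEO2P4
import Cfsg.Agent.Lib.H11.AschEO2P7b

set_option autoImplicit false
set_option linter.unusedSectionVars false

namespace Cfsg.Agent.Lib.H21.EOP2

open Cfsg Cfsg.Geo Cfsg.Agent.Lib.H26.AschE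
open scoped MatrixGroups Matrix Kronecker

variable {F : Type*} [Field F] [Fintype F] {n : ℕ}

/-- The statement of EO phase 1 in dimension `n`. -/
def MainE (n : ℕ) (F : Type*) [Field F] [Fintype F] : Prop :=
  ∀ Q : (Fin n → F) → F, IsNondegenerateQuadraticForm Q → ∀ H : Subgroup (GL (Fin n) F),
    H ≤ isometryGroup F Q → ETame Q H ∨ InOrthogonalResidualClass H

theorem quad_zero' {Q : (Fin n → F) → F} (hQ : IsNondegenerateQuadraticForm Q) : Q 0 = 0 := by
  have := hQ.smul 0 0
  simpa using this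

theorem polar_self' {Q : (Fin n → F) → F} (hQ : IsNondegenerateQuadraticForm Q) (v : Fin n → F) :
    QuadraticMap.polar Q v v = 2 * Q v := by
  have h := hQ.smul 2 v
  rw [two_smul] at h
  unfold QuadraticMap.polar
  rw [h]; ring

/-- A totally singular subspace is proper. -/
theorem ts_ne_top {Q : (Fin n → F) → F} (hQ : IsNondegenerateQuadraticForm Q) (hn : 1 ≤ n)
    {W : Submodule F (Fin n → F)} (hW : IsTotallySingularQuad Q W) : W ≠ ⊤ := by
  rintro rfl
  have hz : ∀ v, Q v = 0 := fun v => hW v Submodule.mem_top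
  let v : Fin n → F := Pi.single ⟨0, by omega⟩ 1
  have hv : v ≠ 0 := by
    intro h
    have := congrFun h ⟨0, by omega⟩
    simp [v] at this
  obtain ⟨⟨x, hx⟩, -⟩ := hQ.nondegenerate v hv
  apply hx
  unfold QuadraticMap.polar
  rw [hz, hz, hz]; ring

theorem span_ne_bot_of_quad {Q : (Fin n → F) → F} (hQ : IsNondegenerateQuadraticForm Q)
    {v : Fin n → F} (hv : Q v ≠ 0) : Submodule.span F {v} ≠ ⊥ := by
  intro h
  rw [Submodule.span_singleton_eq_bot] at h
  rw [h, quad_zero' hQ] at hv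
  exact hv rfl

theorem span_ne_top (hn : 2 ≤ n) (v : Fin n → F) : Submodule.span F {v} ≠ ⊤ := by
  intro h
  have h1 : Module.finrank F (Submodule.span F {v}) ≤ 1 := by
    have := finrank_span_le_card (R := F) ({v} : Set (Fin n → F))
    simpa using this
  rw [h, finrank_top, Module.finrank_fintype_fun_eq_card, Fintype.card_fin] at h1
  omega

theorem two_eq_zero_of_not_odd (h : ¬ Odd (Fintype.card F)) : (2 : F) = 0 := by
  have h2 : Fintype.card F % 2 = 0 := by
    rcases Nat.even_or_odd (Fintype.card F) with he | ho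
    · exact Nat.even_iff.mp he
    · exact absurd ho h
  have hc : ringChar F = 2 := FiniteField.even_card_iff_char_two.mpr h2
  have : ((ringChar F : ℕ) : F) = 0 := ringChar.Nat.cast_ringChar
  rw [hc] at this
  exact_mod_cast this

/-- odd-dimensional non-degenerate subspaces only exist for q odd. -/
theorem odd_card_of_odd_finrank {Q : (Fin n → F) → F} (hQ : IsNondegenerateQuadraticForm Q)
    (W : Submodule F (Fin n → F)) (hW : IsNondegenerateOn (QuadraticMap.polar Q) W)
    (hodd : Odd (Module.finrank F W)) : Odd (Fintype.card F) := by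
  by_contra h
  have h2 := two_eq_zero_of_not_odd h
  have halt : ∀ v, QuadraticMap.polar Q v v = 0 := fun v => by rw [polar_self' hQ, h2, zero_mul]
  have := Cfsg.Agent.Lib.H17.AschSP2.even_finrank_of_nondegenerateOn (QuadraticMap.polar Q)
    hQ.polar_bilinear halt W hW
  exact (Nat.not_even_iff_odd.mpr hodd) this

/-- replace a non-degenerate subspace by one of at most half the dimension -/
theorem nd_small {Q : (Fin n → F) → F} (hQ : IsNondegenerateQuadraticForm Q)
    (W : Submodule F (Fin n → F)) (hW0 : W ≠ ⊥) (hW1 : W ≠ ⊤)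
    (hW : IsNondegenerateOn (QuadraticMap.polar Q) W) :
    ∃ W' : Submodule F (Fin n → F), W' ≠ ⊥ ∧ W' ≠ ⊤ ∧ IsNondegenerateOn (QuadraticMap.polar Q) W' ∧
      2 * Module.finrank F W' ≤ n ∧
      subspaceStabilizer W ⊓ isometryGroup F Q ≤ subspaceStabilizer W' := by
  by_cases h : 2 * Module.finrank F W ≤ n
  · exact ⟨W, hW0, hW1, hW, h, inf_le_left⟩
  · obtain ⟨W', h0, h1, hnd, hdim, hle⟩ := Cfsg.Agent.Lib.H17.OP2.exists_perp_gen hQ W hW0 hW1 hW
    rw [Fintype.card_fin] at hdim
    exact ⟨W', h0, h1, hnd, by omega, hle⟩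

theorem finrank_pos_of_ne_bot {W : Submodule F (Fin n → F)} (h : W ≠ ⊥) : 0 < Module.finrank F W := by
  rw [Module.finrank_pos_iff_exists_ne_zero]
  obtain ⟨w, hw, hw0⟩ := (Submodule.ne_bot_iff W).mp h
  exact ⟨⟨w, hw⟩, fun h => hw0 (congrArg Subtype.val h)⟩

end Cfsg.Agent.Lib.H21.EOP2
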