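/-
EO phase 2 (helper21): the unconditional phase-1 theorem in the form `MainE n F` used by the rows
(= helper26 `emain_of_em4` + helper20 `etame_of_homog_tensor`).
-/
import Cfsg.Agent.Lib.H21.AschEO2Base
import Cfsg.Agent.Lib.H26.AschEMain4
import Cfsg.Agent.Lib.H20.AschEM4

set_option autoImplicit false

namespace Cfsg.Agent.Lib.H21.EOP2

open Cfsg Cfsg.Geo Cfsg.Agent.Lib.H26.AschE
open scoped MatrixGroups Matrix Kronecker

variable {F : Type*} [Field F] [Fintype F] {n : ℕ}

theorem mainE (hn : 5 ≤ n) : MainE n F := fun Q hQ H hH =>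
  Cfsg.Agent.Lib.H26.AschE.emain_of_em4 Q hQ hn H hH
    (fun N hirr hNH hnorm D habs hd hk =>
      Cfsg.Agent.Lib.H20.AschE.etame_of_homog_tensor Q hQ hn H N hH hirr hNH hnorm D habs hd hk)

end Cfsg.Agent.Lib.H21.EOP2
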