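import Cfsg.Agent.Lib.H21.AschEO2Base
import Cfsg.Agent.Lib.H23.AschEO2E1
import Cfsg.Agent.Lib.H23.AschEO2E2

set_option autoImplicit false
set_option linter.unusedSectionVars false
set_option linter.unusedVariables false

/-
EO phase 2 (helper21): the class-1 non-degenerate normal form `NdNF`, common to the five rows.
-/
namespace Cfsg.Agent.Lib.H21.EOP2

open Cfsg Cfsg.Geo Cfsg.Agent.Lib.H26.AschE
open scoped MatrixGroups Matrix Kronecker

variable {F : Type*} [Field F] [Fintype F] {n : ℕ}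

/-! ### class 1, non-degenerate subspaces: the shapes common to all five rows -/

/-- Normal form of the class `EC1b` case for a maximal subgroup of `Ω`: a non-degenerate subspace of dimension `d ≤ n/2`,
`d` odd (then q is odd), or `d = 2` of minus type, or `d = 2` of plus type with `q ≥ 4`, or `4 ≤ d` even; or a non-singular
vector with `q` even. -/
def NdNF (Q : (Fin n → F) → F) (H : Subgroup (GL (Fin n) F)) : Prop :=
  (Odd (Fintype.card F) ∧ ∃ W : Submodule F (Fin n → F), W ≠ ⊥ ∧ W ≠ ⊤ ∧ Odd (Module.finrank F W) ∧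
      2 * Module.finrank F W ≤ n ∧ IsNondegenerateOn (QuadraticMap.polar Q) W ∧
      H = subspaceStabilizer W ⊓ omegaGL Q) ∨
  (∃ W : Submodule F (Fin n → F), Module.finrank F W = 2 ∧ IsNondegenerateOn (QuadraticMap.polar Q) W ∧
      ¬ IsPlusTypeOn Q W ∧ H = subspaceStabilizer W ⊓ omegaGL Q) ∨
  (4 ≤ Fintype.card F ∧ ∃ W : Submodule F (Fin n → F), Module.finrank F W = 2 ∧
      IsNondegenerateOn (QuadraticMap.polar Q) W ∧ IsPlusTypeOn Q W ∧ H = subspaceStabilizer W ⊓ omegaGL Q) ∨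
  (∃ W : Submodule F (Fin n → F), W ≠ ⊥ ∧ W ≠ ⊤ ∧ Even (Module.finrank F W) ∧ 4 ≤ Module.finrank F W ∧
      2 * Module.finrank F W ≤ n ∧ IsNondegenerateOn (QuadraticMap.polar Q) W ∧
      H = subspaceStabilizer W ⊓ omegaGL Q) ∨
  (¬ Odd (Fintype.card F) ∧ ∃ v : Fin n → F, Q v ≠ 0 ∧
      H = subspaceStabilizer (Submodule.span F {v}) ⊓ omegaGL Q)

theorem ndNF_of_ec1b {Q : (Fin n → F) → F} (hQ : IsNondegenerateQuadraticForm Q) (hn : 7 ≤ n)
    (H : Subgroup (GL (Fin n) F)) (hH : IsMaximalIn (omegaGL Q) H) (h : EC1b Q H) : NdNF Q H := by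
  have hcard : 7 ≤ Fintype.card (Fin n) := by rw [Fintype.card_fin]; exact hn
  have hHI : H ≤ isometryGroup F Q := hH.1.le.trans (Cfsg.Agent.Lib.H21.OP2.omegaGL_le_isometryGroup' Q)
  obtain ⟨W₀, h0, h1, hnd0, hle0⟩ := h
  obtain ⟨W, hW0, hW1, hnd, hdim, hle⟩ := nd_small hQ W₀ h0 h1 hnd0
  have hHW : H ≤ subspaceStabilizer W := (le_inf hle0 hHI).trans hle
  have hno := Cfsg.Agent.Lib.H13.EOP2.not_omegaGL_le_subspaceStabilizer Q hQ hcard W hW0 hW1
  have heq := Cfsg.Agent.Lib.H21.OP2.eq_inf_of_maximal hH hHW hno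
  have hpos := finrank_pos_of_ne_bot hW0
  rcases Nat.even_or_odd (Module.finrank F W) with hev | hodd
  · by_cases h2 : Module.finrank F W = 2
    · by_cases hpl : IsPlusTypeOn Q W
      · by_cases hq : 4 ≤ Fintype.card F
        · exact Or.inr (Or.inr (Or.inl ⟨hq, W, h2, hnd, hpl, heq⟩))
        · obtain ⟨v, hv, hlev⟩ := Cfsg.Agent.Lib.H23.EOP2.exists_vec_of_plus_plane Q hQ (by omega) W h2 hnd hpl
          have hHv : H ≤ subspaceStabilizer (Submodule.span F {v}) := (le_inf hHW hHI).trans hlev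
          have hv0 := span_ne_bot_of_quad hQ hv
          have hv1 := span_ne_top (F := F) (by omega : 2 ≤ n) v
          have hnov := Cfsg.Agent.Lib.H13.EOP2.not_omegaGL_le_subspaceStabilizer Q hQ hcard _ hv0 hv1
          have heqv := Cfsg.Agent.Lib.H21.OP2.eq_inf_of_maximal hH hHv hnov
          by_cases hoddq : Odd (Fintype.card F)
          · obtain ⟨-, -, hd1, hndv⟩ := Cfsg.Agent.Lib.H23.EOP2.nondegenerateOn_span_of_odd hoddq Q hQ (by omega) v hv
            exact Or.inl ⟨hoddq, _, hv0, hv1, by rw [hd1]; exact odd_one, by rw [hd1]; omega, hndv, heqv⟩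
          · exact Or.inr (Or.inr (Or.inr (Or.inr ⟨hoddq, v, hv, heqv⟩)))
      · exact Or.inr (Or.inl ⟨W, h2, hnd, hpl, heq⟩)
    · have h4 : 4 ≤ Module.finrank F W := by
        obtain ⟨a, ha⟩ := hev
        omega
      exact Or.inr (Or.inr (Or.inr (Or.inl ⟨W, hW0, hW1, hev, h4, hdim, hnd, heq⟩)))
  · exact Or.inl ⟨odd_card_of_odd_finrank hQ W hnd hodd, W, hW0, hW1, hodd, hdim, hnd, heq⟩

end Cfsg.Agent.Lib.H21.EOP2
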