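import Cfsg.Agent.Lib.H21.AschEO2Row12m
import Cfsg.Agent.Lib.H23.AschEO2E6
import Cfsg.Agent.Lib.H24.AschEO2E3
import Cfsg.Agent.Lib.H26.AschEO2E7
import Cfsg.Agent.Lib.H26.AschEO2F1
import Cfsg.Agent.Lib.H3.AschOM2F
import Cfsg.Agent.Lib.H6.AschEO2T5
import Cfsg.Agent.Lib.H26.AschEO2F2

set_option autoImplicit false
set_option linter.unusedSectionVars false
set_option linter.unusedVariables false

namespace Cfsg.Agent.Lib.H21.EOP2

open Cfsg Cfsg.Geo Cfsg.Agent.Lib.H26.AschE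
open scoped MatrixGroups Matrix Kronecker

variable {F : Type*} [Field F] [Fintype F] {n : ℕ}

/-! ### generic -/

theorem card_mod_four (hodd : Odd (Fintype.card F)) :
    (IsSquare (-1 : F) → Fintype.card F % 4 = 1) ∧ (¬ IsSquare (-1 : F) → Fintype.card F % 4 = 3) := by
  have h := FiniteField.isSquare_neg_one_iff (F := F)
  obtain ⟨a, ha⟩ := hodd
  constructor
  · intro hs
    have := h.mp hs
    omega
  · intro hs
    by_contra hne
    exact hs (h.mpr hne)

theorem isSquare_neg_one_of_exists {c : F} (hc : c * c = -1) : IsSquare (-1 : F) := ⟨c, hc.symm⟩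

theorem areIsometricFor_refl (Q : (Fin n → F) → F) (W : Submodule F (Fin n → F)) : AreIsometricFor Q W W :=
  ⟨LinearEquiv.refl F W, fun _ => rfl⟩

theorem areIsometricFor_symm {Q : (Fin n → F) → F} {W W' : Submodule F (Fin n → F)}
    (h : AreIsometricFor Q W W') : AreIsometricFor Q W' W := by
  obtain ⟨e, he⟩ := h
  refine ⟨e.symm, fun w => ?_⟩
  have := he (e.symm w)
  rw [LinearEquiv.apply_symm_apply] at this
  exact this.symm

/-- a non-degenerate decomposition into two isometric halves is an orthogonal isometric decomposition -/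
theorem orth_of_halves {Q : (Fin n → F) → F} {k : ℕ} {D : Fin 2 → Submodule F (Fin n → F)}
    (hD : IsNondegenerateMDecomposition (QuadraticMap.polar Q) k D) (hiso : AreIsometricFor Q (D 0) (D 1)) :
    IsOrthogonalMDecomposition Q k D := by
  refine ⟨hD, ?_⟩
  intro i j
  fin_cases i <;> fin_cases j
  · exact areIsometricFor_refl Q _
  · exact hiso
  · exact areIsometricFor_symm hiso
  · exact areIsometricFor_refl Q _

/-- a decomposition stabiliser, for any row -/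
theorem decomp_eq {Q : (Fin n → F) → F} (hQ : IsNondegenerateQuadraticForm Q) (hn : 7 ≤ n)
    (H : Subgroup (GL (Fin n) F)) (hH : IsMaximalIn (omegaGL Q) H) {t k : ℕ}
    (D : Fin t → Submodule F (Fin n → F)) (hD : IsMDecomposition k D)
    (hle : H ≤ decompositionStabilizer D) : H = decompositionStabilizer D ⊓ omegaGL Q :=
  Cfsg.Agent.Lib.H21.OP2.eq_inf_of_maximal hH hle
    (Cfsg.Agent.Lib.H13.EOP2.not_omegaGL_le_decompositionStabilizer Q hQ hn D hD)

/-- the two halves of dimension 5 in `Ω_10^-`. -/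
theorem halves10m {Q : (Fin 10 → F) → F} (hQ : IsNondegenerateQuadraticForm Q)
    (hminus : ¬ IsPlusTypeOn Q ⊤) (hodd : Odd (Fintype.card F))
    (H : Subgroup (GL (Fin 10) F)) (hH : IsMaximalIn (omegaGL Q) H)
    (D : Fin 2 → Submodule F (Fin 10 → F))
    (hD : IsNondegenerateMDecomposition (QuadraticMap.polar Q) 5 D) (hle : H ≤ decompositionStabilizer D) :
    (Fintype.card F % 4 = 3 ∧ ∃ D : Fin 2 → Submodule F (Fin 10 → F), IsOrthogonalMDecomposition Q 5 D ∧
        H = decompositionStabilizer D ⊓ omegaGL Q) ∨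
    (Fintype.card F % 4 = 1 ∧ ∃ D : Fin 2 → Submodule F (Fin 10 → F),
        IsNondegenerateMDecomposition (QuadraticMap.polar Q) 5 D ∧ ¬ AreIsometricFor Q (D 0) (D 1) ∧
        H = decompositionStabilizer D ⊓ omegaGL Q) := by
  have heq := decomp_eq hQ (by norm_num) H hH D hD.decomp hle
  have hT := Cfsg.Agent.Lib.H6.EOP2.plus_iff_of_odd_halves hodd Q hQ 5 ⟨2, rfl⟩ D hD
  have hmod := card_mod_four hodd
  by_cases hiso : AreIsometricFor Q (D 0) (D 1)
  · left
    refine ⟨hmod.2 ?_, D, orth_of_halves hD hiso, heq⟩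
    intro hs
    exact hminus (hT.mpr ⟨fun _ => hs, fun _ => hiso⟩)
  · right
    refine ⟨hmod.1 ?_, D, hD, hiso, heq⟩
    by_contra hs
    exact hminus (hT.mpr ⟨fun h => absurd h hiso, fun h => absurd h hs⟩)

/-- lines in a minus-type row of dimension `n ≡ 2 mod 4`. -/
theorem lines10m {Q : (Fin 10 → F) → F} (hQ : IsNondegenerateQuadraticForm Q)
    (hminus : ¬ IsPlusTypeOn Q ⊤)
    (H : Subgroup (GL (Fin 10) F)) (hH : IsMaximalIn (omegaGL Q) H)
    (D : Fin 10 → Submodule F (Fin 10 → F)) (hD : IsOrthogonalMDecomposition Q 1 D)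
    (hle : H ≤ decompositionStabilizer D) :
    ((∃ p : ℕ, p.Prime ∧ Fintype.card F = p ∧ (p % 4 = 3)) ∧ ∃ D : Fin 10 → Submodule F (Fin 10 → F),
        IsOrthogonalMDecomposition Q 1 D ∧ H = decompositionStabilizer D ⊓ omegaGL Q) ∨
    EC5 Q H := by
  have hHI : H ≤ isometryGroup F Q := hH.1.le.trans (Cfsg.Agent.Lib.H21.OP2.omegaGL_le_isometryGroup' Q)
  have hodd : Odd (Fintype.card F) :=
    odd_card_of_odd_finrank hQ (D 0) (hD.decomp.nondegenerate 0)
      (by rw [hD.decomp.decomp.finrank_eq]; exact odd_one)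
  have hns : ¬ IsSquare (-1 : F) := by
    rintro ⟨c, hc⟩
    apply hminus
    apply Cfsg.Agent.Lib.H13.EOP2.plus_of_isometric_decomposition Q hQ 1 D hD
    right; right; left
    exact ⟨⟨5, rfl⟩, c, hc.symm⟩
  have h3 := (card_mod_four hodd).2 hns
  by_cases hp : (Fintype.card F).Prime
  · left
    exact ⟨⟨Fintype.card F, hp, rfl, h3⟩, D, hD, decomp_eq hQ (by norm_num) H hH D hD.decomp.decomp hle⟩
  · right
    obtain ⟨F₀, r, -, hr, hcard⟩ := Cfsg.Agent.Lib.H17.Asch.exists_prime_degree_subfield (⊥ : Subfield F)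
      (Cfsg.Agent.Lib.H3.Asch.OM2F_bot_ne_top hp)
    obtain ⟨P, ζ, hζ, hR, hleP⟩ := Cfsg.Agent.Lib.H26.EOP2.lines_le_subfieldSubgroup Q hQ D hD F₀
    exact ⟨F₀, r, P, ζ, hr, hcard, hζ, hR, (le_inf hle hHI).trans hleP⟩


/-- **Row S5850** (`Ω_10^-(q)`). -/
theorem row10m (hmain : MainE 10 F) (Q : (Fin 10 → F) → F) (hQ : IsNondegenerateQuadraticForm Q)
    (hminus : ¬ IsPlusTypeOn Q ⊤) (H : Subgroup (GL (Fin 10) F)) (hH : IsMaximalIn (omegaGL Q) H) :
    (∃ W : Submodule F (Fin 10 → F), W ≠ ⊥ ∧ IsTotallySingularQuad Q W ∧ H = subspaceStabilizer W ⊓ omegaGL Q) ∨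
    (Odd (Fintype.card F) ∧ ∃ W : Submodule F (Fin 10 → F), W ≠ ⊥ ∧ W ≠ ⊤ ∧ Odd (Module.finrank F W) ∧ 2 * Module.finrank F W ≠ 10 ∧ IsNondegenerateOn (QuadraticMap.polar Q) W ∧ H = subspaceStabilizer W ⊓ omegaGL Q) ∨
    (∃ W : Submodule F (Fin 10 → F), Module.finrank F W = 2 ∧ IsNondegenerateOn (QuadraticMap.polar Q) W ∧ ¬ IsPlusTypeOn Q W ∧ H = subspaceStabilizer W ⊓ omegaGL Q) ∨
    (4 ≤ Fintype.card F ∧ ∃ W : Submodule F (Fin 10 → F), Module.finrank F W = 2 ∧ IsNondegenerateOn (QuadraticMap.polar Q) W ∧ IsPlusTypeOn Q W ∧ H = subspaceStabilizer W ⊓ omegaGL Q) ∨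
    (∃ W : Submodule F (Fin 10 → F), Module.finrank F W = 4 ∧ IsNondegenerateOn (QuadraticMap.polar Q) W ∧ H = subspaceStabilizer W ⊓ omegaGL Q) ∨
    (¬ Odd (Fintype.card F) ∧ ∃ v : (Fin 10 → F), Q v ≠ 0 ∧ H = subspaceStabilizer (Submodule.span F {v}) ⊓ omegaGL Q) ∨
    ((∃ p : ℕ, p.Prime ∧ Fintype.card F = p ∧ (p % 4 = 3)) ∧ ∃ D : Fin 10 → Submodule F (Fin 10 → F), IsOrthogonalMDecomposition Q 1 D ∧ H = decompositionStabilizer D ⊓ omegaGL Q) ∨
    (Fintype.card F ≠ 3 ∧ ∃ D : Fin 5 → Submodule F (Fin 10 → F), IsOrthogonalMDecomposition Q 2 D ∧ H = decompositionStabilizer D ⊓ omegaGL Q) ∨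
    (Fintype.card F % 4 = 3 ∧ ∃ D : Fin 2 → Submodule F (Fin 10 → F), IsOrthogonalMDecomposition Q 5 D ∧ H = decompositionStabilizer D ⊓ omegaGL Q) ∨
    (Fintype.card F % 4 = 1 ∧ ∃ D : Fin 2 → Submodule F (Fin 10 → F), IsNondegenerateMDecomposition (QuadraticMap.polar Q) 5 D ∧ ¬ AreIsometricFor Q (D 0) (D 1) ∧ H = decompositionStabilizer D ⊓ omegaGL Q) ∨
    (Odd (Fintype.card F) ∧ ∃ K : Subalgebra F (Matrix (Fin 10) (Fin 10) F), IsFieldSubalgebra 2 K ∧ IsSelfAdjointFor (QuadraticMap.polar Q) K ∧ H = subalgebraNormalizer K ⊓ omegaGL Q) ∨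
    (∃ K : Subalgebra F (Matrix (Fin 10) (Fin 10) F), IsFieldSubalgebra 2 K ∧ IsAdjointClosedFor (QuadraticMap.polar Q) K ∧ ¬ IsSelfAdjointFor (QuadraticMap.polar Q) K ∧ (∀ k ∈ K, ∃ c : F, ∀ v : (Fin 10 → F), Q (Matrix.mulVec k v) = c * Q v) ∧ H = subalgebraNormalizer K ⊓ omegaGL Q) ∨
    (∃ (F₀ : Subfield F) (r : ℕ) (P : Matrix.GeneralLinearGroup (Fin 10) F) (ζ : F), r.Prime ∧ Odd r ∧ Fintype.card F = Nat.card F₀ ^ r ∧ ζ ≠ 0 ∧ IsQuadFormRationalStructure (fun v : Fin 10 → F => ζ * Q v) F₀ P ∧ H = subfieldSubgroup F₀ P ⊓ omegaGL Q) ∨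
    InOrthogonalResidualClass H := by
  have hHI : H ≤ isometryGroup F Q := hH.1.le.trans (Cfsg.Agent.Lib.H21.OP2.omegaGL_le_isometryGroup' Q)
  -- the class 5 disjunct
  have h5case : EC5 Q H → _ := fun h5 => ec5_minus hQ (by norm_num) ⟨5, rfl⟩ hminus H hH h5
  -- the unitary field disjunct
  have h3bcase : ∀ K : Subalgebra F (Matrix (Fin 10) (Fin 10) F), IsFieldSubalgebra 2 K →
      IsAdjointClosedFor (QuadraticMap.polar Q) K → ¬ IsSelfAdjointFor (QuadraticMap.polar Q) K →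
      (∀ k ∈ K, ∃ c : F, ∀ v : (Fin 10 → F), Q (Matrix.mulVec k v) = c * Q v) →
      H ≤ subalgebraNormalizer K → _ := fun K hK hac hnsa hsim hle =>
    (⟨K, hK, hac, hnsa, hsim, field_eq hQ (by norm_num) H hH 2 le_rfl K hK hle⟩ :
      ∃ K : Subalgebra F (Matrix (Fin 10) (Fin 10) F), IsFieldSubalgebra 2 K ∧
        IsAdjointClosedFor (QuadraticMap.polar Q) K ∧ ¬ IsSelfAdjointFor (QuadraticMap.polar Q) K ∧
        (∀ k ∈ K, ∃ c : F, ∀ v : (Fin 10 → F), Q (Matrix.mulVec k v) = c * Q v) ∧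
        H = subalgebraNormalizer K ⊓ omegaGL Q)
  rcases hmain Q hQ H hHI with ht | hres
  swap
  · iterate 13 right
    exact hres
  rcases ht with (h1a | h1b | h1c) | (h2a | h2b) | (h3a | h3b) | (h4a | h4b) | h5 | h6 | h7
  · exact Or.inl (ec1a_eq hQ (by norm_num) H hH h1a)
  · rcases ndNF_of_ec1b hQ (by norm_num) H hH h1b with ⟨hq, W, h0, h1, hodd, hd, hnd, heq⟩ | ⟨W, h2, hnd, hpl, heq⟩ |
        ⟨hq, W, h2, hnd, hpl, heq⟩ | ⟨W, h0, h1, hev, h4, hd, hnd, heq⟩ | ⟨hq, v, hv, heq⟩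
    · by_cases h5 : Module.finrank F W = 5
      · obtain ⟨D, hD0, hD, hleD⟩ := Cfsg.Agent.Lib.H23.EOP2.exists_halves_decomposition Q hQ W h0 h1 hnd
          (by rw [h5])
        rw [h5] at hD
        have hHD : H ≤ decompositionStabilizer D := by
          rw [heq]
          exact (inf_le_inf_left _ (Cfsg.Agent.Lib.H21.OP2.omegaGL_le_isometryGroup' Q)).trans hleD
        rcases halves10m hQ hminus hq H hH D hD hHD with h | h
        · iterate 8 right
          exact Or.inl h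
        · iterate 9 right
          exact Or.inl h
      · refine Or.inr (Or.inl ⟨hq, W, h0, h1, hodd, ?_, hnd, heq⟩)
        omega
    · exact Or.inr (Or.inr (Or.inl ⟨W, h2, hnd, hpl, heq⟩))
    · exact Or.inr (Or.inr (Or.inr (Or.inl ⟨hq, W, h2, hnd, hpl, heq⟩)))
    · obtain ⟨a, ha⟩ := hev
      exact Or.inr (Or.inr (Or.inr (Or.inr (Or.inl ⟨W, by omega, hnd, heq⟩))))
    · iterate 5 right
      exact Or.inl ⟨hq, v, hv, heq⟩
  · iterate 5 right
    exact Or.inl (ec1c_eq hQ (by norm_num) H hH h1c)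
  · obtain ⟨t, k, D, hD, hle⟩ := h2a
    have hc : 10 = t * k := decomp_card (Q := Q) hD.decomp.decomp
    have ht2 := hD.decomp.decomp.two_le
    have hk := hD.decomp.decomp.pos
    have ht10 : t ≤ 10 := by nlinarith
    have hcases : (t = 10 ∧ k = 1) ∨ (t = 5 ∧ k = 2) ∨ (t = 2 ∧ k = 5) := by
      interval_cases t <;> omega
    rcases hcases with ⟨rfl, rfl⟩ | ⟨rfl, rfl⟩ | ⟨rfl, rfl⟩
    · rcases lines10m hQ hminus H hH D hD hle with h | h
      · iterate 6 right
        exact Or.inl h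
      · iterate 12 right
        exact Or.inl (h5case h)
    · have hmin : ∀ i, ¬ IsPlusTypeOn Q (D i) := by
        intro i hi
        apply hminus
        apply Cfsg.Agent.Lib.H13.EOP2.plus_of_isometric_decomposition Q hQ 2 D hD
        right; right; right
        intro j
        exact Cfsg.Agent.Lib.H24.Dn.plus_of_isometric Q (D i) (D j) (hD.isometric i j) hi
      by_cases hq3 : Fintype.card F = 3
      · obtain ⟨D', hD', hleD'⟩ := Cfsg.Agent.Lib.H24.EOP2.exists_lines_of_minus_planes hq3 Q hQ D hD hmin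
        rcases lines10m hQ hminus H hH D' hD' ((le_inf hle hHI).trans hleD') with h | h
        · iterate 6 right
          exact Or.inl h
        · iterate 12 right
          exact Or.inl (h5case h)
      · iterate 7 right
        exact Or.inl ⟨hq3, D, hD, decomp_eq hQ (by norm_num) H hH D hD.decomp.decomp hle⟩
    · have hodd : Odd (Fintype.card F) :=
        odd_card_of_odd_finrank hQ (D 0) (hD.decomp.nondegenerate 0)
          (by rw [hD.decomp.decomp.finrank_eq]; exact ⟨2, rfl⟩)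
      have hns : ¬ IsSquare (-1 : F) := by
        rintro ⟨c, hc⟩
        apply hminus
        apply Cfsg.Agent.Lib.H13.EOP2.plus_of_isometric_decomposition Q hQ 5 D hD
        right; right; left
        exact ⟨even_two, c, hc.symm⟩
      iterate 8 right
      exact Or.inl ⟨(card_mod_four hodd).2 hns, D, hD, decomp_eq hQ (by norm_num) H hH D hD.decomp.decomp hle⟩
  · exfalso
    obtain ⟨m, D, hD, hts, -⟩ := h2b
    exact hminus (Cfsg.Agent.Lib.H22.EOP2.plus_of_ts_pair Q m D hD hts)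
  · obtain ⟨r, K, hr, hK, hsa, halt, hle⟩ := h3a
    have hdvd : r ∣ 10 := field_dvd (by norm_num) r K hK
    have hr25 : r = 2 ∨ r = 5 := by
      have h10 : (10 : ℕ) = 2 * 5 := by norm_num
      rw [h10] at hdvd
      rcases (Nat.Prime.dvd_mul hr).mp hdvd with h | h
      · exact Or.inl ((Nat.prime_dvd_prime_iff_eq hr Nat.prime_two).mp h)
      · exact Or.inr ((Nat.prime_dvd_prime_iff_eq hr Nat.prime_five).mp h)
    rcases hr25 with rfl | rfl
    · by_cases hodd : Odd (Fintype.card F)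
      · iterate 10 right
        exact Or.inl ⟨hodd, K, hK, hsa, field_eq hQ (by norm_num) H hH 2 le_rfl K hK hle⟩
      · exfalso
        have := Cfsg.Agent.Lib.H26.EOP2.dvd_of_selfAdjoint_alt Q hQ 2 K hK hsa (halt hodd)
        omega
    · rcases Cfsg.Agent.Lib.H26.EOP2.selfAdjoint_half_cases 5 ⟨2, rfl⟩ K hK Q hQ hsa
          (fun h2 => halt (fun ho => Cfsg.Agent.Lib.H13.HypPairs.two_ne_zero_of_odd_card rfl ho h2)) (by norm_num) with ⟨D, hD, hts, -⟩ |
        ⟨K₂, hK₂, hac, hnsa, hsim, hleK⟩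
      · exact absurd (Cfsg.Agent.Lib.H22.EOP2.plus_of_ts_pair Q 5 D hD hts) hminus
      · iterate 11 right
        exact Or.inl (h3bcase K₂ hK₂ hac hnsa hsim ((le_inf hle hHI).trans hleK))
  · obtain ⟨K, hK, hac, hnsa, hsim, hle⟩ := h3b
    iterate 11 right
    exact Or.inl (h3bcase K hK hac hnsa hsim hle)
  · exact absurd (Cfsg.Agent.Lib.H11.EOP2.isPlusTypeOn_of_ec4a_ten Q hQ H h4a) hminus
  · exfalso
    obtain ⟨n₁, n₂, e, P, f₁, f₂, -, h3, hle, -⟩ := h4b
    have hc := Fintype.card_congr e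
    rw [Fintype.card_prod, Fintype.card_fin, Fintype.card_fin, Fintype.card_fin] at hc
    have h9 : 3 * 3 ≤ n₁ * n₂ := Nat.mul_le_mul h3 (h3.trans hle)
    by_cases h4 : 4 ≤ n₂
    · have : 3 * 4 ≤ n₁ * n₂ := Nat.mul_le_mul h3 h4
      omega
    · have hn2 : n₂ = 3 := by omega
      subst hn2
      have hn1 : n₁ = 3 := by omega
      subst hn1
      omega
  · iterate 12 right
    exact Or.inl (h5case h5)
  · exact absurd h6.2.2.1 hminus
  · exact absurd h7 (Cfsg.Agent.Lib.H11.EOP2.not_ec7_ten Q H)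

end Cfsg.Agent.Lib.H21.EOP2
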