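import Cfsg.Agent.Lib.H21.AschEO2Row10m
import Cfsg.Agent.Lib.H6.AschEO2T6
import Cfsg.Agent.Lib.H11.AschEO2G
import Cfsg.Agent.Lib.H11.AschEO2G3
import Cfsg.Agent.Lib.H24.AschEO2T7
import Cfsg.Agent.Lib.H24.AschEO2C2b
import Cfsg.Agent.Lib.H24.AschEO2C2d
import Cfsg.Agent.Lib.H24.AschEO2C2e

set_option autoImplicit false
set_option linter.unusedSectionVars false
set_option linter.unusedVariables false

/-
EO phase 2 (helper21): the row `Ω_10^+(q)` (S5847).
-/
namespace Cfsg.Agent.Lib.H21.EOP2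

open Cfsg Cfsg.Geo Cfsg.Agent.Lib.H26.AschE
open scoped MatrixGroups Matrix Kronecker

variable {F : Type*} [Field F] [Fintype F] {n : ℕ}

theorem card_ne_six : Fintype.card F ≠ 6 := by
  intro h
  have := Fintype.isPrimePow_card_of_field (α := F)
  rw [h] at this
  rw [isPrimePow_nat_iff] at this
  obtain ⟨p, k, hp, hk, hpk⟩ := this
  have h2 : 2 ∣ p ^ k := by rw [hpk]; norm_num
  have h3 : 3 ∣ p ^ k := by rw [hpk]; norm_num
  have h2' := (Nat.prime_dvd_prime_iff_eq Nat.prime_two hp).mp (Nat.Prime.dvd_of_dvd_pow Nat.prime_two h2)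
  have h3' := (Nat.prime_dvd_prime_iff_eq Nat.prime_three hp).mp (Nat.Prime.dvd_of_dvd_pow Nat.prime_three h3)
  omega

/-- class 5 in a PLUS-type row (any prime index). -/
theorem ec5_plus {Q : (Fin n → F) → F} (hQ : IsNondegenerateQuadraticForm Q) (hn : 7 ≤ n)
    (H : Subgroup (GL (Fin n) F)) (hH : IsMaximalIn (omegaGL Q) H) (h : EC5 Q H) :
    ∃ (F₀ : Subfield F) (r : ℕ) (P : GL (Fin n) F) (ζ : F), r.Prime ∧
      Fintype.card F = Nat.card F₀ ^ r ∧ ζ ≠ 0 ∧
      IsQuadFormRationalStructure (fun v : Fin n → F => ζ * Q v) F₀ P ∧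
      H = subfieldSubgroup F₀ P ⊓ omegaGL Q := by
  have hcard : 7 ≤ Fintype.card (Fin n) := by rw [Fintype.card_fin]; exact hn
  obtain ⟨F₀, r, P, ζ, hr, hc, hζ, hR, hle⟩ := h
  have hno := Cfsg.Agent.Lib.H13.EOP2.not_omegaGL_le_subfieldSubgroup Q hQ hcard F₀ r hr hc P
  exact ⟨F₀, r, P, ζ, hr, hc, hζ, hR, Cfsg.Agent.Lib.H21.OP2.eq_inf_of_maximal hH hle hno⟩

/-- a totally singular subspace stabiliser, for any row, keeping the subspace. -/
theorem ts_eq {Q : (Fin n → F) → F} (hQ : IsNondegenerateQuadraticForm Q) (hn : 7 ≤ n)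
    (H : Subgroup (GL (Fin n) F)) (hH : IsMaximalIn (omegaGL Q) H)
    (W : Submodule F (Fin n → F)) (hW0 : W ≠ ⊥) (hts : IsTotallySingularQuad Q W)
    (hle : H ≤ subspaceStabilizer W) : H = subspaceStabilizer W ⊓ omegaGL Q := by
  have hcard : 7 ≤ Fintype.card (Fin n) := by rw [Fintype.card_fin]; exact hn
  have hno := Cfsg.Agent.Lib.H13.EOP2.not_omegaGL_le_subspaceStabilizer Q hQ hcard W hW0
    (ts_ne_top hQ (by omega) hts)
  exact Cfsg.Agent.Lib.H21.OP2.eq_inf_of_maximal hH hle hno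

/-- the two halves of dimension 5 in `Ω_10^+`. -/
theorem halves10p {Q : (Fin 10 → F) → F} (hQ : IsNondegenerateQuadraticForm Q)
    (hplus : IsPlusTypeOn Q ⊤) (hodd : Odd (Fintype.card F))
    (H : Subgroup (GL (Fin 10) F)) (hH : IsMaximalIn (omegaGL Q) H)
    (D : Fin 2 → Submodule F (Fin 10 → F))
    (hD : IsNondegenerateMDecomposition (QuadraticMap.polar Q) 5 D) (hle : H ≤ decompositionStabilizer D) :
    (Fintype.card F % 4 = 1 ∧ ∃ D : Fin 2 → Submodule F (Fin 10 → F), IsOrthogonalMDecomposition Q 5 D ∧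
        H = decompositionStabilizer D ⊓ omegaGL Q) ∨
    (Fintype.card F % 4 = 3 ∧ ∃ D : Fin 2 → Submodule F (Fin 10 → F),
        IsNondegenerateMDecomposition (QuadraticMap.polar Q) 5 D ∧ ¬ AreIsometricFor Q (D 0) (D 1) ∧
        H = decompositionStabilizer D ⊓ omegaGL Q) := by
  have heq := decomp_eq hQ (by norm_num) H hH D hD.decomp hle
  have hT := (Cfsg.Agent.Lib.H6.EOP2.plus_iff_of_odd_halves hodd Q hQ 5 ⟨2, rfl⟩ D hD).mp hplus
  have hmod := card_mod_four hodd
  by_cases hiso : AreIsometricFor Q (D 0) (D 1)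
  · left
    exact ⟨hmod.1 (hT.mp hiso), D, orth_of_halves hD hiso, heq⟩
  · right
    exact ⟨hmod.2 (fun hs => hiso (hT.mpr hs)), D, hD, hiso, heq⟩

/-- lines in a plus-type row of dimension 10. -/
theorem lines10p {Q : (Fin 10 → F) → F} (hQ : IsNondegenerateQuadraticForm Q)
    (hplus : IsPlusTypeOn Q ⊤)
    (H : Subgroup (GL (Fin 10) F)) (hH : IsMaximalIn (omegaGL Q) H)
    (D : Fin 10 → Submodule F (Fin 10 → F)) (hD : IsOrthogonalMDecomposition Q 1 D)
    (hle : H ≤ decompositionStabilizer D) :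
    ((∃ p : ℕ, p.Prime ∧ Fintype.card F = p ∧ (p % 4 = 1)) ∧ ∃ D : Fin 10 → Submodule F (Fin 10 → F),
        IsOrthogonalMDecomposition Q 1 D ∧ H = decompositionStabilizer D ⊓ omegaGL Q) ∨
    EC5 Q H := by
  have hHI : H ≤ isometryGroup F Q := hH.1.le.trans (Cfsg.Agent.Lib.H21.OP2.omegaGL_le_isometryGroup' Q)
  have hodd : Odd (Fintype.card F) :=
    odd_card_of_odd_finrank hQ (D 0) (hD.decomp.nondegenerate 0)
      (by rw [hD.decomp.decomp.finrank_eq]; exact odd_one)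
  have hs : IsSquare (-1 : F) :=
    (Cfsg.Agent.Lib.H6.EOP2.plus_iff_of_odd_blocks hodd Q hQ 1 odd_one (by norm_num) D hD).mp hplus
  have h1 := (card_mod_four hodd).1 hs
  by_cases hp : (Fintype.card F).Prime
  · left
    exact ⟨⟨Fintype.card F, hp, rfl, h1⟩, D, hD, decomp_eq hQ (by norm_num) H hH D hD.decomp.decomp hle⟩
  · right
    obtain ⟨F₀, r, -, hr, hcard⟩ := Cfsg.Agent.Lib.H17.Asch.exists_prime_degree_subfield (⊥ : Subfield F)
      (Cfsg.Agent.Lib.H3.Asch.OM2F_bot_ne_top hp)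
    obtain ⟨P, ζ, hζ, hR, hleP⟩ := Cfsg.Agent.Lib.H26.EOP2.lines_le_subfieldSubgroup Q hQ D hD F₀
    exact ⟨F₀, r, P, ζ, hr, hcard, hζ, hR, (le_inf hle hHI).trans hleP⟩

/-- a pair of complementary totally singular 5-spaces in `Ω_10^+`: the stabiliser of one of them. -/
theorem tspair10p {Q : (Fin 10 → F) → F} (hQ : IsNondegenerateQuadraticForm Q)
    (H : Subgroup (GL (Fin 10) F)) (hH : IsMaximalIn (omegaGL Q) H)
    (D : Fin 2 → Submodule F (Fin 10 → F)) (hD : IsMDecomposition 5 D)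
    (hts : ∀ i, IsTotallySingularQuad Q (D i)) (hle : H ≤ decompositionStabilizer D) :
    ∃ W : Submodule F (Fin 10 → F), W ≠ ⊥ ∧ IsTotallySingularQuad Q W ∧ Module.finrank F W ≠ 4 ∧
      H = subspaceStabilizer W ⊓ omegaGL Q := by
  have h0 : D 0 ≠ ⊥ := by
    intro h
    have := hD.finrank_eq 0
    rw [h, finrank_bot] at this
    omega
  have hle0 : H ≤ subspaceStabilizer (D 0) :=
    (le_inf hle hH.1.le).trans
      (Cfsg.Agent.Lib.H11.EOP2.ts_pair_stab_le Q hQ (by norm_num : 10 = 2 * 5) (by norm_num) ⟨2, rfl⟩ D hD hts)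
  refine ⟨D 0, h0, hts 0, ?_, ts_eq hQ (by norm_num) H hH (D 0) h0 (hts 0) hle0⟩
  rw [hD.finrank_eq 0]
  norm_num

/-- **Row S5847** (`Ω_10^+(q)`). -/
theorem row10p (hmain : MainE 10 F) (Q : (Fin 10 → F) → F) (hQ : IsNondegenerateQuadraticForm Q)
    (hplus : IsPlusTypeOn Q ⊤) (H : Subgroup (GL (Fin 10) F)) (hH : IsMaximalIn (omegaGL Q) H) :
    (∃ W : Submodule F (Fin 10 → F), W ≠ ⊥ ∧ IsTotallySingularQuad Q W ∧ Module.finrank F W ≠ 4 ∧ H = subspaceStabilizer W ⊓ omegaGL Q) ∨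
    (Odd (Fintype.card F) ∧ ∃ W : Submodule F (Fin 10 → F), W ≠ ⊥ ∧ W ≠ ⊤ ∧ Odd (Module.finrank F W) ∧ 2 * Module.finrank F W ≠ 10 ∧ IsNondegenerateOn (QuadraticMap.polar Q) W ∧ H = subspaceStabilizer W ⊓ omegaGL Q) ∨
    (∃ W : Submodule F (Fin 10 → F), Module.finrank F W = 2 ∧ IsNondegenerateOn (QuadraticMap.polar Q) W ∧ ¬ IsPlusTypeOn Q W ∧ H = subspaceStabilizer W ⊓ omegaGL Q) ∨
    (4 ≤ Fintype.card F ∧ ∃ W : Submodule F (Fin 10 → F), Module.finrank F W = 2 ∧ IsNondegenerateOn (QuadraticMap.polar Q) W ∧ IsPlusTypeOn Q W ∧ H = subspaceStabilizer W ⊓ omegaGL Q) ∨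
    (∃ W : Submodule F (Fin 10 → F), Module.finrank F W = 4 ∧ IsNondegenerateOn (QuadraticMap.polar Q) W ∧ H = subspaceStabilizer W ⊓ omegaGL Q) ∨
    (¬ Odd (Fintype.card F) ∧ ∃ v : (Fin 10 → F), Q v ≠ 0 ∧ H = subspaceStabilizer (Submodule.span F {v}) ⊓ omegaGL Q) ∨
    ((∃ p : ℕ, p.Prime ∧ Fintype.card F = p ∧ (p % 4 = 1)) ∧ ∃ D : Fin 10 → Submodule F (Fin 10 → F), IsOrthogonalMDecomposition Q 1 D ∧ H = decompositionStabilizer D ⊓ omegaGL Q) ∨
    (7 ≤ Fintype.card F ∧ ∃ D : Fin 5 → Submodule F (Fin 10 → F), IsOrthogonalMDecomposition Q 2 D ∧ H = decompositionStabilizer D ⊓ omegaGL Q) ∨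
    (Fintype.card F % 4 = 1 ∧ ∃ D : Fin 2 → Submodule F (Fin 10 → F), IsOrthogonalMDecomposition Q 5 D ∧ H = decompositionStabilizer D ⊓ omegaGL Q) ∨
    (Fintype.card F % 4 = 3 ∧ ∃ D : Fin 2 → Submodule F (Fin 10 → F), IsNondegenerateMDecomposition (QuadraticMap.polar Q) 5 D ∧ ¬ AreIsometricFor Q (D 0) (D 1) ∧ H = decompositionStabilizer D ⊓ omegaGL Q) ∨
    (Odd (Fintype.card F) ∧ ∃ K : Subalgebra F (Matrix (Fin 10) (Fin 10) F), IsFieldSubalgebra 2 K ∧ IsSelfAdjointFor (QuadraticMap.polar Q) K ∧ H = subalgebraNormalizer K ⊓ omegaGL Q) ∨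
    (∃ (F₀ : Subfield F) (r : ℕ) (P : Matrix.GeneralLinearGroup (Fin 10) F) (ζ : F), r.Prime ∧ Fintype.card F = Nat.card F₀ ^ r ∧ ζ ≠ 0 ∧ IsQuadFormRationalStructure (fun v : Fin 10 → F => ζ * Q v) F₀ P ∧ H = subfieldSubgroup F₀ P ⊓ omegaGL Q) ∨
    InOrthogonalResidualClass H := by
  have hHI : H ≤ isometryGroup F Q := hH.1.le.trans (Cfsg.Agent.Lib.H21.OP2.omegaGL_le_isometryGroup' Q)
  -- the class 5 disjunct
  have h5case : EC5 Q H → _ := fun h5 => ec5_plus hQ (by norm_num) H hH h5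
  -- lines
  have hlines : ∀ D : Fin 10 → Submodule F (Fin 10 → F), IsOrthogonalMDecomposition Q 1 D →
      H ≤ decompositionStabilizer D → _ := fun D hD hle => lines10p hQ hplus H hH D hD hle
  rcases hmain Q hQ H hHI with ht | hres
  swap
  · iterate 12 right
    exact hres
  rcases ht with (h1a | h1b | h1c) | (h2a | h2b) | (h3a | h3b) | (h4a | h4b) | h5 | h6 | h7
  · obtain ⟨W, hW0, hts, heq⟩ := ec1a_eq hQ (by norm_num) H hH h1a
    by_cases h4 : Module.finrank F W = 4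
    · obtain ⟨T, hT0, hT, hTd, -, hleT⟩ := Cfsg.Agent.Lib.H11.EOP2.exists_max_ts_of_submax Q hQ
        (by norm_num : 10 = 2 * 5) (by norm_num) hplus W hts (by rw [h4])
      have hHT : H ≤ subspaceStabilizer T := by
        rw [heq]
        exact hleT
      exact Or.inl ⟨T, hT0, hT, by rw [hTd]; norm_num, ts_eq hQ (by norm_num) H hH T hT0 hT hHT⟩
    · exact Or.inl ⟨W, hW0, hts, h4, heq⟩
  · rcases ndNF_of_ec1b hQ (by norm_num) H hH h1b with ⟨hq, W, h0, h1, hodd, hd, hnd, heq⟩ | ⟨W, h2, hnd, hpl, heq⟩ |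
        ⟨hq, W, h2, hnd, hpl, heq⟩ | ⟨W, h0, h1, hev, h4, hd, hnd, heq⟩ | ⟨hq, v, hv, heq⟩
    · by_cases h5 : Module.finrank F W = 5
      · obtain ⟨D, hD0, hD, hleD⟩ := Cfsg.Agent.Lib.H23.EOP2.exists_halves_decomposition Q hQ W h0 h1 hnd
          (by rw [h5])
        rw [h5] at hD
        have hHD : H ≤ decompositionStabilizer D := by
          rw [heq]
          exact (inf_le_inf_left _ (Cfsg.Agent.Lib.H21.OP2.omegaGL_le_isometryGroup' Q)).trans hleD
        rcases halves10p hQ hplus hq H hH D hD hHD with h | h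
        · iterate 8 right
          exact Or.inl h
        · iterate 9 right
          exact Or.inl h
      · refine Or.inr (Or.inl ⟨hq, W, h0, h1, hodd, ?_, hnd, heq⟩)
        omega
    · exact Or.inr (Or.inr (Or.inl ⟨W, h2, hnd, hpl, heq⟩))
    · exact Or.inr (Or.inr (Or.inr (Or.inl ⟨hq, W, h2, hnd, hpl, heq⟩)))
    · obtain ⟨a, ha⟩ := hev
      exact Or.inr (Or.inr (Or.inr (Or.inr (Or.inl ⟨W, by omega, hnd, heq⟩))))
    · iterate 5 right
      exact Or.inl ⟨hq, v, hv, heq⟩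
  · iterate 5 right
    exact Or.inl (ec1c_eq hQ (by norm_num) H hH h1c)
  · obtain ⟨t, k, D, hD, hle⟩ := h2a
    have hc : 10 = t * k := decomp_card (Q := Q) hD.decomp.decomp
    have ht2 := hD.decomp.decomp.two_le
    have hk := hD.decomp.decomp.pos
    have ht10 : t ≤ 10 := by nlinarith
    have hcases : (t = 10 ∧ k = 1) ∨ (t = 5 ∧ k = 2) ∨ (t = 2 ∧ k = 5) := by
      interval_cases t <;> omega
    rcases hcases with ⟨rfl, rfl⟩ | ⟨rfl, rfl⟩ | ⟨rfl, rfl⟩
    · rcases hlines D hD hle with h | h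
      · iterate 6 right
        exact Or.inl h
      · iterate 11 right
        exact Or.inl (h5case h)
    · by_cases hq7 : 7 ≤ Fintype.card F
      · iterate 7 right
        exact Or.inl ⟨hq7, D, hD, decomp_eq hQ (by norm_num) H hH D hD.decomp.decomp hle⟩
      · -- the planes are of plus type
        have hpl : ∀ i, IsPlusTypeOn Q (D i) := by
          by_contra hne
          rw [not_forall] at hne
          obtain ⟨i, hi⟩ := hne
          refine Cfsg.Agent.Lib.H24.EOP2.not_plus_of_odd_minus_blocks Q hQ 2 ⟨2, rfl⟩ even_two D hD ?_ hplus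
          intro j hj
          exact hi (Cfsg.Agent.Lib.H24.Dn.plus_of_isometric Q (D j) (D i) (hD.isometric j i) hj)
        have hq1 : 1 < Fintype.card F := Fintype.one_lt_card
        have hq6 := card_ne_six (F := F)
        have hq : Fintype.card F = 2 ∨ Fintype.card F = 3 ∨ Fintype.card F = 4 ∨ Fintype.card F = 5 := by
          omega
        rcases hq with hq | hq | hq | hq
        · -- q = 2: a non-singular vector
          obtain ⟨v, hv0, hQv, hlev⟩ := Cfsg.Agent.Lib.H24.EOP2.c2_plus_q2 hq hQ D hD hpl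
          have hnodd : ¬ Odd (Fintype.card F) := by rw [hq]; decide
          have h2 : (2 : F) = 0 := two_eq_zero_of_not_odd hnodd
          have hQv' : Q v ≠ 0 := by
            rw [hQv]
            intro h5
            have h5' : (5 : F) = 0 := by exact_mod_cast h5
            have : (1 : F) = 0 := by linear_combination h5' - 2 * h2
            exact one_ne_zero this
          iterate 5 right
          exact Or.inl (ec1c_eq hQ (by norm_num) H hH ⟨hnodd, v, hQv', (le_inf hle hHI).trans hlev⟩)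
        · -- q = 3: two non-isometric halves
          obtain ⟨D2, hD2, hle2, -, hniso⟩ := Cfsg.Agent.Lib.H24.EOP2.c2_plus_q3 hq hQ D hD hpl
          iterate 9 right
          exact Or.inl ⟨by rw [hq], D2, hD2, hniso ⟨2, rfl⟩,
            decomp_eq hQ (by norm_num) H hH D2 hD2.decomp ((le_inf hle hHI).trans hle2)⟩
        · -- q = 4: class 5
          obtain ⟨F₀, r, P, ζ, hr, hcard, hζ, hR, hleP⟩ := Cfsg.Agent.Lib.H24.EOP2.c2_plus_q4_one hq hQ D hD hpl
          iterate 11 right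
          exact Or.inl (h5case ⟨F₀, r, P, ζ, hr, hcard, hζ, hR, (le_inf hle hHI).trans hleP⟩)
        · -- q = 5: lines
          obtain ⟨D1, hD1, hle1⟩ := Cfsg.Agent.Lib.H24.EOP2.c2_plus_q5 hq hQ D hD hpl (r := 10) (by norm_num)
          rcases hlines D1 hD1 ((le_inf hle hHI).trans hle1) with h | h
          · iterate 6 right
            exact Or.inl h
          · iterate 11 right
            exact Or.inl (h5case h)
    · have hodd : Odd (Fintype.card F) :=
        odd_card_of_odd_finrank hQ (D 0) (hD.decomp.nondegenerate 0)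
          (by rw [hD.decomp.decomp.finrank_eq]; exact ⟨2, rfl⟩)
      have hT := (Cfsg.Agent.Lib.H6.EOP2.plus_iff_of_odd_halves hodd Q hQ 5 ⟨2, rfl⟩ D hD.decomp).mp hplus
      iterate 8 right
      exact Or.inl ⟨(card_mod_four hodd).1 (hT.mp (hD.isometric 0 1)), D, hD,
        decomp_eq hQ (by norm_num) H hH D hD.decomp.decomp hle⟩
  · obtain ⟨m, D, hD, hts, hle⟩ := h2b
    have hc : 10 = 2 * m := decomp_card (Q := Q) hD
    have hm : m = 5 := by omega
    subst hm
    exact Or.inl (tspair10p hQ H hH D hD hts hle)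
  · obtain ⟨r, K, hr, hK, hsa, halt, hle⟩ := h3a
    have hdvd : r ∣ 10 := field_dvd (by norm_num) r K hK
    have hr25 : r = 2 ∨ r = 5 := by
      have h10 : (10 : ℕ) = 2 * 5 := by norm_num
      rw [h10] at hdvd
      rcases (Nat.Prime.dvd_mul hr).mp hdvd with h | h
      · exact Or.inl ((Nat.prime_dvd_prime_iff_eq hr Nat.prime_two).mp h)
      · exact Or.inr ((Nat.prime_dvd_prime_iff_eq hr Nat.prime_five).mp h)
    rcases hr25 with rfl | rfl
    · by_cases hodd : Odd (Fintype.card F)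
      · iterate 10 right
        exact Or.inl ⟨hodd, K, hK, hsa, field_eq hQ (by norm_num) H hH 2 le_rfl K hK hle⟩
      · exfalso
        have := Cfsg.Agent.Lib.H26.EOP2.dvd_of_selfAdjoint_alt Q hQ 2 K hK hsa (halt hodd)
        omega
    · rcases Cfsg.Agent.Lib.H26.EOP2.selfAdjoint_half_cases 5 ⟨2, rfl⟩ K hK Q hQ hsa
          (fun h2 => halt (fun ho => Cfsg.Agent.Lib.H13.HypPairs.two_ne_zero_of_odd_card rfl ho h2)) (by norm_num) with
        ⟨D, hD, hts, hleD⟩ | ⟨K₂, hK₂, hac, hnsa, hsim, hleK⟩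
      · exact Or.inl (tspair10p hQ H hH D hD hts ((le_inf hle hHI).trans hleD))
      · exfalso
        have := Cfsg.Agent.Lib.H11.EOP2.even_of_similitude_field Q hQ (by norm_num : 10 = 2 * 5) K₂ hK₂ hsim hplus
        exact absurd this (by decide)
  · exfalso
    obtain ⟨K, hK, hac, hnsa, hsim, hle⟩ := h3b
    have := Cfsg.Agent.Lib.H11.EOP2.even_of_similitude_field Q hQ (by norm_num : 10 = 2 * 5) K hK hsim hplus
    exact absurd this (by decide)
  · exfalso
    obtain ⟨n₁, n₂, e, P, f₁, f₂, h1, h2, hf₁, hf₂, -⟩ := h4a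
    have hc := Fintype.card_congr e
    rw [Fintype.card_prod, Fintype.card_fin, Fintype.card_fin, Fintype.card_fin] at hc
    have he1 : Even n₁ := by
      have := Cfsg.Agent.Lib.H17.AschSP2.even_card_of_isSymplecticForm f₁ hf₁
      simpa using this
    have he2 : Even n₂ := by
      have := Cfsg.Agent.Lib.H17.AschSP2.even_card_of_isSymplecticForm f₂ hf₂
      simpa using this
    obtain ⟨a, ha⟩ := he1
    obtain ⟨b, hb⟩ := he2
    have h4 : 4 ∣ n₁ * n₂ := ⟨a * b, by rw [ha, hb]; ring⟩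
    omega
  · exfalso
    obtain ⟨n₁, n₂, e, P, f₁, f₂, -, h3, hle, -⟩ := h4b
    have hc := Fintype.card_congr e
    rw [Fintype.card_prod, Fintype.card_fin, Fintype.card_fin, Fintype.card_fin] at hc
    have h9 : 3 * 3 ≤ n₁ * n₂ := Nat.mul_le_mul h3 (h3.trans hle)
    by_cases h4 : 4 ≤ n₂
    · have : 3 * 4 ≤ n₁ * n₂ := Nat.mul_le_mul h3 h4
      omega
    · have hn2 : n₂ = 3 := by omega
      subst hn2
      have hn1 : n₁ = 3 := by omega
      subst hn1
      omega
  · iterate 11 right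
    exact Or.inl (h5case h5)
  · exfalso
    obtain ⟨⟨m, hm⟩, -⟩ := h6
    rw [Fintype.card_fin] at hm
    have hm4 : m < 4 := by
      by_contra h
      have := Nat.pow_le_pow_right (by norm_num : 1 ≤ 2) (not_lt.mp h)
      omega
    interval_cases m <;> omega
  · exact absurd h7 (Cfsg.Agent.Lib.H11.EOP2.not_ec7_ten Q H)

end Cfsg.Agent.Lib.H21.EOP2
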