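import Cfsg.Agent.Lib.H21.AschEO2Row8
import Cfsg.Agent.Lib.H24.DnA
import Cfsg.Agent.Lib.H8.AschEO2X2
import Cfsg.Agent.Lib.H16.AschEO2E5
import Cfsg.Agent.Lib.H13.AschEO2B3
import Cfsg.Agent.Lib.H2.AschEO2B6

set_option autoImplicit false
set_option linter.unusedSectionVars false
set_option linter.unusedVariables false

/-
EO phase 2 (helper21): the row S5874 (`Ω_12^-(q)`).
-/
namespace Cfsg.Agent.Lib.H21.EOP2

open Cfsg Cfsg.Geo Cfsg.Agent.Lib.H26.AschE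
open scoped MatrixGroups Matrix Kronecker

variable {F : Type*} [Field F] [Fintype F] {n : ℕ}

/-! ### the row -/

/-- the three minus-type 4-blocks of `Ω_12^-`. -/
theorem blocks43_eq {Q : (Fin 12 → F) → F} (hQ : IsNondegenerateQuadraticForm Q)
    (hminus : ¬ IsPlusTypeOn Q ⊤) (H : Subgroup (GL (Fin 12) F)) (hH : IsMaximalIn (omegaGL Q) H)
    (D : Fin 3 → Submodule F (Fin 12 → F)) (hD : IsOrthogonalMDecomposition Q 4 D)
    (hle : H ≤ decompositionStabilizer D) :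
    ∃ D : Fin 3 → Submodule F (Fin 12 → F), IsOrthogonalMDecomposition Q 4 D ∧
      (∀ i, ¬ IsPlusTypeOn Q (D i)) ∧ H = decompositionStabilizer D ⊓ omegaGL Q := by
  refine ⟨D, hD, ?_, Cfsg.Agent.Lib.H21.OP2.eq_inf_of_maximal hH hle
    (Cfsg.Agent.Lib.H13.EOP2.not_omegaGL_le_decompositionStabilizer_big Q hQ (by norm_num) 4 (by norm_num) D hD.decomp.decomp)⟩
  intro i hi
  apply hminus
  apply Cfsg.Agent.Lib.H13.EOP2.plus_of_isometric_decomposition Q hQ 4 D hD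
  right; right; right
  intro j
  exact Cfsg.Agent.Lib.H24.Dn.plus_of_isometric Q (D i) (D j) (hD.isometric i j) hi

/-- **Row S5874** (`Ω_12^-(q)`). -/
theorem row12m (hmain : MainE 12 F) (Q : (Fin 12 → F) → F) (hQ : IsNondegenerateQuadraticForm Q)
    (hminus : ¬ IsPlusTypeOn Q ⊤) (H : Subgroup (GL (Fin 12) F)) (hH : IsMaximalIn (omegaGL Q) H) :
    (∃ W : Submodule F (Fin 12 → F), W ≠ ⊥ ∧ IsTotallySingularQuad Q W ∧ H = subspaceStabilizer W ⊓ omegaGL Q) ∨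
    (Odd (Fintype.card F) ∧ ∃ W : Submodule F (Fin 12 → F), W ≠ ⊥ ∧ W ≠ ⊤ ∧ Odd (Module.finrank F W) ∧ 2 * Module.finrank F W ≠ 12 ∧ IsNondegenerateOn (QuadraticMap.polar Q) W ∧ H = subspaceStabilizer W ⊓ omegaGL Q) ∨
    (∃ W : Submodule F (Fin 12 → F), Module.finrank F W = 2 ∧ IsNondegenerateOn (QuadraticMap.polar Q) W ∧ ¬ IsPlusTypeOn Q W ∧ H = subspaceStabilizer W ⊓ omegaGL Q) ∨
    (4 ≤ Fintype.card F ∧ ∃ W : Submodule F (Fin 12 → F), Module.finrank F W = 2 ∧ IsNondegenerateOn (QuadraticMap.polar Q) W ∧ IsPlusTypeOn Q W ∧ H = subspaceStabilizer W ⊓ omegaGL Q) ∨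
    (∃ W : Submodule F (Fin 12 → F), Module.finrank F W = 4 ∧ IsNondegenerateOn (QuadraticMap.polar Q) W ∧ H = subspaceStabilizer W ⊓ omegaGL Q) ∨
    (∃ W : Submodule F (Fin 12 → F), Module.finrank F W = 6 ∧ IsNondegenerateOn (QuadraticMap.polar Q) W ∧ H = subspaceStabilizer W ⊓ omegaGL Q) ∨
    (¬ Odd (Fintype.card F) ∧ ∃ v : (Fin 12 → F), Q v ≠ 0 ∧ H = subspaceStabilizer (Submodule.span F {v}) ⊓ omegaGL Q) ∨
    (∃ D : Fin 3 → Submodule F (Fin 12 → F), IsOrthogonalMDecomposition Q 4 D ∧ (∀ i, ¬ IsPlusTypeOn Q (D i)) ∧ H = decompositionStabilizer D ⊓ omegaGL Q) ∨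
    (∃ K : Subalgebra F (Matrix (Fin 12) (Fin 12) F), IsFieldSubalgebra 2 K ∧ H = subalgebraNormalizer K ⊓ omegaGL Q) ∨
    (∃ K : Subalgebra F (Matrix (Fin 12) (Fin 12) F), IsFieldSubalgebra 3 K ∧ H = subalgebraNormalizer K ⊓ omegaGL Q) ∨
    (Odd (Fintype.card F) ∧ 5 ≤ Fintype.card F ∧ ∃ (e : Fin 12 ≃ Fin 3 × Fin 4) (P : Matrix.GeneralLinearGroup (Fin 12) F) (f₁ : (Fin 3 → F) → (Fin 3 → F) → F) (f₂ : (Fin 4 → F) → (Fin 4 → F) → F), IsSymmetricForm f₁ ∧ IsSymmetricForm f₂ ∧ ¬ IsPlusTypeOn (fun v : Fin 4 → F => f₂ v v) ⊤ ∧ IsTensorFormStructure id (QuadraticMap.polar Q) f₁ f₂ e P ∧ H = tensorProductSubgroup 3 4 e P ⊓ omegaGL Q) ∨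
    (∃ (F₀ : Subfield F) (r : ℕ) (P : Matrix.GeneralLinearGroup (Fin 12) F) (ζ : F), r.Prime ∧ Odd r ∧ Fintype.card F = Nat.card F₀ ^ r ∧ ζ ≠ 0 ∧ IsQuadFormRationalStructure (fun v : Fin 12 → F => ζ * Q v) F₀ P ∧ H = subfieldSubgroup F₀ P ⊓ omegaGL Q) ∨
    InOrthogonalResidualClass H := by
  have hHI : H ≤ isometryGroup F Q := hH.1.le.trans (Cfsg.Agent.Lib.H21.OP2.omegaGL_le_isometryGroup' Q)
  rcases hmain Q hQ H hHI with ht | hres
  swap
  · iterate 12 right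
    exact hres
  rcases ht with (h1a | h1b | h1c) | (h2a | h2b) | (h3a | h3b) | (h4a | h4b) | h5 | h6 | h7
  · exact Or.inl (ec1a_eq hQ (by norm_num) H hH h1a)
  · rcases ndNF_of_ec1b hQ (by norm_num) H hH h1b with ⟨hq, W, h0, h1, hodd, hd, hnd, heq⟩ | ⟨W, h2, hnd, hpl, heq⟩ |
        ⟨hq, W, h2, hnd, hpl, heq⟩ | ⟨W, h0, h1, hev, h4, hd, hnd, heq⟩ | ⟨hq, v, hv, heq⟩
    · refine Or.inr (Or.inl ⟨hq, W, h0, h1, hodd, ?_, hnd, heq⟩)
      obtain ⟨a, ha⟩ := hodd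
      omega
    · exact Or.inr (Or.inr (Or.inl ⟨W, h2, hnd, hpl, heq⟩))
    · exact Or.inr (Or.inr (Or.inr (Or.inl ⟨hq, W, h2, hnd, hpl, heq⟩)))
    · obtain ⟨a, ha⟩ := hev
      have h46 : Module.finrank F W = 4 ∨ Module.finrank F W = 6 := by omega
      rcases h46 with h | h
      · exact Or.inr (Or.inr (Or.inr (Or.inr (Or.inl ⟨W, h, hnd, heq⟩))))
      · exact Or.inr (Or.inr (Or.inr (Or.inr (Or.inr (Or.inl ⟨W, h, hnd, heq⟩)))))
    · iterate 6 right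
      exact Or.inl ⟨hq, v, hv, heq⟩
  · iterate 6 right
    exact Or.inl (ec1c_eq hQ (by norm_num) H hH h1c)
  · obtain ⟨t, k, D, hD, hle⟩ := h2a
    have hc : 12 = t * k := decomp_card (Q := Q) hD.decomp.decomp
    have ht2 := hD.decomp.decomp.two_le
    have hk := hD.decomp.decomp.pos
    have ht12 : t ≤ 12 := by nlinarith
    by_cases h3 : t = 3
    · subst h3
      have hk4 : k = 4 := by omega
      subst hk4
      iterate 7 right
      exact Or.inl (blocks43_eq hQ hminus H hH D hD hle)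
    · exfalso
      apply hminus
      apply Cfsg.Agent.Lib.H13.EOP2.plus_of_isometric_decomposition Q hQ k D hD
      interval_cases t
      · right; left; exact ⟨even_two, ⟨3, by omega⟩⟩
      · exact absurd rfl h3
      · left; exact dvd_refl 4
      · omega
      · right; left; exact ⟨⟨3, rfl⟩, ⟨1, by omega⟩⟩
      · omega
      · omega
      · omega
      · omega
      · omega
      · left; exact ⟨3, rfl⟩
  · exfalso
    obtain ⟨m, D, hD, hts, -⟩ := h2b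
    exact hminus (Cfsg.Agent.Lib.H22.EOP2.plus_of_ts_pair Q m D hD hts)
  · obtain ⟨r, K, hr, hK, -, -, hle⟩ := h3a
    have hdvd : r ∣ 12 := field_dvd (by norm_num) r K hK
    have hr23 : r = 2 ∨ r = 3 := by
      have h12 : (12 : ℕ) = 2 ^ 2 * 3 := by norm_num
      rw [h12] at hdvd
      rcases (Nat.Prime.dvd_mul hr).mp hdvd with h | h
      · exact Or.inl ((Nat.prime_dvd_prime_iff_eq hr Nat.prime_two).mp (hr.dvd_of_dvd_pow h))
      · exact Or.inr ((Nat.prime_dvd_prime_iff_eq hr Nat.prime_three).mp h)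
    rcases hr23 with rfl | rfl
    · iterate 8 right
      exact Or.inl ⟨K, hK, field_eq hQ (by norm_num) H hH 2 le_rfl K hK hle⟩
    · iterate 9 right
      exact Or.inl ⟨K, hK, field_eq hQ (by norm_num) H hH 3 (by norm_num) K hK hle⟩
  · obtain ⟨K, hK, -, -, -, hle⟩ := h3b
    iterate 8 right
    exact Or.inl ⟨K, hK, field_eq hQ (by norm_num) H hH 2 le_rfl K hK hle⟩
  · exact absurd (Cfsg.Agent.Lib.H11.EOP2.isPlusTypeOn_of_ec4a_twelve Q hQ H h4a) hminus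
  · obtain ⟨n₁, n₂, e, P, f₁, f₂, hodd, h3, hle12, hf₁, hf₂, hT, hle⟩ := h4b
    have hc := Fintype.card_congr e
    rw [Fintype.card_prod, Fintype.card_fin, Fintype.card_fin, Fintype.card_fin] at hc
    have hn1 : n₁ = 3 := by
      by_contra hne
      have h4 : 4 ≤ n₁ := by omega
      have : 4 * 4 ≤ n₁ * n₂ := Nat.mul_le_mul h4 (h4.trans hle12)
      omega
    subst hn1
    have hn2 : n₂ = 4 := by omega
    subst hn2
    by_cases hpl : IsPlusTypeOn (fun v : Fin 4 → F => f₂ v v) ⊤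
    · exact absurd (Cfsg.Agent.Lib.H8.EOP2.plus_of_sym_tensor_plus hodd Q hQ 3 4 e P f₁ f₂ hf₁ hf₂ hT hpl) hminus
    · by_cases hq5 : 5 ≤ Fintype.card F
      · iterate 10 right
        exact Or.inl ⟨hodd, hq5, e, P, f₁, f₂, hf₁, hf₂, hpl, hT,
          Cfsg.Agent.Lib.H21.OP2.eq_inf_of_maximal hH hle
            (Cfsg.Agent.Lib.H2.EOP2.not_omegaGL_le_tensorProductSubgroup Q hQ (by norm_num) 3 4 (by norm_num) (by norm_num) e P)⟩
      · have hq3 : Fintype.card F = 3 := by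
          have h1 : 1 < Fintype.card F := Fintype.one_lt_card
          obtain ⟨a, ha⟩ := hodd
          omega
        obtain ⟨D, hD, htype, hleD⟩ := Cfsg.Agent.Lib.H16.EOP2.exists_blocks_of_tensor_three hq3 Q hQ 4 (by norm_num) e P f₁ f₂ hf₁ hf₂ hT
        iterate 7 right
        exact Or.inl (blocks43_eq hQ hminus H hH D hD ((le_inf hle hHI).trans hleD))
  · iterate 11 right
    exact Or.inl (ec5_minus hQ (by norm_num) ⟨6, rfl⟩ hminus H hH h5)
  · exact absurd h6.2.2.1 hminus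
  · exact absurd h7 (Cfsg.Agent.Lib.H11.EOP2.not_ec7_twelve Q H)

end Cfsg.Agent.Lib.H21.EOP2
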