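import Cfsg.Agent.Lib.H21.AschEO2Nd
import Cfsg.Agent.Lib.H13.AschEO2T
import Cfsg.Agent.Lib.H22.AschEO2T4
import Cfsg.Agent.Lib.H22.AschEO2X3

set_option autoImplicit false
set_option linter.unusedSectionVars false
set_option linter.unusedVariables false

/-
EO phase 2 (helper21): generic class lemmas for the rows and the row S5826 (`Ω_8^-(q)`).
-/
namespace Cfsg.Agent.Lib.H21.EOP2

open Cfsg Cfsg.Geo Cfsg.Agent.Lib.H26.AschE
open scoped MatrixGroups Matrix Kronecker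

variable {F : Type*} [Field F] [Fintype F] {n : ℕ}

theorem decomp_card {Q : (Fin n → F) → F} {t k : ℕ} {D : Fin t → Submodule F (Fin n → F)}
    (hD : IsMDecomposition k D) : n = t * k := by
  have := Cfsg.Agent.Lib.H29.Orth.card_eq_of_decomp D hD.indep hD.iSup_eq_top hD.finrank_eq
  rwa [Fintype.card_fin] at this

/-- class 5 in a MINUS-type row: the index is odd. -/
theorem ec5_minus {Q : (Fin n → F) → F} (hQ : IsNondegenerateQuadraticForm Q) (hn : 7 ≤ n) (hev : Even n)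
    (hminus : ¬ IsPlusTypeOn Q ⊤)
    (H : Subgroup (GL (Fin n) F)) (hH : IsMaximalIn (omegaGL Q) H) (h : EC5 Q H) :
    ∃ (F₀ : Subfield F) (r : ℕ) (P : GL (Fin n) F) (ζ : F), r.Prime ∧ Odd r ∧
      Fintype.card F = Nat.card F₀ ^ r ∧ ζ ≠ 0 ∧
      IsQuadFormRationalStructure (fun v : Fin n → F => ζ * Q v) F₀ P ∧
      H = subfieldSubgroup F₀ P ⊓ omegaGL Q := by
  have hcard : 7 ≤ Fintype.card (Fin n) := by rw [Fintype.card_fin]; exact hn
  obtain ⟨F₀, r, P, ζ, hr, hc, hζ, hR, hle⟩ := h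
  have hno := Cfsg.Agent.Lib.H13.EOP2.not_omegaGL_le_subfieldSubgroup Q hQ hcard F₀ r hr hc P
  have heq := Cfsg.Agent.Lib.H21.OP2.eq_inf_of_maximal hH hle hno
  rcases hr.eq_two_or_odd' with h2 | hodd
  · subst h2
    exact absurd (Cfsg.Agent.Lib.H22.EOP2.plus_of_subfield_two Q hQ hev F₀ hc P ζ hζ hR) hminus
  · exact ⟨F₀, r, P, ζ, hr, hodd, hc, hζ, hR, heq⟩

/-- class 1a for any row. -/
theorem ec1a_eq {Q : (Fin n → F) → F} (hQ : IsNondegenerateQuadraticForm Q) (hn : 7 ≤ n)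
    (H : Subgroup (GL (Fin n) F)) (hH : IsMaximalIn (omegaGL Q) H) (h : EC1a Q H) :
    ∃ W : Submodule F (Fin n → F), W ≠ ⊥ ∧ IsTotallySingularQuad Q W ∧ H = subspaceStabilizer W ⊓ omegaGL Q := by
  have hcard : 7 ≤ Fintype.card (Fin n) := by rw [Fintype.card_fin]; exact hn
  obtain ⟨W, hW0, hts, hle⟩ := h
  have hno := Cfsg.Agent.Lib.H13.EOP2.not_omegaGL_le_subspaceStabilizer Q hQ hcard W hW0
    (ts_ne_top hQ (by omega) hts)
  exact ⟨W, hW0, hts, Cfsg.Agent.Lib.H21.OP2.eq_inf_of_maximal hH hle hno⟩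

/-- class 1c for any row. -/
theorem ec1c_eq {Q : (Fin n → F) → F} (hQ : IsNondegenerateQuadraticForm Q) (hn : 7 ≤ n)
    (H : Subgroup (GL (Fin n) F)) (hH : IsMaximalIn (omegaGL Q) H) (h : EC1c Q H) :
    ¬ Odd (Fintype.card F) ∧ ∃ v : Fin n → F, Q v ≠ 0 ∧
      H = subspaceStabilizer (Submodule.span F {v}) ⊓ omegaGL Q := by
  have hcard : 7 ≤ Fintype.card (Fin n) := by rw [Fintype.card_fin]; exact hn
  obtain ⟨hq, v, hv, hle⟩ := h
  have hno := Cfsg.Agent.Lib.H13.EOP2.not_omegaGL_le_subspaceStabilizer Q hQ hcard _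
    (span_ne_bot_of_quad hQ hv) (span_ne_top (by omega) v)
  exact ⟨hq, v, hv, Cfsg.Agent.Lib.H21.OP2.eq_inf_of_maximal hH hle hno⟩

/-- a field subalgebra normaliser, for any row. -/
theorem field_eq {Q : (Fin n → F) → F} (hQ : IsNondegenerateQuadraticForm Q) (hn : 7 ≤ n)
    (H : Subgroup (GL (Fin n) F)) (hH : IsMaximalIn (omegaGL Q) H) (r : ℕ) (hr : 2 ≤ r)
    (K : Subalgebra F (Matrix (Fin n) (Fin n) F)) (hK : IsFieldSubalgebra r K)
    (hle : H ≤ subalgebraNormalizer K) : H = subalgebraNormalizer K ⊓ omegaGL Q := by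
  have hcard : 7 ≤ Fintype.card (Fin n) := by rw [Fintype.card_fin]; exact hn
  exact Cfsg.Agent.Lib.H21.OP2.eq_inf_of_maximal hH hle
    (Cfsg.Agent.Lib.H13.EOP2.not_omegaGL_le_subalgebraNormalizer Q hQ hcard r hr K hK)

theorem field_dvd (hn : 1 ≤ n) (r : ℕ) (K : Subalgebra F (Matrix (Fin n) (Fin n) F))
    (hK : IsFieldSubalgebra r K) : r ∣ n := by
  have : Nonempty (Fin n) := ⟨⟨0, by omega⟩⟩
  have := Cfsg.Agent.Lib.H21.OP2.dvd_card_of_isFieldSubalgebra r K hK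
  rwa [Fintype.card_fin] at this

/-- **Row S5826** (`Ω_8^-(q)`). -/
theorem row8m (hmain : MainE 8 F) (Q : (Fin 8 → F) → F) (hQ : IsNondegenerateQuadraticForm Q)
    (hminus : ¬ IsPlusTypeOn Q ⊤) (H : Subgroup (GL (Fin 8) F)) (hH : IsMaximalIn (omegaGL Q) H) :
    (∃ W : Submodule F (Fin 8 → F), W ≠ ⊥ ∧ IsTotallySingularQuad Q W ∧ H = subspaceStabilizer W ⊓ omegaGL Q) ∨
    (Odd (Fintype.card F) ∧ ∃ W : Submodule F (Fin 8 → F), W ≠ ⊥ ∧ W ≠ ⊤ ∧ Odd (Module.finrank F W) ∧ IsNondegenerateOn (QuadraticMap.polar Q) W ∧ H = subspaceStabilizer W ⊓ omegaGL Q) ∨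
    (∃ W : Submodule F (Fin 8 → F), Module.finrank F W = 2 ∧ IsNondegenerateOn (QuadraticMap.polar Q) W ∧ ¬ IsPlusTypeOn Q W ∧ H = subspaceStabilizer W ⊓ omegaGL Q) ∨
    (4 ≤ Fintype.card F ∧ ∃ W : Submodule F (Fin 8 → F), Module.finrank F W = 2 ∧ IsNondegenerateOn (QuadraticMap.polar Q) W ∧ IsPlusTypeOn Q W ∧ H = subspaceStabilizer W ⊓ omegaGL Q) ∨
    (∃ W : Submodule F (Fin 8 → F), Module.finrank F W = 4 ∧ IsNondegenerateOn (QuadraticMap.polar Q) W ∧ H = subspaceStabilizer W ⊓ omegaGL Q) ∨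
    (¬ Odd (Fintype.card F) ∧ ∃ v : (Fin 8 → F), Q v ≠ 0 ∧ H = subspaceStabilizer (Submodule.span F {v}) ⊓ omegaGL Q) ∨
    (∃ K : Subalgebra F (Matrix (Fin 8) (Fin 8) F), IsFieldSubalgebra 2 K ∧ H = subalgebraNormalizer K ⊓ omegaGL Q) ∨
    (∃ (F₀ : Subfield F) (r : ℕ) (P : Matrix.GeneralLinearGroup (Fin 8) F) (ζ : F), r.Prime ∧ Odd r ∧ Fintype.card F = Nat.card F₀ ^ r ∧ ζ ≠ 0 ∧ IsQuadFormRationalStructure (fun v : Fin 8 → F => ζ * Q v) F₀ P ∧ H = subfieldSubgroup F₀ P ⊓ omegaGL Q) ∨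
    InOrthogonalResidualClass H := by
  have hHI : H ≤ isometryGroup F Q := hH.1.le.trans (Cfsg.Agent.Lib.H21.OP2.omegaGL_le_isometryGroup' Q)
  rcases hmain Q hQ H hHI with ht | hres
  swap
  · iterate 8 right
    exact hres
  rcases ht with (h1a | h1b | h1c) | (h2a | h2b) | (h3a | h3b) | (h4a | h4b) | h5 | h6 | h7
  · exact Or.inl (ec1a_eq hQ (by norm_num) H hH h1a)
  · rcases ndNF_of_ec1b hQ (by norm_num) H hH h1b with ⟨hq, W, h0, h1, hodd, hd, hnd, heq⟩ | ⟨W, h2, hnd, hpl, heq⟩ |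
        ⟨hq, W, h2, hnd, hpl, heq⟩ | ⟨W, h0, h1, hev, h4, hd, hnd, heq⟩ | ⟨hq, v, hv, heq⟩
    · exact Or.inr (Or.inl ⟨hq, W, h0, h1, hodd, hnd, heq⟩)
    · exact Or.inr (Or.inr (Or.inl ⟨W, h2, hnd, hpl, heq⟩))
    · exact Or.inr (Or.inr (Or.inr (Or.inl ⟨hq, W, h2, hnd, hpl, heq⟩)))
    · exact Or.inr (Or.inr (Or.inr (Or.inr (Or.inl ⟨W, by omega, hnd, heq⟩))))
    · exact Or.inr (Or.inr (Or.inr (Or.inr (Or.inr (Or.inl ⟨hq, v, hv, heq⟩)))))
  · exact Or.inr (Or.inr (Or.inr (Or.inr (Or.inr (Or.inl (ec1c_eq hQ (by norm_num) H hH h1c))))))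
  · exfalso
    obtain ⟨t, k, D, hD, -⟩ := h2a
    have hc : 8 = t * k := decomp_card (Q := Q) hD.decomp.decomp
    have ht2 := hD.decomp.decomp.two_le
    apply hminus
    apply Cfsg.Agent.Lib.H13.EOP2.plus_of_isometric_decomposition Q hQ k D hD
    have ht8 : t ≤ 8 := by
      have hk := hD.decomp.decomp.pos
      nlinarith
    interval_cases t
    · right; left; exact ⟨even_two, ⟨2, by omega⟩⟩
    · omega
    · left; exact dvd_refl 4
    · omega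
    · omega
    · omega
    · left; exact ⟨2, rfl⟩
  · exfalso
    obtain ⟨m, D, hD, hts, -⟩ := h2b
    exact hminus (Cfsg.Agent.Lib.H22.EOP2.plus_of_ts_pair Q m D hD hts)
  · obtain ⟨r, K, hr, hK, -, -, hle⟩ := h3a
    have hdvd : r ∣ 8 := field_dvd (by norm_num) r K hK
    have hr2 : r = 2 := by
      have h8 : (8 : ℕ) = 2 ^ 3 := by norm_num
      rw [h8] at hdvd
      exact (Nat.prime_dvd_prime_iff_eq hr Nat.prime_two).mp (hr.dvd_of_dvd_pow hdvd)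
    subst hr2
    iterate 6 right
    exact Or.inl ⟨K, hK, field_eq hQ (by norm_num) H hH 2 le_rfl K hK hle⟩
  · obtain ⟨K, hK, -, -, -, hle⟩ := h3b
    iterate 6 right
    exact Or.inl ⟨K, hK, field_eq hQ (by norm_num) H hH 2 le_rfl K hK hle⟩
  · exact absurd (Cfsg.Agent.Lib.H11.EOP2.isPlusTypeOn_of_ec4a_eight Q hQ H h4a) hminus
  · exfalso
    obtain ⟨n₁, n₂, e, P, f₁, f₂, -, h3, hle, -⟩ := h4b
    have hc := Fintype.card_congr e
    rw [Fintype.card_prod, Fintype.card_fin, Fintype.card_fin, Fintype.card_fin] at hc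
    have : 3 * 3 ≤ n₁ * n₂ := Nat.mul_le_mul h3 (h3.trans hle)
    omega
  · iterate 7 right
    exact Or.inl (ec5_minus hQ (by norm_num) ⟨4, rfl⟩ hminus H hH h5)
  · exact absurd h6.2.2.1 hminus
  · exact absurd (Cfsg.Agent.Lib.H11.EOP2.isPlusTypeOn_of_ec7_eight Q hQ H h7) hminus

end Cfsg.Agent.Lib.H21.EOP2
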