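/-
S5673 (Aschbacher, orthogonal odd case), module OM8.2 (helper21 for helper24): one component:
residual class, or class 5.  This file: the version with the statements of OT5 / OT5' (for this `H`)
as explicit hypotheses; the wrapper `ores_of_components_one` is in `AschOM82.lean`.
-/
import Cfsg.Agent.Lib.H24.AschODefs
import Cfsg.Agent.Lib.H26.AschM8Defs
import Cfsg.Agent.Lib.H21.AschM82

set_option autoImplicit false

namespace Cfsg.Agent.Lib.H21.Asch

open Cfsg Cfsg.Geo Cfsg.Agent.Lib.Lead.Asch Cfsg.Agent.Lib.H26.Asch Cfsg.Agent.Lib.H24.Asch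
open scoped MatrixGroups Matrix Kronecker commutatorElement

variable {F : Type*} [Field F] [Fintype F] {n : ℕ}

/-- The statement of OT5 (`oc5_of_realisable`) for the pair `Q`, `H`. -/
def OT5Stmt (Q : (Fin n → F) → F) (H : Subgroup (GL (Fin n) F)) : Prop :=
  ∀ N : Subgroup (GL (Fin n) F), N ≤ H → NormalizedBy H N →
    ActsAbsolutelyIrreducibly (matrixSet N) →
    ∀ F₁ : Subfield F, F₁ ≠ ⊤ → RealisableOver F₁ (matrixSet N) → OC5 Q H

/-- The statement of OT5' (`oc5_of_fixes_unitary`) for the pair `Q`, `H`. -/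
def OT5pStmt (Q : (Fin n → F) → F) (H : Subgroup (GL (Fin n) F)) : Prop :=
  ∀ N : Subgroup (GL (Fin n) F), N ≤ H → NormalizedBy H N →
    ActsAbsolutelyIrreducibly (matrixSet N) →
    ∀ (σ : F ≃+* F) (g : (Fin n → F) → (Fin n → F) → F), IsUnitaryForm σ g →
      FixesForm (matrixSet N) g → OC5 Q H

/-- **OM8.2** with OT5 and OT5' as hypotheses. -/
theorem ores_of_components_one_aux (Q : (Fin n → F) → F)
    (H : Subgroup (GL (Fin n) F)) (hgood : Good H)
    (L : Fin 1 → Subgroup (GL (Fin n) F)) (hL : Components H 1 L)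
    (hT5 : OT5Stmt Q H) (hT5p : OT5pStmt Q H) :
    OC5 Q H ∨ InOrthogonalResidualClass H := by
  have hnorm : NormalizedBy H (L 0) := by
    intro h hh x hx
    obtain ⟨σ, hσ⟩ := hL.perm h hh
    have h0 : (L 0).map (MulAut.conj h).toMonoidHom = L 0 := by
      rw [hσ 0]
      congr 1
      exact Subsingleton.elim _ _
    rw [← h0]
    exact ⟨x, hx, by simp [MulAut.conj_apply]⟩
  have habs : ActsAbsolutelyIrreducibly (matrixSet (L 0)) :=
    (hgood.star (L 0) (hL.le 0) hnorm).resolve_left (hL.not_scal 0)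
  by_cases h5 : ∃ F₀ : Subfield F, F₀ ≠ ⊤ ∧ RealisableOver F₀ (matrixSet (L 0))
  · obtain ⟨F₀, hne, hreal⟩ := h5
    exact Or.inl (hT5 (L 0) (hL.le 0) hnorm habs F₀ hne hreal)
  by_cases hu : ∃ (σ : F ≃+* F) (f : (Fin n → F) → (Fin n → F) → F), IsUnitaryForm σ f ∧
      FixesForm (matrixSet (L 0)) f
  · obtain ⟨σ, f, hf, hfix⟩ := hu
    exact Or.inl (hT5p (L 0) (hL.le 0) hnorm habs σ f hf hfix)
  refine Or.inr ⟨L 0, ⟨hL.le 0, hnorm, hL.perfect 0, hL.simple 0, hL.nonab 0, ?_, habs, ?_⟩, hu⟩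
  · intro h _ hcomm
    exact Cfsg.Agent.Lib.H3.Asch.mem_scalars_of_absIrr_of_commute (L 0) habs h
      (commute_of_commutator_scalar (L 0) (hL.perfect 0) h hcomm)
  · intro F₀ hne hreal
    exact h5 ⟨F₀, hne, hreal⟩

end Cfsg.Agent.Lib.H21.Asch
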