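/-
S5673 (Aschbacher, orthogonal odd case), module OM8.2 (helper21 for helper24): one component:
residual class, or class 5.  Exact signature of tools/blueprints/S5673_sigs.lean.
-/
import Cfsg.Agent.Lib.H21.AschOM82a
import Cfsg.Agent.Lib.H24.AschOT5
import Cfsg.Agent.Lib.H6.AschOT5pW

set_option autoImplicit false

namespace Cfsg.Agent.Lib.H21.Asch

open Cfsg Cfsg.Geo Cfsg.Agent.Lib.Lead.Asch Cfsg.Agent.Lib.H24.Asch
open scoped MatrixGroups Matrix Kronecker

variable {F : Type*} [Field F] [Fintype F] {n : ℕ}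

/-- **OM8.2** one component: residual class, or class 5. -/
theorem ores_of_components_one (Q : (Fin n → F) → F) (hQ : OData Q) (hn : 3 ≤ n)
    (H : Subgroup (GL (Fin n) F)) (hH : H ≤ isometryGroup F Q) (hgood : Good H)
    (L : Fin 1 → Subgroup (GL (Fin n) F)) (hL : Cfsg.Agent.Lib.H26.Asch.Components H 1 L) :
    OC5 Q H ∨ InOrthogonalResidualClass H :=
  ores_of_components_one_aux Q H hgood L hL
    (fun N hNH hnorm habs F₁ hne hreal =>
      Cfsg.Agent.Lib.H24.Asch.oc5_of_realisable Q hQ (by omega) H N hH hNH hnorm habs F₁ hne hreal)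
    (fun N hNH hnorm habs σ g hg hfix =>
      Cfsg.Agent.Lib.H6.Asch.oc5_of_fixes_unitary Q hQ (by omega) H N hH hNH hnorm habs σ g hg hfix)

end Cfsg.Agent.Lib.H21.Asch
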