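import Mathlib

/-!
# (ATOMS) for Blichfeldt's 60-degree theorem (S4484, part X1)

Pure lattice theory: for a finite family `F : ι → α` in a complete lattice, the *atoms* are the
minimal nonzero elements among the nonempty intersections `⨅ g ∈ S, F g`.
-/

namespace Cfsg.Agent.Lib.H21.B60

section lattice

variable {α : Type*} [CompleteLattice α] {ι : Type*}

/-- `W` is an intersection of a nonempty subfamily of `F`. -/
def Inter (F : ι → α) (W : α) : Prop := ∃ S : Set ι, S.Nonempty ∧ W = ⨅ g ∈ S, F g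

/-- The atoms of the family `F`: minimal nonzero nonempty intersections. -/
def IsAtomOf (F : ι → α) (W : α) : Prop :=
  W ≠ ⊥ ∧ Inter F W ∧ ∀ W', W' ≠ ⊥ → Inter F W' → W' ≤ W → W' = W

theorem inter_single (F : ι → α) (g : ι) : Inter F (F g) :=
  ⟨{g}, ⟨g, rfl⟩, by simp⟩

theorem inter_inf {F : ι → α} {W W' : α} (h : Inter F W) (h' : Inter F W') :
    Inter F (W ⊓ W') := by
  obtain ⟨S, hS, rfl⟩ := h
  obtain ⟨S', _, rfl⟩ := h'
  exact ⟨S ∪ S', hS.mono Set.subset_union_left, by rw [iInf_union]⟩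

theorem inter_biInf {F : ι → α} {S : Set ι} (hS : S.Nonempty) : Inter F (⨅ g ∈ S, F g) :=
  ⟨S, hS, rfl⟩

theorem finite_inter [Finite ι] (F : ι → α) : {W | Inter F W}.Finite := by
  refine (Set.finite_range (fun S : Set ι => ⨅ g ∈ S, F g)).subset ?_
  rintro W ⟨S, _, rfl⟩
  exact ⟨S, rfl⟩

/-- (fin) there are finitely many atoms. -/
theorem finite_atoms [Finite ι] (F : ι → α) : {W | IsAtomOf F W}.Finite :=
  (finite_inter F).subset fun _ h => h.2.1

/-- (ex) every nonzero intersection contains an atom. -/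
theorem exists_atom_le [Finite ι] {F : ι → α} {V : α} (hV : Inter F V) (hV0 : V ≠ ⊥) :
    ∃ W, IsAtomOf F W ∧ W ≤ V := by
  classical
  have hfin : {W | W ≠ ⊥ ∧ Inter F W ∧ W ≤ V}.Finite :=
    (finite_inter F).subset fun _ h => h.2.1
  have hne : {W | W ≠ ⊥ ∧ Inter F W ∧ W ≤ V}.Nonempty := ⟨V, hV0, hV, le_rfl⟩
  obtain ⟨W, hW, hmin⟩ := hfin.exists_minimal hne
  refine ⟨W, ⟨hW.1, hW.2.1, fun W' h0 hI hle => ?_⟩, hW.2.2⟩
  exact le_antisymm hle (hmin ⟨h0, hI, hle.trans hW.2.2⟩ hle)

/-- every nonzero member of the family contains an atom. -/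
theorem exists_atom_le_of_ne_bot [Finite ι] {F : ι → α} {g : ι} (hg : F g ≠ ⊥) :
    ∃ W, IsAtomOf F W ∧ W ≤ F g :=
  exists_atom_le (inter_single F g) hg

/-- (i) an atom is below `F g` or meets it trivially. -/
theorem atom_le_or_inf_eq_bot {F : ι → α} {W : α} (hW : IsAtomOf F W) (g : ι) :
    W ≤ F g ∨ W ⊓ F g = ⊥ := by
  by_cases h : W ⊓ F g = ⊥
  · exact Or.inr h
  · left
    have := hW.2.2 _ h (inter_inf hW.2.1 (inter_single F g)) inf_le_left
    exact inf_eq_left.mp this

/-- (ii)(a) an atom lies in some member. -/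
theorem atom_exists_le {F : ι → α} {W : α} (hW : IsAtomOf F W) : ∃ g, W ≤ F g := by
  obtain ⟨S, ⟨g, hg⟩, hS⟩ := hW.2.1
  exact ⟨g, hS.le.trans (iInf₂_le g hg)⟩

/-- (ii)(b) an atom is the intersection of all members above it. -/
theorem atom_eq_biInf {F : ι → α} {W : α} (hW : IsAtomOf F W) :
    W = ⨅ g ∈ {g | W ≤ F g}, F g := by
  refine le_antisymm (le_iInf₂ fun g hg => hg) ?_
  obtain ⟨S, _, hS⟩ := hW.2.1
  have hsub : S ⊆ {g | W ≤ F g} := fun g hg => hS.le.trans (iInf₂_le g hg)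
  calc (⨅ g ∈ {g | W ≤ F g}, F g) ≤ ⨅ g ∈ S, F g := biInf_mono hsub
    _ = W := hS.symm

/-- (ii)(c) criterion: something below all members above the atom `W` is below `W`. -/
theorem le_atom_of_forall {F : ι → α} {W V : α} (hW : IsAtomOf F W)
    (h : ∀ g, W ≤ F g → V ≤ F g) : V ≤ W := by
  rw [atom_eq_biInf hW]
  exact le_iInf₂ fun g hg => h g hg

/-- (iii) atoms form an antichain. -/
theorem atom_eq_of_le {F : ι → α} {W W' : α} (hW : IsAtomOf F W) (hW' : IsAtomOf F W')
    (h : W ≤ W') : W = W' :=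
  hW'.2.2 W hW.1 hW.2.1 h

/-- transport of intersections along an order isomorphism permuting the family. -/
theorem inter_map {F : ι → α} (σ : α ≃o α) (π : ι → ι) (hσ : ∀ g, σ (F g) = F (π g)) {W : α}
    (hW : Inter F W) : Inter F (σ W) := by
  obtain ⟨S, hS, rfl⟩ := hW
  refine ⟨π '' S, hS.image π, ?_⟩
  rw [iInf_image, σ.map_iInf]
  refine iInf_congr fun g => ?_
  rw [σ.map_iInf]
  exact iInf_congr fun _ => hσ g

/-- (iv) an order isomorphism permuting the family permutes the atoms. -/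
theorem atom_map {F : ι → α} (σ : α ≃o α) (π : ι ≃ ι) (hσ : ∀ g, σ (F g) = F (π g)) {W : α}
    (hW : IsAtomOf F W) : IsAtomOf F (σ W) := by
  have hσ' : ∀ g, σ.symm (F g) = F (π.symm g) := fun g => by
    rw [OrderIso.symm_apply_eq, hσ, Equiv.apply_symm_apply]
  refine ⟨fun h => hW.1 ?_, inter_map σ π hσ hW.2.1, fun W' h0 hI hle => ?_⟩
  · rwa [← σ.map_bot, σ.injective.eq_iff] at h
  · have h1 : σ.symm W' ≠ ⊥ := fun h => h0 (by
      rw [← σ.symm.map_bot, σ.symm.injective.eq_iff] at h; exact h)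
    have h2 : σ.symm W' ≤ W := by rwa [σ.symm_apply_le]
    have := hW.2.2 _ h1 (inter_map σ.symm π.symm hσ' hI) h2
    rw [← this, OrderIso.apply_symm_apply]

end lattice

section submodule

variable {K : Type*} [Field K] {E : Type*} [AddCommGroup E] [Module K E]
  {G : Type*} [Group G]

/-- The translates of a subspace `F₀` under a family of linear automorphisms `ρ g`. -/
def translates (ρ : G → E ≃ₗ[K] E) (F₀ : Submodule K E) : G → Submodule K E :=
  fun g => F₀.map (ρ g).toLinearMap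

/-- (iv) for a group acting linearly: atoms of the translates of `F₀` are permuted. -/
theorem atom_map_translates (ρ : G → E ≃ₗ[K] E) (hmul : ∀ h g x, ρ (h * g) x = ρ h (ρ g x))
    (F₀ : Submodule K E) {W : Submodule K E} (hW : IsAtomOf (translates ρ F₀) W) (h : G) :
    IsAtomOf (translates ρ F₀) (W.map (ρ h).toLinearMap) := by
  have key := atom_map (F := translates ρ F₀) (Submodule.orderIsoMapComap (ρ h))
    (Equiv.mulLeft h) (fun g => ?_) hW
  · simpa using key
  · change (F₀.map (ρ g).toLinearMap).map (ρ h).toLinearMap = F₀.map (ρ (h * g)).toLinearMap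
    ext x
    simp only [Submodule.mem_map, LinearEquiv.coe_coe]
    constructor
    · rintro ⟨y, ⟨z, hz, rfl⟩, rfl⟩
      exact ⟨z, hz, hmul h g z⟩
    · rintro ⟨z, hz, rfl⟩
      exact ⟨ρ g z, ⟨z, hz, rfl⟩, (hmul h g z).symm⟩

end submodule

section ortho

variable {𝕜 : Type*} [RCLike 𝕜] {E : Type*} [NormedAddCommGroup E] [InnerProductSpace 𝕜 E]
  {ι : Type*}

/-- (ZERO), lattice half: if every atom is below or orthogonal to every member of the family, then
distinct atoms are orthogonal. -/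
theorem atoms_isOrtho {F : ι → Submodule 𝕜 E}
    (hdich : ∀ W, IsAtomOf F W → ∀ g, W ≤ F g ∨ W ⟂ F g)
    {W W' : Submodule 𝕜 E} (hW : IsAtomOf F W) (hW' : IsAtomOf F W') (hne : W ≠ W') :
    W ⟂ W' := by
  by_contra hno
  apply hne
  refine (atom_eq_of_le hW' hW (le_atom_of_forall hW fun g hg => ?_)).symm
  rcases hdich W' hW' g with h | h
  · exact h
  · exact absurd (h.symm.mono_left hg) hno

end ortho

end Cfsg.Agent.Lib.H21.B60
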