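import Mathlib
/-!
S4719 piece (G3) (helper21): the Brauer–Fowler count.  `G` normal in `Γ`, `v` an involution of `Γ`
with `|C_G(v)| ≤ n` and `|G| ≥ 2 n`: some `g ≠ 1` in `G` has `|G : C_G(g)| ≤ 2 n^2`.
PURE Mathlib.
-/
set_option autoImplicit false
namespace Cfsg.Agent.Lib.H21.BF
open Finset Subgroup

/-- cardinality of a subgroup as a filter. -/
theorem card_eq_card_filter {Γ : Type*} [Group Γ] [Fintype Γ] (H : Subgroup Γ)
    [DecidablePred (fun x => x ∈ H)] :
    Nat.card H = (univ.filter (fun x => x ∈ H)).card := by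
  rw [Nat.card_eq_fintype_card, Fintype.card_subtype]

theorem brauer_fowler {Γ : Type*} [Group Γ] [Finite Γ] (G : Subgroup Γ) [G.Normal] (v : Γ)
    (hv2 : v * v = 1) (n : ℕ)
    (hn : Nat.card (G ⊓ Subgroup.centralizer {v} : Subgroup Γ) ≤ n) (hG : 2 * n ≤ Nat.card G) :
    ∃ g ∈ G, g ≠ 1 ∧ Nat.card G ≤ 2 * n ^ 2 * Nat.card (G ⊓ Subgroup.centralizer {g} : Subgroup Γ) := by
  classical
  have := Fintype.ofFinite Γ
  have hvinv : v⁻¹ = v := inv_eq_of_mul_eq_one_left hv2
  set GS : Finset Γ := univ.filter (fun x => x ∈ G) with hGS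
  set Cl : Finset Γ := GS.image (fun x => x * v * x⁻¹) with hCl
  set cv := Nat.card (G ⊓ Subgroup.centralizer {v} : Subgroup Γ) with hcv
  have hN : Nat.card G = GS.card := card_eq_card_filter G
  have hmemGS : ∀ x, x ∈ GS ↔ x ∈ G := fun x => by simp [hGS]
  -- elements of Cl
  have hClmem : ∀ s, s ∈ Cl ↔ ∃ x ∈ G, x * v * x⁻¹ = s := by
    intro s
    rw [hCl, mem_image]
    constructor
    · rintro ⟨x, hx, rfl⟩; exact ⟨x, (hmemGS x).mp hx, rfl⟩
    · rintro ⟨x, hx, rfl⟩; exact ⟨x, (hmemGS x).mpr hx, rfl⟩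
  have hClsq : ∀ s ∈ Cl, s * s = 1 := by
    intro s hs
    obtain ⟨x, -, rfl⟩ := (hClmem s).mp hs
    calc x * v * x⁻¹ * (x * v * x⁻¹) = x * (v * v) * x⁻¹ := by group
      _ = 1 := by rw [hv2]; group
  have hClinv : ∀ s ∈ Cl, s⁻¹ = s := fun s hs => inv_eq_of_mul_eq_one_left (hClsq s hs)
  -- Cl lies in the coset v G
  have hClcoset : ∀ s ∈ Cl, v * s ∈ G := by
    intro s hs
    obtain ⟨x, hx, rfl⟩ := (hClmem s).mp hs
    have h1 : v * x * v⁻¹ ∈ G := ‹G.Normal›.conj_mem x hx v
    have : v * (x * v * x⁻¹) = (v * x * v⁻¹) * x⁻¹ := by rw [hvinv]; group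
    rw [this]
    exact G.mul_mem h1 (G.inv_mem hx)
  have hClprod : ∀ s ∈ Cl, ∀ t ∈ Cl, s * t ∈ G := by
    intro s hs t ht
    have h1 := hClcoset s hs
    have h2 := hClcoset t ht
    have h3 : (v * s)⁻¹ * (v * t) ∈ G := G.mul_mem (G.inv_mem h1) h2
    have : (v * s)⁻¹ * (v * t) = s⁻¹ * t := by group
    rw [this, hClinv s hs] at h3
    exact h3
  -- orbit-stabilizer
  have horb : Cl.card * cv = GS.card := by
    have hfib : ∀ s ∈ Cl, (GS.filter (fun x => x * v * x⁻¹ = s)).card = cv := by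
      intro s hs
      obtain ⟨x₀, hx₀, rfl⟩ := (hClmem s).mp hs
      rw [hcv, card_eq_card_filter]
      apply Finset.card_bij (fun x _ => x₀⁻¹ * x)
      · intro x hx
        rw [mem_filter] at hx
        rw [mem_filter]
        refine ⟨mem_univ _, ?_⟩
        rw [Subgroup.mem_inf]
        refine ⟨G.mul_mem (G.inv_mem hx₀) ((hmemGS x).mp hx.1), ?_⟩
        rw [mem_centralizer_iff]
        intro h hh
        rw [Set.mem_singleton_iff] at hh
        subst hh
        have h2 := hx.2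
        -- x h x⁻¹ = x₀ h x₀⁻¹
        calc h * (x₀⁻¹ * x) = x₀⁻¹ * (x₀ * h * x₀⁻¹) * x := by group
          _ = x₀⁻¹ * (x * h * x⁻¹) * x := by rw [h2]
          _ = x₀⁻¹ * x * h := by group
      · intro x hx y hy hxy
        exact mul_left_cancel hxy
      · intro z hz
        rw [mem_filter, Subgroup.mem_inf] at hz
        refine ⟨x₀ * z, ?_, by group⟩
        rw [mem_filter]
        refine ⟨(hmemGS _).mpr (G.mul_mem hx₀ hz.2.1), ?_⟩
        have h2 := mem_centralizer_iff.mp hz.2.2 v rfl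
        calc x₀ * z * v * (x₀ * z)⁻¹ = x₀ * (z * v) * z⁻¹ * x₀⁻¹ := by group
          _ = x₀ * (v * z) * z⁻¹ * x₀⁻¹ := by rw [h2]
          _ = x₀ * v * x₀⁻¹ := by group
    rw [card_eq_sum_card_image (fun x => x * v * x⁻¹) GS, ← hCl, Finset.sum_congr rfl hfib,
      Finset.sum_const, smul_eq_mul]
  -- the pair count
  let r : Γ → ℕ := fun g => ((Cl ×ˢ Cl).filter (fun p => p.1 * p.2 = g)).card
  have hrsum : ∑ g, r g = Cl.card ^ 2 := by
    have := Finset.card_eq_sum_card_fiberwise (s := Cl ×ˢ Cl) (t := univ)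
      (f := fun p : Γ × Γ => p.1 * p.2) (fun _ _ => mem_univ _)
    rw [Finset.card_product] at this
    rw [sq, this]
  have hr0 : ∀ g, g ∉ G → r g = 0 := by
    intro g hg
    rw [Finset.card_eq_zero, Finset.filter_eq_empty_iff]
    rintro ⟨s, t⟩ hp hst
    rw [Finset.mem_product] at hp
    exact hg (hst ▸ hClprod s hp.1 t hp.2)
  have hr1 : r 1 = Cl.card := by
    symm
    apply Finset.card_bij (fun s _ => (s, s))
    · intro s hs
      rw [mem_filter, Finset.mem_product]
      exact ⟨⟨hs, hs⟩, hClsq s hs⟩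
    · intro s _ t _ h
      exact (Prod.mk.inj h).1
    · rintro ⟨s, t⟩ hp
      rw [mem_filter, Finset.mem_product] at hp
      refine ⟨s, hp.1.1, ?_⟩
      have : t = s⁻¹ := eq_inv_of_mul_eq_one_right hp.2
      rw [this, hClinv s hp.1.1]
  have hrle : ∀ g, r g ≤ Nat.card (G ⊓ Subgroup.centralizer {g} : Subgroup Γ) := by
    intro g
    by_cases hne : ((Cl ×ˢ Cl).filter (fun p => p.1 * p.2 = g)).Nonempty
    · obtain ⟨⟨s₀, t₀⟩, hp₀⟩ := hne
      rw [mem_filter, Finset.mem_product] at hp₀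
      rw [card_eq_card_filter]
      apply Finset.card_le_card_of_injOn (fun p : Γ × Γ => s₀⁻¹ * p.1)
      · rintro ⟨s, t⟩ hp
        rw [Finset.mem_coe, mem_filter, Finset.mem_product] at hp
        rw [Finset.mem_coe, mem_filter, Subgroup.mem_inf]
        refine ⟨mem_univ _, ?_, ?_⟩
        · have h1 := hClcoset s hp.1.1
          have h2 := hClcoset s₀ hp₀.1.1
          have h3 : (v * s₀)⁻¹ * (v * s) ∈ G := G.mul_mem (G.inv_mem h2) h1
          have : (v * s₀)⁻¹ * (v * s) = s₀⁻¹ * s := by group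
          rwa [this] at h3
        · rw [mem_centralizer_iff]
          intro h hh
          rw [Set.mem_singleton_iff] at hh
          subst hh
          -- s inverts h = s t, s₀ inverts h = s₀ t₀
          have e1 : t = s * h := by
            rw [← hp.2, ← mul_assoc, hClsq s hp.1.1, one_mul]
          have e0 : t₀ = s₀ * h := by
            rw [← hp₀.2, ← mul_assoc, hClsq s₀ hp₀.1.1, one_mul]
          have i1 : s * h * (s * h) = 1 := by rw [← e1]; exact hClsq t hp.1.2
          have i0 : s₀ * h * (s₀ * h) = 1 := by rw [← e0]; exact hClsq t₀ hp₀.1.2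
          -- h s = s h⁻¹ ...
          have k1 : h * s = s * h⁻¹ := by
            have : s * (h * s) * h = 1 := by rw [← i1]; group
            have h5 : h * s = s⁻¹ * h⁻¹ := by
              have h6 : h * s = s⁻¹ * (s * (h * s) * h) * h⁻¹ := by group
              rw [h6, this]; group
            rw [h5, hClinv s hp.1.1]
          have k0 : h * s₀ = s₀ * h⁻¹ := by
            have : s₀ * (h * s₀) * h = 1 := by rw [← i0]; group
            have h5 : h * s₀ = s₀⁻¹ * h⁻¹ := by
              have h6 : h * s₀ = s₀⁻¹ * (s₀ * (h * s₀) * h) * h⁻¹ := by group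
              rw [h6, this]; group
            rw [h5, hClinv s₀ hp₀.1.1]
          -- goal: h * (s₀⁻¹ * s) = s₀⁻¹ * s * h
          have k0' : h * s₀⁻¹ = s₀⁻¹ * h⁻¹ := by
            rw [hClinv s₀ hp₀.1.1]; exact k0
          have k1' : h⁻¹ * s = s * h := by
            have : h⁻¹ * (h * s) * h = h⁻¹ * (s * h⁻¹) * h := by rw [k1]
            have h7 : s * h = h⁻¹ * s := by
              calc s * h = h⁻¹ * (h * s) * h := by group
                _ = h⁻¹ * (s * h⁻¹) * h := this
                _ = h⁻¹ * s := by group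
            exact h7.symm
          calc h * (s₀⁻¹ * s) = (h * s₀⁻¹) * s := by group
            _ = s₀⁻¹ * h⁻¹ * s := by rw [k0']
            _ = s₀⁻¹ * (h⁻¹ * s) := by group
            _ = s₀⁻¹ * (s * h) := by rw [k1']
            _ = s₀⁻¹ * s * h := by group
      · rintro ⟨s, t⟩ hp ⟨s', t'⟩ hp' hss
        rw [Finset.mem_coe, mem_filter] at hp hp'
        have h1 : s = s' := mul_left_cancel hss
        have h2 : t = t' := by
          have := hp.2.trans hp'.2.symm
          rw [h1] at this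
          exact mul_left_cancel this
        rw [h1, h2]
    · rw [Finset.not_nonempty_iff_eq_empty] at hne
      show ((Cl ×ˢ Cl).filter (fun p => p.1 * p.2 = g)).card ≤ _
      rw [hne]
      exact Nat.zero_le _
  -- the averaging argument
  by_contra hcon
  push Not at hcon
  have h1G : (1 : Γ) ∈ GS := (hmemGS 1).mpr G.one_mem
  have hsum2 : Cl.card ^ 2 = Cl.card + ∑ g ∈ GS.erase 1, r g := by
    rw [← hrsum, ← hr1]
    have h1 : ∑ g, r g = ∑ g ∈ GS, r g := by
      symm
      apply Finset.sum_subset (subset_univ _)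
      intro g _ hg
      exact hr0 g (fun h => hg ((hmemGS g).mpr h))
    rw [h1, ← Finset.add_sum_erase GS r h1G]
  have hbound : 2 * n ^ 2 * ∑ g ∈ GS.erase 1, r g ≤ (GS.card - 1) * (GS.card - 1) := by
    rw [Finset.mul_sum]
    have : (GS.card - 1) * (GS.card - 1) = ∑ _g ∈ GS.erase 1, (GS.card - 1) := by
      rw [Finset.sum_const, Finset.card_erase_of_mem h1G, smul_eq_mul]
    rw [this]
    apply Finset.sum_le_sum
    intro g hg
    rw [Finset.mem_erase] at hg
    have hgG := (hmemGS g).mp hg.2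
    have h2 := hcon g hgG hg.1
    have h3 := hrle g
    rw [hN] at h2
    calc 2 * n ^ 2 * r g ≤ 2 * n ^ 2 * Nat.card (G ⊓ Subgroup.centralizer {g} : Subgroup Γ) :=
          Nat.mul_le_mul_left _ h3
      _ ≤ GS.card - 1 := by omega
  -- arithmetic
  rw [hN] at hG
  have hm1 : 1 ≤ Cl.card := by
    apply Finset.card_pos.mpr
    exact ⟨1 * v * 1⁻¹, (hClmem _).mpr ⟨1, G.one_mem, rfl⟩⟩
  have hN1 : 1 ≤ GS.card := Finset.card_pos.mpr ⟨1, h1G⟩
  -- move to integers
  have e1 : (Cl.card : ℤ) * cv = GS.card := by exact_mod_cast horb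
  have e2 : (Cl.card : ℤ) ^ 2 = Cl.card + ((∑ g ∈ GS.erase 1, r g : ℕ) : ℤ) := by exact_mod_cast hsum2
  have e3 : 2 * (n : ℤ) ^ 2 * ((∑ g ∈ GS.erase 1, r g : ℕ) : ℤ) ≤ ((GS.card : ℤ) - 1) * ((GS.card : ℤ) - 1) := by
    have := hbound
    zify [hN1] at this
    push_cast
    exact this
  have e4 : (cv : ℤ) ≤ n := by exact_mod_cast hn
  have e5 : 2 * (n : ℤ) ≤ GS.card := by exact_mod_cast hG
  have e6 : (1 : ℤ) ≤ Cl.card := by exact_mod_cast hm1
  have e7 : (0 : ℤ) ≤ cv := by positivity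
  set m : ℤ := (Cl.card : ℤ)
  set N : ℤ := (GS.card : ℤ)
  set c : ℤ := (cv : ℤ)
  set S : ℤ := ((∑ g ∈ GS.erase 1, r g : ℕ) : ℤ)
  have hS : S = m ^ 2 - m := by linarith
  have f1 : c ^ 2 * (m ^ 2 - m) = N * (N - c) := by
    rw [← e1]; ring
  have f2 : c ^ 2 * (m ^ 2 - m) ≤ (n : ℤ) ^ 2 * (m ^ 2 - m) := by
    apply mul_le_mul_of_nonneg_right
    · nlinarith
    · nlinarith
  have f3 : N * N ≤ 2 * (N * (N - c)) := by nlinarith
  nlinarith

end Cfsg.Agent.Lib.H21.BF
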