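import Mathlib
import Cfsg.Agent.Lib.H21.BGP2c
import Cfsg.Agent.Lib.H10.BG144e
import Cfsg.Agent.S1426
import Cfsg.Agent.S1357
import Cfsg.Agent.S1372

/-!
# BG Theorem 15.8, front part (helper21)

`X = F(M) ∩ F(M)^g ≠ 1`, `g ∉ M`: `X ≤ M_σ`, `X` is cyclic, `M` is not of type `P₂`,
`M_F = M_σ`.
-/

set_option autoImplicit false
set_option linter.style.haveILetI false
set_option linter.unusedSectionVars false
set_option linter.unusedVariables false
open Cfsg
open Cfsg.Agent.Lib.H16.BG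
open Cfsg.Agent.Lib.H7.BG7
open Cfsg.Agent.Lib.H19 (IsPiCard)

namespace Cfsg.Agent.Lib.H21.BG158

universe u
variable {G : Type u} [Group G] [Finite G] {M K U : Subgroup G}

local notation:max "cj(" g ", " X ")" => Subgroup.map (MulEquiv.toMonoidHom (MulAut.conj g)) X

/-- an element of prime order of `F(M) ∩ F(M)^g`, `g ∉ M`, has order in `σ(M)`. -/
theorem mem_sigma_of_mem_inf (hG : IsMinSimpleOddOrder G) (hM : IsCoatom M) {g : G} (hg : g ∉ M)
    {y : G} (hy : y ∈ fittingOf M ⊓ cj(g, fittingOf M)) {r : ℕ} (hr : r.Prime)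
    (hyr : orderOf y = r) : r ∈ sigma M := by
  by_contra hrσ
  have hyF : y ∈ fittingOf M := hy.1
  have hy' : g⁻¹ * y * g ∈ fittingOf M := mem_cj_iff.1 hy.2
  have hy'r : orderOf (g⁻¹ * y * g) = r := by
    have h : SemiconjBy g⁻¹ y (g⁻¹ * y * g) := by
      unfold SemiconjBy; group
    rw [← h.orderOf_eq, hyr]
  have h1 := Cfsg.Agent.Lib.H21.BGP2.uniq_of_mem_fittingOf_not_sigma hG hM hyF hr hyr hrσ
  have h2 := Cfsg.Agent.Lib.H21.BGP2.uniq_of_mem_fittingOf_not_sigma hG hM hy' hr hy'r hrσ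
  have hle : Subgroup.centralizer ({y} : Set G) ≤ cj(g, M) := by
    intro c hc
    rw [mem_cj_iff]
    apply h2.1
    rw [Subgroup.mem_centralizer_iff] at hc ⊢
    intro z hz
    rw [Set.mem_singleton_iff] at hz
    rw [hz]
    have := hc y (Set.mem_singleton _)
    have e1 : g⁻¹ * y * g * (g⁻¹ * c * g) = g⁻¹ * (y * c) * g := by group
    have e2 : g⁻¹ * c * g * (g⁻¹ * y * g) = g⁻¹ * (c * y) * g := by group
    rw [e1, e2, this]
  have := h1.2 _ (isCoatom_map_conj hM g) hle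
  exact hg (Cfsg.Agent.Lib.H21.BGP2.mem_of_cj_eq hG hM this)

/-- `X = F(M) ∩ F(M)^g ≤ M_σ` for `g ∉ M`. -/
theorem inf_le_sigmaCore (hG : IsMinSimpleOddOrder G) (hM : IsCoatom M) {g : G} (hg : g ∉ M) :
    fittingOf M ⊓ cj(g, fittingOf M) ≤ sigmaCore M := by
  apply le_sigmaCore_of hG hM (inf_le_left.trans (fittingOf_le M))
  intro r hr hd
  haveI : Fact r.Prime := ⟨hr⟩
  obtain ⟨y, hy⟩ := exists_prime_orderOf_dvd_card' (G := ↥(fittingOf M ⊓ cj(g, fittingOf M))) r hd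
  have hy' : orderOf (y : G) = r := by rw [Subgroup.orderOf_coe]; exact hy
  exact mem_sigma_of_mem_inf hG hM hg y.2 hr hy'

theorem inf_le_inf (hG : IsMinSimpleOddOrder G) (hM : IsCoatom M) {g : G} (hg : g ∉ M) :
    fittingOf M ⊓ cj(g, fittingOf M) ≤ sigmaCore M ⊓ cj(g, M) :=
  le_inf (inf_le_sigmaCore hG hM hg) (inf_le_right.trans (cj_mono g (fittingOf_le M)))

/-- a complement of `M_σ` in `M`. -/
theorem exists_compl (hG : IsMinSimpleOddOrder G) (hM : IsCoatom M) :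
    ∃ E : Subgroup G, IsComplIn E (sigmaCore M) M := by
  obtain ⟨E, hE, -⟩ := Cfsg.Agent.Lib.H7.BG13.exists_compl_ge hG hM (bot_le : (⊥ : Subgroup G) ≤ M)
    (by
      intro q hq hd
      rw [Subgroup.card_bot] at hd
      exact absurd (Nat.dvd_one.1 hd) hq.one_lt.ne')
  exact ⟨E, hE⟩

/-- `X` is cyclic. -/
theorem isCyclic_inf (hG : IsMinSimpleOddOrder G) (hM : IsCoatom M) {g : G} (hg : g ∉ M) :
    IsCyclic ↥(fittingOf M ⊓ cj(g, fittingOf M)) := by
  obtain ⟨E, hE⟩ := exists_compl hG hM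
  have h := ((Cfsg.Agent.S1426.result hG M hM E hE).2.2 g hg).1
  exact isCyclic_of_le' (inf_le_inf hG hM hg) h

/-- `N_G(F(M)) = M`, so `g ∉ M` is outside the normalizer of `F(M)`. -/
theorem not_mem_normalizer_fittingOf (hG : IsMinSimpleOddOrder G) (hM : IsCoatom M) {g : G}
    (hg : g ∉ M) : g ∉ Subgroup.normalizer ((fittingOf M : Subgroup G) : Set G) := by
  have hM1 : M ≠ ⊥ := by
    rintro rfl
    have hσ1 := Cfsg.Agent.Lib.H8.BG12.sigmaCore_ne_bot' hG hM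
    exact hσ1 (le_bot_iff.1 (Cfsg.Agent.Lib.H20.BGS.sigmaCore_le ⊥))
  have hF1 : fittingOf M ≠ ⊥ := fittingOf_ne_bot (solvable_of_coatom hG hM) hM1
  have hN := normalizer_eq_of_coatom hG hM (fittingOf_le M) hF1 (le_normalizer_fittingOf M)
  rw [hN]; exact hg

/-- if `F(M)` is a TI-subset then `F(M) ∩ F(M)^g = 1` for `g ∉ M`. -/
theorem inf_eq_bot_of_TI (hG : IsMinSimpleOddOrder G) (hM : IsCoatom M) {g : G} (hg : g ∉ M)
    (hTI : IsTISubset (fittingOf M : Set G)) : fittingOf M ⊓ cj(g, fittingOf M) = ⊥ := by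
  rw [eq_bot_iff]
  intro w hw
  rw [Subgroup.mem_bot]
  have h1 : g⁻¹ * w * g ∈ fittingOf M := mem_cj_iff.1 hw.2
  have h2 := hTI g (not_mem_normalizer_fittingOf hG hM hg) (g⁻¹ * w * g) h1 (by
    have e : g * (g⁻¹ * w * g) * g⁻¹ = w := by group
    rw [e]; exact hw.1)
  have e : w = g * (g⁻¹ * w * g) * g⁻¹ := by group
  rw [e, h2]; group

/-- **BG 15.8(a)**: `M` is not of type `P₂` and `M_F = M_σ`. -/
theorem part_a (hG : IsMinSimpleOddOrder G) (hM : IsCoatom M)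
    (hKU : IsSigmaDecomposition M K U) {g : G} (hg : g ∉ M)
    (hX : fittingOf M ⊓ cj(g, fittingOf M) ≠ ⊥) :
    (K = ⊥ ∨ U = ⊥) ∧ fittingHallOf M = sigmaCore M := by
  constructor
  · by_contra h
    push Not at h
    exact hX (inf_eq_bot_of_TI hG hM hg
      (Cfsg.Agent.Lib.H21.BGP2.isTISubset_fittingOf hG hM hKU h.1 h.2))
  · by_contra h
    exact hX (inf_eq_bot_of_TI hG hM hg (Cfsg.Agent.S1357.result hG M hM K U hKU h).2.1)

end Cfsg.Agent.Lib.H21.BG158
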