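import Mathlib
import Cfsg.Agent.Lib.H21.BG158a
import Cfsg.Agent.Lib.H8.MinSimpleStruct
import Cfsg.Agent.Lib.H7.BG10c
import Cfsg.Agent.S1420
import Cfsg.Agent.S1416

/-!
# BG Theorem 15.8: the situation after the choice of `x ∈ X` of prime order (helper21)
-/

set_option autoImplicit false
set_option linter.style.haveILetI false
set_option linter.unusedSectionVars false
set_option linter.unusedVariables false
open Cfsg
open Cfsg.Agent.Lib.H16.BG
open Cfsg.Agent.Lib.H7.BG7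
open Cfsg.Agent.Lib.H19 (IsPiCard)
open Cfsg.Agent.Lib.H10.BG144 (Cfg)

namespace Cfsg.Agent.Lib.H21.BG158

universe u
variable {G : Type u} [Group G] [Finite G] {M N K U : Subgroup G} {g x : G} {p : ℕ}

local notation:max "cj(" g ", " X ")" => Subgroup.map (MulEquiv.toMonoidHom (MulAut.conj g)) X

/-- a subgroup of order prime to `q` has `q`-rank `0`. -/
theorem pRankLE_of_not_dvd {q k : ℕ} (hq : q.Prime) {L : Subgroup G}
    (h : ¬ q ∣ Nat.card ↥L) : PRankLE q k ↥L := by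
  intro A hAc hAq
  haveI : Fact q.Prime := ⟨hq⟩
  have hA : IsPGroup q ↥A := by
    intro a
    refine ⟨1, ?_⟩
    rw [pow_one]
    exact Subtype.ext (by rw [Subgroup.coe_pow]; exact hAq a.1 a.2)
  obtain ⟨n, hn⟩ := IsPGroup.iff_card.1 hA
  have hd : Nat.card ↥A ∣ Nat.card ↥L := Subgroup.card_subgroup_dvd_card A
  rcases Nat.eq_zero_or_pos n with h0 | h0
  · rw [hn, h0, pow_zero]
    exact Nat.one_le_pow _ _ hq.pos
  · exfalso
    apply h
    refine dvd_trans ?_ hd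
    rw [hn]
    exact dvd_pow_self q h0.ne'

/-- the situation of BG 15.8 after the choice of `x ∈ X` of prime order `p`. -/
structure Sit (M N : Subgroup G) (g x : G) (p : ℕ) : Prop where
  hG : IsMinSimpleOddOrder G
  hM : IsCoatom M
  hg : g ∉ M
  hx : x ∈ fittingOf M ⊓ cj(g, fittingOf M)
  cfg : Cfg M N x p
  hF : fittingHallOf M = sigmaCore M

/-- `C_G(x) ≰ M` for `x ≠ 1` of prime order in `X`. -/
theorem not_centralizer_le (hG : IsMinSimpleOddOrder G) (hM : IsCoatom M) (hg : g ∉ M)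
    (hx : x ∈ fittingOf M ⊓ cj(g, fittingOf M)) [hp : Fact p.Prime] (hxp : orderOf x = p) :
    ¬ Subgroup.centralizer ({x} : Set G) ≤ M := by
  intro hC
  have hxσ : x ∈ sigmaCore M := inf_le_sigmaCore hG hM hg hx
  have htr := Cfsg.Agent.Lib.H10.BG144.trans_prime hG hM hxσ hxp
  have hmem : x ∈ cj(g, M) := cj_mono g (fittingOf_le M) hx.2
  obtain ⟨c, hc, hceq⟩ := htr g hmem
  rw [cj_eq_self_of_mem (hC hc)] at hceq
  exact hg (Cfsg.Agent.Lib.H21.BGP2.mem_of_cj_eq hG hM hceq)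

theorem exists_sit (hG : IsMinSimpleOddOrder G) (hM : IsCoatom M)
    (hKU : IsSigmaDecomposition M K U) (hg : g ∉ M)
    (hX : fittingOf M ⊓ cj(g, fittingOf M) ≠ ⊥) :
    ∃ (N : Subgroup G) (x : G) (p : ℕ), Sit M N g x p := by
  have hc1 : Nat.card ↥(fittingOf M ⊓ cj(g, fittingOf M)) ≠ 1 := by
    intro h
    exact hX (Subgroup.card_eq_one.1 h)
  obtain ⟨p, hp, hd⟩ := Nat.exists_prime_and_dvd hc1
  haveI : Fact p.Prime := ⟨hp⟩
  obtain ⟨y, hy⟩ := exists_prime_orderOf_dvd_card' (G := ↥(fittingOf M ⊓ cj(g, fittingOf M))) p hd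
  have hy' : orderOf (y : G) = p := by rw [Subgroup.orderOf_coe]; exact hy
  have hyσ : (y : G) ∈ sigmaCore M := inf_le_sigmaCore hG hM hg y.2
  obtain ⟨N, hN⟩ := Cfsg.Agent.Lib.H10.BG144.exists_cfg hG hM hyσ hy'
    (not_centralizer_le hG hM hg y.2 hy')
  exact ⟨N, (y : G), p, hG, hM, hg, y.2, hN, (part_a hG hM hKU hg hX).2⟩

namespace Sit

variable (s : Sit M N g x p)
include s

theorem prime : p.Prime := s.cfg.tau2.1

theorem ord : orderOf x = p := s.cfg.ord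

theorem x_mem : x ∈ sigmaCore M := s.cfg.hx₁

theorem hN : IsCoatom N := s.cfg.hN

theorem x_ne_one : x ≠ 1 := by
  intro h
  have := s.ord
  rw [h, orderOf_one] at this
  exact s.prime.one_lt.ne this

theorem sigmaCore_le : sigmaCore M ≤ M := Cfsg.Agent.Lib.H20.BGS.sigmaCore_le M

theorem nil : Group.IsNilpotent ↥(sigmaCore M) := by
  rw [← s.hF]
  exact Cfsg.Agent.Lib.H8.fittingHallOf_isNilpotent M

theorem mem_sigma : p ∈ sigma M :=
  Cfsg.Agent.Lib.H10.BG144.mem_sigma_of_mem_sigmaCore s.hG s.hM s.x_mem s.prime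
    (by rw [s.ord])

theorem x_mem_inf : x ∈ sigmaCore M ⊓ cj(g, M) := inf_le_inf s.hG s.hM s.hg s.hx

theorem not_mem_beta : p ∉ beta M := by
  obtain ⟨E, hE⟩ := exists_compl s.hG s.hM
  have h := ((Cfsg.Agent.S1426.result s.hG M s.hM E hE).2.2 g s.hg).2.1
  apply h p s.prime
  have h1 := orderOf_dvd_natCard (⟨x, s.x_mem_inf⟩ : ↥(sigmaCore M ⊓ cj(g, M)))
  rwa [Subgroup.orderOf_mk, s.ord] at h1

/-- `⟨x⟩` meets `(M_σ)'` trivially. -/
theorem not_mem_commutator : x ∉ ⁅sigmaCore M, sigmaCore M⁆ := by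
  obtain ⟨E, hE⟩ := exists_compl s.hG s.hM
  have h := ((Cfsg.Agent.S1426.result s.hG M s.hM E hE).2.2 g s.hg).2.2
  intro hx
  have : x ∈ sigmaCore M ⊓ cj(g, M) ⊓ ⁅sigmaCore M, sigmaCore M⁆ := ⟨s.x_mem_inf, hx⟩
  rw [h, Subgroup.mem_bot] at this
  exact s.x_ne_one this

/-- `M ∩ N` is a Hall `σ(N)'`-subgroup of `N`. -/
theorem hall : IsPiHallOf (sigma N)ᶜ (M ⊓ N) N :=
  Cfsg.Agent.Lib.H10.BG144.isPiHallOf_compl s.hG s.hN s.cfg.compl

/-- nilpotent subgroups of `M ∩ N` are abelian. -/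
theorem abelian_of_le {L : Subgroup G} (hL : L ≤ M ⊓ N) (hLn : Group.IsNilpotent ↥L) :
    IsMulCommutative ↥L := by
  refine (Cfsg.Agent.S1420.result s.hG N s.hN (M ⊓ N) s.cfg.compl).1 L (hL.trans inf_le_right) hLn ?_
  intro q hq hd hqσ
  exact s.hall.2.1 q hq (hd.trans (Subgroup.card_dvd_of_le hL)) hqσ

/-- subgroups of `M ∩ N` have rank at most `2`. -/
theorem rank_of_le {L : Subgroup G} (hL : L ≤ M ⊓ N) {q : ℕ} (hq : q.Prime) :
    PRankLE q 2 ↥L := by
  by_cases hqσ : q ∈ sigma N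
  · apply pRankLE_of_not_dvd hq
    intro hd
    exact s.hall.2.1 q hq (hd.trans (Subgroup.card_dvd_of_le hL)) hqσ
  · have hα : q ∉ alpha N := fun h =>
      hqσ (Cfsg.Agent.Lib.H7.BG10.alpha_subset_sigma s.hG (Cfsg.Agent.Lib.H20.BGT.uniq3 s.hG) s.hN h)
    have hr : PRankLE q 2 ↥N := by
      by_contra h
      exact hα ⟨hq, h⟩
    exact pRankLE_of_le (hL.trans inf_le_right) hr

/-- `C_{M_σ}(x) ≤ M ∩ N`. -/
theorem cent_le : sigmaCore M ⊓ Subgroup.centralizer ({x} : Set G) ≤ M ⊓ N :=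
  le_inf (inf_le_left.trans s.sigmaCore_le) (inf_le_right.trans s.cfg.hCN)

/-- `C_{M_σ}(x)` is abelian. -/
theorem cent_abelian : IsMulCommutative ↥(sigmaCore M ⊓ Subgroup.centralizer ({x} : Set G)) :=
  s.abelian_of_le s.cent_le (isNilpotent_of_le s.nil inf_le_left)

/-- an elementary abelian subgroup of order `q²` of `M ∩ N` has its centralizer in `N`. -/
theorem centralizer_le_of_elemAb {q : ℕ} [Fact q.Prime] {B : Subgroup G} (hB : B ≤ M ⊓ N)
    (hBe : IsElementaryAbelian q B) (hBc : Nat.card ↥B = q ^ 2) :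
    Subgroup.centralizer (B : Set G) ≤ N :=
  (Cfsg.Agent.S1416.result s.hG N s.hN q B ⟨hB.trans inf_le_right, hBe, hBc⟩).1

end Sit

end Cfsg.Agent.Lib.H21.BG158
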