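import Mathlib
import Cfsg.Agent.Lib.H21.BG158b
import Cfsg.Agent.Lib.H16.BGw
import Cfsg.Agent.S1414
import Cfsg.Agent.S1439

/-!
# BG Theorem 15.8: Sylow structure of `M_σ`, `β(M) = ∅`, `M' ≤ F(M)` (helper21)
-/

set_option autoImplicit false
set_option linter.style.haveILetI false
set_option linter.unusedSectionVars false
set_option linter.unusedVariables false
open Cfsg
open Cfsg.Agent.Lib.H16.BG
open Cfsg.Agent.Lib.H7.BG7
open Cfsg.Agent.Lib.H19 (IsPiCard)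
open Cfsg.Agent.Lib.H10.BG144 (Cfg)

namespace Cfsg.Agent.Lib.H21.BG158

universe u
variable {G : Type u} [Group G] [Finite G] {M N K U : Subgroup G} {g x : G} {p : ℕ}

local notation:max "cj(" g ", " X ")" => Subgroup.map (MulEquiv.toMonoidHom (MulAut.conj g)) X

/-- a subgroup of an abelian subgroup is abelian. -/
theorem isMulCommutative_of_le {A B : Subgroup G} (hAB : A ≤ B) (hB : IsMulCommutative ↥B) :
    IsMulCommutative ↥A := by
  refine ⟨⟨?_⟩⟩
  rintro ⟨a, ha⟩ ⟨b, hb⟩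
  apply Subtype.ext
  have := hB.is_comm.comm ⟨a, hAB ha⟩ ⟨b, hAB hb⟩
  have h2 : a * b = b * a := congrArg Subtype.val this
  exact h2

/-- `O_q(F)` is a Sylow `q`-subgroup of the nilpotent subgroup `F`. -/
theorem sylIn_piCoreOf {F : Subgroup G} (hF : Group.IsNilpotent ↥F) (q : ℕ) [Fact q.Prime] :
    SylIn q (piCoreOf {q} F) F := by
  obtain ⟨Q, hQ⟩ := SylIn.exists_sylIn q F
  have h1 : Q ≤ piCoreOf {q} F :=
    le_piCoreOf_of_nilpotent hF hQ.le (isPiCard_card_of_isPGroup (Set.mem_singleton q) hQ.isPGroup)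
  have h2 := hQ.eq_of_le h1 (piCoreOf_le _ _) (isPGroup_piCoreOf_singleton q F)
  rw [← h2]; exact hQ

namespace Sit

variable (s : Sit M N g x p)
include s

theorem x_mem_P : x ∈ piCoreOf {p} (sigmaCore M) := by
  haveI : Fact p.Prime := ⟨s.prime⟩
  have hz : IsPGroup p ↥(Subgroup.zpowers x) :=
    IsPGroup.of_card (n := 1) (by rw [Nat.card_zpowers, s.ord, pow_one])
  exact le_piCoreOf_of_nilpotent s.nil (Subgroup.zpowers_le.2 s.x_mem)
    (isPiCard_card_of_isPGroup (Set.mem_singleton p) hz) (Subgroup.mem_zpowers x)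

/-- for `q ≠ p`, `O_q(M_σ)` centralizes `x`. -/
theorem Q_le_cent {q : ℕ} (hqp : q ≠ p) :
    piCoreOf {q} (sigmaCore M) ≤ sigmaCore M ⊓ Subgroup.centralizer ({x} : Set G) := by
  refine le_inf (piCoreOf_le _ _) ?_
  have hd : Disjoint ({q} : Set ℕ) {p} := by
    rw [Set.disjoint_singleton]; exact hqp
  have h := piCoreOf_le_centralizer_piCoreOf hd (sigmaCore M)
  intro y hy
  rw [Subgroup.mem_centralizer_singleton_iff]
  exact (Subgroup.mem_centralizer_iff.1 (h hy) x s.x_mem_P).symm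

theorem Q_le_inf {q : ℕ} (hqp : q ≠ p) : piCoreOf {q} (sigmaCore M) ≤ M ⊓ N :=
  (s.Q_le_cent hqp).trans s.cent_le

theorem Q_abelian {q : ℕ} (hqp : q ≠ p) : IsMulCommutative ↥(piCoreOf {q} (sigmaCore M)) :=
  isMulCommutative_of_le (s.Q_le_cent hqp) s.cent_abelian

theorem Q_rank {q : ℕ} (hq : q.Prime) (hqp : q ≠ p) :
    PRankLE q 2 ↥(piCoreOf {q} (sigmaCore M)) :=
  s.rank_of_le (s.Q_le_inf hqp) hq

theorem sylIn_Q {q : ℕ} [Fact q.Prime] (hq : q ∈ sigma M) :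
    SylIn q (piCoreOf {q} (sigmaCore M)) M :=
  SylIn.of_hall (sigmaCore_hallOf s.hG s.hM) hq (sylIn_piCoreOf s.nil q)

/-- `β(M) = ∅`. -/
theorem beta_empty : beta M = ∅ := by
  rw [Set.eq_empty_iff_forall_notMem]
  intro q hq
  have hqα : q ∈ alpha M := hq.1
  have hqp : q ≠ p := by
    rintro rfl
    exact s.not_mem_beta hq
  haveI : Fact q.Prime := ⟨hqα.1⟩
  have hqσ : q ∈ sigma M :=
    Cfsg.Agent.Lib.H7.BG10.alpha_subset_sigma s.hG (Cfsg.Agent.Lib.H20.BGT.uniq3 s.hG) s.hM hqα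
  exact hqα.2 (pRankLE_of_sylIn (s.sylIn_Q hqσ) (s.Q_rank hqα.1 hqp))

/-- `M'` is nilpotent. -/
theorem commutator_nilpotent : Group.IsNilpotent ↥⁅M, M⁆ := by
  obtain ⟨H', hH', hnil⟩ := (Cfsg.Agent.S1414.result s.hG M s.hM).2.2.1
  have h1 : H'.relIndex ⁅M, M⁆ = 1 := by
    by_contra hne
    obtain ⟨q, hq, hd⟩ := Nat.exists_prime_and_dvd hne
    refine hH'.2.2 q hq ⟨hq, ?_⟩ hd
    rw [s.beta_empty]; exact Set.notMem_empty q
  have h2 : ⁅M, M⁆ ≤ H' := Subgroup.relIndex_eq_one.1 h1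
  have h3 : H' = ⁅M, M⁆ := le_antisymm hH'.1 h2
  rw [← h3]; exact hnil

/-- **BG 15.8(c)**, first half: `M' ≤ F(M)`. -/
theorem commutator_le_fittingOf : ⁅M, M⁆ ≤ fittingOf M :=
  le_fittingOf (Subgroup.commutator_le.2 fun a ha b hb =>
      M.mul_mem (M.mul_mem (M.mul_mem ha hb) (M.inv_mem ha)) (M.inv_mem hb))
    (le_normalizer_commutator Subgroup.le_normalizer Subgroup.le_normalizer)
    s.commutator_nilpotent

/-- **BG 15.8(c)**, second half. -/
theorem fittingOf_eq : fittingOf M = sigmaCore M ⊔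
    piCoreOf {q | q.Prime ∧ q ∉ sigma M} (fittingOf M) := by
  have h := (Cfsg.Agent.S1439.result s.hG M s.hM).2.2
  have h1 : fittingOf (sigmaCore M) = sigmaCore M :=
    le_antisymm (fittingOf_le _) (le_fittingOf le_rfl Subgroup.le_normalizer s.nil)
  rw [h1] at h
  exact h

end Sit

end Cfsg.Agent.Lib.H21.BG158
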