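import Mathlib
import Cfsg.Agent.Lib.H21.BG158c
import Cfsg.Agent.Lib.H10.BG152j
import Cfsg.Agent.Lib.H7.BG1366c
import Cfsg.Agent.S1354

/-!
# BG Theorem 15.8: helper lemmas and the abelian case (helper21)
-/

set_option autoImplicit false
set_option linter.style.haveILetI false
set_option linter.unusedSectionVars false
set_option linter.unusedVariables false
open Cfsg
open Cfsg.Agent.Lib.H16.BG
open Cfsg.Agent.Lib.H7.BG7
open Cfsg.Agent.Lib.H19 (IsPiCard)
open Cfsg.Agent.Lib.H10.BG144 (Cfg)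

namespace Cfsg.Agent.Lib.H21.BG158

universe u
variable {G : Type u} [Group G] [Finite G] {M N K U : Subgroup G} {g x : G} {p : ℕ}

local notation:max "cj(" g ", " X ")" => Subgroup.map (MulEquiv.toMonoidHom (MulAut.conj g)) X

/-- `O_p(X)` as a relative core. -/
theorem piCoreOf_singleton_eq (q : ℕ) [hq : Fact q.Prime] (X : Subgroup G) :
    piCoreOf {q} X = (pCore q ↥X).map X.subtype := by
  unfold piCoreOf
  congr 1
  unfold piCore pCore
  congr 1
  ext N
  simp only [Set.mem_ofPred_eq]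
  constructor
  · rintro ⟨hn, h⟩
    exact ⟨hn, isPGroup_of_isPiCard_singleton hq.out h⟩
  · rintro ⟨hn, h⟩
    exact ⟨hn, isPiCard_of_isPGroup hq.out (Set.mem_singleton q) h⟩

/-- conjugation by `u` on powers of `y` when `u y u⁻¹ = y ^ k`. -/
theorem conj_pow_eq {u y : G} {k : ℕ} (h : u * y * u⁻¹ = y ^ k) (n : ℕ) :
    u ^ n * y * (u ^ n)⁻¹ = y ^ (k ^ n) := by
  induction n with
  | zero => simp
  | succ n ih =>
    have e : u ^ (n + 1) * y * (u ^ (n + 1))⁻¹ = u * (u ^ n * y * (u ^ n)⁻¹) * u⁻¹ := by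
      rw [pow_succ']; group
    rw [e, ih]
    have e2 : u * y ^ (k ^ n) * u⁻¹ = (u * y * u⁻¹) ^ (k ^ n) := by
      rw [conj_pow]
    rw [e2, h, ← pow_mul, pow_succ']

/-- an element normalizing a subgroup of prime order `q` has its `(q-1)`-th power centralizing
it. -/
theorem pow_pred_comm {q : ℕ} (hq : q.Prime) {y u : G} (hy : orderOf y = q)
    (hu : u * y * u⁻¹ ∈ Subgroup.zpowers y) : u ^ (q - 1) * y = y * u ^ (q - 1) := by
  haveI : Fact q.Prime := ⟨hq⟩
  obtain ⟨k, hk⟩ : u * y * u⁻¹ ∈ Submonoid.powers y := mem_powers_iff_mem_zpowers.2 hu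
  have hk' : u * y * u⁻¹ = y ^ k := hk.symm
  have h1 := conj_pow_eq hk' (q - 1)
  have hy1 : y ≠ 1 := by
    rintro rfl
    rw [orderOf_one] at hy
    exact hq.one_lt.ne hy
  have hkq : ¬ q ∣ k := by
    intro hd
    have : y ^ k = 1 := by
      rw [← hy] at hd
      exact orderOf_dvd_iff_pow_eq_one.1 hd
    rw [this] at hk'
    apply hy1
    have e : y = u⁻¹ * (u * y * u⁻¹) * u := by group
    rw [e, hk']; group
  have hmod : k ^ (q - 1) ≡ 1 [MOD q] := by
    have hcop : Nat.Coprime k q := (Nat.Prime.coprime_iff_not_dvd hq).2 hkq |>.symm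
    have := Nat.ModEq.pow_totient hcop
    rwa [Nat.totient_prime hq] at this
  have h2 : y ^ (k ^ (q - 1)) = y ^ 1 := by
    rw [pow_eq_pow_iff_modEq, hy]; exact hmod
  rw [h2, pow_one] at h1
  calc u ^ (q - 1) * y = (u ^ (q - 1) * y * (u ^ (q - 1))⁻¹) * u ^ (q - 1) := by group
    _ = y * u ^ (q - 1) := by rw [h1]

/-- powers of a product modulo a normalized subgroup. -/
theorem pow_mul_mem {B : Subgroup G} {a b : G} (ha : a ∈ Subgroup.normalizer (B : Set G))
    (hb : b ∈ B) (n : ℕ) : ∃ b' ∈ B, (a * b) ^ n = a ^ n * b' := by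
  induction n with
  | zero => exact ⟨1, B.one_mem, by simp⟩
  | succ n ih =>
    obtain ⟨b', hb', h⟩ := ih
    refine ⟨a⁻¹ * b' * a * b, B.mul_mem ?_ hb, ?_⟩
    · have := (Subgroup.mem_normalizer_iff.1 (Subgroup.inv_mem _ ha) b').1 hb'
      rwa [inv_inv] at this
    · rw [pow_succ, h, pow_succ]; group

/-- if `M = A B` with `B` normalized by `M` and `a ^ n = 1` for all `a ∈ A`, then `m ^ n ∈ B`
for all `m ∈ M`. -/
theorem pow_mem_of_compl {A B : Subgroup G} (h : IsComplIn A B M)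
    (hB : M ≤ Subgroup.normalizer (B : Set G)) {n : ℕ} (hA : ∀ a ∈ A, a ^ n = 1) :
    ∀ m ∈ M, m ^ n ∈ B := by
  intro m hm
  obtain ⟨a, ha, b, hb, rfl⟩ := h.2.2.2 m hm
  obtain ⟨b', hb', e⟩ := pow_mul_mem (hB (h.1 ha)) hb n
  rw [e, hA a ha, one_mul]; exact hb'

/-- the exponent of `M / M_F` divides `n` if `m ^ n ∈ M_F` for all `m ∈ M`. -/
theorem exponent_quot_dvd {n : ℕ} (h : ∀ m ∈ M, m ^ n ∈ fittingHallOf M) :
    Monoid.exponent (↥M ⧸ fittingHall ↥M) ∣ n := by
  apply Monoid.exponent_dvd_of_forall_pow_eq_one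
  intro y
  induction y using QuotientGroup.induction_on with
  | H m =>
    rw [← QuotientGroup.mk_pow, QuotientGroup.eq_one_iff,
      Cfsg.Agent.Lib.H10.BG152.mem_fittingHall_iff, Subgroup.coe_pow]
    exact h m m.2

namespace Sit

variable (s : Sit M N g x p)
include s

/-- in the abelian case `M_σ ≤ M ∩ N`. -/
theorem sigmaCore_le_inf_of_abelian (hP : IsMulCommutative ↥(piCoreOf {p} (sigmaCore M))) :
    sigmaCore M ≤ M ⊓ N := by
  refine le_trans (le_inf le_rfl ?_) s.cent_le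
  have h : sigmaCore M ≤ Subgroup.centralizer ((Subgroup.zpowers x : Subgroup G) : Set G) := by
    apply le_centralizer_of_forall_piCoreOf s.nil
    intro q hq
    by_cases hqp : q = p
    · subst hqp
      intro y hy
      rw [Subgroup.mem_centralizer_iff]
      intro z hz
      obtain ⟨n, rfl⟩ := Subgroup.mem_zpowers_iff.1 hz
      have hxn : x ^ n ∈ piCoreOf {q} (sigmaCore M) := Subgroup.zpow_mem _ s.x_mem_P n
      have := hP.is_comm.comm ⟨x ^ n, hxn⟩ ⟨y, hy⟩
      exact congrArg Subtype.val this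
    · intro y hy
      have h1 := (s.Q_le_cent hqp hy).2
      rw [Subgroup.mem_centralizer_iff]
      intro z hz
      obtain ⟨n, rfl⟩ := Subgroup.mem_zpowers_iff.1 hz
      have h2 : y * x = x * y := (Subgroup.mem_centralizer_singleton_iff.1 h1)
      exact ((Commute.zpow_right (show Commute y x from h2) n).eq).symm
  exact h.trans (Subgroup.centralizer_le (by
    intro z hz
    rw [Set.mem_singleton_iff] at hz
    rw [hz]; exact Subgroup.mem_zpowers x))

/-- **BG 15.8(e)(1)**: the abelian case. -/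
theorem case_abelian (hKU : IsSigmaDecomposition M K U)
    (hP : IsMulCommutative ↥(piCoreOf {p} (sigmaCore M))) :
    K = ⊥ ∧ IsMulCommutative ↥(sigmaCore M) ∧ RankLE 2 ↥(sigmaCore M) ∧
      ¬ RankLE 1 ↥(sigmaCore M) := by
  haveI : Fact p.Prime := ⟨s.prime⟩
  have hle := s.sigmaCore_le_inf_of_abelian hP
  have hab : IsMulCommutative ↥(sigmaCore M) := s.abelian_of_le hle s.nil
  refine ⟨?_, hab, fun q hq => s.rank_of_le hle hq, ?_⟩
  · by_contra hK1
    have hX : fittingOf M ⊓ cj(g, fittingOf M) ≠ ⊥ := by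
      intro h
      have := s.hx
      rw [h, Subgroup.mem_bot] at this
      exact s.x_ne_one this
    have hU : U = ⊥ := by
      rcases (part_a s.hG s.hM hKU s.hg hX).1 with h | h
      · exact absurd h hK1
      · exact h
    subst hU
    have hE := Cfsg.Agent.Lib.H7.BG1366.compl_of_bot s.hG s.hM hKU
    have h1 := (Cfsg.Agent.S1426.result s.hG M s.hM K hE).1
    have h2 : ⁅sigmaCore M, sigmaCore M⁆ = ⊥ := by
      rw [Subgroup.commutator_eq_bot_iff_le_centralizer]
      intro a ha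
      rw [Subgroup.mem_centralizer_iff]
      intro b hb
      have := hab.is_comm.comm ⟨b, hb⟩ ⟨a, ha⟩
      exact congrArg Subtype.val this
    rw [h2] at h1
    exact (Cfsg.Agent.S1354.result s.hG M s.hM K hKU.cyclic hKU.hall).1 (le_bot_iff.1 h1)
  · intro hr
    obtain ⟨A, hAE, hAe, hAc⟩ := s.cfg.hA
    have hAp : IsPGroup p ↥A := Cfsg.Agent.Lib.H21.BGP2.isPGroup_of_elemAb' hAe
    have hAσ : A ≤ sigmaCore M :=
      isPGroup_le_sigmaCore s.hG s.hM s.mem_sigma (hAE.trans inf_le_left) hAp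
    refine not_pRankLE_of_elemAb hAσ hAe ?_ (hr p s.prime)
    rw [hAc, pow_one]
    calc p = p ^ 1 := (pow_one p).symm
      _ < p ^ 2 := Nat.pow_lt_pow_right s.prime.one_lt (by norm_num)

end Sit

end Cfsg.Agent.Lib.H21.BG158
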