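import Mathlib
import Cfsg.Agent.Lib.H21.BG158d
import Cfsg.Agent.Lib.H20.BGT2

/-!
# BG Theorem 15.8: the nonabelian case, cyclicity of `O_q(H)`, `Z(P)`, `O_{p'}(H)` (helper21)
-/

set_option autoImplicit false
set_option linter.style.haveILetI false
set_option linter.unusedSectionVars false
set_option linter.unusedVariables false
open Cfsg
open Cfsg.Agent.Lib.H16.BG
open Cfsg.Agent.Lib.H7.BG7
open Cfsg.Agent.Lib.H19 (IsPiCard)
open Cfsg.Agent.Lib.H10.BG144 (Cfg)

namespace Cfsg.Agent.Lib.H21.BG158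

universe u
variable {G : Type u} [Group G] [Finite G] {M N K U : Subgroup G} {g x : G} {p : ℕ}

local notation:max "cj(" g ", " X ")" => Subgroup.map (MulEquiv.toMonoidHom (MulAut.conj g)) X

/-- the situation for any element of prime order of `X`. -/
theorem exists_sit_of_mem (hG : IsMinSimpleOddOrder G) (hM : IsCoatom M)
    (hF : fittingHallOf M = sigmaCore M) (hg : g ∉ M) {y : G}
    (hy : y ∈ fittingOf M ⊓ cj(g, fittingOf M)) {r : ℕ} (hr : r.Prime) (hyr : orderOf y = r) :
    ∃ N : Subgroup G, Sit M N g y r := by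
  haveI : Fact r.Prime := ⟨hr⟩
  have hyσ : y ∈ sigmaCore M := inf_le_sigmaCore hG hM hg hy
  obtain ⟨N, hN⟩ := Cfsg.Agent.Lib.H10.BG144.exists_cfg hG hM hyσ hyr
    (not_centralizer_le hG hM hg hy hyr)
  exact ⟨N, hG, hM, hg, hy, hN, hF⟩

/-- commutativity transfers along an injective map. -/
theorem isMulCommutative_map_iff {H : Type*} [Group H] {f : H →* G} (hf : Function.Injective f)
    (S : Subgroup H) : IsMulCommutative ↥(S.map f) ↔ IsMulCommutative ↥S := by
  constructor
  · intro h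
    refine ⟨⟨?_⟩⟩
    rintro ⟨a, ha⟩ ⟨b, hb⟩
    apply Subtype.ext
    have := h.is_comm.comm ⟨f a, Subgroup.mem_map_of_mem f ha⟩ ⟨f b, Subgroup.mem_map_of_mem f hb⟩
    have h2 : f a * f b = f b * f a := congrArg Subtype.val this
    apply hf
    change f (a * b) = f (b * a)
    rw [map_mul, map_mul]; exact h2
  · intro h
    refine ⟨⟨?_⟩⟩
    rintro ⟨a, ha⟩ ⟨b, hb⟩
    apply Subtype.ext
    obtain ⟨a', ha', rfl⟩ := Subgroup.mem_map.1 ha
    obtain ⟨b', hb', rfl⟩ := Subgroup.mem_map.1 hb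
    have := h.is_comm.comm ⟨a', ha'⟩ ⟨b', hb'⟩
    have h2 : a' * b' = b' * a' := congrArg Subtype.val this
    change f a' * f b' = f b' * f a'
    rw [← map_mul, ← map_mul, h2]

theorem isCyclic_map_iff {H : Type*} [Group H] {f : H →* G} (hf : Function.Injective f)
    (S : Subgroup H) : IsCyclic ↥(S.map f) ↔ IsCyclic ↥S := by
  have e : ↥S ≃* ↥(S.map f) := Subgroup.equivMapOfInjective S f hf
  exact ⟨fun h => (MulEquiv.isCyclic e).2 h, fun h => (MulEquiv.isCyclic e).1 h⟩

theorem card_map_of_injective' {H : Type*} [Group H] {f : H →* G} (hf : Function.Injective f)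
    (S : Subgroup H) : Nat.card ↥(S.map f) = Nat.card ↥S :=
  Subgroup.card_map_of_injective hf

namespace Sit

variable (s : Sit M N g x p)
include s

/-- `O_p(H)` is a `p`-group, hence nilpotent. -/
theorem P_nil : Group.IsNilpotent ↥(piCoreOf {p} (sigmaCore M)) := by
  haveI : Fact p.Prime := ⟨s.prime⟩
  exact (isPGroup_piCoreOf_singleton p (sigmaCore M)).isNilpotent

/-- in the nonabelian case `O_p(H) ≰ N`. -/
theorem not_P_le (hP : ¬ IsMulCommutative ↥(piCoreOf {p} (sigmaCore M))) :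
    ¬ piCoreOf {p} (sigmaCore M) ≤ N := by
  intro h
  exact hP (s.abelian_of_le (le_inf ((piCoreOf_le _ _).trans s.sigmaCore_le) h) s.P_nil)

/-- a subgroup of `M ∩ N` centralized by `O_p(H)` that is a `q`-group is cyclic. -/
theorem cyclic_of_centralized (hP : ¬ IsMulCommutative ↥(piCoreOf {p} (sigmaCore M)))
    {q : ℕ} [Fact q.Prime] {Q : Subgroup G} (hQ : IsPGroup q ↥Q) (hQle : Q ≤ M ⊓ N)
    (hc : piCoreOf {p} (sigmaCore M) ≤ Subgroup.centralizer (Q : Set G)) (hQ1 : Q ≠ ⊥) :
    IsCyclic ↥Q := by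
  by_contra hnc
  have hq2 : q ≠ 2 := by
    have hd : q ∣ Nat.card ↥Q := by
      obtain ⟨n, hn⟩ := IsPGroup.iff_card.1 hQ
      rcases Nat.eq_zero_or_pos n with h0 | h0
      · exfalso
        rw [h0, pow_zero] at hn
        exact hQ1 (Subgroup.card_eq_one.1 hn)
      · rw [hn]; exact dvd_pow_self q h0.ne'
    exact prime_ne_two_of_dvd_card s.hG hd
  obtain ⟨B, hBQ, hBe, hBc⟩ := Cfsg.Agent.Lib.H20.BGT.exists_elemAb_sq_of_not_cyclic hq2 hQ hnc
  have hCB := s.centralizer_le_of_elemAb (hBQ.trans hQle) hBe hBc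
  apply s.not_P_le hP
  exact (hc.trans (Subgroup.centralizer_le hBQ)).trans hCB

/-- `O_q(H)` is cyclic for `q ≠ p`. -/
theorem Q_cyclic (hP : ¬ IsMulCommutative ↥(piCoreOf {p} (sigmaCore M)))
    {q : ℕ} (hq : q.Prime) (hqp : q ≠ p) : IsCyclic ↥(piCoreOf {q} (sigmaCore M)) := by
  haveI : Fact q.Prime := ⟨hq⟩
  by_cases h1 : piCoreOf {q} (sigmaCore M) = ⊥
  · rw [h1]; infer_instance
  · refine s.cyclic_of_centralized hP (isPGroup_piCoreOf_singleton q _) (s.Q_le_inf hqp) ?_ h1
    have hd : Disjoint ({p} : Set ℕ) {q} := by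
      rw [Set.disjoint_singleton]; exact fun h => hqp h.symm
    exact piCoreOf_le_centralizer_piCoreOf hd (sigmaCore M)

/-- `Z(P)` lies in `C_{M_σ}(x)`. -/
theorem center_le_cent : piCoreOf {p} (sigmaCore M) ⊓
      Subgroup.centralizer ((piCoreOf {p} (sigmaCore M) : Subgroup G) : Set G) ≤
    sigmaCore M ⊓ Subgroup.centralizer ({x} : Set G) := by
  refine le_inf (inf_le_left.trans (piCoreOf_le _ _)) ?_
  refine inf_le_right.trans (Subgroup.centralizer_le ?_)
  intro z hz
  rw [Set.mem_singleton_iff] at hz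
  rw [hz]; exact s.x_mem_P

/-- `Z(P)` is cyclic. -/
theorem center_cyclic (hP : ¬ IsMulCommutative ↥(piCoreOf {p} (sigmaCore M))) :
    IsCyclic ↥(piCoreOf {p} (sigmaCore M) ⊓
      Subgroup.centralizer ((piCoreOf {p} (sigmaCore M) : Subgroup G) : Set G)) := by
  haveI : Fact p.Prime := ⟨s.prime⟩
  by_cases h1 : piCoreOf {p} (sigmaCore M) ⊓
      Subgroup.centralizer ((piCoreOf {p} (sigmaCore M) : Subgroup G) : Set G) = ⊥
  · rw [h1]; infer_instance
  · refine s.cyclic_of_centralized (q := p) hP ?_ (s.center_le_cent.trans s.cent_le) ?_ h1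
    · exact (isPGroup_piCoreOf_singleton p (sigmaCore M)).to_le inf_le_left
    · intro y hy
      rw [Subgroup.mem_centralizer_iff]
      intro z hz
      exact ((Subgroup.mem_centralizer_iff.1 hz.2) y hy).symm

/-- `O_{p'}(H)` centralizes `x`. -/
theorem C_le_cent : piCoreOf (primesNotDvd p) (sigmaCore M) ≤
    sigmaCore M ⊓ Subgroup.centralizer ({x} : Set G) := by
  refine le_inf (piCoreOf_le _ _) ?_
  have hd : Disjoint (primesNotDvd p) ({p} : Set ℕ) := by
    rw [Set.disjoint_singleton_right]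
    intro h
    exact h.2 dvd_rfl
  have h := piCoreOf_le_centralizer_piCoreOf hd (sigmaCore M)
  intro y hy
  rw [Subgroup.mem_centralizer_singleton_iff]
  exact (Subgroup.mem_centralizer_iff.1 (h hy) x s.x_mem_P).symm

theorem C_abelian : IsMulCommutative ↥(piCoreOf (primesNotDvd p) (sigmaCore M)) :=
  isMulCommutative_of_le s.C_le_cent s.cent_abelian

/-- `O_{p'}(H)` is cyclic. -/
theorem C_cyclic (hP : ¬ IsMulCommutative ↥(piCoreOf {p} (sigmaCore M))) :
    IsCyclic ↥(piCoreOf (primesNotDvd p) (sigmaCore M)) := by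
  haveI : Fact p.Prime := ⟨s.prime⟩
  haveI : Group.IsNilpotent ↥(piCoreOf (primesNotDvd p) (sigmaCore M)) :=
    isNilpotent_of_le s.nil (piCoreOf_le _ _)
  haveI : IsZGroup ↥(piCoreOf (primesNotDvd p) (sigmaCore M)) := by
    refine ⟨fun q hq S => ?_⟩
    haveI : Fact q.Prime := ⟨hq⟩
    have hinj : Function.Injective (piCoreOf (primesNotDvd p) (sigmaCore M)).subtype :=
      Subgroup.subtype_injective _
    rw [← isCyclic_map_iff hinj]
    have hS : IsPGroup q ↥((S : Subgroup _).map (piCoreOf (primesNotDvd p) (sigmaCore M)).subtype) :=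
      S.2.map _
    have hle : (S : Subgroup _).map (piCoreOf (primesNotDvd p) (sigmaCore M)).subtype ≤
        piCoreOf (primesNotDvd p) (sigmaCore M) := Subgroup.map_subtype_le _
    by_cases hqp : q = p
    · subst hqp
      have hcop := card_piCoreOf_primesNotDvd_coprime q (sigmaCore M)
      have h1 : (S : Subgroup _).map (piCoreOf (primesNotDvd q) (sigmaCore M)).subtype = ⊥ := by
        rw [← Subgroup.card_eq_one]
        obtain ⟨n, hn⟩ := IsPGroup.iff_card.1 hS
        rcases Nat.eq_zero_or_pos n with h0 | h0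
        · rw [hn, h0, pow_zero]
        · exfalso
          have hd : q ∣ Nat.card ↥(piCoreOf (primesNotDvd q) (sigmaCore M)) := by
            refine dvd_trans ?_ (Subgroup.card_dvd_of_le hle)
            rw [hn]; exact dvd_pow_self q h0.ne'
          have := Nat.eq_one_of_dvd_coprimes hcop hd dvd_rfl
          exact hq.ne_one this
      rw [h1]; infer_instance
    · have h2 : (S : Subgroup _).map (piCoreOf (primesNotDvd p) (sigmaCore M)).subtype ≤
          piCoreOf {q} (sigmaCore M) :=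
        le_piCoreOf_of_nilpotent s.nil (hle.trans (piCoreOf_le _ _))
          (isPiCard_card_of_isPGroup (Set.mem_singleton q) hS)
      exact isCyclic_of_le' h2 (s.Q_cyclic hP hq hqp)
  infer_instance

end Sit

end Cfsg.Agent.Lib.H21.BG158
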