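import Mathlib
import Cfsg.Agent.Lib.H21.BG158e

/-!
# BG Theorem 15.8: normal subgroups of prime order of `M` inside `H = M_σ` (helper21)
-/

set_option autoImplicit false
set_option linter.style.haveILetI false
set_option linter.unusedSectionVars false
set_option linter.unusedVariables false
open Cfsg
open Cfsg.Agent.Lib.H16.BG
open Cfsg.Agent.Lib.H7.BG7
open Cfsg.Agent.Lib.H19 (IsPiCard)
open Cfsg.Agent.Lib.H10.BG144 (Cfg)

namespace Cfsg.Agent.Lib.H21.BG158

universe u
variable {G : Type u} [Group G] [Finite G] {M N K U : Subgroup G} {g x : G} {p : ℕ}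

local notation:max "cj(" g ", " X ")" => Subgroup.map (MulEquiv.toMonoidHom (MulAut.conj g)) X

/-- in a cyclic subgroup, the elements of order dividing the prime `q` are the powers of any
element of order `q`. -/
theorem mem_zpowers_of_cyclic {Q : Subgroup G} (hQ : IsCyclic ↥Q) {q : ℕ} (hq : q.Prime)
    {y z : G} (hy : y ∈ Q) (hyq : orderOf y = q) (hz : z ∈ Q) (hzq : z ^ q = 1) :
    z ∈ Subgroup.zpowers y := by
  classical
  haveI := hQ
  letI : Fintype ↥Q := Fintype.ofFinite _
  have h1 : (Finset.univ.filter (fun a : ↥Q => a ^ q = 1)).card ≤ q :=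
    IsCyclic.card_pow_eq_one_le hq.pos
  set y' : ↥Q := ⟨y, hy⟩ with hy'
  have hoy : orderOf y' = q := by rw [← hyq, ← Subgroup.orderOf_coe]
  set T : Finset ↥Q := (Finset.range q).image (fun i => y' ^ i) with hT
  have hTc : T.card = q := by
    rw [hT, Finset.card_image_of_injOn, Finset.card_range]
    intro i hi j hj hij
    have hi' : i < orderOf y' := by rw [hoy]; exact Finset.mem_range.1 hi
    have hj' : j < orderOf y' := by rw [hoy]; exact Finset.mem_range.1 hj
    exact pow_injOn_Iio_orderOf hi' hj' hij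
  have hsub : T ⊆ Finset.univ.filter (fun a : ↥Q => a ^ q = 1) := by
    intro a ha
    obtain ⟨i, -, rfl⟩ := Finset.mem_image.1 ha
    rw [Finset.mem_filter]
    refine ⟨Finset.mem_univ _, ?_⟩
    rw [← pow_mul, mul_comm, pow_mul, ← hoy, pow_orderOf_eq_one, one_pow]
  have heq := Finset.eq_of_subset_of_card_le hsub (by rw [hTc]; exact h1)
  have hzF : (⟨z, hz⟩ : ↥Q) ∈ Finset.univ.filter (fun a : ↥Q => a ^ q = 1) := by
    rw [Finset.mem_filter]
    exact ⟨Finset.mem_univ _, Subtype.ext (by rw [Subgroup.coe_pow]; exact hzq)⟩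
  rw [← heq, hT] at hzF
  obtain ⟨i, -, hi⟩ := Finset.mem_image.1 hzF
  have : y ^ i = z := by
    have := congrArg Subtype.val hi
    simpa using this
  rw [← this]
  exact Subgroup.pow_mem _ (Subgroup.mem_zpowers y) i

/-- if `m` normalizes the cyclic subgroup `Q` and `y ∈ Q` has prime order, then `m` normalizes
`⟨y⟩`. -/
theorem conj_mem_zpowers_of_cyclic {Q : Subgroup G} (hQ : IsCyclic ↥Q) {q : ℕ} (hq : q.Prime)
    {y m : G} (hy : y ∈ Q) (hyq : orderOf y = q) (hm : m ∈ Subgroup.normalizer (Q : Set G)) :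
    m * y * m⁻¹ ∈ Subgroup.zpowers y := by
  apply mem_zpowers_of_cyclic hQ hq hy hyq ((Subgroup.mem_normalizer_iff.1 hm y).1 hy)
  rw [conj_pow, ← hyq, pow_orderOf_eq_one]; group

/-- a nontrivial `q`-subgroup contains an element of order `q`. -/
theorem exists_orderOf_eq_of_ne_bot {q : ℕ} [hq : Fact q.Prime] {Q : Subgroup G}
    (hQ : IsPGroup q ↥Q) (hQ1 : Q ≠ ⊥) : ∃ y ∈ Q, orderOf y = q := by
  have hd : q ∣ Nat.card ↥Q := by
    obtain ⟨n, hn⟩ := IsPGroup.iff_card.1 hQ
    rcases Nat.eq_zero_or_pos n with h0 | h0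
    · exfalso
      rw [h0, pow_zero] at hn
      exact hQ1 (Subgroup.card_eq_one.1 hn)
    · rw [hn]; exact dvd_pow_self q h0.ne'
  obtain ⟨y, hy⟩ := exists_prime_orderOf_dvd_card' (G := ↥Q) q hd
  exact ⟨y.1, y.2, by rw [Subgroup.orderOf_coe]; exact hy⟩

namespace Sit

variable (s : Sit M N g x p)
include s

/-- `M` normalizes `O_q(H)`. -/
theorem le_normalizer_Q (π : Set ℕ) :
    M ≤ Subgroup.normalizer ((piCoreOf π (sigmaCore M) : Subgroup G) : Set G) :=
  (Cfsg.Agent.Lib.H20.BGS.le_normalizer_sigmaCore M).trans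
    (normalizer_le_normalizer_piCoreOf π (sigmaCore M))

/-- `O_q(H) ≠ 1` for a prime `q` dividing `|H|`. -/
theorem Q_ne_bot {q : ℕ} [Fact q.Prime] (hd : q ∣ Nat.card ↥(sigmaCore M)) :
    piCoreOf {q} (sigmaCore M) ≠ ⊥ := by
  intro h
  have h1 := (sylIn_piCoreOf s.nil q).card_eq
  rw [h, Subgroup.card_bot] at h1
  have h2 : (Nat.card ↥(sigmaCore M)).factorization q = 0 := by
    by_contra h3
    have : 1 < q ^ (Nat.card ↥(sigmaCore M)).factorization q :=
      Nat.one_lt_pow h3 (Fact.out : q.Prime).one_lt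
    omega
  have h4 := (Nat.factorization_eq_zero_iff _ _).1 h2
  rcases h4 with h4 | h4 | h4
  · exact h4 Fact.out
  · exact h4 hd
  · exact Nat.card_pos.ne' h4

end Sit

end Cfsg.Agent.Lib.H21.BG158
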