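import Mathlib
import Cfsg.Agent.Lib.H21.BG158f
import Cfsg.Agent.Lib.H10.BG36f
import Cfsg.Agent.S1360
import Cfsg.Agent.S1373
import Cfsg.Agent.S1430

/-!
# BG Theorem 15.8: normal subgroups of prime order, the type `F` case, the type `P₁` case
(helper21)
-/

set_option autoImplicit false
set_option linter.style.haveILetI false
set_option linter.unusedSectionVars false
set_option linter.unusedVariables false
open Cfsg
open Cfsg.Agent.Lib.H16.BG
open Cfsg.Agent.Lib.H7.BG7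
open Cfsg.Agent.Lib.H19 (IsPiCard)
open Cfsg.Agent.Lib.H10.BG144 (Cfg)
open scoped commutatorElement

namespace Cfsg.Agent.Lib.H21.BG158

universe u
variable {G : Type u} [Group G] [Finite G] {M N K U : Subgroup G} {g x : G} {p : ℕ}

local notation:max "cj(" g ", " X ")" => Subgroup.map (MulEquiv.toMonoidHom (MulAut.conj g)) X

/-- elements of the join of two elementwise commuting subgroups are products. -/
theorem exists_mul_of_mem_sup_comm {A B : Subgroup G} (hc : ∀ a ∈ A, ∀ b ∈ B, a * b = b * a)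
    {h : G} (hh : h ∈ A ⊔ B) : ∃ a ∈ A, ∃ b ∈ B, h = a * b := by
  rw [Subgroup.sup_eq_closure] at hh
  induction hh using Subgroup.closure_induction with
  | mem z hz =>
    rcases hz with hz | hz
    · exact ⟨z, hz, 1, B.one_mem, (mul_one z).symm⟩
    · exact ⟨1, A.one_mem, z, hz, (one_mul z).symm⟩
  | one => exact ⟨1, A.one_mem, 1, B.one_mem, (mul_one 1).symm⟩
  | mul y z _ _ hy hz =>
    obtain ⟨a, ha, b, hb, rfl⟩ := hy
    obtain ⟨a', ha', b', hb', rfl⟩ := hz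
    refine ⟨a * a', A.mul_mem ha ha', b * b', B.mul_mem hb hb', ?_⟩
    have := hc a' ha' b hb
    calc a * b * (a' * b') = a * (b * a') * b' := by group
      _ = a * (a' * b) * b' := by rw [this]
      _ = a * a' * (b * b') := by group
  | inv y _ hy =>
    obtain ⟨a, ha, b, hb, rfl⟩ := hy
    refine ⟨a⁻¹, A.inv_mem ha, b⁻¹, B.inv_mem hb, ?_⟩
    have := hc a ha b hb
    rw [this, mul_inv_rev]

theorem commutatorElement_mul_left_of_comm {a b h : G} (hbh : b * h = h * b) :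
    ⁅a * b, h⁆ = ⁅a, h⁆ := by
  rw [commutatorElement_def, commutatorElement_def]
  have e : a * b * h * (a * b)⁻¹ * h⁻¹ = a * (b * h) * b⁻¹ * a⁻¹ * h⁻¹ := by group
  rw [e, hbh]; group

theorem commutatorElement_mul_right_of_comm {a b c : G} (hba : b * a = a * b) :
    ⁅a, c * b⁆ = ⁅a, c⁆ := by
  rw [commutatorElement_def, commutatorElement_def]
  have h2 : b * a⁻¹ = a⁻¹ * b := by
    calc b * a⁻¹ = a⁻¹ * (a * b) * a⁻¹ := by group
      _ = a⁻¹ * (b * a) * a⁻¹ := by rw [hba]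
      _ = a⁻¹ * b := by group
  have e : a * (c * b) * a⁻¹ * (c * b)⁻¹ = a * c * (b * a⁻¹) * b⁻¹ * c⁻¹ := by group
  rw [e, h2]; group

namespace Sit

variable (s : Sit M N g x p)
include s

/-- `O_{p'}(H)` (as the core for the complementary set of primes) is central in `H`. -/
theorem compl_central : ∀ c ∈ piCoreOf ({p}ᶜ : Set ℕ) (sigmaCore M), ∀ h ∈ sigmaCore M,
    c * h = h * c := by
  have hd : Disjoint ({p}ᶜ : Set ℕ) ({p} : Set ℕ) := disjoint_compl_left
  have h1 := piCoreOf_le_centralizer_piCoreOf hd (sigmaCore M)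
  have hxc : piCoreOf ({p}ᶜ : Set ℕ) (sigmaCore M) ≤
      sigmaCore M ⊓ Subgroup.centralizer ({x} : Set G) := by
    refine le_inf (piCoreOf_le _ _) ?_
    intro y hy
    rw [Subgroup.mem_centralizer_singleton_iff]
    exact (Subgroup.mem_centralizer_iff.1 (h1 hy) x s.x_mem_P).symm
  have hab : IsMulCommutative ↥(piCoreOf ({p}ᶜ : Set ℕ) (sigmaCore M)) :=
    isMulCommutative_of_le hxc s.cent_abelian
  have hPC : ∀ a ∈ piCoreOf ({p} : Set ℕ) (sigmaCore M),
      ∀ b ∈ piCoreOf ({p}ᶜ : Set ℕ) (sigmaCore M), a * b = b * a := by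
    intro a ha b hb
    exact Subgroup.mem_centralizer_iff.1 (h1 hb) a ha
  intro c hc h hh
  have hsup := piCoreOf_sup_compl s.nil ({p} : Set ℕ)
  rw [← hsup] at hh
  obtain ⟨a, ha, b, hb, rfl⟩ := exists_mul_of_mem_sup_comm hPC hh
  have e1 : c * a = a * c := (hPC a ha c hc).symm
  have e2 : c * b = b * c := congrArg Subtype.val (hab.is_comm.comm ⟨c, hc⟩ ⟨b, hb⟩)
  calc c * (a * b) = (c * a) * b := by group
    _ = a * (c * b) := by rw [e1]; group
    _ = a * b * c := by rw [e2]; group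

/-- `[H, H] ≤ O_p(H)`. -/
theorem commutator_le_P :
    ⁅sigmaCore M, sigmaCore M⁆ ≤ piCoreOf {p} (sigmaCore M) := by
  have hd : Disjoint ({p}ᶜ : Set ℕ) ({p} : Set ℕ) := disjoint_compl_left
  have h1 := piCoreOf_le_centralizer_piCoreOf hd (sigmaCore M)
  have hPC : ∀ a ∈ piCoreOf ({p} : Set ℕ) (sigmaCore M),
      ∀ b ∈ piCoreOf ({p}ᶜ : Set ℕ) (sigmaCore M), a * b = b * a := by
    intro a ha b hb
    exact Subgroup.mem_centralizer_iff.1 (h1 hb) a ha
  have hsup := piCoreOf_sup_compl s.nil ({p} : Set ℕ)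
  rw [Subgroup.commutator_le]
  intro h₁ hh₁ h₂ hh₂
  have hh₁' := hh₁
  have hh₂' := hh₂
  rw [← hsup] at hh₁' hh₂'
  obtain ⟨a₁, ha₁, c₁, hc₁, rfl⟩ := exists_mul_of_mem_sup_comm hPC hh₁'
  obtain ⟨a₂, ha₂, c₂, hc₂, rfl⟩ := exists_mul_of_mem_sup_comm hPC hh₂'
  rw [commutatorElement_mul_left_of_comm (s.compl_central c₁ hc₁ _ hh₂),
    commutatorElement_mul_right_of_comm (s.compl_central c₂ hc₂ a₁ (piCoreOf_le _ _ ha₁))]
  rw [commutatorElement_def]
  exact Subgroup.mul_mem _ (Subgroup.mul_mem _ (Subgroup.mul_mem _ ha₁ ha₂)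
    (Subgroup.inv_mem _ ha₁)) (Subgroup.inv_mem _ ha₂)

/-- a normal subgroup of prime order `q` of `M` inside `O_q(H)`, for every prime `q ∣ |H|`. -/
theorem exists_normal_prime (hP : ¬ IsMulCommutative ↥(piCoreOf {p} (sigmaCore M)))
    {q : ℕ} (hq : q.Prime) (hd : q ∣ Nat.card ↥(sigmaCore M)) :
    ∃ y ∈ piCoreOf {q} (sigmaCore M), orderOf y = q ∧
      ∀ m ∈ M, m * y * m⁻¹ ∈ Subgroup.zpowers y := by
  haveI : Fact q.Prime := ⟨hq⟩
  have hQp := isPGroup_piCoreOf_singleton q (sigmaCore M)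
  by_cases hqp : q = p
  · subst hqp
    have hZ1 := Cfsg.Agent.Lib.H10.BG36.inf_centralizer_ne_bot_of_isPGroup hQp hQp
      (s.Q_ne_bot hd) Subgroup.le_normalizer
    obtain ⟨y, hy, hyq⟩ := exists_orderOf_eq_of_ne_bot (hQp.to_le inf_le_left) hZ1
    refine ⟨y, hy.1, hyq, fun m hm =>
      conj_mem_zpowers_of_cyclic (s.center_cyclic hP) hq hy hyq ?_⟩
    exact normalizer_le_normalizer_inf_centralizer _ (s.le_normalizer_Q {q} hm)
  · obtain ⟨y, hy, hyq⟩ := exists_orderOf_eq_of_ne_bot hQp (s.Q_ne_bot hd)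
    exact ⟨y, hy, hyq, fun m hm =>
      conj_mem_zpowers_of_cyclic (s.Q_cyclic hP hq hqp) hq hy hyq (s.le_normalizer_Q {q} hm)⟩

/-- type `F`: the exponent of `U` divides `q - 1`. -/
theorem pow_pred_of_typeF (hKU : IsSigmaDecomposition M K U)
    (hP : ¬ IsMulCommutative ↥(piCoreOf {p} (sigmaCore M)))
    {q : ℕ} (hq : q.Prime) (hd : q ∣ Nat.card ↥(sigmaCore M)) : ∀ u ∈ U, u ^ (q - 1) = 1 := by
  obtain ⟨U₀, hU₀, hexp, hreg⟩ := Cfsg.Agent.S1360.result s.hG M s.hM K U hKU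
  obtain ⟨y, hy, hyq, hnorm⟩ := s.exists_normal_prime hP hq hd
  have hy1 : y ≠ 1 := by
    rintro rfl
    rw [orderOf_one] at hyq
    exact hq.one_lt.ne hyq
  have hyH : y ∈ sigmaCore M := piCoreOf_le _ _ hy
  have hUM : U ≤ M := hKU.compl.1
  have h1 : ∀ u ∈ U₀, u ^ (q - 1) = 1 := by
    intro u hu
    apply hreg _ (U₀.pow_mem hu _)
    exact ⟨M.pow_mem (hUM (hU₀ hu)) _, y, hyH, hy1,
      pow_pred_comm hq hyq (hnorm u (hUM (hU₀ hu)))⟩
  have h2 : Monoid.exponent ↥U₀ ∣ q - 1 := by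
    apply Monoid.exponent_dvd_of_forall_pow_eq_one
    intro u
    apply Subtype.ext
    rw [Subgroup.coe_pow]
    exact h1 u.1 u.2
  rw [hexp] at h2
  intro u hu
  have h3 := Monoid.pow_exponent_eq_one (⟨u, hu⟩ : ↥U)
  obtain ⟨c, hc⟩ := h2
  have h4 : (⟨u, hu⟩ : ↥U) ^ (q - 1) = 1 := by
    rw [hc, pow_mul, h3, one_pow]
  have := congrArg Subtype.val h4
  simpa using this

/-- **BG 15.8(e)(2)** for type `F`. -/
theorem exponent_typeF (hKU : IsSigmaDecomposition M K U) (hK : K = ⊥)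
    (hP : ¬ IsMulCommutative ↥(piCoreOf {p} (sigmaCore M)))
    {q : ℕ} (hq : q.Prime) (hd : q ∣ Nat.card ↥(sigmaCore M)) :
    Monoid.exponent (↥M ⧸ fittingHall ↥M) ∣ q - 1 := by
  apply exponent_quot_dvd
  rw [s.hF]
  have hc := Cfsg.Agent.Lib.H20.BGZ.isComplIn_sup s.hG s.hM hKU
  apply pow_mem_of_compl hc (Cfsg.Agent.Lib.H20.BGS.le_normalizer_sigmaCore M)
  intro a ha
  rw [hK, bot_sup_eq] at ha
  exact s.pow_pred_of_typeF hKU hP hq hd a ha

end Sit

end Cfsg.Agent.Lib.H21.BG158
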