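import Mathlib
import Cfsg.Agent.Lib.H21.BG158g
import Cfsg.Agent.Lib.H8.BG12b

/-!
# BG Theorem 15.8: the type `P₁` case and `|X| = p` (helper21)
-/

set_option autoImplicit false
set_option linter.style.haveILetI false
set_option linter.unusedSectionVars false
set_option linter.unusedVariables false
open Cfsg
open Cfsg.Agent.Lib.H16.BG
open Cfsg.Agent.Lib.H7.BG7
open Cfsg.Agent.Lib.H19 (IsPiCard)
open Cfsg.Agent.Lib.H10.BG144 (Cfg)
open scoped commutatorElement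

namespace Cfsg.Agent.Lib.H21.BG158

universe u
variable {G : Type u} [Group G] [Finite G] {M N K U : Subgroup G} {g x : G} {p : ℕ}

local notation:max "cj(" g ", " X ")" => Subgroup.map (MulEquiv.toMonoidHom (MulAut.conj g)) X

namespace Sit

variable (s : Sit M N g x p)
include s

/-- `K* = C_H(K) ≤ O_p(H)` for type `P₁`. -/
theorem Kstar_le_P (hKU : IsSigmaDecomposition M K ⊥) :
    sigmaCore M ⊓ Subgroup.centralizer (K : Set G) ≤ piCoreOf {p} (sigmaCore M) := by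
  have hE := Cfsg.Agent.Lib.H7.BG1366.compl_of_bot s.hG s.hM hKU
  exact (Cfsg.Agent.S1426.result s.hG M s.hM K hE).1.trans s.commutator_le_P

/-- `|K*| = p`. -/
theorem Kstar_card (hKU : IsSigmaDecomposition M K ⊥) (hK1 : K ≠ ⊥) :
    Nat.card ↥(sigmaCore M ⊓ Subgroup.centralizer (K : Set G)) = p := by
  haveI : Fact p.Prime := ⟨s.prime⟩
  have h1 := Cfsg.Agent.S1373.result s.hG M s.hM K ⊥ hKU hK1 rfl
  have h2 : IsPGroup p ↥(sigmaCore M ⊓ Subgroup.centralizer (K : Set G)) :=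
    (isPGroup_piCoreOf_singleton p (sigmaCore M)).to_le (s.Kstar_le_P hKU)
  obtain ⟨n, hn⟩ := IsPGroup.iff_card.1 h2
  rw [hn] at h1 ⊢
  have := h1.eq_one_of_pow
  rw [this, pow_one]

/-- `C_P(k) = K*` for `k ∈ K#`. -/
theorem P_inf_centralizer (hKU : IsSigmaDecomposition M K ⊥) (hK1 : K ≠ ⊥) {k : G}
    (hk : k ∈ K) (hk1 : k ≠ 1) :
    piCoreOf {p} (sigmaCore M) ⊓ Subgroup.centralizer ({k} : Set G) =
      sigmaCore M ⊓ Subgroup.centralizer (K : Set G) := by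
  have h1 := (Cfsg.Agent.S1430.result s.hG M s.hM K hKU.hall hK1).1 k hk hk1
  apply le_antisymm
  · rw [← h1]
    exact inf_le_inf_right _ (piCoreOf_le _ _)
  · refine le_inf (s.Kstar_le_P hKU) ?_
    rw [← h1]; exact inf_le_right

/-- type `P₁`: `k ^ (q - 1) = 1` for `k ∈ K` and primes `q ≠ p` dividing `|H|`. -/
theorem pow_pred_of_P1 (hKU : IsSigmaDecomposition M K ⊥) (hK1 : K ≠ ⊥)
    (hP : ¬ IsMulCommutative ↥(piCoreOf {p} (sigmaCore M)))
    {q : ℕ} (hq : q.Prime) (hqp : q ≠ p) (hd : q ∣ Nat.card ↥(sigmaCore M)) :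
    ∀ k ∈ K, k ^ (q - 1) = 1 := by
  obtain ⟨y, hy, hyq, hnorm⟩ := s.exists_normal_prime hP hq hd
  have hy1 : y ≠ 1 := by
    rintro rfl
    rw [orderOf_one] at hyq
    exact hq.one_lt.ne hyq
  have hKM : K ≤ M := hKU.hall.1
  intro k hk
  by_contra hk1
  have h1 := (Cfsg.Agent.S1430.result s.hG M s.hM K hKU.hall hK1).1 _ (K.pow_mem hk (q - 1)) hk1
  have hcomm := pow_pred_comm hq hyq (hnorm k (hKM hk))
  have hyK : y ∈ sigmaCore M ⊓ Subgroup.centralizer (K : Set G) := by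
    rw [← h1]
    refine ⟨piCoreOf_le _ _ hy, ?_⟩
    exact Subgroup.mem_centralizer_singleton_iff.2 hcomm.symm
  have hyP := s.Kstar_le_P hKU hyK
  have hdis : Disjoint ({q} : Set ℕ) {p} := by
    rw [Set.disjoint_singleton]; exact hqp
  have hbot := piCoreOf_inf_piCoreOf_eq_bot hdis (sigmaCore M) (sigmaCore M)
  have : y ∈ piCoreOf {q} (sigmaCore M) ⊓ piCoreOf {p} (sigmaCore M) := ⟨hy, hyP⟩
  rw [hbot, Subgroup.mem_bot] at this
  exact hy1 this

/-- **BG 15.8(e)(2),(3)** for type `P₁`, modulo the exceptional `p`-group lemma. -/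
theorem case_P1 (hKU : IsSigmaDecomposition M K ⊥) (hK1 : K ≠ ⊥)
    (hP : ¬ IsMulCommutative ↥(piCoreOf {p} (sigmaCore M)))
    (hB2 : ¬ Nat.card ↥K ∣ p - 1 →
      Nat.card ↥(piCoreOf {p} (sigmaCore M)) = p ^ 3 ∧ Nat.card ↥K ∣ p + 1) :
    (∀ q : ℕ, q.Prime → q ∣ Nat.card ↥(sigmaCore M) →
        Monoid.exponent (↥M ⧸ fittingHall ↥M) ∣ q - 1) ∨
      (Nat.card ↥(piCoreOf {p} (sigmaCore M)) = p ^ 3 ∧
        (fittingHallOf M).relIndex M ∣ p + 1) := by
  have hE := Cfsg.Agent.Lib.H7.BG1366.compl_of_bot s.hG s.hM hKU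
  by_cases h : Nat.card ↥K ∣ p - 1
  · left
    intro q hq hd
    apply exponent_quot_dvd
    rw [s.hF]
    apply pow_mem_of_compl hE (Cfsg.Agent.Lib.H20.BGS.le_normalizer_sigmaCore M)
    by_cases hqp : q = p
    · subst hqp
      intro k hk
      obtain ⟨c, hc⟩ := h
      have h3 : (⟨k, hk⟩ : ↥K) ^ Nat.card ↥K = 1 := pow_card_eq_one'
      have h4 : (⟨k, hk⟩ : ↥K) ^ (q - 1) = 1 := by
        rw [hc, pow_mul, h3, one_pow]
      have := congrArg Subtype.val h4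
      simpa using this
    · exact s.pow_pred_of_P1 hKU hK1 hP hq hqp hd
  · right
    obtain ⟨h1, h2⟩ := hB2 h
    refine ⟨h1, ?_⟩
    rw [s.hF, ← Cfsg.Agent.Lib.H8.BG12.compl_card_eq_relIndex hE]
    exact h2

end Sit

end Cfsg.Agent.Lib.H21.BG158
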