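import Mathlib
import Cfsg.Agent.Lib.H21.BG158h

/-!
# BG Theorem 15.8: `|X| = p` in the nonabelian case (helper21)
-/

set_option autoImplicit false
set_option linter.style.haveILetI false
set_option linter.unusedSectionVars false
set_option linter.unusedVariables false
open Cfsg
open Cfsg.Agent.Lib.H16.BG
open Cfsg.Agent.Lib.H7.BG7
open Cfsg.Agent.Lib.H19 (IsPiCard)
open Cfsg.Agent.Lib.H10.BG144 (Cfg)
open scoped commutatorElement

namespace Cfsg.Agent.Lib.H21.BG158

universe u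
variable {G : Type u} [Group G] [Finite G] {M N K U : Subgroup G} {g x : G} {p : ℕ}

local notation:max "cj(" g ", " X ")" => Subgroup.map (MulEquiv.toMonoidHom (MulAut.conj g)) X

namespace Sit

variable (s : Sit M N g x p)
include s

/-- in the nonabelian case `X` is a `p`-group. -/
theorem prime_dvd_card_X (hP : ¬ IsMulCommutative ↥(piCoreOf {p} (sigmaCore M)))
    {r : ℕ} (hr : r.Prime) (hd : r ∣ Nat.card ↥(fittingOf M ⊓ cj(g, fittingOf M))) : r = p := by
  by_contra hrp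
  haveI : Fact r.Prime := ⟨hr⟩
  obtain ⟨y, hy⟩ := exists_prime_orderOf_dvd_card' (G := ↥(fittingOf M ⊓ cj(g, fittingOf M))) r hd
  have hy' : orderOf (y : G) = r := by rw [Subgroup.orderOf_coe]; exact hy
  obtain ⟨N', s'⟩ := exists_sit_of_mem s.hG s.hM s.hF s.hg y.2 hr hy'
  exact hP (s'.Q_abelian (q := p) (fun h => hrp h.symm))

/-- in the nonabelian case `|X| = p`, given that `x` is not a proper `p`-th power in `P`. -/
theorem card_X (hP : ¬ IsMulCommutative ↥(piCoreOf {p} (sigmaCore M)))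
    (hB1 : ∀ w ∈ piCoreOf {p} (sigmaCore M), w ^ p ∈ Subgroup.zpowers x → w ^ p = 1) :
    Nat.card ↥(fittingOf M ⊓ cj(g, fittingOf M)) = p := by
  haveI : Fact p.Prime := ⟨s.prime⟩
  have hXc : IsCyclic ↥(fittingOf M ⊓ cj(g, fittingOf M)) := isCyclic_inf s.hG s.hM s.hg
  have hXH : fittingOf M ⊓ cj(g, fittingOf M) ≤ sigmaCore M := inf_le_sigmaCore s.hG s.hM s.hg
  have hn := Nat.eq_prime_pow_of_unique_prime_dvd
    (n := Nat.card ↥(fittingOf M ⊓ cj(g, fittingOf M))) (p := p) Nat.card_pos.ne'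
    (fun {d} hd hdn => s.prime_dvd_card_X hP hd hdn)
  set k := (Nat.card ↥(fittingOf M ⊓ cj(g, fittingOf M))).primeFactorsList.length with hk
  have hXp : IsPGroup p ↥(fittingOf M ⊓ cj(g, fittingOf M)) := IsPGroup.of_card hn
  have hXP : fittingOf M ⊓ cj(g, fittingOf M) ≤ piCoreOf {p} (sigmaCore M) :=
    le_piCoreOf_of_nilpotent s.nil hXH (isPiCard_card_of_isPGroup (Set.mem_singleton p) hXp)
  have hk1 : 1 ≤ k := by
    rcases Nat.eq_zero_or_pos k with h0 | h0
    · exfalso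
      rw [h0, pow_zero] at hn
      have hbot := Subgroup.card_eq_one.1 hn
      have := s.hx
      rw [hbot, Subgroup.mem_bot] at this
      exact s.x_ne_one this
    · exact h0
  by_contra hne
  have hk2 : 2 ≤ k := by
    rcases Nat.lt_or_ge k 2 with h | h
    · exfalso
      have : k = 1 := by omega
      rw [this, pow_one] at hn
      exact hne hn
    · exact h
  haveI := hXc
  obtain ⟨w₀, hw₀⟩ := IsCyclic.exists_ofOrder_eq_natCard (α := ↥(fittingOf M ⊓ cj(g, fittingOf M)))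
  rw [hn] at hw₀
  have hw₀' : orderOf (w₀ : G) = p ^ k := by rw [Subgroup.orderOf_coe]; exact hw₀
  have hwX : (w₀ : G) ^ (p ^ (k - 2)) ∈ fittingOf M ⊓ cj(g, fittingOf M) :=
    Subgroup.pow_mem _ w₀.2 _
  have hpow : ((w₀ : G) ^ (p ^ (k - 2))) ^ p = (w₀ : G) ^ (p ^ (k - 1)) := by
    rw [← pow_mul, ← pow_succ]
    congr 2
    omega
  have hz1 : (w₀ : G) ^ (p ^ (k - 1)) ≠ 1 := by
    apply pow_ne_one_of_lt_orderOf (pow_pos s.prime.pos _).ne'
    rw [hw₀']
    exact Nat.pow_lt_pow_right s.prime.one_lt (by omega)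
  have hzp : ((w₀ : G) ^ (p ^ (k - 1))) ^ p = 1 := by
    rw [← pow_mul, ← pow_succ]
    have : k - 1 + 1 = k := by omega
    rw [this, ← hw₀', pow_orderOf_eq_one]
  have hzX : (w₀ : G) ^ (p ^ (k - 1)) ∈ fittingOf M ⊓ cj(g, fittingOf M) :=
    Subgroup.pow_mem _ w₀.2 _
  have hmem := mem_zpowers_of_cyclic hXc s.prime s.hx s.ord hzX hzp
  have := hB1 _ (hXP hwX) (by rw [hpow]; exact hmem)
  rw [hpow] at this
  exact hz1 this

end Sit

end Cfsg.Agent.Lib.H21.BG158
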