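import Mathlib
import Cfsg.Agent.Lib.H21.BG158i
import Cfsg.Agent.Lib.H16.BG11a

/-!
# BG Theorem 15.8 in BG's form, modulo two pure `p`-group lemmas (helper21)

`thm_15_8_of` is the frozen statement S1440 with `⁅M, M⁆ = F(M)` weakened to `⁅M, M⁆ ≤ F(M)` (this is
what Bender–Glauberman prove), together with 15.8(a): `M_F = M_σ` and `M` is not of type `P₂`.
The two hypotheses `HypB1`, `HypB2` are statements about a nonabelian Sylow `p`-subgroup of `G`.
-/

set_option autoImplicit false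
set_option linter.style.haveILetI false
set_option linter.unusedSectionVars false
set_option linter.unusedVariables false
open Cfsg
open Cfsg.Agent.Lib.H16.BG
open Cfsg.Agent.Lib.H7.BG7
open Cfsg.Agent.Lib.H19 (IsPiCard)
open Cfsg.Agent.Lib.H10.BG144 (Cfg)
open scoped commutatorElement

namespace Cfsg.Agent.Lib.H21.BG158

universe u
variable {G : Type u} [Group G] [Finite G] {M N K U : Subgroup G} {g x : G} {p : ℕ}

local notation:max "cj(" g ", " X ")" => Subgroup.map (MulEquiv.toMonoidHom (MulAut.conj g)) X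

/-- (B1): in a nonabelian Sylow `p`-subgroup `P` with `C_P(x)` abelian of rank at most two, `x` of
order `p`, no nontrivial power of `x` is a `p`-th power. -/
def HypB1 (G : Type u) [Group G] : Prop :=
  IsMinSimpleOddOrder G → ∀ (p : ℕ) (P : Subgroup G) (x : G), p.Prime → SylIn p P ⊤ → ¬ IsMulCommutative ↥P →
    x ∈ P → orderOf x = p →
    IsMulCommutative ↥(P ⊓ Subgroup.centralizer ({x} : Set G)) →
    PRankLE p 2 ↥(P ⊓ Subgroup.centralizer ({x} : Set G)) →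
    ∀ w ∈ P, w ^ p ∈ Subgroup.zpowers x → w ^ p = 1

/-- (B2): a cyclic `p'`-group `K` acting on the nonabelian Sylow `p`-subgroup `P` with
`C_P(k) = Z₀` of order `p` for all `k ∈ K#`, and `|K| ∤ p - 1`: then `|P| = p³` and `|K| ∣ p + 1`. -/
def HypB2 (G : Type u) [Group G] : Prop :=
  IsMinSimpleOddOrder G → ∀ (p : ℕ) (P K Z₀ : Subgroup G), p.Prime → SylIn p P ⊤ → ¬ IsMulCommutative ↥P →
    IsCyclic ↥K → (Nat.card ↥K).Coprime p → K ≤ Subgroup.normalizer (P : Set G) →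
    Z₀ ≤ P → Nat.card ↥Z₀ = p →
    (∀ k ∈ K, k ≠ 1 → P ⊓ Subgroup.centralizer ({k} : Set G) = Z₀) →
    ¬ Nat.card ↥K ∣ p - 1 → Nat.card ↥P = p ^ 3 ∧ Nat.card ↥K ∣ p + 1

namespace Sit

variable (s : Sit M N g x p)
include s

theorem sylIn_P_top : SylIn p (piCoreOf {p} (sigmaCore M)) ⊤ := by
  haveI : Fact p.Prime := ⟨s.prime⟩
  exact sigma_sylIn_top s.mem_sigma (s.sylIn_Q s.mem_sigma)

theorem P_inf_cent_le : piCoreOf {p} (sigmaCore M) ⊓ Subgroup.centralizer ({x} : Set G) ≤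
    sigmaCore M ⊓ Subgroup.centralizer ({x} : Set G) :=
  inf_le_inf_right _ (piCoreOf_le _ _)

theorem hB1_of (hB1 : HypB1 G) (hP : ¬ IsMulCommutative ↥(piCoreOf {p} (sigmaCore M))) :
    ∀ w ∈ piCoreOf {p} (sigmaCore M), w ^ p ∈ Subgroup.zpowers x → w ^ p = 1 :=
  hB1 s.hG p _ x s.prime s.sylIn_P_top hP s.x_mem_P s.ord
    (isMulCommutative_of_le s.P_inf_cent_le s.cent_abelian)
    (s.rank_of_le (s.P_inf_cent_le.trans s.cent_le) s.prime)

theorem card_K_coprime (hKU : IsSigmaDecomposition M K U) : (Nat.card ↥K).Coprime p := by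
  apply Nat.coprime_of_dvd
  intro r hr hrK hrp
  have h1 : r ∈ kappa M := hKU.hall.2.1 r hr hrK
  have h2 : r = p := (Nat.prime_dvd_prime_iff_eq hr s.prime).1 hrp
  rw [h2] at h1
  exact h1.2.2.1 s.mem_sigma

theorem hB2_of (hB2 : HypB2 G) (hKU : IsSigmaDecomposition M K ⊥) (hK1 : K ≠ ⊥)
    (hP : ¬ IsMulCommutative ↥(piCoreOf {p} (sigmaCore M))) :
    ¬ Nat.card ↥K ∣ p - 1 →
      Nat.card ↥(piCoreOf {p} (sigmaCore M)) = p ^ 3 ∧ Nat.card ↥K ∣ p + 1 :=
  hB2 s.hG p _ K (sigmaCore M ⊓ Subgroup.centralizer (K : Set G)) s.prime s.sylIn_P_top hP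
    hKU.cyclic (s.card_K_coprime hKU) (hKU.hall.1.trans (s.le_normalizer_Q {p}))
    (s.Kstar_le_P hKU) (s.Kstar_card hKU hK1)
    (fun k hk hk1 => s.P_inf_centralizer hKU hK1 hk hk1)

end Sit

/-- the statement of BG Theorem 15.8 (frozen S1440 with `⁅M, M⁆ ≤ F(M)`), plus 15.8(a). -/
def Concl158 (M K U : Subgroup G) (g : G) : Prop :=
  (fittingHallOf M = sigmaCore M ∧ (K = ⊥ ∨ U = ⊥)) ∧
  (fittingOf M ⊓ cj(g, fittingOf M) ≤ fittingHallOf M ∧
    IsCyclic ↥(fittingOf M ⊓ cj(g, fittingOf M))) ∧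
  (⁅M, M⁆ ≤ fittingOf M ∧
    fittingOf M = sigmaCore M ⊔ piCoreOf {q | q.Prime ∧ q ∉ sigma M} (fittingOf M)) ∧
  ((K = ⊥ ∧ IsMulCommutative ↥(fittingHallOf M) ∧ RankLE 2 ↥(fittingHallOf M) ∧
      ¬ RankLE 1 ↥(fittingHallOf M)) ∨
   (∃ p : ℕ, p.Prime ∧ Nat.card ↥(fittingOf M ⊓ cj(g, fittingOf M)) = p ∧ p ∈ sigma M ∧
      p ∉ beta M ∧ ¬ IsMulCommutative ↥(pCore p ↥(fittingHallOf M)) ∧
      IsCyclic ↥(pPrimeCore p ↥(fittingHallOf M)) ∧
      ∀ q : ℕ, q.Prime → q ∣ Nat.card ↥(fittingHallOf M) →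
        Monoid.exponent (↥M ⧸ fittingHall ↥M) ∣ q - 1) ∨
   (∃ p : ℕ, p.Prime ∧ Nat.card ↥(fittingOf M ⊓ cj(g, fittingOf M)) = p ∧ p ∈ sigma M ∧
      p ∉ beta M ∧ IsCyclic ↥(pPrimeCore p ↥(fittingHallOf M)) ∧
      Nat.card ↥(pCore p ↥(fittingHallOf M)) = p ^ 3 ∧
      ¬ IsMulCommutative ↥(pCore p ↥(fittingHallOf M)) ∧ K ≠ ⊥ ∧ U = ⊥ ∧
      (fittingHallOf M).relIndex M ∣ p + 1))

/-- **BG Theorem 15.8**, modulo the two `p`-group lemmas. -/
theorem thm_15_8_of (hB1 : HypB1 G) (hB2 : HypB2 G) (hG : IsMinSimpleOddOrder G)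
    (hM : IsCoatom M) (hKU : IsSigmaDecomposition M K U) (hg : g ∉ M)
    (hX : fittingOf M ⊓ cj(g, fittingOf M) ≠ ⊥) : Concl158 M K U g := by
  obtain ⟨hKUbot, hF⟩ := part_a hG hM hKU hg hX
  obtain ⟨N, x, p, s⟩ := exists_sit hG hM hKU hg hX
  haveI : Fact p.Prime := ⟨s.prime⟩
  refine ⟨⟨hF, hKUbot⟩, ⟨?_, isCyclic_inf hG hM hg⟩,
    ⟨s.commutator_le_fittingOf, s.fittingOf_eq⟩, ?_⟩
  · rw [hF]; exact inf_le_sigmaCore hG hM hg
  rw [hF]
  have hinj : Function.Injective (sigmaCore M).subtype := Subgroup.subtype_injective _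
  by_cases hP : IsMulCommutative ↥(piCoreOf {p} (sigmaCore M))
  · left
    exact s.case_abelian hKU hP
  · right
    have hcard := s.card_X hP (s.hB1_of hB1 hP)
    have hPc : ¬ IsMulCommutative ↥(pCore p ↥(sigmaCore M)) := by
      rw [← isMulCommutative_map_iff hinj, ← piCoreOf_singleton_eq]
      exact hP
    have hCc : IsCyclic ↥(pPrimeCore p ↥(sigmaCore M)) := by
      rw [← isCyclic_map_iff hinj, ← piCoreOf_primesNotDvd_eq]
      exact s.C_cyclic hP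
    by_cases hK : K = ⊥
    · left
      exact ⟨p, s.prime, hcard, s.mem_sigma, s.not_mem_beta, hPc, hCc,
        fun q hq hd => s.exponent_typeF hKU hK hP hq hd⟩
    · have hU : U = ⊥ := by
        rcases hKUbot with h | h
        · exact absurd h hK
        · exact h
      subst hU
      rcases s.case_P1 hKU hK hP (s.hB2_of hB2 hKU hK hP) with h | h
      · left
        exact ⟨p, s.prime, hcard, s.mem_sigma, s.not_mem_beta, hPc, hCc, h⟩
      · right
        refine ⟨p, s.prime, hcard, s.mem_sigma, s.not_mem_beta, hCc, ?_, hPc, hK, rfl, ?_⟩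
        · rw [← card_map_of_injective' hinj, ← piCoreOf_singleton_eq]
          exact h.1
        · have := h.2
          rwa [hF] at this

end Cfsg.Agent.Lib.H21.BG158
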