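import Mathlib
import Cfsg.Agent.Lib.H21.BG158j
import Cfsg.Agent.Lib.H10.BG158c

/-!
# BG Theorem 15.8 in BG's form (helper21, with helper10's `p`-group lemmas)

`thm_15_8` is the frozen statement S1440 with `⁅M, M⁆ = F(M)` weakened to `⁅M, M⁆ ≤ F(M)`,
together with 15.8(a).
-/

set_option autoImplicit false
set_option linter.style.haveILetI false
set_option linter.unusedSectionVars false
set_option linter.unusedVariables false
open Cfsg
open Cfsg.Agent.Lib.H16.BG
open Cfsg.Agent.Lib.H7.BG7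
open Cfsg.Agent.Lib.H19 (IsPiCard)
open Cfsg.Agent.Lib.H10.BG144 (Cfg)
open scoped commutatorElement

namespace Cfsg.Agent.Lib.H21.BG158

universe u
variable {G : Type u} [Group G] [Finite G] {M N K U : Subgroup G} {g x : G} {p : ℕ}

local notation:max "cj(" g ", " X ")" => Subgroup.map (MulEquiv.toMonoidHom (MulAut.conj g)) X

theorem hypB1 : HypB1 G := by
  intro hG p P x hp hS hnab hxP hxo hab hrk
  haveI : Fact p.Prime := ⟨hp⟩
  obtain ⟨S, rfl⟩ := hS.exists_sylow_top
  exact Cfsg.Agent.Lib.H10.BG158.not_pow hG p S hnab hxP hxo hab hrk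

namespace Sit

variable (s : Sit M N g x p)
include s

theorem hB2 (hKU : IsSigmaDecomposition M K ⊥) (hK1 : K ≠ ⊥)
    (hP : ¬ IsMulCommutative ↥(piCoreOf {p} (sigmaCore M))) :
    ¬ Nat.card ↥K ∣ p - 1 →
      Nat.card ↥(piCoreOf {p} (sigmaCore M)) = p ^ 3 ∧ Nat.card ↥K ∣ p + 1 := by
  haveI : Fact p.Prime := ⟨s.prime⟩
  obtain ⟨S, hS⟩ := s.sylIn_P_top.exists_sylow_top
  intro hnd
  have hab : IsMulCommutative ↥(piCoreOf {p} (sigmaCore M) ⊓ Subgroup.centralizer ({x} : Set G)) :=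
    isMulCommutative_of_le s.P_inf_cent_le s.cent_abelian
  have hrk : PRankLE p 2 ↥(piCoreOf {p} (sigmaCore M) ⊓ Subgroup.centralizer ({x} : Set G)) :=
    s.rank_of_le (s.P_inf_cent_le.trans s.cent_le) s.prime
  have hKP : K ≤ Subgroup.normalizer ((piCoreOf {p} (sigmaCore M) : Subgroup G) : Set G) :=
    hKU.hall.1.trans (s.le_normalizer_Q {p})
  have hx := s.x_mem_P
  have hZ := s.Kstar_le_P hKU
  have hfix := fun k hk hk1 => s.P_inf_centralizer hKU hK1 (k := k) hk hk1
  rw [← hS] at hP hab hrk hKP hx hZ hfix ⊢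
  exact Cfsg.Agent.Lib.H10.BG158.exceptional s.hG p S hP hx s.ord hab hrk hKU.cyclic
    (s.card_K_coprime hKU) hKP hZ (s.Kstar_card hKU hK1) hfix hnd

end Sit

/-- **BG Theorem 15.8** (the frozen statement S1440 with `⁅M, M⁆ ≤ F(M)`), plus 15.8(a). -/
theorem thm_15_8 (hG : IsMinSimpleOddOrder G)
    (hM : IsCoatom M) (hKU : IsSigmaDecomposition M K U) (hg : g ∉ M)
    (hX : fittingOf M ⊓ cj(g, fittingOf M) ≠ ⊥) : Concl158 M K U g := by
  obtain ⟨hKUbot, hF⟩ := part_a hG hM hKU hg hX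
  obtain ⟨N, x, p, s⟩ := exists_sit hG hM hKU hg hX
  haveI : Fact p.Prime := ⟨s.prime⟩
  refine ⟨⟨hF, hKUbot⟩, ⟨?_, isCyclic_inf hG hM hg⟩,
    ⟨s.commutator_le_fittingOf, s.fittingOf_eq⟩, ?_⟩
  · rw [hF]; exact inf_le_sigmaCore hG hM hg
  rw [hF]
  have hinj : Function.Injective (sigmaCore M).subtype := Subgroup.subtype_injective _
  by_cases hP : IsMulCommutative ↥(piCoreOf {p} (sigmaCore M))
  · left
    exact s.case_abelian hKU hP
  · right
    have hcard := s.card_X hP (s.hB1_of hypB1 hP)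
    have hPc : ¬ IsMulCommutative ↥(pCore p ↥(sigmaCore M)) := by
      rw [← isMulCommutative_map_iff hinj, ← piCoreOf_singleton_eq]
      exact hP
    have hCc : IsCyclic ↥(pPrimeCore p ↥(sigmaCore M)) := by
      rw [← isCyclic_map_iff hinj, ← piCoreOf_primesNotDvd_eq]
      exact s.C_cyclic hP
    by_cases hK : K = ⊥
    · left
      exact ⟨p, s.prime, hcard, s.mem_sigma, s.not_mem_beta, hPc, hCc,
        fun q hq hd => s.exponent_typeF hKU hK hP hq hd⟩
    · have hU : U = ⊥ := by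
        rcases hKUbot with h | h
        · exact absurd h hK
        · exact h
      subst hU
      rcases s.case_P1 hKU hK hP (s.hB2 hKU hK hP) with h | h
      · left
        exact ⟨p, s.prime, hcard, s.mem_sigma, s.not_mem_beta, hPc, hCc, h⟩
      · right
        refine ⟨p, s.prime, hcard, s.mem_sigma, s.not_mem_beta, hCc, ?_, hPc, hK, rfl, ?_⟩
        · rw [← card_map_of_injective' hinj, ← piCoreOf_singleton_eq]
          exact h.1
        · have := h.2
          rwa [hF] at this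

end Cfsg.Agent.Lib.H21.BG158
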