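import Mathlib
import Cfsg.Agent.S1354
import Cfsg.Agent.Lib.H7.BG147a
import Cfsg.Agent.Lib.H16.BGCovA
import Cfsg.Agent.Lib.H20.BGY1

/-!
# BG 15.1(c): the `M`-conjugates of `Ẑ` are `A₀(M) ∖ A(M)`, a TI-subset (helper21)
-/

set_option autoImplicit false
set_option linter.style.haveILetI false
set_option linter.unusedSectionVars false
set_option linter.unusedVariables false
open Cfsg
open Cfsg.Agent.Lib.H16.BG
open Cfsg.Agent.Lib.H7.BG147
open Cfsg.Agent.Lib.H19 (IsPiCard)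

namespace Cfsg.Agent.Lib.H21.BGA0

universe u
variable {G : Type u} [Group G] [Finite G]

/-- the `M`-conjugates of a set. -/
def conjBy (M : Subgroup G) (T : Set G) : Set G := {a | ∃ m ∈ M, ∃ z ∈ T, a = m * z * m⁻¹}

theorem conjBy_conj {M : Subgroup G} {T : Set G} {a g : G} (hg : g ∈ M) :
    g * a * g⁻¹ ∈ conjBy M T ↔ a ∈ conjBy M T := by
  constructor
  · rintro ⟨m, hm, z, hz, h⟩
    refine ⟨g⁻¹ * m, M.mul_mem (M.inv_mem hg) hm, z, hz, ?_⟩
    have : a = g⁻¹ * (g * a * g⁻¹) * g := by group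
    rw [this, h]; group
  · rintro ⟨m, hm, z, hz, rfl⟩
    exact ⟨g * m, M.mul_mem hg hm, z, hz, by group⟩

theorem le_normalizer_conjBy (M : Subgroup G) (T : Set G) :
    M ≤ Subgroup.normalizer (conjBy M T) := by
  intro g hg
  rw [Subgroup.mem_set_normalizer_iff]
  intro n
  exact (conjBy_conj hg).symm

/-- if `a ^ n ∈ H` with `n` coprime to the order of `a` then `a ∈ H`. -/
theorem mem_of_pow_mem_of_coprime {H : Subgroup G} {a : G} {n : ℕ} (h : a ^ n ∈ H)
    (hc : (orderOf a).Coprime n) : a ∈ H := by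
  have h1 : a ∈ Subgroup.zpowers (a ^ n) := by
    have : Subgroup.zpowers (a ^ n) = Subgroup.zpowers a := by
      apply le_antisymm
      · rw [Subgroup.zpowers_le]; exact Subgroup.pow_mem _ (Subgroup.mem_zpowers a) n
      · have hcard : Nat.card (Subgroup.zpowers (a ^ n)) = Nat.card (Subgroup.zpowers a) := by
          rw [Nat.card_zpowers, Nat.card_zpowers]
          exact Nat.Coprime.orderOf_pow hc
        have hle : Subgroup.zpowers (a ^ n) ≤ Subgroup.zpowers a := by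
          rw [Subgroup.zpowers_le]; exact Subgroup.pow_mem _ (Subgroup.mem_zpowers a) n
        exact (Subgroup.eq_of_le_of_card_ge hle hcard.ge).ge
    rw [this]; exact Subgroup.mem_zpowers a
  exact (Subgroup.zpowers_le.2 h) h1

variable {M K U : Subgroup G}

theorem ti (hG : IsMinSimpleOddOrder G) (hM : IsCoatom M)
    (hK : IsPiHallOf (kappa M) K M) (hK1 : K ≠ ⊥) : IsTISubset (conjBy M (zhat M K)) := by
  intro g hg x hx hgx
  exfalso
  apply hg
  apply le_normalizer_conjBy M _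
  obtain ⟨m, hm, z, hz, rfl⟩ := hx
  obtain ⟨m', hm', z', hz', h⟩ := hgx
  have h0 : (m'⁻¹ * g * m) * z * (m'⁻¹ * g * m)⁻¹ = z' := by
    have : (m'⁻¹ * g * m) * z * (m'⁻¹ * g * m)⁻¹ = m'⁻¹ * (g * (m * z * m⁻¹) * g⁻¹) * m' := by
      group
    rw [this, h]; group
  have h1 := mem_sup_of_conj_mem_zhat hG hM hK hK1 hz (h0 ▸ hz')
  have h2 : K ⊔ (sigmaCore M ⊓ Subgroup.centralizer (K : Set G)) ≤ M :=
    sup_le hK.1 (inf_le_left.trans (Cfsg.Agent.Lib.H20.BGS.sigmaCore_le M))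
  have h3 : g = m' * (m'⁻¹ * g * m) * m⁻¹ := by group
  rw [h3]
  exact M.mul_mem (M.mul_mem hm' (h2 h1)) (M.inv_mem hm)

theorem main (hG : IsMinSimpleOddOrder G) (hM : IsCoatom M)
    (hKU : IsSigmaDecomposition M K U) (hK1 : K ≠ ⊥) :
    conjBy M (zhat M K) = sigmaA0 M K \ sigmaA M U := by
  have hκ : kappa M ⊆ tau1 M :=
    Cfsg.Agent.Lib.H7.BG13t.kappa_subset_tau1 hG hM hKU.cyclic hKU.hall
  obtain ⟨N, hN, hcN, hnorm⟩ := Cfsg.Agent.Lib.H20.BGY.exists_normal_hall_kappa_compl hG hM hκ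
  have hsup : U ⊔ sigmaCore M = N :=
    Cfsg.Agent.Lib.H20.BGY.sup_sigmaCore_eq hG hM hKU hN hcN hnorm
  have hK := hKU.hall
  have hcopKN : (Nat.card ↥K).Coprime (Nat.card ↥N) :=
    Cfsg.Agent.Lib.H19.coprime_of_isPiCard hK.2.1 hN.2.1
  have hcopKS := card_coprime hK (M := M)
  have h54 := (Cfsg.Agent.S1354.result hG M hM K hKU.cyclic hK).2 hK1
  have hσM : sigmaCore M ≤ M := Cfsg.Agent.Lib.H20.BGS.sigmaCore_le M
  have hMσ : M ≤ Subgroup.normalizer ((sigmaCore M : Subgroup G) : Set G) :=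
    Cfsg.Agent.Lib.H20.BGS.le_normalizer_sigmaCore M
  ext a
  constructor
  · rintro ⟨m, hm, z, hz, rfl⟩
    obtain ⟨k, hk, s, hs, hk1, hs1, rfl⟩ := exists_mul_of_mem_zhat hz
    have hkM : k ∈ M := hK.1 hk
    have hsσ : s ∈ sigmaCore M := hs.1
    have hsM : s ∈ M := hσM hsσ
    have hks : k * s = s * k := commute_of_mem hk hs
    have hksc : Commute k s := hks
    refine ⟨⟨⟨?_, ?_⟩, ?_⟩, ?_⟩
    · exact M.mul_mem (M.mul_mem hm (M.mul_mem hkM hsM)) (M.inv_mem hm)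
    · refine ⟨m * s * m⁻¹, (Subgroup.mem_normalizer_iff.1 (hMσ hm) s).1 hsσ, ?_, ?_⟩
      · intro h
        apply hs1
        have : s = m⁻¹ * (m * s * m⁻¹) * m := by group
        rw [this, h]; group
      · have e1 : m * (k * s) * m⁻¹ * (m * s * m⁻¹) = m * (k * s * s) * m⁻¹ := by group
        have e2 : m * s * m⁻¹ * (m * (k * s) * m⁻¹) = m * (s * (k * s)) * m⁻¹ := by group
        rw [e1, e2]
        congr 2
        rw [← mul_assoc s k s, ← hks]
    · rintro ⟨k', hk', hk'1, m', hm', h⟩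
      have hpow : (k * s) ^ Nat.card ↥K = 1 := by
        have e1 : (m * (k * s) * m⁻¹) ^ Nat.card ↥K = 1 := by
          rw [h, conj_pow]
          have : k' ^ Nat.card ↥K = 1 := by
            have := pow_card_eq_one' (G := ↥K) (x := ⟨k', hk'⟩)
            exact congrArg Subtype.val this
          rw [this]; group
        rw [conj_pow] at e1
        have : (k * s) ^ Nat.card ↥K = m⁻¹ * (m * (k * s) ^ Nat.card ↥K * m⁻¹) * m := by group
        rw [this, e1]; group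
      rw [hksc.mul_pow] at hpow
      have hk0 : k ^ Nat.card ↥K = 1 := by
        have := pow_card_eq_one' (G := ↥K) (x := ⟨k, hk⟩)
        exact congrArg Subtype.val this
      rw [hk0, one_mul] at hpow
      exact pow_ne_one_of_coprime hs hs1 hcopKS hpow
    · rintro ⟨-, hV⟩
      have hV' : m * (k * s) * m⁻¹ ∈ U ⊔ sigmaCore M := hV
      rw [hsup] at hV'
      have hzN : k * s ∈ N := (Subgroup.mem_normalizer_iff.1 (hnorm hm) (k * s)).2 hV'
      have hpow : (k * s) ^ Nat.card ↥N = 1 := by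
        have := pow_card_eq_one' (G := ↥N) (x := ⟨k * s, hzN⟩)
        exact congrArg Subtype.val this
      rw [hksc.mul_pow] at hpow
      have hmem : k ^ Nat.card ↥N ∈ K ⊓ (sigmaCore M ⊓ Subgroup.centralizer (K : Set G)) := by
        refine Subgroup.mem_inf.2 ⟨K.pow_mem hk _, ?_⟩
        have : k ^ Nat.card ↥N = (s ^ Nat.card ↥N)⁻¹ := eq_inv_of_mul_eq_one_left hpow
        rw [this]
        exact Subgroup.inv_mem _ (Subgroup.pow_mem _ hs _)
      rw [inf_star_eq_bot hK, Subgroup.mem_bot] at hmem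
      exact pow_ne_one_of_coprime hk hk1 hcopKN.symm hmem
  · rintro ⟨⟨⟨haM, y, hy, hy1, hay⟩, hnc⟩, hnA⟩
    have haV : a ∉ N := by
      intro h
      apply hnA
      refine ⟨⟨haM, y, hy, hy1, hay⟩, ?_⟩
      show a ∈ U ⊔ sigmaCore M
      rw [hsup]; exact h
    obtain ⟨a₁, a₂, ha₁, ha₂, haa, hπ1, hπ2⟩ :=
      Cfsg.Agent.Lib.H16.BGCov.exists_pi_decomp_elt (kappa M) a
    have hzM : Subgroup.zpowers a ≤ M := Subgroup.zpowers_le.2 haM
    have hcomm : a₁ * a₂ = a₂ * a₁ := by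
      obtain ⟨i, rfl⟩ := Subgroup.mem_zpowers_iff.1 ha₁
      obtain ⟨j, rfl⟩ := Subgroup.mem_zpowers_iff.1 ha₂
      rw [← zpow_add, ← zpow_add, add_comm]
    haveI : Group.IsSolvable ↥M := solvable_of_coatom hG hM
    have hA1 : IsPiCard (kappa M) (Nat.card (Subgroup.zpowers a₁)) := by
      rw [Nat.card_zpowers]; exact hπ1
    have ha1M : Subgroup.zpowers a₁ ≤ M := Subgroup.zpowers_le.2 (hzM ha₁)
    obtain ⟨H, hH, ha1H⟩ := Cfsg.Agent.Lib.H19.exists_isPiHallOf_ge ha1M hA1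
    obtain ⟨g, hgM, hgH⟩ := Cfsg.Agent.Lib.H19.isPiHallOf_exists_conj hH hK
    have hk : g * a₁ * g⁻¹ ∈ K := by
      rw [← hgH]
      exact ⟨a₁, ha1H (Subgroup.mem_zpowers a₁), rfl⟩
    have ha2M : a₂ ∈ M := hzM ha₂
    -- the `κ`-part is nontrivial
    have hk1 : g * a₁ * g⁻¹ ≠ 1 := by
      intro h
      have h1 : a₁ = 1 := by
        have : a₁ = g⁻¹ * (g * a₁ * g⁻¹) * g := by group
        rw [this, h]; group
      apply haV
      rw [haa, h1, one_mul]
      have hA2 : IsPiCard (kappa M)ᶜ (Nat.card (Subgroup.zpowers a₂)) := by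
        rw [Nat.card_zpowers]; exact hπ2
      exact Cfsg.Agent.Lib.H20.BGY.le_of_normal_hall hN hnorm (Subgroup.zpowers_le.2 ha2M) hA2
        (Subgroup.mem_zpowers a₂)
    have htM : g * a₂ * g⁻¹ ∈ M := M.mul_mem (M.mul_mem hgM ha2M) (M.inv_mem hgM)
    have htc : g * a₂ * g⁻¹ ∈ Subgroup.centralizer ({g * a₁ * g⁻¹} : Set G) := by
      rw [Subgroup.mem_centralizer_iff]
      intro x hx
      rw [Set.mem_singleton_iff] at hx
      subst hx
      have e1 : g * a₁ * g⁻¹ * (g * a₂ * g⁻¹) = g * (a₁ * a₂) * g⁻¹ := by group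
      have e2 : g * a₂ * g⁻¹ * (g * a₁ * g⁻¹) = g * (a₂ * a₁) * g⁻¹ := by group
      rw [e1, e2, hcomm]
    have htZ : g * a₂ * g⁻¹ ∈ K ⊔ (sigmaCore M ⊓ Subgroup.centralizer (K : Set G)) := by
      rw [← h54 _ hk hk1]
      exact Subgroup.mem_inf.2 ⟨htM, htc⟩
    obtain ⟨k₂, hk₂, s₂, hs₂, ht⟩ := exists_mul_of_mem_sup htZ
    have hk₂s₂ : Commute k₂ s₂ := commute_of_mem hk₂ hs₂
    set c := Nat.card ↥(sigmaCore M ⊓ Subgroup.centralizer (K : Set G)) with hc
    have hs₂c : s₂ ^ c = 1 := by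
      have := pow_card_eq_one' (G := ↥(sigmaCore M ⊓ Subgroup.centralizer (K : Set G)))
        (x := ⟨s₂, hs₂⟩)
      exact congrArg Subtype.val this
    have htc' : (g * a₂ * g⁻¹) ^ c = k₂ ^ c := by
      rw [ht, hk₂s₂.mul_pow, hs₂c, mul_one]
    have hot : orderOf (g * a₂ * g⁻¹) = orderOf a₂ := by
      have h : SemiconjBy g a₂ (g * a₂ * g⁻¹) := by
        unfold SemiconjBy; group
      exact (h.orderOf_eq).symm
    have hcop2 : (Nat.card ↥K).Coprime (orderOf a₂) :=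
      Cfsg.Agent.Lib.H19.coprime_of_isPiCard hK.2.1 hπ2
    have hk₂c : k₂ ^ c = 1 := by
      have h1 : orderOf (k₂ ^ c) ∣ orderOf a₂ := by
        rw [← htc', ← hot]
        exact orderOf_pow_dvd c
      have h2 : orderOf (k₂ ^ c) ∣ Nat.card ↥K := by
        have := Subgroup.orderOf_dvd_natCard K (K.pow_mem hk₂ c)
        exact this
      have h3 : orderOf (k₂ ^ c) = 1 := Nat.eq_one_of_dvd_coprimes hcop2 h2 h1
      exact orderOf_eq_one_iff.1 h3
    have hk₂1 : k₂ = 1 := by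
      by_contra hne
      exact pow_ne_one_of_coprime hk₂ hne hcopKS.symm hk₂c
    rw [hk₂1, one_mul] at ht
    have hga : g * a * g⁻¹ = g * a₁ * g⁻¹ * s₂ := by
      rw [← ht, haa]; group
    by_cases hs₂1 : s₂ = 1
    · exfalso
      apply hnc
      refine ⟨g * a₁ * g⁻¹, hk, hk1, g⁻¹, M.inv_mem hgM, ?_⟩
      rw [hs₂1, mul_one] at hga
      rw [← hga]; group
    · refine ⟨g⁻¹, M.inv_mem hgM, g * a₁ * g⁻¹ * s₂, mul_mem_zhat hK hk hs₂ hk1 hs₂1, ?_⟩
      rw [← hga]; group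

end Cfsg.Agent.Lib.H21.BGA0
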