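import Mathlib
import Cfsg.Agent.Lib.H21.BGHallA

/-!
# BG 15.6 (helper21): `C_M(H) = C_{M_σ}(H) X` with `X` a cyclic `τ₂(M)`-group
-/

set_option autoImplicit false
set_option linter.style.haveILetI false
set_option linter.unusedSectionVars false
set_option linter.unusedVariables false
open Cfsg
open Cfsg.Agent.Lib.H16.BG

namespace Cfsg.Agent.Lib.H21.BGHall

universe u
variable {G : Type u} [Group G] [Finite G]

local notation:max "cj(" g ", " X ")" => Subgroup.map (MulEquiv.toMonoidHom (MulAut.conj g)) X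

/-- `C_{M_σ}(H)` is a Hall `σ(M)`-subgroup of `C_M(H)` (for any subgroup `C ≤ M` in place of
`C_M(H)`). -/
theorem isPiHallOf_sigmaCore_inf (hG : IsMinSimpleOddOrder G) {M : Subgroup G} (hM : IsCoatom M)
    {C : Subgroup G} (hCM : C ≤ M) : IsPiHallOf (sigma M) (sigmaCore M ⊓ C) C := by
  refine ⟨inf_le_right, ?_, ?_⟩
  · intro p hp hd
    exact Cfsg.Agent.Lib.H20.BGS.sigmaCore_isPiCard M p hp
      (hd.trans (Subgroup.card_dvd_of_le inf_le_left))
  · intro p hp hpσ hd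
    haveI : Fact p.Prime := ⟨hp⟩
    obtain ⟨P, hP⟩ := SylIn.exists_sylIn p C
    have hPσ : P ≤ sigmaCore M := isPGroup_le_sigmaCore hG hM hpσ (hP.1.trans hCM) hP.2.1
    have hle : P ≤ sigmaCore M ⊓ C := le_inf hPσ hP.1
    exact hP.2.2 (hd.trans (Subgroup.relIndex_dvd_of_le_left C hle))

/-- **BG Lemma 15.6** (first half of S1438), modulo S1430/S1431. -/
theorem centralizer_structure (hG : IsMinSimpleOddOrder G) (h30 : Hyp1430 G)
    (h31 : Hyp1431 G) {M : Subgroup G} (hM : IsCoatom M) {H : Subgroup G}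
    (hH : H ≤ sigmaCore M) (hH1 : H ≠ ⊥)
    (hHall : (Nat.card H).Coprime (H.relIndex (sigmaCore M))) :
    ∃ X : Subgroup G, IsCyclic X ∧ (∀ p : ℕ, p.Prime → p ∣ Nat.card X → p ∈ Cfsg.tau2 M) ∧
      M ⊓ Subgroup.centralizer (H : Set G) =
        (Cfsg.sigmaCore M ⊓ Subgroup.centralizer (H : Set G)) ⊔ X := by
  set C := M ⊓ Subgroup.centralizer (H : Set G) with hC
  have hCM : C ≤ M := inf_le_left
  have hCt : C ≠ ⊤ := fun h => hM.1 (top_le_iff.1 (h ▸ hCM))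
  haveI : Group.IsSolvable ↥C := Cfsg.Agent.Lib.H7.BG7.solvable_of_ne_top hG hCt
  obtain ⟨X, hX⟩ := Cfsg.Agent.Lib.H19.exists_isPiHallOf C (sigma M)ᶜ
  have hXC : X ≤ C := hX.1
  obtain ⟨hcyc, hτ⟩ := cyclic_tau2_of_centralizes hG h30 h31 hM hH hH1 hHall (hXC.trans hCM)
    (hXC.trans inf_le_right) (fun q hq hd => hX.2.1 q hq hd)
  refine ⟨X, hcyc, hτ, ?_⟩
  have hinf : sigmaCore M ⊓ Subgroup.centralizer (H : Set G) = sigmaCore M ⊓ C := by
    rw [hC, ← inf_assoc, inf_eq_left.2 (Cfsg.Agent.Lib.H20.BGS.sigmaCore_le M)]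
  rw [hinf]
  have hσ := isPiHallOf_sigmaCore_inf hG hM hCM
  obtain ⟨m, n, hmn, hm, hn⟩ :=
    Cfsg.Agent.Lib.H19.exists_pi_decomp (sigma M)ᶜ (Nat.card C) Nat.card_pos.ne'
  have hXc : Nat.card X = m := ((Cfsg.Agent.Lib.H19.isPiHallOf_iff_card hmn hm hn).1 hX).2
  have hn' : Cfsg.Agent.Lib.H19.IsPiCard (sigma M) n := by rwa [compl_compl] at hn
  have hmn' : Nat.card C = n * m := by rw [hmn, mul_comm]
  have hσc : Nat.card ↥(sigmaCore M ⊓ C) = n :=
    ((Cfsg.Agent.Lib.H19.isPiHallOf_iff_card hmn' hn' hm).1 hσ).2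
  have hcop : n.Coprime m := Cfsg.Agent.Lib.H19.coprime_of_isPiCard hn' hm
  symm
  apply Subgroup.eq_of_le_of_card_ge (sup_le inf_le_right hXC)
  have h1 : n * m ∣ Nat.card ↥((sigmaCore M ⊓ C) ⊔ X : Subgroup G) := by
    apply Nat.Coprime.mul_dvd_of_dvd_of_dvd hcop
    · rw [← hσc]; exact Subgroup.card_dvd_of_le le_sup_left
    · rw [← hXc]; exact Subgroup.card_dvd_of_le le_sup_right
  rw [hmn']
  exact Nat.le_of_dvd Nat.card_pos h1

end Cfsg.Agent.Lib.H21.BGHall
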