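import Mathlib
import Cfsg.Agent.Lib.H21.BGHallB

/-!
# BG 15.7 (helper21), abstract part

* `conj_mem_sup_of_nilpotent_quotient`: if `S/F` is nilpotent and `H` is a Hall subgroup of `S`
  then `H F` is normal.
* `exists_conj_normalizer`: fusion control for a Hall subgroup with a normal complement.
-/

set_option autoImplicit false
set_option linter.style.haveILetI false
set_option linter.unusedSectionVars false
set_option linter.unusedVariables false
open Cfsg
open Cfsg.Agent.Lib.H16.BG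

namespace Cfsg.Agent.Lib.H21.BGHall

universe u

section abstract
variable {X : Type u} [Group X] [Finite X]

/-- if `F ≤ S` are normal, `S/F` is nilpotent and `H` is a Hall subgroup of `S`, then `HF` is
normal. -/
theorem conj_mem_sup_of_nilpotent_quotient (F S H : Subgroup X) [F.Normal] [S.Normal]
    (hFS : F ≤ S) (hHS : H ≤ S)
    (hnil : Group.IsNilpotent ↥(S.map (QuotientGroup.mk' F)))
    (hHall : (Nat.card H).Coprime (H.relIndex S)) (m : X) {h : X} (hh : h ∈ H) :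
    m * h * m⁻¹ ∈ H ⊔ F := by
  haveI := hnil
  set φ := QuotientGroup.mk' F with hφ
  set D := S.map φ with hD
  set Y : Subgroup ↥D := (H.map φ).subgroupOf D with hY
  have hHD : H.map φ ≤ D := Subgroup.map_mono hHS
  have hYc : Nat.card Y = Nat.card (H.map φ) := by
    rw [hY]
    exact Nat.card_congr (Subgroup.subgroupOfEquivOfLe hHD).toEquiv
  have hYi : Y.index ∣ H.relIndex S := by
    have h1 : Y.index = (H.map φ).relIndex (S.map φ) := rfl
    rw [h1, Subgroup.relIndex_map_map, QuotientGroup.ker_mk', sup_eq_left.2 hFS]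
    exact Subgroup.relIndex_dvd_of_le_left S le_sup_left
  have hYhall : (Nat.card Y).Coprime Y.index := by
    rw [hYc]
    exact Nat.Coprime.coprime_dvd_left (Subgroup.card_map_dvd H φ)
      (Nat.Coprime.coprime_dvd_right hYi hHall)
  have hmS : m * h * m⁻¹ ∈ S := by
    have : S.Normal := inferInstance
    exact this.conj_mem h (hHS hh) m
  have hyD : φ (m * h * m⁻¹) ∈ D := Subgroup.mem_map_of_mem φ hmS
  have hord : orderOf (⟨φ (m * h * m⁻¹), hyD⟩ : ↥D) ∣ Nat.card Y := by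
    rw [Subgroup.orderOf_mk, hYc]
    have h1 : φ (m * h * m⁻¹) = φ m * φ h * (φ m)⁻¹ := by
      rw [map_mul, map_mul, map_inv]
    have h1' : orderOf (φ m * φ h * (φ m)⁻¹) = orderOf (φ h) :=
      (SemiconjBy.orderOf_eq (φ m) (x := φ h) (y := φ m * φ h * (φ m)⁻¹)
        (by unfold SemiconjBy; group)).symm
    rw [h1, h1']
    have h2 : φ h ∈ H.map φ := Subgroup.mem_map_of_mem φ hh
    have := orderOf_dvd_natCard (⟨φ h, h2⟩ : ↥(H.map φ))
    rwa [Subgroup.orderOf_mk] at this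
  have hmem := Cfsg.Agent.Lib.H8.BG12.mem_hall_of_nilpotent Y hYhall hord
  rw [hY, Subgroup.mem_subgroupOf] at hmem
  obtain ⟨h₁, hh₁, he⟩ := hmem
  have he' : φ h₁ = φ (m * h * m⁻¹) := he
  have h3 : h₁⁻¹ * (m * h * m⁻¹) ∈ F := by
    rw [hφ] at he'
    exact QuotientGroup.eq.1 he'
  have h4 : m * h * m⁻¹ = h₁ * (h₁⁻¹ * (m * h * m⁻¹)) := by group
  rw [h4]
  exact Subgroup.mul_mem _ (Subgroup.mem_sup_left hh₁) (Subgroup.mem_sup_right h3)

end abstract


section fusion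
variable {G : Type u} [Group G] [Finite G]

local notation:max "cj(" g ", " X ")" => Subgroup.map (MulEquiv.toMonoidHom (MulAut.conj g)) X

open Cfsg.Agent.Lib.H19 (IsPiCard)
open scoped Pointwise

/-- Fusion control: `F` nilpotent, `H` a Hall subgroup of `L = HF` normalizing `F`, `g` normalizing
`F` and `L`, and `x, gxg⁻¹ ∈ H`.  Then `gxg⁻¹ = nxn⁻¹` with `n = t g ∈ N(H)`, `t ∈ F`. -/
theorem exists_conj_normalizer {H F : Subgroup G} (hFnil : Group.IsNilpotent ↥F)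
    (hHF : H ≤ Subgroup.normalizer (F : Set G))
    (hLsol : Group.IsSolvable ↥(H ⊔ F : Subgroup G))
    (hHall : (Nat.card H).Coprime (H.relIndex (H ⊔ F))) {g : G}
    (hgF : g ∈ Subgroup.normalizer (F : Set G))
    (hgL : g ∈ Subgroup.normalizer ((H ⊔ F : Subgroup G) : Set G)) {x : G} (hx : x ∈ H)
    (hgx : g * x * g⁻¹ ∈ H) :
    ∃ t ∈ F, t * g ∈ Subgroup.normalizer (H : Set G) ∧
      (t * g) * x * (t * g)⁻¹ = g * x * g⁻¹ := by
  haveI := hFnil
  haveI := hLsol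
  set π : Set ℕ := {p | p.Prime ∧ p ∣ Nat.card H} with hπ
  have hπH : IsPiCard π (Nat.card H) := fun p hp hd => ⟨hp, hd⟩
  obtain ⟨T, hT⟩ := Cfsg.Agent.Lib.H19.exists_isPiHallOf F πᶜ
  have hTF : T ≤ F := hT.1
  have hTπ : IsPiCard πᶜ (Nat.card T) := hT.2.1
  have hTi : IsPiCard πᶜᶜ (T.relIndex F) := fun p hp hd hpπ => hT.2.2 p hp hpπ hd
  -- `T` contains every subgroup of `F` of order dividing `|T|`
  have hTchar : ∀ K : Subgroup G, K ≤ F → Nat.card K ∣ Nat.card T → K ≤ T := by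
    intro K hKF hKd
    have hcop : (Nat.card (T.subgroupOf F)).Coprime (T.subgroupOf F).index := by
      rw [Cfsg.Agent.Lib.H1.card_subgroupOf_of_le hTF]
      exact Cfsg.Agent.Lib.H19.coprime_of_isPiCard hTπ hTi
    haveI : (T.subgroupOf F).Normal :=
      Cfsg.Agent.Lib.H3.hall_normal_of_isNilpotent _ hcop
    have hcop2 : (Nat.card (K.subgroupOf F)).Coprime (T.subgroupOf F).index := by
      rw [Cfsg.Agent.Lib.H1.card_subgroupOf_of_le hKF]
      exact Nat.Coprime.coprime_dvd_left hKd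
        (Cfsg.Agent.Lib.H19.coprime_of_isPiCard hTπ hTi)
    have hle := Cfsg.Agent.Lib.H8.BG12.le_of_coprime_card_index hcop2
    intro k hk
    have : (⟨k, hKF hk⟩ : ↥F) ∈ T.subgroupOf F := hle (Subgroup.mem_subgroupOf.2 hk)
    exact Subgroup.mem_subgroupOf.1 this
  have hTnorm : ∀ a : G, a ∈ Subgroup.normalizer (F : Set G) → cj(a, T) = T := by
    intro a ha
    have h1 : cj(a, T) ≤ F := by
      have := cj_mono a hTF
      rwa [cj_eq_self_of_mem_normalizer ha] at this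
    have h2 : cj(a, T) ≤ T := hTchar _ h1 (by rw [card_cj])
    exact Subgroup.eq_of_le_of_card_ge h2 (by rw [card_cj])
  have hHT : H ≤ Subgroup.normalizer (T : Set G) := fun h hh =>
    Subgroup.mem_normalizer_iff_map_conj_eq.2 (hTnorm h (hHF hh))
  -- `T ⊓ H = ⊥`
  have hcopTH : (Nat.card T).Coprime (Nat.card H) := by
    have hH' : IsPiCard πᶜᶜ (Nat.card H) := by rw [compl_compl]; exact hπH
    exact Cfsg.Agent.Lib.H19.coprime_of_isPiCard hTπ hH'
  have hTH : T ⊓ H = ⊥ := (Subgroup.disjoint_of_coprime_natCard hcopTH).eq_bot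
  -- `L = T ⊔ H`
  have hTL : T ≤ H ⊔ F := hTF.trans le_sup_right
  have hsup : T ⊔ H = H ⊔ F := by
    apply Subgroup.eq_of_le_of_card_ge (sup_le hTL le_sup_left)
    have h6a : H.relIndex (H ⊔ F) ∣ Nat.card F := Cfsg.Agent.Lib.H19.relIndex_sup_dvd_card hHF
    have h6π : IsPiCard πᶜ (H.relIndex (H ⊔ F)) := by
      intro p hp hd hpπ
      exact (Nat.Prime.coprime_iff_not_dvd hp).1
        (Nat.Coprime.coprime_dvd_left hpπ.2 hHall) hd
    have h6b : (H.relIndex (H ⊔ F)).Coprime (T.relIndex F) :=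
      Cfsg.Agent.Lib.H19.coprime_of_isPiCard h6π hTi
    have h6c : H.relIndex (H ⊔ F) ∣ Nat.card T := by
      rw [← Cfsg.Agent.Lib.H19.card_mul_relIndex hTF] at h6a
      exact Nat.Coprime.dvd_of_dvd_mul_right h6b h6a
    have h6d : Nat.card T * Nat.card H ∣ Nat.card ↥(T ⊔ H : Subgroup G) :=
      Nat.Coprime.mul_dvd_of_dvd_of_dvd hcopTH (Subgroup.card_dvd_of_le le_sup_left)
        (Subgroup.card_dvd_of_le le_sup_right)
    have h6e : Nat.card ↥(H ⊔ F : Subgroup G) = Nat.card H * H.relIndex (H ⊔ F) :=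
      (Cfsg.Agent.Lib.H19.card_mul_relIndex le_sup_left).symm
    rw [h6e]
    calc Nat.card H * H.relIndex (H ⊔ F) ≤ Nat.card H * Nat.card T :=
          Nat.mul_le_mul_left _ (Nat.le_of_dvd Nat.card_pos h6c)
      _ = Nat.card T * Nat.card H := mul_comm _ _
      _ ≤ Nat.card ↥(T ⊔ H : Subgroup G) := Nat.le_of_dvd Nat.card_pos h6d
  -- Hall conjugacy
  have hHhall : IsPiHallOf π H (H ⊔ F) := by
    refine ⟨le_sup_left, hπH, ?_⟩
    intro p hp hpπ hd
    exact (Nat.Prime.coprime_iff_not_dvd hp).1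
      (Nat.Coprime.coprime_dvd_left hpπ.2 hHall) hd
  have hH₁hall : IsPiHallOf π (MulAut.conj g • H) (H ⊔ F) :=
    Cfsg.Agent.Lib.H19.IsPiHallOf.conj hHhall hgL
  obtain ⟨l, hlL, hl⟩ := Cfsg.Agent.Lib.H19.isPiHallOf_exists_conj hH₁hall hHhall
  have hl' : cj(l, cj(g, H)) = H := hl
  have hlinv : l⁻¹ ∈ T ⊔ H := by rw [hsup]; exact Subgroup.inv_mem _ hlL
  obtain ⟨t, ht, h, hh, hlth⟩ := Cfsg.Agent.Lib.H1.mem_sup_of_le_normalizer hHT hlinv
  -- `cj(g,H) = cj(t,H)`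
  have h7 : cj(g, H) = cj(t, H) := by
    have e1 : cj(g, H) = cj(l⁻¹, H) := by
      have h0 : cj(l⁻¹, cj(l, cj(g, H))) = cj(l⁻¹, H) :=
        congrArg (fun Z : Subgroup G => cj(l⁻¹, Z)) hl'
      rw [cj_inv_cj] at h0
      exact h0
    rw [e1, hlth, ← cj_cj, cj_eq_self_of_mem hh]
  have h8 : cj(t⁻¹ * g, H) = H := by rw [← cj_cj, h7, cj_inv_cj]
  have hn : t⁻¹ * g ∈ Subgroup.normalizer (H : Set G) :=
    Subgroup.mem_normalizer_iff_map_conj_eq.2 h8
  refine ⟨t⁻¹, F.inv_mem (hTF ht), hn, ?_⟩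
  set y := g * x * g⁻¹ with hy
  have e2 : (t⁻¹ * g) * x * (t⁻¹ * g)⁻¹ = t⁻¹ * y * t := by rw [hy]; group
  rw [e2]
  have h9 : t⁻¹ * y * t ∈ H := by
    rw [← e2, ← h8]
    exact conj_mem_cj hx
  have hc1 : t⁻¹ * y * t * y⁻¹ ∈ H := H.mul_mem h9 (H.inv_mem hgx)
  have hc2 : t⁻¹ * y * t * y⁻¹ ∈ T := by
    have h10 : y * t * y⁻¹ ∈ T := by
      have := (Subgroup.mem_normalizer_iff.1 (hHT hgx) t).1 ht
      exact this
    have e3 : t⁻¹ * y * t * y⁻¹ = t⁻¹ * (y * t * y⁻¹) := by group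
    rw [e3]
    exact T.mul_mem (T.inv_mem ht) h10
  have hc : t⁻¹ * y * t * y⁻¹ = 1 := by
    have : t⁻¹ * y * t * y⁻¹ ∈ T ⊓ H := ⟨hc2, hc1⟩
    rwa [hTH, Subgroup.mem_bot] at this
  calc t⁻¹ * y * t = (t⁻¹ * y * t * y⁻¹) * y := by group
    _ = y := by rw [hc, one_mul]

end fusion

end Cfsg.Agent.Lib.H21.BGHall
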