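import Mathlib
import Cfsg.Agent.Lib.H21.BGHallC
import Cfsg.Agent.Lib.H21.BGTildeA
import Cfsg.Agent.Lib.H8.MinSimpleStruct

/-!
# BG 15.7 (helper21): `N_M(H)` controls `G`-fusion in a Hall subgroup `H` of `M_σ`

Black boxes: `Hyp1374 G` (transitivity clause of BG 14.4) and `Hyp1355 G` (BG 15.2(a),(b)).
-/

set_option autoImplicit false
set_option linter.style.haveILetI false
set_option linter.unusedSectionVars false
set_option linter.unusedVariables false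
open Cfsg
open Cfsg.Agent.Lib.H16.BG
open Cfsg.Agent.Lib.H21.BGTilde (Hyp1374)

namespace Cfsg.Agent.Lib.H21.BGHall

universe u
variable {G : Type u} [Group G] [Finite G]

local notation:max "cj(" g ", " X ")" => Subgroup.map (MulEquiv.toMonoidHom (MulAut.conj g)) X

/-- the frozen statement S1355 as a hypothesis. -/
def Hyp1355 (G : Type u) [Group G] : Prop :=
  ∀ (M : Subgroup G) (hM : IsCoatom M),
    Cfsg.fittingHallOf M ≠ ⊥ ∧ Cfsg.fittingHallOf M ≤ Cfsg.sigmaCore M ∧ Cfsg.sigmaCore M ≤ ⁅M, M⁆ ∧ ⁅M, M⁆ < M ∧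
      Group.IsNilpotent ↥((commutator ↥M).map (QuotientGroup.mk' (Cfsg.fittingHall ↥M)))

/-- `H M_F` is normalized by `M` for a Hall subgroup `H` of `M_σ`. -/
theorem le_normalizer_sup_fittingHallOf (hG : IsMinSimpleOddOrder G) (h55 : Hyp1355 G)
    {M : Subgroup G} (hM : IsCoatom M) {H : Subgroup G} (hH : H ≤ sigmaCore M)
    (hHall : (Nat.card H).Coprime (H.relIndex (sigmaCore M))) :
    M ≤ Subgroup.normalizer ((H ⊔ fittingHallOf M : Subgroup G) : Set G) := by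
  obtain ⟨-, hFσ, hσM', -, hnil⟩ := h55 M hM
  have hσM : sigmaCore M ≤ M := Cfsg.Agent.Lib.H20.BGS.sigmaCore_le M
  have hHM : H ≤ M := hH.trans hσM
  haveI hSn : ((sigmaCore M).subgroupOf M).Normal :=
    Subgroup.normal_subgroupOf_of_le_normalizer (Cfsg.Agent.Lib.H20.BGS.le_normalizer_sigmaCore M)
  have hFS : fittingHall ↥M ≤ (sigmaCore M).subgroupOf M := by
    intro f hf
    rw [Subgroup.mem_subgroupOf]
    exact hFσ ⟨f, hf, rfl⟩
  have hHS : H.subgroupOf M ≤ (sigmaCore M).subgroupOf M := by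
    intro x hx
    rw [Subgroup.mem_subgroupOf] at hx ⊢
    exact hH hx
  have hSc : (sigmaCore M).subgroupOf M ≤ commutator ↥M := by
    intro x hx
    rw [Subgroup.mem_subgroupOf] at hx
    exact Cfsg.Agent.Lib.H8.BG12.mem_commutator_subtype (hσM' hx) x.2
  have hnil' : Group.IsNilpotent
      ↥(((sigmaCore M).subgroupOf M).map (QuotientGroup.mk' (fittingHall ↥M))) :=
    isNilpotent_of_le hnil (Subgroup.map_mono hSc)
  have hHall₀ : (Nat.card (H.subgroupOf M)).Coprime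
      ((H.subgroupOf M).relIndex ((sigmaCore M).subgroupOf M)) := by
    rw [Cfsg.Agent.Lib.H1.card_subgroupOf_of_le hHM, Subgroup.relIndex_subgroupOf hσM]
    exact hHall
  have key : ∀ m ∈ M, ∀ h ∈ H, m * h * m⁻¹ ∈ H ⊔ fittingHallOf M := by
    intro m hm h hh
    have h1 := conj_mem_sup_of_nilpotent_quotient (fittingHall ↥M) ((sigmaCore M).subgroupOf M)
      (H.subgroupOf M) hFS hHS hnil' hHall₀ (⟨m, hm⟩ : ↥M) (h := ⟨h, hHM hh⟩)
      (Subgroup.mem_subgroupOf.2 hh)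
    have h2 : ((⟨m, hm⟩ * ⟨h, hHM hh⟩ * (⟨m, hm⟩ : ↥M)⁻¹ : ↥M) : G) ∈
        (H.subgroupOf M ⊔ fittingHall ↥M).map M.subtype := ⟨_, h1, rfl⟩
    rw [Subgroup.map_sup, Subgroup.map_subgroupOf_eq_of_le hHM] at h2
    exact h2
  apply Cfsg.Agent.Lib.H16.SylComm.le_normalizer_of_conj_mem
  intro m hm z hz
  have hFn : cj(m, fittingHallOf M) = fittingHallOf M :=
    cj_eq_self_of_mem_normalizer (Cfsg.Agent.Lib.H8.le_normalizer_fittingHallOf M hm)
  have h3 : cj(m, H ⊔ fittingHallOf M) ≤ H ⊔ fittingHallOf M := by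
    rw [Subgroup.map_sup]
    refine sup_le ?_ (by rw [hFn]; exact le_sup_right)
    rintro _ ⟨h, hh, rfl⟩
    exact key m hm h hh
  exact h3 (conj_mem_cj hz)

/-- **BG Lemma 15.7** (second half of S1438), modulo S1374 and S1355. -/
theorem fusion (hG : IsMinSimpleOddOrder G) (h74 : Hyp1374 G) (h55 : Hyp1355 G)
    {M : Subgroup G} (hM : IsCoatom M) {H : Subgroup G} (hH : H ≤ sigmaCore M)
    (hHall : (Nat.card H).Coprime (H.relIndex (sigmaCore M))) :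
    ∀ x ∈ H, ∀ g : G, g * x * g⁻¹ ∈ H →
      ∃ n ∈ M ⊓ Subgroup.normalizer (H : Set G), n * x * n⁻¹ = g * x * g⁻¹ := by
  intro x hx g hgx
  by_cases hx1 : x = 1
  · refine ⟨1, Subgroup.one_mem _, ?_⟩
    rw [hx1]; group
  have hσM : sigmaCore M ≤ M := Cfsg.Agent.Lib.H20.BGS.sigmaCore_le M
  have hHM : H ≤ M := hH.trans hσM
  have hNM : Subgroup.normalizer (M : Set G) = M :=
    Cfsg.Agent.Lib.H21.BGTilde.normalizer_coatom hG hM
  -- Step A: reduce to `g ∈ M`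
  obtain ⟨g', hg'M, hg'x⟩ : ∃ g' ∈ M, g' * x * g'⁻¹ = g * x * g⁻¹ := by
    obtain ⟨-, R, -, hRc, hreg⟩ := h74 M hM x (hH hx) hx1
    have h1 : x ∈ cj(g⁻¹, M) := by
      rw [mem_cj_iff, inv_inv]; exact hHM hgx
    obtain ⟨r, ⟨hr, hrg⟩, -⟩ := hreg g⁻¹ h1
    have h2 : cj(r⁻¹ * g⁻¹, M) = M := by
      rw [← cj_cj, ← hrg, cj_inv_cj]
    have h3 : r⁻¹ * g⁻¹ ∈ M := by
      have : r⁻¹ * g⁻¹ ∈ Subgroup.normalizer (M : Set G) :=
        Subgroup.mem_normalizer_iff_map_conj_eq.2 h2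
      rwa [hNM] at this
    have hrx : r * x = x * r := by
      have := hRc.2.1 hr
      rw [Subgroup.mem_centralizer_singleton_iff] at this
      exact this
    refine ⟨(r⁻¹ * g⁻¹)⁻¹, M.inv_mem h3, ?_⟩
    have e1 : (r⁻¹ * g⁻¹)⁻¹ * x * (r⁻¹ * g⁻¹)⁻¹⁻¹ = g * (r * x * r⁻¹) * g⁻¹ := by group
    rw [e1, hrx]
    group
  rw [← hg'x] at hgx ⊢
  -- Step B
  obtain ⟨-, hFσ, -, -, -⟩ := h55 M hM
  have hLM : H ⊔ fittingHallOf M ≤ M := sup_le hHM (Cfsg.Agent.Lib.H8.fittingHallOf_le M)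
  have hLt : (H ⊔ fittingHallOf M : Subgroup G) ≠ ⊤ := fun h => hM.1 (top_le_iff.1 (h ▸ hLM))
  have hLσ : H ⊔ fittingHallOf M ≤ sigmaCore M := sup_le hH hFσ
  have hHall' : (Nat.card H).Coprime (H.relIndex (H ⊔ fittingHallOf M)) := by
    apply Nat.Coprime.coprime_dvd_right _ hHall
    rw [← Subgroup.relIndex_mul_relIndex H (H ⊔ fittingHallOf M) (sigmaCore M) le_sup_left hLσ]
    exact Dvd.intro _ rfl
  obtain ⟨t, ht, hn, he⟩ := exists_conj_normalizer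
    (Cfsg.Agent.Lib.H8.fittingHallOf_isNilpotent M)
    (hHM.trans (Cfsg.Agent.Lib.H8.le_normalizer_fittingHallOf M))
    (Cfsg.Agent.Lib.H7.BG7.solvable_of_ne_top hG hLt) hHall'
    (Cfsg.Agent.Lib.H8.le_normalizer_fittingHallOf M hg'M)
    (le_normalizer_sup_fittingHallOf hG h55 hM hH hHall hg'M) hx hgx
  exact ⟨t * g', ⟨M.mul_mem (Cfsg.Agent.Lib.H8.fittingHallOf_le M ht) hg'M, hn⟩, he⟩

end Cfsg.Agent.Lib.H21.BGHall
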