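import Mathlib
import Cfsg.Agent.Lib.H21.BGHallD

/-!
# BG 15.6–15.9 (helper21): assembly

* `thm_S1438`: the frozen statement S1438 modulo S1430, S1431, S1374, S1355.
* `thm_S1384`: the frozen statement S1384 (BG 15.8 + 15.9) modulo the same black boxes.
-/

set_option autoImplicit false
set_option linter.style.haveILetI false
set_option linter.unusedSectionVars false
set_option linter.unusedVariables false
open Cfsg
open Cfsg.Agent.Lib.H16.BG
open Cfsg.Agent.Lib.H21.BGTilde (Hyp1374)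

namespace Cfsg.Agent.Lib.H21.BGHall

universe u
variable {G : Type u} [Group G] [Finite G]

local notation:max "cj(" g ", " X ")" => Subgroup.map (MulEquiv.toMonoidHom (MulAut.conj g)) X

/-- **S1438** (BG 15.6 + 15.7) modulo S1430, S1431, S1374, S1355. -/
theorem thm_S1438 (hG : Cfsg.IsMinSimpleOddOrder G) (h30 : Hyp1430 G) (h31 : Hyp1431 G)
    (h74 : Hyp1374 G) (h55 : Hyp1355 G)
    (M : Subgroup G) (hM : IsCoatom M) (H : Subgroup G) (hH : H ≤ Cfsg.sigmaCore M) (hH1 : H ≠ ⊥)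
    (hHall : (Nat.card H).Coprime (H.relIndex (Cfsg.sigmaCore M))) :
    (∃ X : Subgroup G, IsCyclic X ∧ (∀ p : ℕ, p.Prime → p ∣ Nat.card X → p ∈ Cfsg.tau2 M) ∧
        M ⊓ Subgroup.centralizer (H : Set G) = (Cfsg.sigmaCore M ⊓ Subgroup.centralizer (H : Set G)) ⊔ X) ∧
      ∀ x ∈ H, ∀ g : G, g * x * g⁻¹ ∈ H → ∃ n ∈ M ⊓ Subgroup.normalizer (H : Set G), n * x * n⁻¹ = g * x * g⁻¹ :=
  ⟨centralizer_structure hG h30 h31 hM hH hH1 hHall, fusion hG h74 h55 hM hH hHall⟩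

/-- a Sylow subgroup of a nilpotent Hall subgroup `H` of `G` is a Sylow subgroup of `G`
normalized by `H`. -/
theorem sylIn_top_of_hall {H : Subgroup G} (hHn : Group.IsNilpotent H)
    (hHall : (Nat.card H).Coprime H.index) {p : ℕ} [hp : Fact p.Prime] (hpd : p ∣ Nat.card H)
    {P : Subgroup G} (hP : SylIn p P H) :
    SylIn p P ⊤ ∧ H ≤ Subgroup.normalizer (P : Set G) := by
  haveI := hHn
  constructor
  · apply SylIn.of_not_dvd_index hP.2.1
    rw [← Subgroup.relIndex_mul_index hP.1, Nat.Prime.dvd_mul hp.out]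
    rintro (h | h)
    · exact hP.2.2 h
    · exact (Nat.Prime.coprime_iff_not_dvd hp.out).1 (Nat.Coprime.coprime_dvd_left hpd hHall) h
  · have hcop : (Nat.card (P.subgroupOf H)).Coprime (P.subgroupOf H).index := by
      rw [Cfsg.Agent.Lib.H1.card_subgroupOf_of_le hP.1]
      obtain ⟨k, hk⟩ := IsPGroup.iff_card.1 hP.2.1
      rw [hk]
      apply Nat.Coprime.pow_left
      rw [Nat.Prime.coprime_iff_not_dvd hp.out]
      exact hP.2.2
    have hn : (P.subgroupOf H).Normal := Cfsg.Agent.Lib.H3.hall_normal_of_isNilpotent _ hcop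
    exact (Subgroup.normal_subgroupOf_iff_le_normalizer hP.1).1 hn

/-- **S1384** (BG 15.8 + 15.9) modulo S1430, S1431, S1374, S1355. -/
theorem thm_S1384 (hG : Cfsg.IsMinSimpleOddOrder G) (h30 : Hyp1430 G) (h31 : Hyp1431 G)
    (h74 : Hyp1374 G) (h55 : Hyp1355 G)
    (H : Subgroup G) (hHn : Group.IsNilpotent H) (hHall : (Nat.card H).Coprime H.index) :
    ∀ x ∈ H, ∀ g : G, g * x * g⁻¹ ∈ H → ∃ n ∈ Subgroup.normalizer (H : Set G), n * x * n⁻¹ = g * x * g⁻¹ := by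
  intro x hx g hgx
  by_cases hH1 : H = ⊥
  · refine ⟨1, Subgroup.one_mem _, ?_⟩
    rw [hH1, Subgroup.mem_bot] at hx
    rw [hx]; group
  have hcard : Nat.card H ≠ 1 := fun h => hH1 (Subgroup.card_eq_one.1 h)
  obtain ⟨p, hp, hpd⟩ := Nat.exists_prime_and_dvd hcard
  haveI : Fact p.Prime := ⟨hp⟩
  obtain ⟨P, hP⟩ := SylIn.exists_sylIn p H
  obtain ⟨hPtop, hHP⟩ := sylIn_top_of_hall hHn hHall hpd hP
  have hP1 : P ≠ ⊥ := hP.ne_bot hpd
  have hNt := Cfsg.Agent.Lib.H7.BG7.normalizer_ne_top_of_isPGroup hG hP.2.1 hP1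
  obtain ⟨M, hM, hNM⟩ := exists_coatom_ge hNt
  have hHM : H ≤ M := hHP.trans hNM
  have hPM : P ≤ M := hP.1.trans hHM
  have hPsylM : SylIn p P M := hPtop.mono hPM le_top
  have hpσ : p ∈ sigma M := sigma_of_normalizer_le hPsylM hP1 hNM
  have hPσ : P ≤ sigmaCore M := isPGroup_le_sigmaCore hG hM hpσ hPM hP.2.1
  have hPhall : (Nat.card P).Coprime (P.relIndex (sigmaCore M)) := by
    obtain ⟨k, hk⟩ := IsPGroup.iff_card.1 hP.2.1
    rw [hk]
    apply Nat.Coprime.pow_left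
    rw [Nat.Prime.coprime_iff_not_dvd hp]
    intro hd
    exact hPtop.top_not_dvd_index (hd.trans (Subgroup.relIndex_dvd_index_of_le hPσ))
  -- every prime of `|H|` lies in `σ(M)`
  have hall : ∀ q : ℕ, q.Prime → q ∣ Nat.card H → q ∈ sigma M := by
    intro q hq hqd
    by_contra hqσ
    haveI : Fact q.Prime := ⟨hq⟩
    obtain ⟨Q, hQ⟩ := SylIn.exists_sylIn q H
    obtain ⟨hQtop, hHQ⟩ := sylIn_top_of_hall hHn hHall hqd hQ
    have hQ1 : Q ≠ ⊥ := hQ.ne_bot hqd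
    have hQM : Q ≤ M := hQ.1.trans hHM
    have hQsylM : SylIn q Q M := hQtop.mono hQM le_top
    have hqp : q ≠ p := by
      rintro rfl; exact hqσ hpσ
    have hcop : (Nat.card Q).Coprime (Nat.card P) := by
      obtain ⟨k, hk⟩ := IsPGroup.iff_card.1 hP.2.1
      obtain ⟨j, hj⟩ := IsPGroup.iff_card.1 hQ.2.1
      rw [hk, hj]
      exact Nat.Coprime.pow _ _ ((Nat.coprime_primes hq hp).2 hqp)
    have hQP : Q ≤ Subgroup.centralizer (P : Set G) :=
      le_centralizer_of_inf_eq_bot (hQ.1.trans hHP) (hP.1.trans hHQ)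
        (Subgroup.disjoint_of_coprime_natCard hcop).eq_bot
    have hQσ : ∀ r : ℕ, r.Prime → r ∣ Nat.card Q → r ∉ sigma M := by
      intro r hr hrd
      obtain ⟨j, hj⟩ := IsPGroup.iff_card.1 hQ.2.1
      rw [hj] at hrd
      rw [(Nat.prime_dvd_prime_iff_eq hr hq).1 (hr.dvd_of_dvd_pow hrd)]
      exact hqσ
    obtain ⟨hcyc, hτ⟩ := cyclic_tau2_of_centralizes hG h30 h31 hM hPσ hP1 hPhall hQM hQP hQσ
    have hqQ : q ∣ Nat.card Q := Cfsg.Agent.Lib.H7.BG10.dvd_card_of_ne_bot hQ.2.1 le_rfl hQ1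
    have hq2 : q ∈ tau2 M := hτ q hq hqQ
    haveI := hcyc
    exact hq2.2.2.2 (pRankLE_of_sylIn hQsylM (Cfsg.Agent.Lib.H7.BG13.pRankLE_one_of_isCyclic hq))
  have hHσ : H ≤ sigmaCore M := le_sigmaCore_of hG hM hHM hall
  have hHhall : (Nat.card H).Coprime (H.relIndex (sigmaCore M)) :=
    Nat.Coprime.coprime_dvd_right (Subgroup.relIndex_dvd_index_of_le hHσ) hHall
  obtain ⟨n, hn, he⟩ := fusion hG h74 h55 hM hHσ hHhall x hx g hgx
  exact ⟨n, hn.2, he⟩

end Cfsg.Agent.Lib.H21.BGHall
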