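import Mathlib
import Cfsg.Prelude.Def_Blocks
import Cfsg.Agent.Lib.H23.BlockCovering
import Cfsg.Agent.Lib.H23.ExtDet

/-!
# S4640, piece (FIB): fibres of restriction to a normal subgroup with abelian quotient (helper21)

`N ⊴ G` finite with `G / N` abelian, `B` a set of irreducible characters of `G` and `b` a set of
irreducible characters of `N` such that every member of `B` restricts to a member of `b`, every
irreducible character of `G` over a member of `b` lies in `B`, and the twists by linear characters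
of `G / N` act freely on `B`.  Then every member of `b` has exactly `|G : N|` extensions in `B`
and `|B| = |G : N| |b|`.
-/

set_option autoImplicit false
set_option linter.unusedSectionVars false

namespace Cfsg.Agent.Lib.H21.BK

open Cfsg Cfsg.Agent.Lib.L0 Cfsg.Agent.Lib.H23 Cfsg.Agent.Lib.H24

variable {G : Type*} [Group G] [Fintype G] (N : Subgroup G) [hN : N.Normal]

/-- The linear characters of `G` trivial on `N`, as a type. -/
abbrev Twist : Type _ := {β : G →* ℂˣ // ∀ n : N, β (n : G) = 1}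

/-- Twists correspond to the homomorphisms of the quotient. -/
noncomputable def twistEquiv : Twist N ≃ (G ⧸ N →* ℂˣ) where
  toFun β := QuotientGroup.lift N β.1 (fun n hn => β.2 ⟨n, hn⟩)
  invFun φ := ⟨φ.comp (QuotientGroup.mk' N), fun n => by
    have h : ((n : G) : G ⧸ N) = 1 := (QuotientGroup.eq_one_iff _).2 n.2
    simp [h]⟩
  left_inv β := by
    apply Subtype.ext
    ext g
    rfl
  right_inv φ := by
    ext g
    rfl

/-- With `G / N` abelian there are exactly `|G : N|` twists. -/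
theorem card_twist (hab : ∀ a b : G, a * b * a⁻¹ * b⁻¹ ∈ N) :
    Nat.card (Twist N) = N.index := by
  classical
  let _ : CommGroup (G ⧸ N) :=
    { (inferInstance : Group (G ⧸ N)) with
      mul_comm := by
        intro x y
        induction x using QuotientGroup.induction_on with
        | H a =>
          induction y using QuotientGroup.induction_on with
          | H b =>
            rw [← QuotientGroup.mk_mul, ← QuotientGroup.mk_mul, QuotientGroup.eq]
            have h := hab b⁻¹ a⁻¹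
            have h2 : (a * b)⁻¹ * (b * a) = b⁻¹ * a⁻¹ * b⁻¹⁻¹ * a⁻¹⁻¹ := by group
            rw [h2]
            exact h }
  have hne : NeZero ((Monoid.exponent (G ⧸ N) : ℕ) : ℂ) :=
    ⟨by exact_mod_cast Monoid.exponent_ne_zero_of_finite⟩
  rw [Nat.card_congr (twistEquiv N)]
  have h := CommGroup.card_monoidHom_of_hasEnoughRootsOfUnity (G ⧸ N) ℂ
  rw [Subgroup.index_eq_card]
  exact h

section Fibre

variable [Fintype N] (B : Set (IrrCharacter G)) (b : Set (IrrCharacter N))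

/-- The twist of an irreducible character by a homomorphism to `ℂˣ`. -/
noncomputable def twistIrr (χ : IrrCharacter G) (β : G →* ℂˣ) : IrrCharacter G :=
  ⟨fun g => (χ : G → ℂ) g * (β g : ℂ), isIrrCharacter_mul_hom _ χ.2 β⟩

theorem twistIrr_apply (χ : IrrCharacter G) (β : G →* ℂˣ) (g : G) :
    (twistIrr χ β : G → ℂ) g = (χ : G → ℂ) g * (β g : ℂ) := rfl

/-- A member of `b` under a member of `B` is its restriction. -/
theorem restrict_eq_of_over (h1 : ∀ χ ∈ B, ∃ θ ∈ b, ∀ n : N, (χ : G → ℂ) n = (θ : N → ℂ) n)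
    (χ : IrrCharacter G) (hχ : χ ∈ B) (θ : IrrCharacter N)
    (hne : classInner (fun n : N => (χ : G → ℂ) n) (θ : N → ℂ) ≠ 0) :
    ∀ n : N, (χ : G → ℂ) n = (θ : N → ℂ) n := by
  obtain ⟨θ', -, hθ'⟩ := h1 χ hχ
  have hfun : (fun n : N => (χ : G → ℂ) n) = (θ' : N → ℂ) := funext hθ'
  rw [hfun] at hne
  have : (θ' : N → ℂ) = (θ : N → ℂ) := by
    by_contra hcon
    exact hne (irr_classInner_ne θ'.2 θ.2 hcon)
  intro n
  rw [hθ' n, this]

/-- Every member of `b` is the restriction of a member of `B`. -/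
theorem exists_restrict_eq (h1 : ∀ χ ∈ B, ∃ θ ∈ b, ∀ n : N, (χ : G → ℂ) n = (θ : N → ℂ) n)
    (hover : ∀ χ : IrrCharacter G,
      (∃ θ ∈ b, classInner (fun n : N => (χ : G → ℂ) n) (θ : N → ℂ) ≠ 0) → χ ∈ B)
    (θ : IrrCharacter N) (hθ : θ ∈ b) :
    ∃ χ ∈ B, ∀ n : N, (χ : G → ℂ) n = (θ : N → ℂ) n := by
  obtain ⟨χ, hχ⟩ := exists_irr_over_restrict N θ
  have hχB : χ ∈ B := hover χ ⟨θ, hθ, hχ⟩
  exact ⟨χ, hχB, restrict_eq_of_over N B b h1 χ hχB θ hχ⟩

/-- (F1) Every member of `b` has exactly `|G : N|` extensions in `B`. -/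
theorem card_fibre (hab : ∀ a b : G, a * b * a⁻¹ * b⁻¹ ∈ N)
    (h1 : ∀ χ ∈ B, ∃ θ ∈ b, ∀ n : N, (χ : G → ℂ) n = (θ : N → ℂ) n)
    (hover : ∀ χ : IrrCharacter G,
      (∃ θ ∈ b, classInner (fun n : N => (χ : G → ℂ) n) (θ : N → ℂ) ≠ 0) → χ ∈ B)
    (hfree : ∀ χ ∈ B, ∀ β : G →* ℂˣ, (∀ n : N, β (n : G) = 1) →
      (∀ g : G, (χ : G → ℂ) g * (β g : ℂ) = (χ : G → ℂ) g) → β = 1)
    (θ : IrrCharacter N) (hθ : θ ∈ b) :
    Nat.card {χ : IrrCharacter G // χ ∈ B ∧ ∀ n : N, (χ : G → ℂ) n = (θ : N → ℂ) n} = N.index := by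
  classical
  obtain ⟨χ0, hχ0B, hχ0⟩ := exists_restrict_eq N B b h1 hover θ hθ
  rw [← card_twist N hab]
  symm
  have hres : ∀ (β : Twist N) (n : N), (twistIrr χ0 β.1 : G → ℂ) n = (θ : N → ℂ) n := by
    intro β n
    rw [twistIrr_apply, β.2 n, Units.val_one, mul_one, hχ0 n]
  have hmem : ∀ β : Twist N, twistIrr χ0 β.1 ∈ B := by
    intro β
    refine hover _ ⟨θ, hθ, ?_⟩
    have hfun : (fun n : N => (twistIrr χ0 β.1 : G → ℂ) n) = (θ : N → ℂ) := funext (hres β)
    rw [hfun, irr_classInner_self θ.2]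
    exact one_ne_zero
  refine Nat.card_congr (Equiv.ofBijective
    (fun β : Twist N => (⟨twistIrr χ0 β.1, hmem β, hres β⟩ :
      {χ : IrrCharacter G // χ ∈ B ∧ ∀ n : N, (χ : G → ℂ) n = (θ : N → ℂ) n})) ⟨?_, ?_⟩)
  · -- injective
    intro β β' h
    have h' : ∀ g : G, (χ0 : G → ℂ) g * (β.1 g : ℂ) = (χ0 : G → ℂ) g * (β'.1 g : ℂ) := by
      intro g
      have := congrArg (fun x : {χ : IrrCharacter G // χ ∈ B ∧
        ∀ n : N, (χ : G → ℂ) n = (θ : N → ℂ) n} => ((x : IrrCharacter G) : G → ℂ) g) h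
      simpa [twistIrr_apply] using this
    have hγ : β.1 * β'.1⁻¹ = 1 := by
      apply hfree χ0 hχ0B
      · intro n
        rw [MonoidHom.mul_apply, MonoidHom.inv_apply, β.2 n, β'.2 n, inv_one, mul_one]
      · intro g
        rw [MonoidHom.mul_apply, MonoidHom.inv_apply, Units.val_mul, ← mul_assoc, h' g,
          mul_assoc, ← Units.val_mul, mul_inv_cancel, Units.val_one, mul_one]
    apply Subtype.ext
    exact mul_inv_eq_one.1 hγ
  · -- surjective
    rintro ⟨χ', hχ'B, hχ'⟩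
    have hχ0N : IsIrrCharacter N (fun n : N => (χ0 : G → ℂ) n) := by
      have hfun : (fun n : N => (χ0 : G → ℂ) n) = (θ : N → ℂ) := funext hχ0
      rw [hfun]
      exact θ.2
    obtain ⟨β, hβN, hβ⟩ := exists_hom_of_restrict_eq N χ0.2 χ'.2 hχ0N
      (fun n => by rw [hχ' n, hχ0 n])
    refine ⟨⟨β, hβN⟩, ?_⟩
    apply Subtype.ext
    apply Subtype.ext
    show (twistIrr χ0 β : G → ℂ) = (χ' : G → ℂ)
    rw [hβ]
    funext g
    rw [twistIrr_apply, Pi.mul_apply, homToFun_apply]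

/-- (F2) `|B| = |G : N| |b|`. -/
theorem card_eq_index_mul (hab : ∀ a b : G, a * b * a⁻¹ * b⁻¹ ∈ N)
    (h1 : ∀ χ ∈ B, ∃ θ ∈ b, ∀ n : N, (χ : G → ℂ) n = (θ : N → ℂ) n)
    (hover : ∀ χ : IrrCharacter G,
      (∃ θ ∈ b, classInner (fun n : N => (χ : G → ℂ) n) (θ : N → ℂ) ≠ 0) → χ ∈ B)
    (hfree : ∀ χ ∈ B, ∀ β : G →* ℂˣ, (∀ n : N, β (n : G) = 1) →
      (∀ g : G, (χ : G → ℂ) g * (β g : ℂ) = (χ : G → ℂ) g) → β = 1) :
    Nat.card B = N.index * Nat.card b := by
  classical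
  have := Fintype.ofFinite (IrrCharacter N)
  have hr : ∀ χ : B, ∃ θ : b,
      ∀ n : N, ((χ : IrrCharacter G) : G → ℂ) n = ((θ : IrrCharacter N) : N → ℂ) n := by
    rintro ⟨χ, hχ⟩
    obtain ⟨θ, hθ, h⟩ := h1 χ hχ
    exact ⟨⟨θ, hθ⟩, h⟩
  choose r hr using hr
  have huniq : ∀ (χ : B) (θ : b),
      (∀ n : N, ((χ : IrrCharacter G) : G → ℂ) n = ((θ : IrrCharacter N) : N → ℂ) n) →
      r χ = θ := by
    intro χ θ h
    apply Subtype.ext
    apply Subtype.ext
    funext n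
    rw [← hr χ n, h n]
  have hf : ∀ θ : b, Nat.card {χ : B // r χ = θ} = N.index := by
    intro θ
    rw [← card_fibre N B b hab h1 hover hfree θ.1 θ.2]
    exact Nat.card_congr
      { toFun := fun x => ⟨x.1.1, x.1.2, fun n => by rw [hr x.1 n, x.2]⟩
        invFun := fun y => ⟨⟨y.1, y.2.1⟩, huniq _ θ y.2.2⟩
        left_inv := fun x => rfl
        right_inv := fun y => rfl }
  rw [Nat.card_congr (Equiv.sigmaFiberEquiv r).symm, Nat.card_sigma]
  simp only [hf, Finset.sum_const, Finset.card_univ, smul_eq_mul, Nat.card_eq_fintype_card]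
  ring

end Fibre

end Cfsg.Agent.Lib.H21.BK
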