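import Cfsg.Agent.Lib.H8.BQ0
import Cfsg.Agent.Lib.H21.BFG7
/-!
S4719 Part II piece (G7), EXACT SIG of tools/blueprints/S4719_Q_sigs.lean (helper21):
a `G ⊔ V`-invariant subgroup `X ≤ G` with a central Sylow 2-subgroup `T` equals `T` when `O(G) = 1`.
Route: `T.subgroupOf X` is a central Sylow 2-subgroup of the group `↥X`; Burnside's transfer theorem
(`H21.BF.exists_char_complement_of_central_sylow`) gives a CHARACTERISTIC complement `K` of odd order;
its image in `Γ` is normalized by everything normalizing `X`, hence trivial by `OddFree`.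
-/
set_option autoImplicit false
universe u
namespace Cfsg.Agent.Lib.H21.BQ
open Subgroup Cfsg.Agent.Lib.H8.BQ

/-- conjugation by an element of `N_Γ(X)` as an automorphism of `↥X`. -/
def conjEquivOfMemNormalizer {Γ : Type u} [Group Γ] (X : Subgroup Γ) (g : Γ)
    (hg : g ∈ normalizer (X : Set Γ)) : ↥X ≃* ↥X where
  toFun x := ⟨g * x * g⁻¹, (mem_normalizer_iff.mp hg x).mp x.2⟩
  invFun x := ⟨g⁻¹ * x * g, by
    have h := (mem_normalizer_iff.mp (inv_mem hg) x).mp x.2
    simpa using h⟩
  left_inv x := by
    apply Subtype.ext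
    simp [mul_assoc]
  right_inv x := by
    apply Subtype.ext
    simp [mul_assoc]
  map_mul' x y := by
    apply Subtype.ext
    simp [mul_assoc]

/-- the image in `Γ` of a characteristic subgroup of `↥X` is normalized by `N_Γ(X)`. -/
theorem normalizer_le_normalizer_map_of_characteristic {Γ : Type u} [Group Γ] (X : Subgroup Γ)
    (K : Subgroup ↥X) [hK : K.Characteristic] :
    normalizer (X : Set Γ) ≤ normalizer ((K.map X.subtype : Subgroup Γ) : Set Γ) := by
  have key : ∀ g ∈ normalizer (X : Set Γ), ∀ y ∈ K.map X.subtype, g * y * g⁻¹ ∈ K.map X.subtype := by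
    intro g hg y hy
    obtain ⟨k, hk, rfl⟩ := hy
    have hfix := hK.fixed (conjEquivOfMemNormalizer X g hg)
    have hk' : k ∈ K.comap (conjEquivOfMemNormalizer X g hg).toMonoidHom := by
      rw [hfix]; exact hk
    rw [mem_comap] at hk'
    exact ⟨_, hk', rfl⟩
  intro g hg
  rw [mem_normalizer_iff]
  intro y
  constructor
  · exact key g hg y
  · intro h
    have := key g⁻¹ (inv_mem hg) _ h
    simpa [mul_assoc] using this

theorem eq_of_central_sylow {Γ : Type u} [Group Γ] [Finite Γ] (G V X T : Subgroup Γ)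
    (hfree : OddFree G V) (hXG : X ≤ G) (hGX : G ≤ normalizer (X : Set Γ))
    (hVX : V ≤ normalizer (X : Set Γ)) (hTX : T ≤ X) (hT : IsPGroup 2 T)
    (hidx : ¬ 2 ∣ Nat.card X / Nat.card T) (hTc : T ≤ centralizer (X : Set Γ)) :
    X = T := by
  have : Fact (Nat.Prime 2) := ⟨Nat.prime_two⟩
  -- `T' = T.subgroupOf X` is a 2-group of odd index in `↥X`
  have hT' : IsPGroup 2 (T.subgroupOf X) :=
    hT.comap_of_injective X.subtype X.subtype_injective
  have hcardT' : Nat.card (T.subgroupOf X) = Nat.card T :=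
    Nat.card_congr (subgroupOfEquivOfLe hTX).toEquiv
  have hindex : (T.subgroupOf X).index = Nat.card X / Nat.card T := by
    have h1 := (T.subgroupOf X).card_mul_index
    rw [hcardT'] at h1
    have hpos : 0 < Nat.card T := Nat.card_pos
    rw [← h1, Nat.mul_div_cancel_left _ hpos]
  have hnd : ¬ 2 ∣ (T.subgroupOf X).index := by rw [hindex]; exact hidx
  let S : Sylow 2 ↥X := hT'.toSylow hnd
  have hS : (S : Subgroup ↥X) = T.subgroupOf X := rfl
  have hcen : (S : Subgroup ↥X) ≤ center ↥X := by
    rw [hS]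
    intro t ht
    rw [mem_subgroupOf] at ht
    rw [mem_center_iff]
    intro x
    apply Subtype.ext
    have := (mem_centralizer_iff.mp (hTc ht)) x x.2
    simpa using this
  obtain ⟨K, hKc, hcomp, hcop⟩ := Cfsg.Agent.Lib.H21.BF.exists_char_complement_of_central_sylow S hcen
  -- the image of `K` in `Γ`
  have hYX : K.map X.subtype ≤ X := by
    rintro _ ⟨k, _, rfl⟩
    exact k.2
  have hodd : Odd (Nat.card (K.map X.subtype)) := by
    rw [Subgroup.card_map_of_injective X.subtype_injective]
    exact Nat.coprime_two_right.mp hcop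
  have hN := normalizer_le_normalizer_map_of_characteristic X K
  have hbot := hfree (K.map X.subtype) (hYX.trans hXG) hodd (hGX.trans hN) (hVX.trans hN)
  rw [Subgroup.map_eq_bot_iff_of_injective _ X.subtype_injective] at hbot
  rw [hbot, isComplement'_bot_left, hS] at hcomp
  apply le_antisymm _ hTX
  intro x hx
  have : (⟨x, hx⟩ : ↥X) ∈ T.subgroupOf X := hcomp ▸ mem_top _
  simpa [mem_subgroupOf] using this

end Cfsg.Agent.Lib.H21.BQ
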