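import Mathlib
import Cfsg.Agent.Lib.H6.CIT
import Cfsg.Agent.Lib.H2.Dihedral

set_option autoImplicit false
set_option linter.unusedSectionVars false

/-!
# An involution whose centralizer is elementary abelian of order four

General tools: two involutions are conjugate or commute with a common element of order two;
four distinct elements exhaust a subgroup of order four.
-/

namespace Cfsg.Agent.Lib.H21.C4

open Cfsg.Agent.Lib.H6.CIT (mem_centralizer_singleton)

variable {G : Type*} [Group G]

/-- two involutions are conjugate, or both commute with a common element of order two. -/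
theorem conj_or_exists_commuting [Finite G] {u v : G} (hu : u * u = 1) (hv : v * v = 1) :
    (∃ g : G, g * u * g⁻¹ = v) ∨
      ∃ c : G, c ≠ 1 ∧ c * c = 1 ∧ u * c = c * u ∧ v * c = c * v := by
  have hui : u⁻¹ = u := inv_eq_of_mul_eq_one_right hu
  have hvi : v⁻¹ = v := inv_eq_of_mul_eq_one_right hv
  have hn : 0 < orderOf (u * v) := orderOf_pos (u * v)
  rcases Nat.even_or_odd' (orderOf (u * v)) with ⟨m, hm | hm⟩
  · right
    have hcc : (u * v) ^ m * (u * v) ^ m = 1 := by
      rw [← pow_add, ← two_mul, ← hm, pow_orderOf_eq_one]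
    have hci : ((u * v) ^ m)⁻¹ = (u * v) ^ m := inv_eq_of_mul_eq_one_right hcc
    refine ⟨(u * v) ^ m, ?_, hcc, ?_, ?_⟩
    · apply pow_ne_one_of_lt_orderOf <;> omega
    · have h := Cfsg.Agent.Lib.H2.inv_zpow_swap hu hv (m : ℤ)
      rw [zpow_neg, zpow_natCast, hci] at h
      exact h
    · have h := Cfsg.Agent.Lib.H2.inv_zpow_swap' hu hv (m : ℤ)
      rw [zpow_neg, zpow_natCast, hci] at h
      exact h
  · left
    refine ⟨(u * v) ^ m, ?_⟩
    have h1 : u * ((u * v) ^ m)⁻¹ = (u * v) ^ m * u := by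
      have h := Cfsg.Agent.Lib.H2.inv_zpow_swap hu hv (-(m : ℤ))
      rw [neg_neg, zpow_neg, zpow_natCast] at h
      exact h
    have h2 : (u * v) ^ m * (u * v) ^ m = (u * v)⁻¹ := by
      rw [← pow_add, ← two_mul]
      apply eq_inv_of_mul_eq_one_left
      rw [← pow_succ, ← hm, pow_orderOf_eq_one]
    calc (u * v) ^ m * u * ((u * v) ^ m)⁻¹ = (u * v) ^ m * (u * ((u * v) ^ m)⁻¹) := by
          rw [mul_assoc]
      _ = (u * v) ^ m * (u * v) ^ m * u := by rw [h1, mul_assoc]
      _ = (u * v)⁻¹ * u := by rw [h2]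
      _ = v := by rw [mul_inv_rev, hui, hvi, mul_assoc, hu, mul_one]

/-- four distinct elements exhaust a subgroup of order four. -/
theorem mem_four {V : Subgroup G} (h4 : Nat.card V = 4) {a b c d : G} (ha : a ∈ V) (hb : b ∈ V)
    (hc : c ∈ V) (hd : d ∈ V) (hab : a ≠ b) (hac : a ≠ c) (had : a ≠ d) (hbc : b ≠ c)
    (hbd : b ≠ d) (hcd : c ≠ d) {w : G} (hw : w ∈ V) : w = a ∨ w = b ∨ w = c ∨ w = d := by
  classical
  have hfin : Finite V := Nat.finite_of_card_ne_zero (by omega)
  have hsub : ({a, b, c, d} : Set G) ⊆ (V : Set G) := by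
    intro y hy
    simp only [Set.mem_insert_iff, Set.mem_singleton_iff] at hy
    rcases hy with rfl | rfl | rfl | rfl <;> assumption
  have h4' : ({a, b, c, d} : Set G).ncard = 4 := by
    rw [Set.ncard_insert_of_notMem, Set.ncard_insert_of_notMem, Set.ncard_pair hcd]
    · simp [hbc, hbd]
    · simp [hab, hac, had]
  have hcard : (V : Set G).ncard ≤ ({a, b, c, d} : Set G).ncard := by
    rw [h4', ← h4]
    exact (Nat.card_coe_set_eq (V : Set G)).symm.le
  have hfinV : (V : Set G).Finite := Set.toFinite _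
  have := Set.eq_of_subset_of_ncard_le hsub hcard hfinV
  have hw' : w ∈ ({a, b, c, d} : Set G) := by rw [this]; exact hw
  simpa using hw'

/-- elements of a subgroup of exponent two commute. -/
theorem comm_of_exp {V : Subgroup G} (hexp : ∀ c ∈ V, c ^ 2 = 1) {a b : G} (ha : a ∈ V)
    (hb : b ∈ V) : a * b = b * a := by
  have h1 := hexp a ha
  have h2 := hexp b hb
  have h3 := hexp (a * b) (V.mul_mem ha hb)
  rw [pow_two] at h1 h2 h3
  have hai : a⁻¹ = a := inv_eq_of_mul_eq_one_right h1
  have hbi : b⁻¹ = b := inv_eq_of_mul_eq_one_right h2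
  have h4 : (a * b)⁻¹ = a * b := inv_eq_of_mul_eq_one_right h3
  rw [mul_inv_rev, hai, hbi] at h4
  exact h4.symm

end Cfsg.Agent.Lib.H21.C4
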