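import Mathlib
import Cfsg.Prelude.Def_Transfer
import Cfsg.Agent.Lib.H21.C4A

set_option autoImplicit false
set_option linter.unusedSectionVars false

/-!
# Centralizer of an involution elementary abelian of order four, not a Sylow subgroup

If `V = C_G(x)` is elementary abelian of order four and some `s ∉ V` normalizes `V` with
`s² ∈ V`, then `G` has a normal elementary abelian subgroup of order two or four.
-/

namespace Cfsg.Agent.Lib.H21.C4

open Cfsg.Agent.Lib.H6.CIT (mem_centralizer_singleton)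

variable {G : Type*} [Group G]

/-- the hypotheses of the non-Sylow case. -/
structure HypB (x s : G) : Prop where
  ord : orderOf x = 2
  card : Nat.card (Subgroup.centralizer ({x} : Set G)) = 4
  exp : ∀ c ∈ Subgroup.centralizer ({x} : Set G), c ^ 2 = 1
  s_not : s ∉ Subgroup.centralizer ({x} : Set G)
  s_norm : s ∈ Subgroup.normalizer (Subgroup.centralizer ({x} : Set G) : Set G)
  s_sq : s * s ∈ Subgroup.centralizer ({x} : Set G)

variable {x s : G}

theorem HypB.xx (h : HypB x s) : x * x = 1 := by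
  rw [← pow_two, ← h.ord, pow_orderOf_eq_one]

theorem HypB.x_inv (h : HypB x s) : x⁻¹ = x := inv_eq_of_mul_eq_one_right h.xx

theorem HypB.x_ne_one (h : HypB x s) : x ≠ 1 := by
  intro e
  have := h.ord
  rw [e, orderOf_one] at this
  omega

theorem HypB.x_mem (h : HypB x s) : x ∈ Subgroup.centralizer ({x} : Set G) :=
  mem_centralizer_singleton.mpr rfl

theorem HypB.comm (h : HypB x s) {a b : G} (ha : a ∈ Subgroup.centralizer ({x} : Set G))
    (hb : b ∈ Subgroup.centralizer ({x} : Set G)) : a * b = b * a :=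
  comm_of_exp h.exp ha hb

theorem HypB.sq (h : HypB x s) {a : G} (ha : a ∈ Subgroup.centralizer ({x} : Set G)) :
    a * a = 1 := by
  rw [← pow_two]; exact h.exp a ha

/-- `x' = s x s⁻¹` -/
theorem HypB.x'_mem (h : HypB x s) : s * x * s⁻¹ ∈ Subgroup.centralizer ({x} : Set G) :=
  (Subgroup.mem_normalizer_iff.mp h.s_norm x).mp h.x_mem

theorem HypB.x'_ne_x (h : HypB x s) : s * x * s⁻¹ ≠ x := by
  intro e
  apply h.s_not
  rw [mem_centralizer_singleton]
  calc x * s = (s * x * s⁻¹) * s := by rw [e]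
    _ = s * x := by group

theorem HypB.x'_ne_one (h : HypB x s) : s * x * s⁻¹ ≠ 1 := by
  intro e
  apply h.x_ne_one
  calc x = s⁻¹ * (s * x * s⁻¹) * s := by group
    _ = 1 := by rw [e]; group

/-- `z = x x'` -/
theorem HypB.z_mem (h : HypB x s) : x * (s * x * s⁻¹) ∈ Subgroup.centralizer ({x} : Set G) :=
  Subgroup.mul_mem _ h.x_mem h.x'_mem

theorem HypB.z_ne_one (h : HypB x s) : x * (s * x * s⁻¹) ≠ 1 := by
  intro e
  apply h.x'_ne_x
  have := eq_inv_of_mul_eq_one_right e
  rw [this, h.x_inv]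

theorem HypB.z_ne_x (h : HypB x s) : x * (s * x * s⁻¹) ≠ x := by
  intro e
  apply h.x'_ne_one
  exact mul_eq_left.mp e

theorem HypB.z_ne_x' (h : HypB x s) : x * (s * x * s⁻¹) ≠ s * x * s⁻¹ := by
  intro e
  apply h.x_ne_one
  exact mul_eq_right.mp e

theorem HypB.zz (h : HypB x s) : x * (s * x * s⁻¹) * (x * (s * x * s⁻¹)) = 1 := h.sq h.z_mem

/-- `s` centralizes `z`. -/
theorem HypB.s_comm_z (h : HypB x s) : x * (s * x * s⁻¹) * s = s * (x * (s * x * s⁻¹)) := by
  have h1 : x * (s * s) = s * s * x := mem_centralizer_singleton.mp h.s_sq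
  have h2 : s * (s * x * s⁻¹) * s⁻¹ = x := by
    calc s * (s * x * s⁻¹) * s⁻¹ = (s * s * x) * s⁻¹ * s⁻¹ := by group
      _ = x * (s * s) * s⁻¹ * s⁻¹ := by rw [h1]
      _ = x := by group
  have h3 := h.comm h.x_mem h.x'_mem
  calc x * (s * x * s⁻¹) * s = (s * x * s⁻¹) * x * s := by rw [h3]
    _ = (s * x * s⁻¹) * (s * (s * x * s⁻¹) * s⁻¹) * s := by rw [h2]
    _ = s * (x * (s * x * s⁻¹)) := by group

/-- `z` is not conjugate to `x`. -/
theorem HypB.not_conj (h : HypB x s) (g : G) : g * x * g⁻¹ ≠ x * (s * x * s⁻¹) := by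
  intro e
  have key : ∀ w : G, (x * (s * x * s⁻¹)) * w = w * (x * (s * x * s⁻¹)) →
      g⁻¹ * w * g ∈ Subgroup.centralizer ({x} : Set G) := by
    intro w hw
    rw [mem_centralizer_singleton]
    rw [← e] at hw
    calc x * (g⁻¹ * w * g) = g⁻¹ * (g * x * g⁻¹ * w) * g := by group
      _ = g⁻¹ * (w * (g * x * g⁻¹)) * g := by rw [hw]
      _ = g⁻¹ * w * g * x := by group
  haveI : Finite (Subgroup.centralizer ({x} : Set G)) :=
    Nat.finite_of_card_ne_zero (by rw [h.card]; omega)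
  let f : Subgroup.centralizer ({x} : Set G) → Subgroup.centralizer ({x} : Set G) :=
    fun v => ⟨g⁻¹ * v * g, key v (h.comm h.z_mem v.2)⟩
  have hf : Function.Injective f := by
    intro a b hab
    have := congrArg Subtype.val hab
    simp only [f] at this
    apply Subtype.ext
    simpa using this
  have hsurj := Finite.injective_iff_surjective.mp hf
  obtain ⟨v, hv⟩ := hsurj ⟨g⁻¹ * s * g, key s h.s_comm_z⟩
  have := congrArg Subtype.val hv
  simp only [f] at this
  have hvs : (v : G) = s := by simpa using this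
  exact h.s_not (hvs ▸ v.2)

/-- `C_G(x') ≤ V`. -/
theorem HypB.cent_x' (h : HypB x s) {w : G} (hw : (s * x * s⁻¹) * w = w * (s * x * s⁻¹)) :
    w ∈ Subgroup.centralizer ({x} : Set G) := by
  have h1 : s⁻¹ * w * s ∈ Subgroup.centralizer ({x} : Set G) := by
    rw [mem_centralizer_singleton]
    calc x * (s⁻¹ * w * s) = s⁻¹ * (s * x * s⁻¹ * w) * s := by group
      _ = s⁻¹ * (w * (s * x * s⁻¹)) * s := by rw [hw]
      _ = s⁻¹ * w * s * x := by group
  have h2 := (Subgroup.mem_normalizer_iff.mp h.s_norm (s⁻¹ * w * s)).mp h1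
  have e : s * (s⁻¹ * w * s) * s⁻¹ = w := by group
  rwa [e] at h2

/-- the elements of `V`. -/
theorem HypB.mem_V (h : HypB x s) {w : G} (hw : w ∈ Subgroup.centralizer ({x} : Set G)) :
    w = 1 ∨ w = x ∨ w = s * x * s⁻¹ ∨ w = x * (s * x * s⁻¹) :=
  mem_four h.card (Subgroup.one_mem _) h.x_mem h.x'_mem h.z_mem h.x_ne_one.symm
    h.x'_ne_one.symm h.z_ne_one.symm h.x'_ne_x.symm h.z_ne_x.symm h.z_ne_x'.symm hw

/-- every conjugate of `z` commutes with `z`. -/
theorem HypB.conj_comm [Finite G] (h : HypB x s) (g : G) :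
    (g * (x * (s * x * s⁻¹)) * g⁻¹) * (x * (s * x * s⁻¹)) =
      (x * (s * x * s⁻¹)) * (g * (x * (s * x * s⁻¹)) * g⁻¹) := by
  have hv : (g * (x * (s * x * s⁻¹)) * g⁻¹) * (g * (x * (s * x * s⁻¹)) * g⁻¹) = 1 := by
    calc (g * (x * (s * x * s⁻¹)) * g⁻¹) * (g * (x * (s * x * s⁻¹)) * g⁻¹)
        = g * ((x * (s * x * s⁻¹)) * (x * (s * x * s⁻¹))) * g⁻¹ := by group
      _ = 1 := by rw [h.zz]; group
  rcases conj_or_exists_commuting h.xx hv with ⟨k, hk⟩ | ⟨c, hc1, hcc, hxc, hvc⟩
  · exfalso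
    apply h.not_conj (g⁻¹ * k)
    calc g⁻¹ * k * x * (g⁻¹ * k)⁻¹ = g⁻¹ * (k * x * k⁻¹) * g := by group
      _ = g⁻¹ * (g * (x * (s * x * s⁻¹)) * g⁻¹) * g := by rw [hk]
      _ = x * (s * x * s⁻¹) := by group
  · have hcV : c ∈ Subgroup.centralizer ({x} : Set G) := mem_centralizer_singleton.mpr hxc
    rcases h.mem_V hcV with e | e | e | e
    · exact absurd e hc1
    · rw [e] at hvc
      have hvV : g * (x * (s * x * s⁻¹)) * g⁻¹ ∈ Subgroup.centralizer ({x} : Set G) :=
        mem_centralizer_singleton.mpr hvc.symm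
      exact h.comm hvV h.z_mem
    · rw [e] at hvc
      have hvV : g * (x * (s * x * s⁻¹)) * g⁻¹ ∈ Subgroup.centralizer ({x} : Set G) :=
        h.cent_x' hvc.symm
      exact h.comm hvV h.z_mem
    · rw [e] at hvc
      exact hvc

end Cfsg.Agent.Lib.H21.C4
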