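import Mathlib
import Cfsg.Prelude.Def_Transfer
import Cfsg.Agent.Lib.H21.C4B

set_option autoImplicit false
set_option linter.unusedSectionVars false

/-!
# The normal closure of `z` in the non-Sylow case

It is a normal elementary abelian subgroup of order two or four.
-/

namespace Cfsg.Agent.Lib.H21.C4

open Cfsg.Agent.Lib.H6.CIT (mem_centralizer_singleton)

variable {G : Type*} [Group G] {x s : G}

/-- conjugates of `z` commute. -/
theorem HypB.conj_comm' [Finite G] (h : HypB x s) (g k : G) :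
    (g * (x * (s * x * s⁻¹)) * g⁻¹) * (k * (x * (s * x * s⁻¹)) * k⁻¹) =
      (k * (x * (s * x * s⁻¹)) * k⁻¹) * (g * (x * (s * x * s⁻¹)) * g⁻¹) := by
  have h1 := h.conj_comm (g⁻¹ * k)
  calc (g * (x * (s * x * s⁻¹)) * g⁻¹) * (k * (x * (s * x * s⁻¹)) * k⁻¹)
      = g * ((x * (s * x * s⁻¹)) * ((g⁻¹ * k) * (x * (s * x * s⁻¹)) * (g⁻¹ * k)⁻¹)) * g⁻¹ := by
        group
    _ = g * (((g⁻¹ * k) * (x * (s * x * s⁻¹)) * (g⁻¹ * k)⁻¹) * (x * (s * x * s⁻¹))) * g⁻¹ := by
        rw [h1]
    _ = (k * (x * (s * x * s⁻¹)) * k⁻¹) * (g * (x * (s * x * s⁻¹)) * g⁻¹) := by group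

theorem mem_conjugatesOfSet_singleton {z a : G} :
    a ∈ Group.conjugatesOfSet ({z} : Set G) ↔ ∃ g : G, g * z * g⁻¹ = a := by
  rw [Group.mem_conjugatesOfSet_iff]
  constructor
  · rintro ⟨b, hb, hba⟩
    rw [Set.mem_singleton_iff] at hb
    rw [hb, isConj_iff] at hba
    exact hba
  · rintro ⟨g, hg⟩
    exact ⟨z, rfl, isConj_iff.mpr ⟨g, hg⟩⟩

theorem HypB.E_comm [Finite G] (h : HypB x s) :
    ∀ a ∈ Subgroup.normalClosure ({x * (s * x * s⁻¹)} : Set G),
      ∀ b ∈ Subgroup.normalClosure ({x * (s * x * s⁻¹)} : Set G), a * b = b * a := by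
  have hc : IsMulCommutative
      (Subgroup.closure (Group.conjugatesOfSet ({x * (s * x * s⁻¹)} : Set G))) := by
    apply Subgroup.isMulCommutative_closure
    intro a ha b hb
    rw [mem_conjugatesOfSet_singleton] at ha hb
    obtain ⟨g, rfl⟩ := ha
    obtain ⟨k, rfl⟩ := hb
    exact h.conj_comm' g k
  intro a ha b hb
  have := hc.is_comm.comm ⟨a, ha⟩ ⟨b, hb⟩
  exact congrArg Subtype.val this

theorem HypB.E_sq [Finite G] (h : HypB x s) :
    ∀ a ∈ Subgroup.normalClosure ({x * (s * x * s⁻¹)} : Set G), a * a = 1 := by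
  intro a ha
  have hcomm := h.E_comm
  change a ∈ Subgroup.closure (Group.conjugatesOfSet ({x * (s * x * s⁻¹)} : Set G)) at ha
  induction ha using Subgroup.closure_induction with
  | mem y hy =>
    rw [mem_conjugatesOfSet_singleton] at hy
    obtain ⟨g, rfl⟩ := hy
    calc (g * (x * (s * x * s⁻¹)) * g⁻¹) * (g * (x * (s * x * s⁻¹)) * g⁻¹)
        = g * ((x * (s * x * s⁻¹)) * (x * (s * x * s⁻¹))) * g⁻¹ := by group
      _ = 1 := by rw [h.zz]; group
  | one => rw [mul_one]
  | mul a b ha hb iha ihb =>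
    have := hcomm a ha b hb
    calc a * b * (a * b) = a * (b * a) * b := by group
      _ = a * (a * b) * b := by rw [this]
      _ = (a * a) * (b * b) := by group
      _ = 1 := by rw [iha, ihb, one_mul]
  | inv a ha iha =>
    calc a⁻¹ * a⁻¹ = (a * a)⁻¹ := by group
      _ = 1 := by rw [iha, inv_one]

theorem HypB.z_mem_E (h : HypB x s) :
    x * (s * x * s⁻¹) ∈ Subgroup.normalClosure ({x * (s * x * s⁻¹)} : Set G) :=
  Subgroup.subset_normalClosure (Set.mem_singleton _)

theorem HypB.E_elem [Finite G] (h : HypB x s) :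
    Cfsg.IsElementaryAbelian 2 (Subgroup.normalClosure ({x * (s * x * s⁻¹)} : Set G)) := by
  refine ⟨⟨⟨fun a b => Subtype.ext (h.E_comm a a.2 b b.2)⟩⟩, ?_⟩
  intro a ha
  rw [pow_two]
  exact h.E_sq a ha

theorem HypB.card_E_ne_one (h : HypB x s) :
    Nat.card (Subgroup.normalClosure ({x * (s * x * s⁻¹)} : Set G)) ≠ 1 := by
  intro e
  rw [Subgroup.card_eq_one] at e
  have := h.z_mem_E
  rw [e, Subgroup.mem_bot] at this
  exact h.z_ne_one this

theorem dvd_four {n : ℕ} (h : n ∣ 4) : n = 1 ∨ n = 2 ∨ n = 4 := by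
  have hle : n ≤ 4 := Nat.le_of_dvd (by norm_num) h
  interval_cases n <;> simp_all <;> omega

theorem dvd_two {n : ℕ} (h : n ∣ 2) : n = 1 ∨ n = 2 := by
  have hle : n ≤ 2 := Nat.le_of_dvd (by norm_num) h
  interval_cases n <;> simp_all

/-- `|E| ∈ {2, 4}`. -/
theorem HypB.card_E [Finite G] (h : HypB x s) :
    Nat.card (Subgroup.normalClosure ({x * (s * x * s⁻¹)} : Set G)) = 2 ∨
      Nat.card (Subgroup.normalClosure ({x * (s * x * s⁻¹)} : Set G)) = 4 := by
  have hne1 := h.card_E_ne_one
  have hcomm := h.E_comm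
  have hsq := h.E_sq
  have hEn : (Subgroup.normalClosure ({x * (s * x * s⁻¹)} : Set G)).Normal :=
    Subgroup.normalClosure_normal
  generalize hE : Subgroup.normalClosure ({x * (s * x * s⁻¹)} : Set G) = E at *
  by_cases hxE : x ∈ E
  · have hle : E ≤ Subgroup.centralizer ({x} : Set G) := by
      intro e he
      rw [mem_centralizer_singleton]
      exact hcomm x hxE e he
    have hd := Subgroup.card_dvd_of_le hle
    rw [h.card] at hd
    rcases dvd_four hd with e | e | e
    · exact absurd e hne1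
    · exact Or.inl e
    · exact Or.inr e
  · -- `F = E ⊓ V` has order at most two
    have hF : Nat.card (E ⊓ Subgroup.centralizer ({x} : Set G) : Subgroup G) = 1 ∨
        Nat.card (E ⊓ Subgroup.centralizer ({x} : Set G) : Subgroup G) = 2 := by
      have hd := Subgroup.card_dvd_of_le
        (inf_le_right : E ⊓ Subgroup.centralizer ({x} : Set G) ≤ Subgroup.centralizer ({x} : Set G))
      rw [h.card] at hd
      rcases dvd_four hd with e | e | e
      · exact Or.inl e
      · exact Or.inr e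
      · exfalso
        haveI : Finite (Subgroup.centralizer ({x} : Set G)) := inferInstance
        have := Subgroup.eq_of_le_of_card_ge
          (inf_le_right : E ⊓ Subgroup.centralizer ({x} : Set G) ≤ Subgroup.centralizer ({x} : Set G))
          (by rw [e, h.card])
        have hx : x ∈ E ⊓ Subgroup.centralizer ({x} : Set G) := by rw [this]; exact h.x_mem
        exact hxE hx.1
    have hsubF : ∀ K : Subgroup G, K ≤ E ⊓ Subgroup.centralizer ({x} : Set G) →
        Nat.card K = 1 ∨ Nat.card K = 2 := by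
      intro K hK
      have hd := Subgroup.card_dvd_of_le hK
      rcases hF with e | e
      · rw [e] at hd
        left
        exact Nat.dvd_one.mp hd
      · rw [e] at hd
        exact dvd_two hd
    let φ : E →* E := MonoidHom.mk'
      (fun e => ⟨(e : G) * (x * e * x⁻¹), E.mul_mem e.2 (hEn.conj_mem e e.2 x)⟩) (by
        intro a b
        apply Subtype.ext
        simp only [Subgroup.coe_mul]
        have h1 := hcomm (b : G) b.2 (x * a * x⁻¹) (hEn.conj_mem a a.2 x)
        calc (a : G) * b * (x * (a * b) * x⁻¹) = a * (b * (x * a * x⁻¹)) * (x * b * x⁻¹) := by group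
          _ = a * ((x * a * x⁻¹) * b) * (x * b * x⁻¹) := by rw [h1]
          _ = (a : G) * (x * a * x⁻¹) * (b * (x * b * x⁻¹)) := by group)
    have hφ : ∀ e : E, ((φ e : E) : G) = (e : G) * (x * e * x⁻¹) := fun e => rfl
    have hker : (φ.ker.map E.subtype) ≤ E ⊓ Subgroup.centralizer ({x} : Set G) := by
      rintro _ ⟨e, he, rfl⟩
      refine Subgroup.mem_inf.mpr ⟨e.2, ?_⟩
      rw [mem_centralizer_singleton]
      have h1 : ((φ e : E) : G) = 1 := by
        rw [SetLike.mem_coe, MonoidHom.mem_ker] at he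
        rw [he]; rfl
      rw [hφ] at h1
      have h2 : x * (e : G) * x⁻¹ = (e : G)⁻¹ := eq_inv_of_mul_eq_one_right h1
      have h3 : (e : G)⁻¹ = e := inv_eq_of_mul_eq_one_right (hsq e e.2)
      rw [h3] at h2
      calc x * (E.subtype e) = (x * (e : G) * x⁻¹) * x := by simp
        _ = (E.subtype e) * x := by rw [h2]; rfl
    have hrange : (φ.range.map E.subtype) ≤ E ⊓ Subgroup.centralizer ({x} : Set G) := by
      rintro _ ⟨e', ⟨e, rfl⟩, rfl⟩
      refine Subgroup.mem_inf.mpr ⟨(φ e).2, ?_⟩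
      rw [mem_centralizer_singleton]
      change x * ((φ e : E) : G) = ((φ e : E) : G) * x
      rw [hφ]
      have h1 := hcomm (e : G) e.2 (x * e * x⁻¹) (hEn.conj_mem e e.2 x)
      have hxx := h.xx
      have hxi := h.x_inv
      have hxy : x * (x * (e : G) * x⁻¹) = (e : G) * x := by
        rw [← mul_assoc, ← mul_assoc, hxx, one_mul, hxi]
      calc x * ((e : G) * (x * e * x⁻¹)) = (x * e * x⁻¹) * (x * (x * e * x⁻¹)) := by group
        _ = (x * e * x⁻¹) * ((e : G) * x) := by rw [hxy]
        _ = (x * e * x⁻¹) * (e : G) * x := by simp only [mul_assoc]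
        _ = (e : G) * (x * e * x⁻¹) * x := by rw [h1]
    have hc1 := hsubF _ hker
    have hc2 := hsubF _ hrange
    rw [Subgroup.card_map_of_injective E.subtype_injective] at hc1 hc2
    have hmul := Subgroup.card_mul_index φ.ker
    rw [Subgroup.index_ker] at hmul
    rcases hc1 with e1 | e1 <;> rcases hc2 with e2 | e2 <;> rw [e1, e2] at hmul
    · exact absurd hmul.symm hne1
    · exact Or.inl hmul.symm
    · exact Or.inl hmul.symm
    · exact Or.inr hmul.symm

/-- the conclusion of the non-Sylow case. -/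
theorem HypB.exists_normal [Finite G] (h : HypB x s) :
    ∃ E : Subgroup G, E.Normal ∧ Cfsg.IsElementaryAbelian 2 E ∧
      (Nat.card E = 2 ∨ Nat.card E = 4) :=
  ⟨_, Subgroup.normalClosure_normal, h.E_elem, h.card_E⟩

end Cfsg.Agent.Lib.H21.C4
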