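import Mathlib
import Cfsg.Prelude.Def_Transfer
import Cfsg.Agent.Lib.H21.C4A

set_option autoImplicit false
set_option linter.unusedSectionVars false

/-!
# Centralizer of an involution elementary abelian of order four, and a Sylow subgroup

If `V = C_G(x)` is a Sylow 2-subgroup and `G` has no normal 2-complement, all involutions
of `G` are conjugate to `x`.
-/

namespace Cfsg.Agent.Lib.H21.C4

open Cfsg.Agent.Lib.H6.CIT (mem_centralizer_singleton)

variable {G : Type*} [Group G]

/-- an element of `N(T)` of 2-power order lies in the Sylow 2-subgroup `T`. -/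
theorem mem_sylow_of_pow_four (T : Sylow 2 G) {g : G}
    (hgN : g ∈ Subgroup.normalizer ((T : Subgroup G) : Set G)) (hg4 : g ^ 4 = 1) :
    g ∈ (T : Subgroup G) := by
  have : Fact (Nat.Prime 2) := ⟨Nat.prime_two⟩
  have h1 : IsPGroup 2 (Subgroup.zpowers g) := by
    rintro ⟨y, hy⟩
    obtain ⟨i, rfl⟩ := Subgroup.mem_zpowers_iff.mp hy
    refine ⟨2, Subtype.ext ?_⟩
    simp only [Subgroup.coe_pow, Subgroup.coe_one]
    have : (2 : ℕ) ^ 2 = 4 := by norm_num
    rw [this, ← zpow_natCast, ← zpow_mul, mul_comm, zpow_mul, zpow_natCast, hg4, one_zpow]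
  have h2 : Subgroup.zpowers g ≤ Subgroup.normalizer ((T : Subgroup G) : Set G) := by
    rw [Subgroup.zpowers_le]; exact hgN
  have h3 := IsPGroup.to_sup_of_normal_right' h1 T.2 h2
  have h4 := T.is_maximal' h3 le_sup_right
  rw [← h4]
  exact Subgroup.mem_sup_left (Subgroup.mem_zpowers g)

/-- in the Sylow case every involution is conjugate to `x`. -/
theorem sylow_case [Finite G] {x : G} (hx : orderOf x = 2)
    (hC4 : Nat.card (Subgroup.centralizer ({x} : Set G)) = 4)
    (hCe : ∀ c ∈ Subgroup.centralizer ({x} : Set G), c ^ 2 = 1)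
    (T : Sylow 2 G) (hT : (T : Subgroup G) = Subgroup.centralizer ({x} : Set G))
    (hnc : ¬ Cfsg.HasNormalPComplement 2 G) :
    ∀ t : G, orderOf t = 2 → ∃ g : G, g * x * g⁻¹ = t := by
  have : Fact (Nat.Prime 2) := ⟨Nat.prime_two⟩
  have hxx : x * x = 1 := by rw [← pow_two, ← hx, pow_orderOf_eq_one]
  have hx1 : x ≠ 1 := by
    intro e; rw [e, orderOf_one] at hx; omega
  have hxV : x ∈ Subgroup.centralizer ({x} : Set G) := mem_centralizer_singleton.mpr rfl
  -- an element of `N(V)` outside `V`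
  obtain ⟨g, hgN, hgV⟩ : ∃ g ∈ Subgroup.normalizer ((T : Subgroup G) : Set G),
      g ∉ Subgroup.centralizer ({x} : Set G) := by
    by_contra hcon
    push Not at hcon
    have hNC : Subgroup.normalizer ((T : Subgroup G) : Set G) ≤
        Subgroup.centralizer ((T : Subgroup G) : Set G) := by
      intro n hn
      rw [Subgroup.mem_centralizer_iff]
      intro y hy
      rw [SetLike.mem_coe, hT] at hy
      exact comm_of_exp hCe hy (hcon n hn)
    exact hnc ⟨T, (MonoidHom.transferSylow T hNC).ker, inferInstance,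
      MonoidHom.ker_transferSylow_isComplement' T hNC⟩
  rw [hT] at hgN
  have hnorm := Subgroup.mem_normalizer_iff.mp hgN
  have h1V : g * x * g⁻¹ ∈ Subgroup.centralizer ({x} : Set G) := (hnorm x).mp hxV
  have h2V : g * (g * x * g⁻¹) * g⁻¹ ∈ Subgroup.centralizer ({x} : Set G) := (hnorm _).mp h1V
  have h1x : g * x * g⁻¹ ≠ x := by
    intro e
    apply hgV
    rw [mem_centralizer_singleton]
    calc x * g = (g * x * g⁻¹) * g := by rw [e]
      _ = g * x := by group
  have h11 : g * x * g⁻¹ ≠ 1 := by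
    intro e
    apply hx1
    calc x = g⁻¹ * (g * x * g⁻¹) * g := by group
      _ = 1 := by rw [e]; group
  have h21 : g * (g * x * g⁻¹) * g⁻¹ ≠ g * x * g⁻¹ := by
    intro e
    apply h1x
    calc g * x * g⁻¹ = g⁻¹ * (g * (g * x * g⁻¹) * g⁻¹) * g := by group
      _ = g⁻¹ * (g * x * g⁻¹) * g := by rw [e]
      _ = x := by group
  have h2one : g * (g * x * g⁻¹) * g⁻¹ ≠ 1 := by
    intro e
    apply h11
    calc g * x * g⁻¹ = g⁻¹ * (g * (g * x * g⁻¹) * g⁻¹) * g := by group
      _ = 1 := by rw [e]; group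
  have h2x : g * (g * x * g⁻¹) * g⁻¹ ≠ x := by
    intro e
    apply hgV
    have hggV : g * g ∈ Subgroup.centralizer ({x} : Set G) := by
      rw [mem_centralizer_singleton]
      calc x * (g * g) = (g * (g * x * g⁻¹) * g⁻¹) * (g * g) := by rw [e]
        _ = g * g * x := by group
    have hg4 : g ^ 4 = 1 := by
      have := hCe _ hggV
      calc g ^ 4 = (g * g) ^ 2 := by rw [← pow_two, ← pow_mul]
        _ = 1 := this
    have := mem_sylow_of_pow_four T (hT ▸ hgN) hg4
    rwa [hT] at this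
  have hV : ∀ w ∈ Subgroup.centralizer ({x} : Set G), w = 1 ∨ w = x ∨ w = g * x * g⁻¹ ∨
      w = g * (g * x * g⁻¹) * g⁻¹ := fun w hw =>
    mem_four hC4 (Subgroup.one_mem _) hxV h1V h2V hx1.symm h11.symm h2one.symm h1x.symm
      h2x.symm h21.symm hw
  intro t ht
  have hp : IsPGroup 2 (Subgroup.zpowers t) := by
    apply IsPGroup.of_card (n := 1)
    rw [Nat.card_zpowers, ht, pow_one]
  obtain ⟨P', hP'⟩ := hp.exists_le_sylow
  obtain ⟨k, hk⟩ := MulAction.exists_smul_eq G T P'
  have htP' : t ∈ (P' : Subgroup G) := hP' (Subgroup.mem_zpowers t)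
  rw [← hk, Sylow.coe_subgroup_smul, Subgroup.mem_pointwise_smul_iff_inv_smul_mem] at htP'
  have e : (MulAut.conj k)⁻¹ • t = k⁻¹ * t * k := by
    rw [← map_inv]
    simp [MulAut.smul_def]
  rw [e, hT] at htP'
  have ht1 : k⁻¹ * t * k ≠ 1 := by
    intro e1
    have : t = 1 := by
      calc t = k * (k⁻¹ * t * k) * k⁻¹ := by group
        _ = 1 := by rw [e1]; group
    rw [this, orderOf_one] at ht
    omega
  rcases hV _ htP' with e1 | e1 | e1 | e1
  · exact absurd e1 ht1
  · refine ⟨k, ?_⟩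
    rw [← e1]; group
  · refine ⟨k * g, ?_⟩
    calc k * g * x * (k * g)⁻¹ = k * (g * x * g⁻¹) * k⁻¹ := by group
      _ = k * (k⁻¹ * t * k) * k⁻¹ := by rw [e1]
      _ = t := by group
  · refine ⟨k * g * g, ?_⟩
    calc k * g * g * x * (k * g * g)⁻¹ = k * (g * (g * x * g⁻¹) * g⁻¹) * k⁻¹ := by group
      _ = k * (k⁻¹ * t * k) * k⁻¹ := by rw [e1]
      _ = t := by group

end Cfsg.Agent.Lib.H21.C4
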