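import Mathlib
import Cfsg.Agent.Lib.H21.C4A
import Cfsg.Agent.Lib.H21.C4C

set_option autoImplicit false
set_option linter.unusedSectionVars false

/-!
# A Klein four-group containing all 2-elements of `C_G(x)`, not a Sylow subgroup

`V` is a four-group containing the involution `x` and every element `c` of `C_G(x)` with
`c ^ 4 = 1`; some `s ∉ V` normalizes `V` with `s² ∈ V`.  Then the conjugates of `z = x·x^s`
commute pairwise, so a simple group cannot satisfy these hypotheses.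
-/

namespace Cfsg.Agent.Lib.H21.C4

open Cfsg.Agent.Lib.H6.CIT (mem_centralizer_singleton)

variable {G : Type*} [Group G]

/-- the hypotheses of the non-Sylow case (general form). -/
structure HypB' (V : Subgroup G) (x s : G) : Prop where
  ord : orderOf x = 2
  card : Nat.card V = 4
  exp : ∀ c ∈ V, c ^ 2 = 1
  x_mem : x ∈ V
  two_mem : ∀ c : G, x * c = c * x → c ^ 4 = 1 → c ∈ V
  s_not : s ∉ V
  s_norm : s ∈ Subgroup.normalizer (V : Set G)
  s_sq : s * s ∈ V

variable {V : Subgroup G} {x s : G}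

theorem HypB'.xx (h : HypB' V x s) : x * x = 1 := by
  rw [← pow_two, ← h.ord, pow_orderOf_eq_one]

theorem HypB'.x_inv (h : HypB' V x s) : x⁻¹ = x := inv_eq_of_mul_eq_one_right h.xx

theorem HypB'.x_ne_one (h : HypB' V x s) : x ≠ 1 := by
  intro e
  have := h.ord
  rw [e, orderOf_one] at this
  omega

theorem HypB'.comm (h : HypB' V x s) {a b : G} (ha : a ∈ V) (hb : b ∈ V) : a * b = b * a :=
  comm_of_exp h.exp ha hb

theorem HypB'.sq (h : HypB' V x s) {a : G} (ha : a ∈ V) : a * a = 1 := by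
  rw [← pow_two]; exact h.exp a ha

theorem HypB'.pow_four (h : HypB' V x s) {a : G} (ha : a * a ∈ V) : a ^ 4 = 1 := by
  have := h.exp _ ha
  calc a ^ 4 = (a * a) ^ 2 := by rw [← pow_two, ← pow_mul]
    _ = 1 := this

theorem pow_four_of_sq {a : G} (ha : a * a = 1) : a ^ 4 = 1 := by
  calc a ^ 4 = (a * a) ^ 2 := by rw [← pow_two, ← pow_mul]
    _ = 1 := by rw [ha, one_pow]

theorem HypB'.s_pow_four (h : HypB' V x s) : s ^ 4 = 1 := h.pow_four h.s_sq

/-- `s` does not commute with `x`. -/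
theorem HypB'.s_not_comm (h : HypB' V x s) : x * s ≠ s * x := fun e =>
  h.s_not (h.two_mem s e h.s_pow_four)

theorem HypB'.x'_mem (h : HypB' V x s) : s * x * s⁻¹ ∈ V :=
  (Subgroup.mem_normalizer_iff.mp h.s_norm x).mp h.x_mem

theorem HypB'.x'_ne_x (h : HypB' V x s) : s * x * s⁻¹ ≠ x := by
  intro e
  apply h.s_not_comm
  calc x * s = (s * x * s⁻¹) * s := by rw [e]
    _ = s * x := by group

theorem HypB'.x'_ne_one (h : HypB' V x s) : s * x * s⁻¹ ≠ 1 := by
  intro e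
  apply h.x_ne_one
  calc x = s⁻¹ * (s * x * s⁻¹) * s := by group
    _ = 1 := by rw [e]; group

theorem HypB'.z_mem (h : HypB' V x s) : x * (s * x * s⁻¹) ∈ V :=
  Subgroup.mul_mem _ h.x_mem h.x'_mem

theorem HypB'.z_ne_one (h : HypB' V x s) : x * (s * x * s⁻¹) ≠ 1 := by
  intro e
  apply h.x'_ne_x
  have := eq_inv_of_mul_eq_one_right e
  rw [this, h.x_inv]

theorem HypB'.z_ne_x (h : HypB' V x s) : x * (s * x * s⁻¹) ≠ x := by
  intro e
  apply h.x'_ne_one
  exact mul_eq_left.mp e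

theorem HypB'.z_ne_x' (h : HypB' V x s) : x * (s * x * s⁻¹) ≠ s * x * s⁻¹ := by
  intro e
  apply h.x_ne_one
  exact mul_eq_right.mp e

theorem HypB'.zz (h : HypB' V x s) : x * (s * x * s⁻¹) * (x * (s * x * s⁻¹)) = 1 := h.sq h.z_mem

/-- `s` centralizes `z`. -/
theorem HypB'.s_comm_z (h : HypB' V x s) : x * (s * x * s⁻¹) * s = s * (x * (s * x * s⁻¹)) := by
  have h1 : x * (s * s) = s * s * x := h.comm h.x_mem h.s_sq
  have h2 : s * (s * x * s⁻¹) * s⁻¹ = x := by
    calc s * (s * x * s⁻¹) * s⁻¹ = (s * s * x) * s⁻¹ * s⁻¹ := by group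
      _ = x * (s * s) * s⁻¹ * s⁻¹ := by rw [h1]
      _ = x := by group
  have h3 := h.comm h.x_mem h.x'_mem
  calc x * (s * x * s⁻¹) * s = (s * x * s⁻¹) * x * s := by rw [h3]
    _ = (s * x * s⁻¹) * (s * (s * x * s⁻¹) * s⁻¹) * s := by rw [h2]
    _ = s * (x * (s * x * s⁻¹)) := by group

theorem conj_pow_four {g w : G} (hw : w ^ 4 = 1) : (g⁻¹ * w * g) ^ 4 = 1 := by
  have : (g⁻¹ * w * g) ^ 4 = g⁻¹ * w ^ 4 * g := by
    have h := conj_pow (a := g⁻¹) (b := w) (i := 4)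
    rw [inv_inv] at h
    exact h
  rw [this, hw]; group

/-- `z` is not conjugate to `x`. -/
theorem HypB'.not_conj (h : HypB' V x s) (g : G) : g * x * g⁻¹ ≠ x * (s * x * s⁻¹) := by
  intro e
  have key : ∀ w : G, (x * (s * x * s⁻¹)) * w = w * (x * (s * x * s⁻¹)) → w ^ 4 = 1 →
      g⁻¹ * w * g ∈ V := by
    intro w hw hw4
    apply h.two_mem _ _ (conj_pow_four hw4)
    rw [← e] at hw
    calc x * (g⁻¹ * w * g) = g⁻¹ * (g * x * g⁻¹ * w) * g := by group
      _ = g⁻¹ * (w * (g * x * g⁻¹)) * g := by rw [hw]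
      _ = g⁻¹ * w * g * x := by group
  haveI : Finite V := Nat.finite_of_card_ne_zero (by rw [h.card]; omega)
  let f : V → V := fun v => ⟨g⁻¹ * v * g, key v (h.comm h.z_mem v.2)
    (pow_four_of_sq (h.sq v.2))⟩
  have hf : Function.Injective f := by
    intro a b hab
    have := congrArg Subtype.val hab
    simp only [f] at this
    apply Subtype.ext
    simpa using this
  have hsurj := Finite.injective_iff_surjective.mp hf
  obtain ⟨v, hv⟩ := hsurj ⟨g⁻¹ * s * g, key s h.s_comm_z h.s_pow_four⟩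
  have := congrArg Subtype.val hv
  simp only [f] at this
  have hvs : (v : G) = s := by simpa using this
  exact h.s_not (hvs ▸ v.2)

/-- 2-elements of `C_G(x')` lie in `V`. -/
theorem HypB'.cent_x' (h : HypB' V x s) {w : G} (hw : (s * x * s⁻¹) * w = w * (s * x * s⁻¹))
    (hw4 : w ^ 4 = 1) : w ∈ V := by
  have h1 : s⁻¹ * w * s ∈ V := by
    apply h.two_mem _ _ (conj_pow_four hw4)
    calc x * (s⁻¹ * w * s) = s⁻¹ * (s * x * s⁻¹ * w) * s := by group
      _ = s⁻¹ * (w * (s * x * s⁻¹)) * s := by rw [hw]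
      _ = s⁻¹ * w * s * x := by group
  have h2 := (Subgroup.mem_normalizer_iff.mp h.s_norm (s⁻¹ * w * s)).mp h1
  have e : s * (s⁻¹ * w * s) * s⁻¹ = w := by group
  rwa [e] at h2

/-- the elements of `V`. -/
theorem HypB'.mem_V (h : HypB' V x s) {w : G} (hw : w ∈ V) :
    w = 1 ∨ w = x ∨ w = s * x * s⁻¹ ∨ w = x * (s * x * s⁻¹) :=
  mem_four h.card (Subgroup.one_mem _) h.x_mem h.x'_mem h.z_mem h.x_ne_one.symm
    h.x'_ne_one.symm h.z_ne_one.symm h.x'_ne_x.symm h.z_ne_x.symm h.z_ne_x'.symm hw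

/-- every conjugate of `z` commutes with `z`. -/
theorem HypB'.conj_comm [Finite G] (h : HypB' V x s) (g : G) :
    (g * (x * (s * x * s⁻¹)) * g⁻¹) * (x * (s * x * s⁻¹)) =
      (x * (s * x * s⁻¹)) * (g * (x * (s * x * s⁻¹)) * g⁻¹) := by
  have hv : (g * (x * (s * x * s⁻¹)) * g⁻¹) * (g * (x * (s * x * s⁻¹)) * g⁻¹) = 1 := by
    calc (g * (x * (s * x * s⁻¹)) * g⁻¹) * (g * (x * (s * x * s⁻¹)) * g⁻¹)
        = g * ((x * (s * x * s⁻¹)) * (x * (s * x * s⁻¹))) * g⁻¹ := by group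
      _ = 1 := by rw [h.zz]; group
  have hv4 := pow_four_of_sq hv
  rcases conj_or_exists_commuting h.xx hv with ⟨k, hk⟩ | ⟨c, hc1, hcc, hxc, hvc⟩
  · exfalso
    apply h.not_conj (g⁻¹ * k)
    calc g⁻¹ * k * x * (g⁻¹ * k)⁻¹ = g⁻¹ * (k * x * k⁻¹) * g := by group
      _ = g⁻¹ * (g * (x * (s * x * s⁻¹)) * g⁻¹) * g := by rw [hk]
      _ = x * (s * x * s⁻¹) := by group
  · have hcV : c ∈ V := h.two_mem c hxc (pow_four_of_sq hcc)
    rcases h.mem_V hcV with e | e | e | e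
    · exact absurd e hc1
    · rw [e] at hvc
      have hvV : g * (x * (s * x * s⁻¹)) * g⁻¹ ∈ V := h.two_mem _ hvc.symm hv4
      exact h.comm hvV h.z_mem
    · rw [e] at hvc
      have hvV : g * (x * (s * x * s⁻¹)) * g⁻¹ ∈ V := h.cent_x' hvc.symm hv4
      exact h.comm hvV h.z_mem
    · rw [e] at hvc
      exact hvc

/-- conjugates of `z` commute. -/
theorem HypB'.conj_comm' [Finite G] (h : HypB' V x s) (g k : G) :
    (g * (x * (s * x * s⁻¹)) * g⁻¹) * (k * (x * (s * x * s⁻¹)) * k⁻¹) =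
      (k * (x * (s * x * s⁻¹)) * k⁻¹) * (g * (x * (s * x * s⁻¹)) * g⁻¹) := by
  have h1 := h.conj_comm (g⁻¹ * k)
  calc (g * (x * (s * x * s⁻¹)) * g⁻¹) * (k * (x * (s * x * s⁻¹)) * k⁻¹)
      = g * ((x * (s * x * s⁻¹)) * ((g⁻¹ * k) * (x * (s * x * s⁻¹)) * (g⁻¹ * k)⁻¹)) * g⁻¹ := by
        group
    _ = g * (((g⁻¹ * k) * (x * (s * x * s⁻¹)) * (g⁻¹ * k)⁻¹) * (x * (s * x * s⁻¹))) * g⁻¹ := by
        rw [h1]
    _ = (k * (x * (s * x * s⁻¹)) * k⁻¹) * (g * (x * (s * x * s⁻¹)) * g⁻¹) := by group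

theorem HypB'.E_comm [Finite G] (h : HypB' V x s) :
    ∀ a ∈ Subgroup.normalClosure ({x * (s * x * s⁻¹)} : Set G),
      ∀ b ∈ Subgroup.normalClosure ({x * (s * x * s⁻¹)} : Set G), a * b = b * a := by
  have hc : IsMulCommutative
      (Subgroup.closure (Group.conjugatesOfSet ({x * (s * x * s⁻¹)} : Set G))) := by
    apply Subgroup.isMulCommutative_closure
    intro a ha b hb
    rw [mem_conjugatesOfSet_singleton] at ha hb
    obtain ⟨g, rfl⟩ := ha
    obtain ⟨k, rfl⟩ := hb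
    exact h.conj_comm' g k
  intro a ha b hb
  have := hc.is_comm.comm ⟨a, ha⟩ ⟨b, hb⟩
  exact congrArg Subtype.val this

/-- a simple group does not satisfy `HypB'`. -/
theorem HypB'.false_of_simple [Finite G] [IsSimpleGroup G] (h : HypB' V x s) : False := by
  have hEn : (Subgroup.normalClosure ({x * (s * x * s⁻¹)} : Set G)).Normal :=
    Subgroup.normalClosure_normal
  have hz : x * (s * x * s⁻¹) ∈ Subgroup.normalClosure ({x * (s * x * s⁻¹)} : Set G) :=
    Subgroup.subset_normalClosure (Set.mem_singleton _)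
  have hcomm := h.E_comm
  rcases hEn.eq_bot_or_eq_top with e | e
  · rw [e, Subgroup.mem_bot] at hz
    exact h.z_ne_one hz
  · rw [e] at hcomm
    exact h.s_not_comm (hcomm x (Subgroup.mem_top _) s (Subgroup.mem_top _))

end Cfsg.Agent.Lib.H21.C4
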