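import Mathlib
import Cfsg.Prelude.Def_Transfer
import Cfsg.Agent.Lib.H21.C4A

set_option autoImplicit false
set_option linter.unusedSectionVars false

/-!
# Klein four Sylow 2-subgroups without a normal 2-complement: one class of involutions
-/

namespace Cfsg.Agent.Lib.H21.C4

open Cfsg.Agent.Lib.H6.CIT (mem_centralizer_singleton)

variable {G : Type*} [Group G]

/-- an element of `N(T)` of 2-power order lies in the Sylow 2-subgroup `T`. -/
theorem mem_sylow_of_two_pow (T : Sylow 2 G) {g : G}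
    (hgN : g ∈ Subgroup.normalizer ((T : Subgroup G) : Set G)) {k : ℕ} (hg : g ^ (2 ^ k) = 1) :
    g ∈ (T : Subgroup G) := by
  have : Fact (Nat.Prime 2) := ⟨Nat.prime_two⟩
  have h1 : IsPGroup 2 (Subgroup.zpowers g) := by
    rintro ⟨y, hy⟩
    obtain ⟨i, rfl⟩ := Subgroup.mem_zpowers_iff.mp hy
    refine ⟨k, Subtype.ext ?_⟩
    simp only [Subgroup.coe_pow, Subgroup.coe_one]
    rw [← zpow_natCast, ← zpow_mul, mul_comm, zpow_mul, zpow_natCast, hg, one_zpow]
  have h2 : Subgroup.zpowers g ≤ Subgroup.normalizer ((T : Subgroup G) : Set G) := by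
    rw [Subgroup.zpowers_le]; exact hgN
  have h3 := IsPGroup.to_sup_of_normal_right' h1 T.2 h2
  have h4 := T.is_maximal' h3 le_sup_right
  rw [← h4]
  exact Subgroup.mem_sup_left (Subgroup.mem_zpowers g)

/-- an automorphism swapping `a` and `b`: its odd powers swap them too. -/
theorem swap_pow_odd (φ : MulAut G) {a b : G} (hab : φ a = b) (hba : φ b = a) {m : ℕ}
    (hm : Odd m) : (φ ^ m) a = b := by
  have aux : ∀ i : ℕ, (φ ^ (2 * i)) b = b := by
    intro i
    induction i with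
    | zero => simp
    | succ i ih =>
      have : 2 * (i + 1) = 2 * i + 1 + 1 := by ring
      rw [this, pow_succ, pow_succ, MulAut.mul_apply, MulAut.mul_apply, hba, hab, ih]
  obtain ⟨i, rfl⟩ := hm
  rw [pow_succ, MulAut.mul_apply, hab, aux]

/-- Klein four Sylow 2-subgroup, no normal 2-complement: some `w₀ ∈ T` is conjugate to every
involution of `G`. -/
theorem klein_sylow_conj_aux [Finite G] (T : Sylow 2 G)
    (hcard : Nat.card (T : Subgroup G) = 4) (hexp : ∀ c ∈ (T : Subgroup G), c ^ 2 = 1)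
    (hnc : ¬ Cfsg.HasNormalPComplement 2 G) :
    ∃ w₀ ∈ (T : Subgroup G), w₀ ≠ 1 ∧ ∀ t : G, orderOf t = 2 → ∃ g : G, g * w₀ * g⁻¹ = t := by
  have : Fact (Nat.Prime 2) := ⟨Nat.prime_two⟩
  -- an element of `N(T)` moving some `w₀ ∈ T`
  obtain ⟨g, hgN, w₀, hw₀, hgw⟩ : ∃ g ∈ Subgroup.normalizer ((T : Subgroup G) : Set G),
      ∃ w₀ ∈ (T : Subgroup G), g * w₀ * g⁻¹ ≠ w₀ := by
    by_contra hcon
    push Not at hcon
    have hNC : Subgroup.normalizer ((T : Subgroup G) : Set G) ≤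
        Subgroup.centralizer ((T : Subgroup G) : Set G) := by
      intro n hn
      rw [Subgroup.mem_centralizer_iff]
      intro y hy
      have := hcon n hn y hy
      calc y * n = (n * y * n⁻¹) * n := by rw [this]
        _ = n * y := by group
    exact hnc ⟨T, (MonoidHom.transferSylow T hNC).ker, inferInstance,
      MonoidHom.ker_transferSylow_isComplement' T hNC⟩
  have hnorm := Subgroup.mem_normalizer_iff.mp hgN
  have hw1 : w₀ ≠ 1 := by
    intro e
    apply hgw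
    rw [e]; group
  have h1T : g * w₀ * g⁻¹ ∈ (T : Subgroup G) := (hnorm w₀).mp hw₀
  have h2T : g * (g * w₀ * g⁻¹) * g⁻¹ ∈ (T : Subgroup G) := (hnorm _).mp h1T
  have h11 : g * w₀ * g⁻¹ ≠ 1 := by
    intro e
    apply hw1
    calc w₀ = g⁻¹ * (g * w₀ * g⁻¹) * g := by group
      _ = 1 := by rw [e]; group
  have h21 : g * (g * w₀ * g⁻¹) * g⁻¹ ≠ g * w₀ * g⁻¹ := by
    intro e
    apply hgw
    calc g * w₀ * g⁻¹ = g⁻¹ * (g * (g * w₀ * g⁻¹) * g⁻¹) * g := by group
      _ = g⁻¹ * (g * w₀ * g⁻¹) * g := by rw [e]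
      _ = w₀ := by group
  have h2one : g * (g * w₀ * g⁻¹) * g⁻¹ ≠ 1 := by
    intro e
    apply h11
    calc g * w₀ * g⁻¹ = g⁻¹ * (g * (g * w₀ * g⁻¹) * g⁻¹) * g := by group
      _ = 1 := by rw [e]; group
  have h2x : g * (g * w₀ * g⁻¹) * g⁻¹ ≠ w₀ := by
    intro e
    -- `g` swaps `w₀` and `g w₀ g⁻¹`
    obtain ⟨k, m, hm, hkm⟩ := Nat.exists_eq_two_pow_mul_odd (orderOf_pos g).ne'
    have hgm : (g ^ m) ^ (2 ^ k) = 1 := by
      rw [← pow_mul, mul_comm, ← hkm, pow_orderOf_eq_one]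
    have hgmN : g ^ m ∈ Subgroup.normalizer ((T : Subgroup G) : Set G) :=
      Subgroup.pow_mem _ hgN m
    have hgmT := mem_sylow_of_two_pow T hgmN hgm
    have hsw := swap_pow_odd (MulAut.conj g) (a := w₀) (b := g * w₀ * g⁻¹)
      (by simp [MulAut.conj_apply]) (by simp only [MulAut.conj_apply]; exact e) hm
    rw [← map_pow, MulAut.conj_apply] at hsw
    have hc := comm_of_exp hexp hgmT hw₀
    apply hgw
    rw [← hsw, hc]; group
  have hV : ∀ w ∈ (T : Subgroup G), w = 1 ∨ w = w₀ ∨ w = g * w₀ * g⁻¹ ∨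
      w = g * (g * w₀ * g⁻¹) * g⁻¹ := fun w hw =>
    mem_four hcard (Subgroup.one_mem _) hw₀ h1T h2T hw1.symm h11.symm h2one.symm
      (Ne.symm hgw) h2x.symm h21.symm hw
  refine ⟨w₀, hw₀, hw1, ?_⟩
  intro t ht
  have hp : IsPGroup 2 (Subgroup.zpowers t) := by
    apply IsPGroup.of_card (n := 1)
    rw [Nat.card_zpowers, ht, pow_one]
  obtain ⟨P', hP'⟩ := hp.exists_le_sylow
  obtain ⟨k, hk⟩ := MulAction.exists_smul_eq G T P'
  have htP' : t ∈ (P' : Subgroup G) := hP' (Subgroup.mem_zpowers t)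
  rw [← hk, Sylow.coe_subgroup_smul, Subgroup.mem_pointwise_smul_iff_inv_smul_mem] at htP'
  have e : (MulAut.conj k)⁻¹ • t = k⁻¹ * t * k := by
    rw [← map_inv]
    simp [MulAut.smul_def]
  rw [e] at htP'
  have ht1 : k⁻¹ * t * k ≠ 1 := by
    intro e1
    have : t = 1 := by
      calc t = k * (k⁻¹ * t * k) * k⁻¹ := by group
        _ = 1 := by rw [e1]; group
    rw [this, orderOf_one] at ht
    omega
  rcases hV _ htP' with e1 | e1 | e1 | e1
  · exact absurd e1 ht1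
  · refine ⟨k, ?_⟩
    rw [← e1]; group
  · refine ⟨k * g, ?_⟩
    calc k * g * w₀ * (k * g)⁻¹ = k * (g * w₀ * g⁻¹) * k⁻¹ := by group
      _ = k * (k⁻¹ * t * k) * k⁻¹ := by rw [e1]
      _ = t := by group
  · refine ⟨k * g * g, ?_⟩
    calc k * g * g * w₀ * (k * g * g)⁻¹ = k * (g * (g * w₀ * g⁻¹) * g⁻¹) * k⁻¹ := by group
      _ = k * (k⁻¹ * t * k) * k⁻¹ := by rw [e1]
      _ = t := by group

/-- Klein four Sylow 2-subgroup, no normal 2-complement: all involutions are conjugate. -/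
theorem klein_sylow_conj [Finite G] (T : Sylow 2 G)
    (hcard : Nat.card (T : Subgroup G) = 4) (hexp : ∀ c ∈ (T : Subgroup G), c ^ 2 = 1)
    (hnc : ¬ Cfsg.HasNormalPComplement 2 G) :
    ∀ s t : G, orderOf s = 2 → orderOf t = 2 → ∃ g : G, g * s * g⁻¹ = t := by
  obtain ⟨w₀, -, -, hw⟩ := klein_sylow_conj_aux T hcard hexp hnc
  intro s t hs ht
  obtain ⟨g1, rfl⟩ := hw s hs
  obtain ⟨g2, rfl⟩ := hw t ht
  refine ⟨g2 * g1⁻¹, ?_⟩
  group

end Cfsg.Agent.Lib.H21.C4
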