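import Mathlib
import Cfsg.Agent.Lib.H21.C4A
import Cfsg.Agent.Lib.H21.C4F

set_option autoImplicit false
set_option linter.unusedSectionVars false

/-!
# A Klein four-group which is a normal subgroup of odd index of `C_G(x)`
-/

namespace Cfsg.Agent.Lib.H21.C4

open Cfsg.Agent.Lib.H6.CIT (mem_centralizer_singleton)

variable {G : Type*} [Group G] {V : Subgroup G} {x : G}

theorem pow_relIndex_mem (hn : (V.subgroupOf (Subgroup.centralizer ({x} : Set G))).Normal)
    {h : G} (hh : h ∈ Subgroup.centralizer ({x} : Set G)) :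
    h ^ (V.relIndex (Subgroup.centralizer ({x} : Set G))) ∈ V := by
  have := Subgroup.pow_index_mem (V.subgroupOf (Subgroup.centralizer ({x} : Set G)))
    (⟨h, hh⟩ : Subgroup.centralizer ({x} : Set G))
  rw [Subgroup.mem_subgroupOf] at this
  have e : (V.subgroupOf (Subgroup.centralizer ({x} : Set G))).index =
      V.relIndex (Subgroup.centralizer ({x} : Set G)) := rfl
  rw [e] at this
  simpa using this

theorem mem_of_pow_four (hodd : Odd (V.relIndex (Subgroup.centralizer ({x} : Set G))))
    (hn : (V.subgroupOf (Subgroup.centralizer ({x} : Set G))).Normal)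
    {g : G} (hg : g ∈ Subgroup.centralizer ({x} : Set G)) (hg4 : g ^ 4 = 1) : g ∈ V := by
  have h1 := pow_relIndex_mem hn hg
  rw [pow_eq_pow_mod _ hg4] at h1
  obtain ⟨i, hi⟩ := hodd
  have hm : V.relIndex (Subgroup.centralizer ({x} : Set G)) % 4 = 1 ∨
      V.relIndex (Subgroup.centralizer ({x} : Set G)) % 4 = 3 := by omega
  rcases hm with e | e
  · rw [e, pow_one] at h1; exact h1
  · rw [e] at h1
    have : g = (g ^ 3)⁻¹ := by
      apply eq_inv_of_mul_eq_one_left
      rw [← pow_succ']; exact hg4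
    rw [this]
    exact V.inv_mem h1

theorem conj_mem_of_normal (hle : V ≤ Subgroup.centralizer ({x} : Set G))
    (hn : (V.subgroupOf (Subgroup.centralizer ({x} : Set G))).Normal)
    {h : G} (hh : h ∈ Subgroup.centralizer ({x} : Set G)) {v : G} (hv : v ∈ V) :
    h * v * h⁻¹ ∈ V := by
  have := hn.conj_mem (⟨v, hle hv⟩ : Subgroup.centralizer ({x} : Set G))
    (Subgroup.mem_subgroupOf.mpr hv) ⟨h, hh⟩
  rw [Subgroup.mem_subgroupOf] at this
  simpa using this

/-- `C_G(x)` centralizes `V`. -/
theorem centralizer_comm (hle : V ≤ Subgroup.centralizer ({x} : Set G))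
    (hodd : Odd (V.relIndex (Subgroup.centralizer ({x} : Set G))))
    (hn : (V.subgroupOf (Subgroup.centralizer ({x} : Set G))).Normal)
    (hcard : Nat.card V = 4) (hexp : ∀ c ∈ V, c ^ 2 = 1) (hx : orderOf x = 2) (hxV : x ∈ V)
    {h : G} (hh : h ∈ Subgroup.centralizer ({x} : Set G)) {a : G} (ha : a ∈ V) :
    h * a = a * h := by
  by_contra hne
  have hxx : x * x = 1 := by rw [← pow_two, ← hx, pow_orderOf_eq_one]
  have hx1 : x ≠ 1 := by
    intro e; rw [e, orderOf_one] at hx; omega
  have hhx : x * h = h * x := mem_centralizer_singleton.mp hh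
  have ha1 : a ≠ 1 := by
    intro e; apply hne; rw [e, mul_one, one_mul]
  have hax : a ≠ x := by
    intro e; apply hne; rw [e, hhx]
  have hxaV : x * a ∈ V := V.mul_mem hxV ha
  have h1 : x * a ≠ 1 := by
    intro e
    apply hax
    have := eq_inv_of_mul_eq_one_right e
    rw [this, inv_eq_of_mul_eq_one_right hxx]
  have h2 : x * a ≠ x := fun e => ha1 (mul_eq_left.mp e)
  have h3 : x * a ≠ a := fun e => hx1 (mul_eq_right.mp e)
  have ha'V : h * a * h⁻¹ ∈ V := conj_mem_of_normal hle hn hh ha
  have ha'ne : h * a * h⁻¹ ≠ a := by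
    intro e
    apply hne
    calc h * a = (h * a * h⁻¹) * h := by group
      _ = a * h := by rw [e]
  rcases mem_four hcard (Subgroup.one_mem _) hxV ha hxaV hx1.symm ha1.symm h1.symm hax.symm
    h2.symm h3.symm ha'V with e | e | e | e
  · apply ha1
    calc a = h⁻¹ * (h * a * h⁻¹) * h := by group
      _ = 1 := by rw [e]; group
  · apply hax
    calc a = h⁻¹ * (h * a * h⁻¹) * h := by group
      _ = h⁻¹ * x * h := by rw [e]
      _ = h⁻¹ * (x * h) := by group
      _ = x := by rw [hhx]; group
  · exact ha'ne e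
  · -- `h` swaps `a` and `x a`
    have hsw1 : (MulAut.conj h) a = x * a := by rw [MulAut.conj_apply]; exact e
    have hsw2 : (MulAut.conj h) (x * a) = a := by
      rw [map_mul, hsw1, MulAut.conj_apply]
      have : h * x * h⁻¹ = x := by rw [← hhx]; group
      rw [this, ← mul_assoc, hxx, one_mul]
    have hsw := swap_pow_odd (MulAut.conj h) hsw1 hsw2 hodd
    rw [← map_pow, MulAut.conj_apply] at hsw
    have hc := comm_of_exp hexp (pow_relIndex_mem hn hh) ha
    apply h3
    rw [← hsw, hc]; group

end Cfsg.Agent.Lib.H21.C4
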