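import Mathlib

set_option autoImplicit false

/-!
# Arithmetic for Brauer's order formula (Klein four Sylow 2-subgroups) when `C(J) = C(P)`
-/

namespace Cfsg.Agent.Lib.H21.C4

theorem brauer_ineq (a b d : ℚ) (ε : ℚ) (ha : 1 ≤ a) (hb : 1 ≤ b) (hd : 3 ≤ d)
    (hε : ε = 1 ∨ (ε = -1 ∧ 3 ≤ b)) :
    4 * (a * b * d) < 9 * ((a + 1) * (b + ε) * (d + -1)) := by
  rcases hε with rfl | ⟨rfl, hb3⟩
  · have h1 : 0 ≤ (a - 1) := by linarith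
    have h2 : 0 ≤ (b - 1) := by linarith
    have h3 : 0 ≤ (d - 3) := by linarith
    nlinarith [mul_nonneg h1 h2, mul_nonneg h1 h3, mul_nonneg h2 h3,
      mul_nonneg (mul_nonneg h1 h2) h3]
  · have h1 : 0 ≤ (a - 1) := by linarith
    have h2 : 0 ≤ (b - 3) := by linarith
    have h3 : 0 ≤ (d - 3) := by linarith
    nlinarith [mul_nonneg h1 h2, mul_nonneg h1 h3, mul_nonneg h2 h3,
      mul_nonneg (mul_nonneg h1 h2) h3]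

theorem brauer_bound (a b d : ℕ) (ε₁ ε₂ ε₃ : ℤ) (h1 : ε₁ = 1) (h3 : ε₃ = -1)
    (hε : ε₂ = 1 ∨ ε₂ = -1) (ha : 0 < a) (hb : 0 < b) (hd : 0 < d)
    (hdb : (4 : ℤ) ∣ (b : ℤ) - ε₂) (hdd : (4 : ℤ) ∣ (d : ℤ) + 1) (g c : ℕ) (hc : 0 < c)
    (hform : (g : ℚ) = 8 * (((a : ℚ) * b * d) / (((a : ℚ) + ε₁) * ((b : ℚ) + ε₂) * ((d : ℚ) + ε₃))) *
      (c : ℚ) ^ 3 / (c : ℚ) ^ 2) : g < 18 * c := by
  subst h1 h3
  have hd3 : 3 ≤ d := by omega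
  have hb' : ε₂ = 1 ∨ (ε₂ = -1 ∧ 3 ≤ b) := by
    rcases hε with e | e
    · exact Or.inl e
    · right
      refine ⟨e, ?_⟩
      rw [e] at hdb
      omega
  have haq : (1 : ℚ) ≤ a := by exact_mod_cast ha
  have hbq : (1 : ℚ) ≤ b := by exact_mod_cast hb
  have hdq : (3 : ℚ) ≤ d := by exact_mod_cast hd3
  have hεq : (ε₂ : ℚ) = 1 ∨ ((ε₂ : ℚ) = -1 ∧ (3 : ℚ) ≤ b) := by
    rcases hb' with e | ⟨e, hb3⟩
    · left; rw [e]; norm_num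
    · right
      refine ⟨by rw [e]; norm_num, by exact_mod_cast hb3⟩
  have hineq := brauer_ineq a b d ε₂ haq hbq hdq hεq
  have hA : (0 : ℚ) < (a : ℚ) + ((1 : ℤ) : ℚ) := by push_cast; linarith
  have hB : (0 : ℚ) < (b : ℚ) + (ε₂ : ℚ) := by
    rcases hεq with e | ⟨e, hb3⟩ <;> rw [e] <;> linarith
  have hD : (0 : ℚ) < (d : ℚ) + ((-1 : ℤ) : ℚ) := by push_cast; linarith
  have hcq : (0 : ℚ) < c := by exact_mod_cast hc
  have hden : (0 : ℚ) < ((a : ℚ) + ((1 : ℤ) : ℚ)) * ((b : ℚ) + ε₂) * ((d : ℚ) + ((-1 : ℤ) : ℚ)) :=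
    mul_pos (mul_pos hA hB) hD
  have hc32 : (c : ℚ) ^ 3 / (c : ℚ) ^ 2 = c := by
    field_simp
  have hform' : (g : ℚ) = 8 * (((a : ℚ) * b * d) /
      (((a : ℚ) + ((1 : ℤ) : ℚ)) * ((b : ℚ) + ε₂) * ((d : ℚ) + ((-1 : ℤ) : ℚ)))) * c := by
    rw [hform, mul_div_assoc, hc32]
  have hlt : (g : ℚ) < 18 * c := by
    rw [hform']
    have hfrac : ((a : ℚ) * b * d) /
        (((a : ℚ) + ((1 : ℤ) : ℚ)) * ((b : ℚ) + ε₂) * ((d : ℚ) + ((-1 : ℤ) : ℚ))) < 9 / 4 := by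
      rw [div_lt_div_iff₀ hden (by norm_num)]
      push_cast
      push_cast at hineq
      linarith
    nlinarith
  exact_mod_cast hlt

end Cfsg.Agent.Lib.H21.C4
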