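import Mathlib
import Cfsg.Prelude.Def_Involutions
import Cfsg.Agent.Lib.H6.CIT3
import Cfsg.Agent.Lib.H6.StrEmb
import Cfsg.Agent.S1124
import Cfsg.Agent.S1225

set_option autoImplicit false
set_option linter.unusedSectionVars false

/-!
# Self-centralizing abelian TI subgroups of even order

`A ≤ G` with `C_G(a) = A` for every `1 ≠ a ∈ A`, containing an involution, `N_G(A) ≠ G`.
Then `M = N_G(A)` is strongly embedded, and for an involution `u ∉ M` the subgroup
`D = M ∩ uMu⁻¹` is an abelian complement of `A` in `M` inverted by `u`.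
(Generalises `Cfsg.Agent.Lib.H6.CIT`, where `A` is an elementary abelian Sylow 2-subgroup.)
-/

namespace Cfsg.Agent.Lib.H21.CATI

open Cfsg.Agent.Lib.H6.SE
open Cfsg.Agent.Lib.H6.CIT (mem_centralizer_singleton comm_of_inverted mem_D_iff eq_one_of_odd_of_sq)

variable {G : Type*} [Group G]

/-- the hypotheses on `A`. -/
structure Hyp (A : Subgroup G) : Prop where
  cent : ∀ a ∈ A, a ≠ 1 → Subgroup.centralizer ({a} : Set G) = A
  inv : ∃ t ∈ A, orderOf t = 2
  ne_top : Subgroup.normalizer (A : Set G) ≠ ⊤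

variable {A : Subgroup G}

theorem Hyp.comm (h : Hyp A) : ∀ a ∈ A, ∀ b ∈ A, a * b = b * a := by
  intro a ha b hb
  by_cases ha1 : a = 1
  · rw [ha1, one_mul, mul_one]
  · have := h.cent a ha ha1
    rw [← this, mem_centralizer_singleton] at hb
    exact hb

theorem Hyp.mem_of_commute (h : Hyp A) {a x : G} (ha : a ∈ A) (ha1 : a ≠ 1) (hx : a * x = x * a) :
    x ∈ A := by
  rw [← h.cent a ha ha1, mem_centralizer_singleton]
  exact hx

/-- `A` is a TI-subgroup: if `g a g⁻¹ ∈ A` for some `1 ≠ a ∈ A` then `g ∈ N(A)`. -/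
theorem Hyp.mem_normalizer_of_conj_mem (h : Hyp A) {a g : G} (ha : a ∈ A) (ha1 : a ≠ 1)
    (hg : g * a * g⁻¹ ∈ A) : g ∈ Subgroup.normalizer (A : Set G) := by
  have ha1' : g * a * g⁻¹ ≠ 1 := by
    intro e
    apply ha1
    have : a = g⁻¹ * (g * a * g⁻¹) * g := by group
    rw [this, e]; group
  have hc := h.cent a ha ha1
  have hc' := h.cent _ hg ha1'
  rw [Subgroup.mem_normalizer_iff]
  intro x
  have e1 : x ∈ A ↔ x ∈ Subgroup.centralizer ({a} : Set G) := by rw [hc]
  have e2 : g * x * g⁻¹ ∈ A ↔ g * x * g⁻¹ ∈ Subgroup.centralizer ({g * a * g⁻¹} : Set G) := by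
    rw [hc']
  rw [e1, e2, mem_centralizer_singleton, mem_centralizer_singleton]
  constructor
  · intro hx
    calc g * a * g⁻¹ * (g * x * g⁻¹) = g * (a * x) * g⁻¹ := by group
      _ = g * (x * a) * g⁻¹ := by rw [hx]
      _ = g * x * g⁻¹ * (g * a * g⁻¹) := by group
  · intro hx
    calc a * x = g⁻¹ * (g * a * g⁻¹ * (g * x * g⁻¹)) * g := by group
      _ = g⁻¹ * (g * x * g⁻¹ * (g * a * g⁻¹)) * g := by rw [hx]
      _ = x * a := by group

/-- an involution of `N(A)` lies in `A`. -/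
theorem Hyp.mem_of_involution (h : Hyp A) {s : G} (hs : orderOf s = 2)
    (hsN : s ∈ Subgroup.normalizer (A : Set G)) : s ∈ A := by
  obtain ⟨t, htA, ht⟩ := h.inv
  have hss := sq_eq_one hs
  have hsinv := inv_eq hs
  have ht1 := ne_one ht
  have htinv := inv_eq ht
  have hstA : s * t * s⁻¹ ∈ A := (Subgroup.mem_normalizer_iff.mp hsN t).mp htA
  by_cases hy : t * (s * t * s⁻¹) = 1
  · -- s commutes with t
    have e : s * t * s⁻¹ = t := by
      have : s * t * s⁻¹ = t⁻¹ := eq_inv_of_mul_eq_one_right hy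
      rw [this, htinv]
    apply h.mem_of_commute htA ht1
    calc t * s = (s * t * s⁻¹) * s := by rw [e]
      _ = s * t := by group
  · apply h.mem_of_commute (A.mul_mem htA hstA) hy
    have hc := h.comm t htA _ hstA
    calc t * (s * t * s⁻¹) * s = (s * t * s⁻¹) * t * s := by rw [hc]
      _ = s * (t * (s⁻¹ * t * s)) := by group
      _ = s * (t * (s * t * s⁻¹)) := by rw [hsinv]

variable [Finite G]

/-- `N(A)` is strongly embedded. -/
theorem Hyp.stronglyEmbedded (h : Hyp A) :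
    Cfsg.IsStronglyEmbedded (Subgroup.normalizer (A : Set G)) := by
  have : Fact (Nat.Prime 2) := ⟨Nat.prime_two⟩
  refine ⟨h.ne_top, ?_, ?_⟩
  · obtain ⟨t, htA, ht⟩ := h.inv
    have h3 : t ∈ Subgroup.normalizer (A : Set G) := Subgroup.le_normalizer htA
    have h4 : orderOf t ∣ Nat.card (Subgroup.normalizer (A : Set G)) := by
      have := orderOf_dvd_natCard (⟨t, h3⟩ : Subgroup.normalizer (A : Set G))
      rwa [Subgroup.orderOf_mk] at this
    rw [ht] at h4
    exact even_iff_two_dvd.mpr h4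
  · intro g hg
    by_contra hodd
    rw [Nat.not_odd_iff_even, even_iff_two_dvd] at hodd
    obtain ⟨⟨s, hsmem⟩, hs⟩ := exists_prime_orderOf_dvd_card' 2 hodd
    rw [Subgroup.orderOf_mk] at hs
    obtain ⟨hs1, hs2⟩ := Subgroup.mem_inf.mp hsmem
    rw [Cfsg.Agent.Lib.H6.mem_map_conj_iff] at hs2
    have hsA := h.mem_of_involution hs hs1
    have hs' : orderOf (g⁻¹ * s * g) = 2 := orderOf_conj' hs g
    have hsA' := h.mem_of_involution hs' hs2
    apply hg
    apply h.mem_normalizer_of_conj_mem hsA' (ne_one hs')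
    have e : g * (g⁻¹ * s * g) * g⁻¹ = s := by group
    rw [e]; exact hsA

end Cfsg.Agent.Lib.H21.CATI
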