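import Mathlib
import Cfsg.Prelude.Def_Involutions
import Cfsg.Prelude.Def_LieRecognition
import Cfsg.Agent.Lib.H21.CATI1

set_option autoImplicit false
set_option linter.unusedSectionVars false

/-!
# Self-centralizing abelian TI subgroups of even order, II: the subgroup `D = M ∩ uMu⁻¹`
-/

namespace Cfsg.Agent.Lib.H21.CATI

open Cfsg.Agent.Lib.H6.SE
open Cfsg.Agent.Lib.H6.CIT (mem_centralizer_singleton comm_of_inverted mem_D_iff eq_one_of_odd_of_sq)

variable {G : Type*} [Group G] [Finite G] {A : Subgroup G} (h : Hyp A)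
  {u : G} (hu : orderOf u = 2) (huH : u ∉ Subgroup.normalizer (A : Set G))

include h hu huH

theorem D_odd : Odd (Nat.card ↥(Subgroup.normalizer (A : Set G) ⊓
    (Subgroup.normalizer (A : Set G)).map (MulAut.conj u).toMonoidHom)) :=
  h.stronglyEmbedded.2.2 u huH

/-- `D ∩ A = 1`. -/
theorem D_inf_A {d : G} (hd : d ∈ Subgroup.normalizer (A : Set G) ⊓
    (Subgroup.normalizer (A : Set G)).map (MulAut.conj u).toMonoidHom)
    (hdA : d ∈ A) : d = 1 := by
  have huinv := inv_eq hu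
  have huu := sq_eq_one hu
  obtain ⟨hdM, hd2⟩ := Subgroup.mem_inf.mp hd
  rw [Cfsg.Agent.Lib.H6.mem_map_conj_iff] at hd2
  -- e = u d u⁻¹ ∈ M
  have heM : u * d * u⁻¹ ∈ Subgroup.normalizer (A : Set G) := by
    have : u * d * u⁻¹ = u⁻¹ * d * u := by rw [huinv]
    rw [this]; exact hd2
  by_contra hd1
  -- the commutator of e and d lies in A and in uAu⁻¹
  have h1 : (u * d * u⁻¹) * d * (u * d * u⁻¹)⁻¹ ∈ A :=
    (Subgroup.mem_normalizer_iff.mp heM d).mp hdA
  have hcA : (u * d * u⁻¹) * d * (u * d * u⁻¹)⁻¹ * d⁻¹ ∈ A := A.mul_mem h1 (A.inv_mem hdA)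
  have h2 : (u * d * u⁻¹) * d⁻¹ * (u * d * u⁻¹)⁻¹ ∈ A :=
    (Subgroup.mem_normalizer_iff.mp heM d⁻¹).mp (A.inv_mem hdA)
  have hcA' : u * ((u * d * u⁻¹) * d * (u * d * u⁻¹)⁻¹ * d⁻¹) * u⁻¹ ∈ A := by
    have e : u * ((u * d * u⁻¹) * d * (u * d * u⁻¹)⁻¹ * d⁻¹) * u⁻¹ =
        ((u * u) * d * (u * u)⁻¹) * ((u * d * u⁻¹) * ((u * u) * d⁻¹ * (u * u)⁻¹) * (u * d * u⁻¹)⁻¹) := by
      group
    rw [e, huu]
    simp only [one_mul, inv_one, mul_one]
    exact A.mul_mem hdA h2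
  by_cases hc1 : (u * d * u⁻¹) * d * (u * d * u⁻¹)⁻¹ * d⁻¹ = 1
  · -- e commutes with d, so e ∈ A, so u ∈ M
    have hcomm : d * (u * d * u⁻¹) = (u * d * u⁻¹) * d := by
      have : (u * d * u⁻¹) * d = ((u * d * u⁻¹) * d * (u * d * u⁻¹)⁻¹ * d⁻¹) * (d * (u * d * u⁻¹)) := by
        group
      rw [this, hc1, one_mul]
    have heA : u * d * u⁻¹ ∈ A := h.mem_of_commute hdA hd1 hcomm
    exact huH (h.mem_normalizer_of_conj_mem hdA hd1 heA)
  · exact huH (h.mem_normalizer_of_conj_mem hcA hc1 hcA')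

omit hu huH in
/-- a nontrivial element of `A` fixes only the coset `M`. -/
theorem A_semiregular {a : G} (ha : a ∈ A) {x : G ⧸ Subgroup.normalizer (A : Set G)}
    (hx : x ≠ QuotientGroup.mk 1) (hax : a • x = x) : a = 1 := by
  have hSE := h.stronglyEmbedded
  obtain ⟨t, htA, ht⟩ := h.inv
  have htN : t ∈ Subgroup.normalizer (A : Set G) := Subgroup.le_normalizer htA
  induction x using QuotientGroup.induction_on with
  | H g =>
    have hix : t • (QuotientGroup.mk 1 : G ⧸ Subgroup.normalizer (A : Set G)) = QuotientGroup.mk 1 := by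
      rw [smul_mk_eq_iff]; simpa using htN
    have hjp : (g * t * g⁻¹) • (QuotientGroup.mk g : G ⧸ Subgroup.normalizer (A : Set G)) =
        QuotientGroup.mk g := by
      rw [smul_mk_eq_iff]
      have e : g⁻¹ * (g * t * g⁻¹) * g = t := by group
      rw [e]; exact htN
    obtain ⟨u', hu', -, hu'x, hu'p⟩ := exists_swap hSE ht (orderOf_conj ht g) hix hjp (Ne.symm hx)
    have hu'H : u' ∉ Subgroup.normalizer (A : Set G) := by
      intro hmem
      apply hx
      rw [← hu'x, smul_mk_eq_iff]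
      simpa using hmem
    apply D_inf_A h hu' hu'H _ ha
    rw [mem_D_iff]
    constructor
    · rw [smul_mk_eq_iff]; simpa using Subgroup.le_normalizer ha
    · have e : (QuotientGroup.mk u' : G ⧸ Subgroup.normalizer (A : Set G)) =
          u' • QuotientGroup.mk 1 := by
        show _ = QuotientGroup.mk (u' * 1)
        rw [mul_one]
      rw [e, hu'x]; exact hax

/-- `D ∩ C(u) = 1`. -/
theorem D_inf_centralizer {x : G} (hx : x ∈ Subgroup.normalizer (A : Set G) ⊓
    (Subgroup.normalizer (A : Set G)).map (MulAut.conj u).toMonoidHom)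
    (hxu : u * x = x * u) : x = 1 := by
  have hSE := h.stronglyEmbedded
  obtain ⟨t, htA, ht⟩ := h.inv
  have htN : t ∈ Subgroup.normalizer (A : Set G) := Subgroup.le_normalizer htA
  obtain ⟨-, hconj⟩ := Cfsg.Agent.S1225.result _ hSE u hu huH t t ht htN ht htN
  obtain ⟨g, hg⟩ := isConj_iff.mp (hconj t u ht hu)
  -- u = g t g⁻¹
  have hgM : g ∉ Subgroup.normalizer (A : Set G) := by
    intro hgM
    apply huH
    rw [← hg]
    exact Subgroup.mul_mem _ (Subgroup.mul_mem _ hgM htN) (Subgroup.inv_mem _ hgM)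
  have hxM : x ∈ Subgroup.normalizer (A : Set G) := (Subgroup.mem_inf.mp hx).1
  -- a = g⁻¹ x g ∈ A
  have haA : g⁻¹ * x * g ∈ A := by
    apply h.mem_of_commute htA (ne_one ht)
    have e1 : t = g⁻¹ * u * g := by rw [← hg]; group
    calc t * (g⁻¹ * x * g) = g⁻¹ * (u * x) * g := by rw [e1]; group
      _ = g⁻¹ * (x * u) * g := by rw [hxu]
      _ = g⁻¹ * x * g * t := by rw [e1]; group
  have hne : (QuotientGroup.mk g⁻¹ : G ⧸ Subgroup.normalizer (A : Set G)) ≠ QuotientGroup.mk 1 := by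
    intro e
    rw [QuotientGroup.eq] at e
    apply hgM
    simpa using e
  have hfix : (g⁻¹ * x * g) • (QuotientGroup.mk g⁻¹ : G ⧸ Subgroup.normalizer (A : Set G)) =
      QuotientGroup.mk g⁻¹ := by
    rw [smul_mk_eq_iff]
    have e : g⁻¹⁻¹ * (g⁻¹ * x * g) * g⁻¹ = x := by group
    rw [e]; exact hxM
  have h1 := A_semiregular h haA hne hfix
  calc x = g * (g⁻¹ * x * g) * g⁻¹ := by group
    _ = 1 := by rw [h1]; group

/-- `u` inverts `D`. -/
theorem D_inverted {d : G} (hd : d ∈ Subgroup.normalizer (A : Set G) ⊓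
    (Subgroup.normalizer (A : Set G)).map (MulAut.conj u).toMonoidHom) :
    u * d * u⁻¹ = d⁻¹ := by
  have huinv := inv_eq hu
  have hodd := D_odd h hu huH
  have hnorm : ∀ x ∈ Subgroup.normalizer (A : Set G) ⊓
      (Subgroup.normalizer (A : Set G)).map (MulAut.conj u).toMonoidHom,
      u * x * u⁻¹ ∈ Subgroup.normalizer (A : Set G) ⊓
      (Subgroup.normalizer (A : Set G)).map (MulAut.conj u).toMonoidHom := by
    intro x hx
    rw [Subgroup.mem_inf, Cfsg.Agent.Lib.H6.mem_map_conj_iff] at hx ⊢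
    constructor
    · have := hx.2
      rw [huinv] at this ⊢
      exact this
    · have e : u⁻¹ * (u * x * u⁻¹) * u = x := by group
      rw [e]; exact hx.1
  obtain ⟨h1, -, -⟩ := Cfsg.Agent.S1124.result u hu _ hodd hnorm
  obtain ⟨⟨p1, p2⟩, ⟨hp1, hp2, hp3⟩, -⟩ := h1 d hd
  simp only at hp1 hp2 hp3
  obtain ⟨hp1D, hp1C⟩ := Subgroup.mem_inf.mp hp1
  have hp1' : p1 = 1 := by
    apply D_inf_centralizer h hu huH hp1D
    rw [mem_centralizer_singleton] at hp1C
    exact hp1C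
  rw [hp1', one_mul] at hp3
  rw [hp3]
  exact hp2.2

/-- `D` is commutative. -/
theorem D_comm : ∀ a ∈ Subgroup.normalizer (A : Set G) ⊓
    (Subgroup.normalizer (A : Set G)).map (MulAut.conj u).toMonoidHom,
    ∀ b ∈ Subgroup.normalizer (A : Set G) ⊓
    (Subgroup.normalizer (A : Set G)).map (MulAut.conj u).toMonoidHom, a * b = b * a :=
  comm_of_inverted (fun d hd => D_inverted h hu huH hd)

/-- `M = D A`. -/
theorem exists_D_A {m : G} (hm : m ∈ Subgroup.normalizer (A : Set G)) :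
    ∃ d ∈ Subgroup.normalizer (A : Set G) ⊓
      (Subgroup.normalizer (A : Set G)).map (MulAut.conj u).toMonoidHom, d⁻¹ * m ∈ A := by
  have hSE := h.stronglyEmbedded
  obtain ⟨t, htA, ht⟩ := h.inv
  have htN : t ∈ Subgroup.normalizer (A : Set G) := Subgroup.le_normalizer htA
  have h1 : m * t * m⁻¹ ∈ Subgroup.normalizer (A : Set G) :=
    Subgroup.mul_mem _ (Subgroup.mul_mem _ hm htN) (Subgroup.inv_mem _ hm)
  obtain ⟨d, hd, hds⟩ := Cfsg.Agent.S1225.exists_D_conj hSE hu huH ht htN (orderOf_conj ht m) h1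
  refine ⟨d, hd, ?_⟩
  apply h.mem_of_commute htA (ne_one ht)
  calc t * (d⁻¹ * m) = d⁻¹ * (d * t * d⁻¹) * m := by group
    _ = d⁻¹ * (m * t * m⁻¹) * m := by rw [hds]
    _ = d⁻¹ * m * t := by group

/-- `|M| = |D| |A|`. -/
theorem card_M : Nat.card (Subgroup.normalizer (A : Set G)) =
    Nat.card ↥(Subgroup.normalizer (A : Set G) ⊓
      (Subgroup.normalizer (A : Set G)).map (MulAut.conj u).toMonoidHom) * Nat.card A := by
  rw [← Nat.card_prod]
  symm
  apply Nat.card_congr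
  refine Equiv.ofBijective (fun p => ⟨p.1.1 * p.2.1, Subgroup.mul_mem _ (Subgroup.mem_inf.mp p.1.2).1
    (Subgroup.le_normalizer p.2.2)⟩) ⟨?_, ?_⟩
  · rintro ⟨⟨d, hd⟩, ⟨t, ht⟩⟩ ⟨⟨d', hd'⟩, ⟨t', ht'⟩⟩ heq
    simp only [Subtype.mk.injEq] at heq
    have h1 : d'⁻¹ * d = t' * t⁻¹ := by
      calc d'⁻¹ * d = d'⁻¹ * (d * t) * t⁻¹ := by group
        _ = d'⁻¹ * (d' * t') * t⁻¹ := by rw [heq]
        _ = t' * t⁻¹ := by group
    have h2 : d'⁻¹ * d = 1 := by
      apply D_inf_A h hu huH (Subgroup.mul_mem _ (Subgroup.inv_mem _ hd') hd)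
      rw [h1]
      exact Subgroup.mul_mem _ ht' (Subgroup.inv_mem _ ht)
    have h3 : d = d' := by
      calc d = d' * (d'⁻¹ * d) := by group
        _ = d' := by rw [h2, mul_one]
    subst h3
    have h4 : t = t' := mul_left_cancel heq
    subst h4
    rfl
  · rintro ⟨m, hm⟩
    obtain ⟨d, hd, hdt⟩ := exists_D_A h hu huH hm
    refine ⟨⟨⟨d, hd⟩, ⟨d⁻¹ * m, hdt⟩⟩, ?_⟩
    apply Subtype.ext
    show d * (d⁻¹ * m) = m
    group

end Cfsg.Agent.Lib.H21.CATI
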