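import Mathlib
import Cfsg.Agent.Lib.H21.CATI2

set_option autoImplicit false
set_option linter.unusedSectionVars false

/-!
# Self-centralizing abelian TI subgroups of even order, III: fixed points of `D`,
transitivity of `A` (in a simple group)
-/

namespace Cfsg.Agent.Lib.H21.CATI

open Cfsg.Agent.Lib.H6.SE
open Cfsg.Agent.Lib.H6.CIT (mem_centralizer_singleton comm_of_inverted mem_D_iff eq_one_of_odd_of_sq)

variable {G : Type*} [Group G] [Finite G] {A : Subgroup G} (h : Hyp A)

omit [Finite G] in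
theorem mk_one_smul (N : Subgroup G) (g : G) : g • (QuotientGroup.mk 1 : G ⧸ N) = QuotientGroup.mk g := by
  show QuotientGroup.mk (g * 1) = _
  rw [mul_one]

omit [Finite G] in
theorem mem_iff_fix (N : Subgroup G) (g : G) : g ∈ N ↔ g • (QuotientGroup.mk 1 : G ⧸ N) = QuotientGroup.mk 1 := by
  rw [smul_mk_eq_iff]
  simp

include h in
/-- every coset `≠ M` is `u M` for an involution `u ∉ M`. -/
theorem exists_involution_mk {p : G ⧸ Subgroup.normalizer (A : Set G)}
    (hp : p ≠ QuotientGroup.mk 1) :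
    ∃ u : G, orderOf u = 2 ∧ u ∉ Subgroup.normalizer (A : Set G) ∧ QuotientGroup.mk u = p := by
  have hSE := h.stronglyEmbedded
  obtain ⟨t, htA, ht⟩ := h.inv
  have htN : t ∈ Subgroup.normalizer (A : Set G) := Subgroup.le_normalizer htA
  induction p using QuotientGroup.induction_on with
  | H g =>
    have hix : t • (QuotientGroup.mk 1 : G ⧸ Subgroup.normalizer (A : Set G)) = QuotientGroup.mk 1 := by
      rw [smul_mk_eq_iff]; simpa using htN
    have hjp : (g * t * g⁻¹) • (QuotientGroup.mk g : G ⧸ Subgroup.normalizer (A : Set G)) =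
        QuotientGroup.mk g := by
      rw [smul_mk_eq_iff]
      have e : g⁻¹ * (g * t * g⁻¹) * g = t := by group
      rw [e]; exact htN
    obtain ⟨u', hu', -, hu'x, -⟩ := exists_swap hSE ht (orderOf_conj ht g) hix hjp (Ne.symm hp)
    rw [mk_one_smul] at hu'x
    refine ⟨u', hu', ?_, hu'x⟩
    intro hmem
    apply hp
    rw [← hu'x, ← mk_one_smul]
    exact (mem_iff_fix _ _).mp hmem

variable {u : G} (hu : orderOf u = 2) (huH : u ∉ Subgroup.normalizer (A : Set G))

include h hu huH

/-- In a simple group, `D ≠ 1`. -/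
theorem exists_D_ne_one [IsSimpleGroup G] : ∃ d ∈ Subgroup.normalizer (A : Set G) ⊓
    (Subgroup.normalizer (A : Set G)).map (MulAut.conj u).toMonoidHom, d ≠ 1 := by
  by_contra hcon
  push Not at hcon
  have hSE := h.stronglyEmbedded
  obtain ⟨t, htA, ht⟩ := h.inv
  have htN : t ∈ Subgroup.normalizer (A : Set G) := Subgroup.le_normalizer htA
  have hMA : ∀ m ∈ Subgroup.normalizer (A : Set G), m ∈ A := by
    intro m hm
    obtain ⟨d, hd, hdm⟩ := exists_D_A h hu huH hm
    rw [hcon d hd, inv_one, one_mul] at hdm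
    exact hdm
  have : Fact (Nat.Prime 2) := ⟨Nat.prime_two⟩
  have hp : IsPGroup 2 (Subgroup.zpowers t) := by
    apply IsPGroup.of_card (n := 1)
    rw [Nat.card_zpowers, ht, pow_one]
  obtain ⟨P, hP⟩ := hp.exists_le_sylow
  have htP : t ∈ (P : Subgroup G) := hP (Subgroup.mem_zpowers t)
  have hPM := sylow_le hSE P ht htN htP
  have hNC : Subgroup.normalizer ((P : Subgroup G) : Set G) ≤
      Subgroup.centralizer ((P : Subgroup G) : Set G) := by
    intro g hg
    have hgM : g ∈ Subgroup.normalizer (A : Set G) := by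
      apply mem_of_conj_mem' hSE ht htN
      apply hPM
      exact (Subgroup.mem_normalizer_iff.mp hg t).mp htP
    rw [Subgroup.mem_centralizer_iff]
    intro x hx
    exact h.comm x (hMA x (hPM hx)) g (hMA g hgM)
  have hcompl := MonoidHom.ker_transferSylow_isComplement' P hNC
  rcases (MonoidHom.normal_ker (MonoidHom.transferSylow P hNC)).eq_bot_or_eq_top with hK | hK
  · rw [hK] at hcompl
    have hPtop : (P : Subgroup G) = ⊤ := Subgroup.isComplement'_bot_left.mp hcompl
    apply h.ne_top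
    rw [eq_top_iff]
    intro g _
    apply hPM
    rw [hPtop]
    trivial
  · rw [hK] at hcompl
    have hPbot : (P : Subgroup G) = ⊥ := Subgroup.isComplement'_top_left.mp hcompl
    rw [hPbot, Subgroup.mem_bot] at htP
    exact ne_one ht htP

/-- no element of `M` inverts `D`. -/
theorem no_invert [IsSimpleGroup G] {m : G} (hm : m ∈ Subgroup.normalizer (A : Set G))
    (hinv : ∀ d ∈ Subgroup.normalizer (A : Set G) ⊓
      (Subgroup.normalizer (A : Set G)).map (MulAut.conj u).toMonoidHom,
      m * d * m⁻¹ = d⁻¹) : False := by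
  obtain ⟨d₀, hd₀, ht₀⟩ := exists_D_A h hu huH hm
  have hcomm := D_comm h hu huH
  obtain ⟨d, hd, hd1⟩ := exists_D_ne_one h hu huH
  apply hd1
  have hodd := D_odd h hu huH
  -- t₀ = d₀⁻¹ m inverts d
  have h1 : (d₀⁻¹ * m) * d * (d₀⁻¹ * m)⁻¹ = d⁻¹ := by
    have e : (d₀⁻¹ * m) * d * (d₀⁻¹ * m)⁻¹ = d₀⁻¹ * (m * d * m⁻¹) * d₀ := by group
    rw [e, hinv d hd]
    have := hcomm d₀⁻¹ (Subgroup.inv_mem _ hd₀) d⁻¹ (Subgroup.inv_mem _ hd)
    rw [this]; group
  have hdN : d ∈ Subgroup.normalizer (A : Set G) := (Subgroup.mem_inf.mp hd).1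
  have h2 : d⁻¹ * d⁻¹ ∈ A := by
    have e : d⁻¹ * d⁻¹ = (d₀⁻¹ * m) * (d * (d₀⁻¹ * m)⁻¹ * d⁻¹) := by
      calc d⁻¹ * d⁻¹ = ((d₀⁻¹ * m) * d * (d₀⁻¹ * m)⁻¹) * d⁻¹ := by rw [h1]
        _ = (d₀⁻¹ * m) * (d * (d₀⁻¹ * m)⁻¹ * d⁻¹) := by group
    rw [e]
    apply Subgroup.mul_mem _ ht₀
    rw [Subgroup.mem_normalizer_iff] at hdN
    exact (hdN _).mp (Subgroup.inv_mem _ ht₀)
  have h3 : d⁻¹ * d⁻¹ = 1 :=
    D_inf_A h hu huH (Subgroup.mul_mem _ (Subgroup.inv_mem _ hd) (Subgroup.inv_mem _ hd)) h2
  apply eq_one_of_odd_of_sq hodd hd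
  calc d ^ 2 = (d⁻¹ * d⁻¹)⁻¹ := by group
    _ = 1 := by rw [h3, inv_one]

/-- if `D` fixes the coset `p = u' • M ≠ M` (`u'` an involution), then `M ∩ u'Mu'⁻¹ = D`. -/
theorem D_eq_of_fix {u' : G} (hu' : orderOf u' = 2)
    (hu'x : u' • (QuotientGroup.mk 1 : G ⧸ Subgroup.normalizer (A : Set G)) ≠ QuotientGroup.mk 1)
    (hfix : ∀ d ∈ Subgroup.normalizer (A : Set G) ⊓
      (Subgroup.normalizer (A : Set G)).map (MulAut.conj u).toMonoidHom,
      d • (u' • (QuotientGroup.mk 1 : G ⧸ Subgroup.normalizer (A : Set G))) =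
        u' • (QuotientGroup.mk 1 : G ⧸ Subgroup.normalizer (A : Set G))) :
    Subgroup.normalizer (A : Set G) ⊓
      (Subgroup.normalizer (A : Set G)).map (MulAut.conj u).toMonoidHom =
    Subgroup.normalizer (A : Set G) ⊓
      (Subgroup.normalizer (A : Set G)).map (MulAut.conj u').toMonoidHom := by
  have hu'H : u' ∉ Subgroup.normalizer (A : Set G) := by
    intro hmem
    apply hu'x
    rw [smul_mk_eq_iff]
    simpa using hmem
  apply Subgroup.eq_of_le_of_card_ge
  · intro d hd
    rw [mem_D_iff]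
    refine ⟨((mem_D_iff _ u d).mp hd).1, ?_⟩
    have := hfix d hd
    have e : u' • (QuotientGroup.mk 1 : G ⧸ Subgroup.normalizer (A : Set G)) =
        QuotientGroup.mk u' := mk_one_smul _ _
    rwa [e] at this
  · have h1 := card_M h hu huH
    have h2 := card_M h hu' hu'H
    rw [h1] at h2
    have hpos : 0 < Nat.card A := Nat.card_pos
    exact le_of_eq (Nat.eq_of_mul_eq_mul_right hpos h2).symm

/-- for a coset `p ≠ M` fixed by `D` there is an involution swapping `M` and `p` and inverting `D`. -/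
theorem exists_inverting_swap (g : G)
    (hp : (QuotientGroup.mk g : G ⧸ Subgroup.normalizer (A : Set G)) ≠ QuotientGroup.mk 1)
    (hfix : ∀ d ∈ Subgroup.normalizer (A : Set G) ⊓
      (Subgroup.normalizer (A : Set G)).map (MulAut.conj u).toMonoidHom,
      d • (QuotientGroup.mk g : G ⧸ Subgroup.normalizer (A : Set G)) = QuotientGroup.mk g) :
    ∃ u' : G, orderOf u' = 2 ∧
      u' • (QuotientGroup.mk 1 : G ⧸ Subgroup.normalizer (A : Set G)) = QuotientGroup.mk g ∧
      u' • (QuotientGroup.mk g : G ⧸ Subgroup.normalizer (A : Set G)) = QuotientGroup.mk 1 ∧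
      ∀ d ∈ Subgroup.normalizer (A : Set G) ⊓
        (Subgroup.normalizer (A : Set G)).map (MulAut.conj u).toMonoidHom,
        u' * d * u'⁻¹ = d⁻¹ := by
  have hSE := h.stronglyEmbedded
  obtain ⟨s₀, hs₀A, hs₀⟩ := h.inv
  have hs₀N : s₀ ∈ Subgroup.normalizer (A : Set G) := Subgroup.le_normalizer hs₀A
  have hix : s₀ • (QuotientGroup.mk 1 : G ⧸ Subgroup.normalizer (A : Set G)) =
      QuotientGroup.mk 1 := by
    rw [smul_mk_eq_iff]; simpa using hs₀N
  have hjp : (g * s₀ * g⁻¹) • (QuotientGroup.mk g : G ⧸ Subgroup.normalizer (A : Set G)) =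
      QuotientGroup.mk g := by
    rw [smul_mk_eq_iff]
    have e : g⁻¹ * (g * s₀ * g⁻¹) * g = s₀ := by group
    rw [e]; exact hs₀N
  obtain ⟨u', hu', -, hu'x, hu'p⟩ := exists_swap hSE hs₀ (orderOf_conj hs₀ g) hix hjp (Ne.symm hp)
  refine ⟨u', hu', hu'x, hu'p, ?_⟩
  have hu'H : u' ∉ Subgroup.normalizer (A : Set G) := by
    intro hmem
    apply hp
    rw [← hu'x, smul_mk_eq_iff]
    simpa using hmem
  have hDeq := D_eq_of_fix h hu huH hu' (by rw [hu'x]; exact hp)
    (by intro d hd; rw [hu'x]; exact hfix d hd)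
  intro d hd
  rw [hDeq] at hd
  exact D_inverted h hu' hu'H hd

/-- the cosets fixed by `D` are `M` and `uM`. -/
theorem fixed_cosets [IsSimpleGroup G] (g : G) :
    (∀ d ∈ Subgroup.normalizer (A : Set G) ⊓
      (Subgroup.normalizer (A : Set G)).map (MulAut.conj u).toMonoidHom,
      d • (QuotientGroup.mk g : G ⧸ Subgroup.normalizer (A : Set G)) = QuotientGroup.mk g) ↔
    (QuotientGroup.mk g : G ⧸ Subgroup.normalizer (A : Set G)) = QuotientGroup.mk 1 ∨
      (QuotientGroup.mk g : G ⧸ Subgroup.normalizer (A : Set G)) = QuotientGroup.mk u := by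
  have huu := sq_eq_one hu
  have huinv := inv_eq hu
  constructor
  · intro hfix
    by_contra hcon
    push Not at hcon
    obtain ⟨hp1, hp2⟩ := hcon
    obtain ⟨up, hup, hupx, hupp, hupinv⟩ := exists_inverting_swap h hu huH g hp1 hfix
    -- c = u * up centralises D and maps M to q = (u g) M
    have hc : ∀ d ∈ Subgroup.normalizer (A : Set G) ⊓
        (Subgroup.normalizer (A : Set G)).map (MulAut.conj u).toMonoidHom,
        (u * up) * d * (u * up)⁻¹ = d := by
      intro d hd
      have e : (u * up) * d * (u * up)⁻¹ = u * (up * d * up⁻¹) * u⁻¹ := by group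
      rw [e, hupinv d hd]
      have := D_inverted h hu huH (Subgroup.inv_mem _ hd)
      rw [this, inv_inv]
    have hq1 : (QuotientGroup.mk (u * g) : G ⧸ Subgroup.normalizer (A : Set G)) ≠
        QuotientGroup.mk 1 := by
      intro heq
      apply hp2
      have h1 : u • (QuotientGroup.mk (u * g) : G ⧸ Subgroup.normalizer (A : Set G)) =
          u • QuotientGroup.mk 1 := by rw [heq]
      have e1 : u • (QuotientGroup.mk (u * g) : G ⧸ Subgroup.normalizer (A : Set G)) =
          QuotientGroup.mk g := by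
        show QuotientGroup.mk (u * (u * g)) = _
        rw [← mul_assoc, huu, one_mul]
      have e2 : u • (QuotientGroup.mk 1 : G ⧸ Subgroup.normalizer (A : Set G)) =
          QuotientGroup.mk u := mk_one_smul _ _
      rw [e1, e2] at h1
      exact h1
    have hqfix : ∀ d ∈ Subgroup.normalizer (A : Set G) ⊓
        (Subgroup.normalizer (A : Set G)).map (MulAut.conj u).toMonoidHom,
        d • (QuotientGroup.mk (u * g) : G ⧸ Subgroup.normalizer (A : Set G)) =
          QuotientGroup.mk (u * g) := by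
      intro d hd
      have e1 : (QuotientGroup.mk (u * g) : G ⧸ Subgroup.normalizer (A : Set G)) =
          u • QuotientGroup.mk g := rfl
      rw [e1, ← mul_smul]
      have e2 : d * u = u * (u⁻¹ * d * u) := by group
      have e3 : u⁻¹ * d * u = d⁻¹ := by
        have := D_inverted h hu huH hd
        rw [huinv] at this ⊢
        exact this
      rw [e2, e3, mul_smul, hfix d⁻¹ (Subgroup.inv_mem _ hd)]
    obtain ⟨uq, huq, huqx, huqq, huqinv⟩ := exists_inverting_swap h hu huH (u * g) hq1 hqfix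
    -- m = uq * u * up fixes M and inverts D
    apply no_invert h hu huH (m := uq * (u * up))
    · have hx : (uq * (u * up)) • (QuotientGroup.mk 1 : G ⧸ Subgroup.normalizer (A : Set G)) =
          QuotientGroup.mk 1 := by
        rw [mul_smul, mul_smul, hupx]
        have e1 : u • (QuotientGroup.mk g : G ⧸ Subgroup.normalizer (A : Set G)) =
            QuotientGroup.mk (u * g) := rfl
        rw [e1, huqq]
      rw [smul_mk_eq_iff] at hx
      simpa using hx
    · intro d hd
      have e : uq * (u * up) * d * (uq * (u * up))⁻¹ = uq * ((u * up) * d * (u * up)⁻¹) * uq⁻¹ := by group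
      rw [e, hc d hd, huqinv d hd]
  · rintro (heq | heq)
    · intro d hd
      rw [heq]
      exact ((mem_D_iff _ u d).mp hd).1
    · intro d hd
      rw [heq]
      exact ((mem_D_iff _ u d).mp hd).2

/-- `C_M(d) = D` for `1 ≠ d ∈ D`. -/
theorem mem_D_of_commute {d x : G} (hd : d ∈ Subgroup.normalizer (A : Set G) ⊓
    (Subgroup.normalizer (A : Set G)).map (MulAut.conj u).toMonoidHom) (hd1 : d ≠ 1)
    (hx : x ∈ Subgroup.normalizer (A : Set G)) (hxd : x * d = d * x) :
    x ∈ Subgroup.normalizer (A : Set G) ⊓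
      (Subgroup.normalizer (A : Set G)).map (MulAut.conj u).toMonoidHom := by
  obtain ⟨d₀, hd₀, ha⟩ := exists_D_A h hu huH hx
  have hcomm := D_comm h hu huH
  -- a = d₀⁻¹ x commutes with d
  have hc : (d₀⁻¹ * x) * d = d * (d₀⁻¹ * x) := by
    calc (d₀⁻¹ * x) * d = d₀⁻¹ * (x * d) := by group
      _ = d₀⁻¹ * (d * x) := by rw [hxd]
      _ = (d₀⁻¹ * d) * x := by group
      _ = (d * d₀⁻¹) * x := by rw [hcomm d₀⁻¹ (Subgroup.inv_mem _ hd₀) d hd]
      _ = d * (d₀⁻¹ * x) := by group
  by_cases ha1 : d₀⁻¹ * x = 1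
  · have : x = d₀ := by
      calc x = d₀ * (d₀⁻¹ * x) := by group
        _ = d₀ := by rw [ha1, mul_one]
    rw [this]; exact hd₀
  · exfalso
    apply hd1
    exact D_inf_A h hu huH hd (h.mem_of_commute ha ha1 hc)

/-- a nontrivial element of `D` fixes exactly the cosets `M` and `uM`. -/
theorem fix_two [IsSimpleGroup G] {d : G} (hd : d ∈ Subgroup.normalizer (A : Set G) ⊓
    (Subgroup.normalizer (A : Set G)).map (MulAut.conj u).toMonoidHom) (hd1 : d ≠ 1)
    {x : G ⧸ Subgroup.normalizer (A : Set G)} (hdx : d • x = x) :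
    x = QuotientGroup.mk 1 ∨ x = QuotientGroup.mk u := by
  by_cases hx1 : x = QuotientGroup.mk 1
  · left; exact hx1
  obtain ⟨u', hu', hu'H, hu'x⟩ := exists_involution_mk h hx1
  induction x using QuotientGroup.induction_on with
  | H g =>
    apply (fixed_cosets h hu huH g).mp
    -- D_{u'} ≤ D_u, hence equal
    have hdD' : d ∈ Subgroup.normalizer (A : Set G) ⊓
        (Subgroup.normalizer (A : Set G)).map (MulAut.conj u').toMonoidHom := by
      rw [mem_D_iff]
      refine ⟨((mem_D_iff _ u d).mp hd).1, ?_⟩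
      rw [hu'x]; exact hdx
    have hle : Subgroup.normalizer (A : Set G) ⊓
        (Subgroup.normalizer (A : Set G)).map (MulAut.conj u').toMonoidHom ≤
        Subgroup.normalizer (A : Set G) ⊓
        (Subgroup.normalizer (A : Set G)).map (MulAut.conj u).toMonoidHom := by
      intro y hy
      apply mem_D_of_commute h hu huH hd hd1 (Subgroup.mem_inf.mp hy).1
      exact D_comm h hu' hu'H y hy d hdD'
    have heq : Subgroup.normalizer (A : Set G) ⊓
        (Subgroup.normalizer (A : Set G)).map (MulAut.conj u').toMonoidHom =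
        Subgroup.normalizer (A : Set G) ⊓
        (Subgroup.normalizer (A : Set G)).map (MulAut.conj u).toMonoidHom := by
      apply Subgroup.eq_of_le_of_card_ge hle
      have h1 := card_M h hu huH
      have h2 := card_M h hu' hu'H
      rw [h1] at h2
      have hpos : 0 < Nat.card A := Nat.card_pos
      exact le_of_eq (Nat.eq_of_mul_eq_mul_right hpos h2)
    intro d' hd'
    rw [← heq] at hd'
    have := ((mem_D_iff _ u' d').mp hd').2
    rw [hu'x] at this
    exact this

end Cfsg.Agent.Lib.H21.CATI
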