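import Mathlib
import Cfsg.Agent.Lib.H21.CATI3
import Cfsg.Agent.Lib.H4.Feit.ZasAbelian
import Cfsg.Agent.Lib.H4.S3T.Small
import Cfsg.Agent.S0731

set_option autoImplicit false
set_option linter.unusedSectionVars false

/-!
# Self-centralizing abelian TI subgroups of even order, IV: a simple group with such a subgroup
`A` is `PSL₂(F)` with `|F| = |A|` a power of 2
-/

namespace Cfsg.Agent.Lib.H21.CATI

open Cfsg.Agent.Lib.H6.SE
open Cfsg.Agent.Lib.H6.CIT (mem_centralizer_singleton comm_of_inverted mem_D_iff eq_one_of_odd_of_sq)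

variable {G : Type*} [Group G] [Finite G] [IsSimpleGroup G] {A : Subgroup G} (h : Hyp A)

include h

/-- `A` is transitive on the cosets `≠ M`. -/
theorem A_transitive {x y : G ⧸ Subgroup.normalizer (A : Set G)}
    (hx : x ≠ QuotientGroup.mk 1) (hy : y ≠ QuotientGroup.mk 1) :
    ∃ n ∈ A, n • x = y := by
  obtain ⟨u, hu, huH, rfl⟩ := exists_involution_mk h hx
  obtain ⟨u', hu', hu'H, rfl⟩ := exists_involution_mk h hy
  obtain ⟨d, hd, hd1⟩ := exists_D_ne_one h hu huH
  have hdM := (Subgroup.mem_inf.mp hd).1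
  obtain ⟨d', hd', ha'⟩ := exists_D_A h hu' hu'H hdM
  have hd'M := (Subgroup.mem_inf.mp hd').1
  have hd'1 : d' ≠ 1 := by
    intro e
    rw [e, inv_one, one_mul] at ha'
    exact hd1 (D_inf_A h hu huH hd ha')
  have hmem : ∀ n : A, d'⁻¹ * (n : G) * d' * (n : G)⁻¹ ∈ A := by
    intro n
    apply A.mul_mem _ (A.inv_mem n.2)
    have := (Subgroup.mem_normalizer_iff.mp (Subgroup.inv_mem _ hd'M) (n : G)).mp n.2
    rwa [inv_inv] at this
  let ψ : A → A := fun n => ⟨d'⁻¹ * (n : G) * d' * (n : G)⁻¹, hmem n⟩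
  have hinj : Function.Injective ψ := by
    intro n₁ n₂ heq
    have e : d'⁻¹ * (n₁ : G) * d' * (n₁ : G)⁻¹ = d'⁻¹ * (n₂ : G) * d' * (n₂ : G)⁻¹ :=
      congrArg Subtype.val heq
    -- m = n₂⁻¹ n₁ commutes with d'
    have hm : ((n₂ : G)⁻¹ * (n₁ : G)) * d' = d' * ((n₂ : G)⁻¹ * (n₁ : G)) := by
      calc ((n₂ : G)⁻¹ * (n₁ : G)) * d'
          = (n₂ : G)⁻¹ * d' * (d'⁻¹ * (n₁ : G) * d' * (n₁ : G)⁻¹) * (n₁ : G) := by group
        _ = (n₂ : G)⁻¹ * d' * (d'⁻¹ * (n₂ : G) * d' * (n₂ : G)⁻¹) * (n₁ : G) := by rw [e]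
        _ = d' * ((n₂ : G)⁻¹ * (n₁ : G)) := by group
    by_cases hm1 : (n₂ : G)⁻¹ * (n₁ : G) = 1
    · apply Subtype.ext
      calc (n₁ : G) = (n₂ : G) * ((n₂ : G)⁻¹ * (n₁ : G)) := by group
        _ = n₂ := by rw [hm1, mul_one]
    · exfalso
      apply hd'1
      apply D_inf_A h hu' hu'H hd'
      exact h.mem_of_commute (A.mul_mem (A.inv_mem n₂.2) n₁.2) hm1 hm
  have hsurj : Function.Surjective ψ := Finite.injective_iff_surjective.mp hinj
  obtain ⟨n, hn⟩ := hsurj ⟨d'⁻¹ * d, ha'⟩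
  have hn' : d'⁻¹ * (n : G) * d' * (n : G)⁻¹ = d'⁻¹ * d := congrArg Subtype.val hn
  have hconj : (n : G) * d' * (n : G)⁻¹ = d := by
    calc (n : G) * d' * (n : G)⁻¹ = d' * (d'⁻¹ * (n : G) * d' * (n : G)⁻¹) := by group
      _ = d' * (d'⁻¹ * d) := by rw [hn']
      _ = d := by group
  have hfix : d • ((n : G) • (QuotientGroup.mk u' : G ⧸ Subgroup.normalizer (A : Set G))) =
      (n : G) • (QuotientGroup.mk u' : G ⧸ Subgroup.normalizer (A : Set G)) := by
    rw [← hconj, ← mul_smul]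
    have e : (n : G) * d' * (n : G)⁻¹ * (n : G) = (n : G) * d' := by group
    rw [e, mul_smul, ((mem_D_iff _ u' d').mp hd').2]
  have hnM : (n : G) ∈ Subgroup.normalizer (A : Set G) := Subgroup.le_normalizer n.2
  rcases fix_two h hu huH hd hd1 hfix with h1 | h1
  · exfalso
    apply hy
    have : (QuotientGroup.mk u' : G ⧸ Subgroup.normalizer (A : Set G)) =
        (n : G)⁻¹ • QuotientGroup.mk 1 := by
      rw [← h1, inv_smul_smul]
    rw [this]
    exact (mem_iff_fix _ _).mp (Subgroup.inv_mem _ hnM)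
  · refine ⟨(n : G)⁻¹, A.inv_mem n.2, ?_⟩
    rw [← h1, inv_smul_smul]

/-- the action of `G` on `G ⧸ M` is a Zassenhaus group. -/
theorem isZassenhaus : Cfsg.IsZassenhausGroup G (G ⧸ Subgroup.normalizer (A : Set G)) := by
  obtain ⟨t, htA, ht⟩ := h.inv
  have htN : t ∈ Subgroup.normalizer (A : Set G) := Subgroup.le_normalizer htA
  -- an involution outside `M`
  obtain ⟨g₀, hg₀⟩ : ∃ g₀ : G, g₀ ∉ Subgroup.normalizer (A : Set G) := by
    by_contra hcon
    push Not at hcon
    exact h.ne_top (eq_top_iff.2 fun x _ => hcon x)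
  have hp₀ : (QuotientGroup.mk g₀ : G ⧸ Subgroup.normalizer (A : Set G)) ≠ QuotientGroup.mk 1 := by
    intro e
    rw [QuotientGroup.eq] at e
    apply hg₀
    simpa using e
  obtain ⟨u₀, hu₀, hu₀H, hu₀x⟩ := exists_involution_mk h hp₀
  have hmove : ∀ a : G ⧸ Subgroup.normalizer (A : Set G), ∃ g : G, g • a = QuotientGroup.mk 1 := by
    intro a
    induction a using QuotientGroup.induction_on with
    | H g =>
      refine ⟨g⁻¹, ?_⟩
      show QuotientGroup.mk (g⁻¹ * g) = _
      rw [inv_mul_cancel]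
  have hthree : ∀ g : G, ∀ a b c : G ⧸ Subgroup.normalizer (A : Set G), a ≠ b → b ≠ c → a ≠ c →
      g • a = a → g • b = b → g • c = c → g = 1 := by
    intro g a b c hab hbc hac ha hb hc
    obtain ⟨g₁, hg₁⟩ := hmove a
    have hb1 : g₁ • b ≠ QuotientGroup.mk 1 := by
      rw [← hg₁]; intro e; exact hab (smul_left_cancel g₁ e).symm
    have hc1 : g₁ • c ≠ QuotientGroup.mk 1 := by
      rw [← hg₁]; intro e; exact hac (smul_left_cancel g₁ e).symm
    obtain ⟨u, hu, huH, hux⟩ := exists_involution_mk h hb1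
    by_contra hg1
    have hg' : g₁ * g * g₁⁻¹ ≠ 1 := by
      intro e
      apply hg1
      calc g = g₁⁻¹ * (g₁ * g * g₁⁻¹) * g₁ := by group
        _ = 1 := by rw [e]; group
    have hfixpt : ∀ p : G ⧸ Subgroup.normalizer (A : Set G), g • p = p →
        (g₁ * g * g₁⁻¹) • (g₁ • p) = g₁ • p := by
      intro p hp
      rw [← mul_smul]
      have e : g₁ * g * g₁⁻¹ * g₁ = g₁ * g := by group
      rw [e, mul_smul, hp]
    have hD : g₁ * g * g₁⁻¹ ∈ Subgroup.normalizer (A : Set G) ⊓
        (Subgroup.normalizer (A : Set G)).map (MulAut.conj u).toMonoidHom := by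
      rw [mem_D_iff]
      constructor
      · have := hfixpt a ha
        rwa [hg₁] at this
      · rw [hux]; exact hfixpt b hb
    rcases fix_two h hu huH hD hg' (hfixpt c hc) with e | e
    · exact hc1 e
    · rw [hux] at e
      exact hbc (smul_left_cancel g₁ e).symm
  refine ⟨⟨?_⟩, ?_, hthree, ?_, ?_⟩
  · -- faithful
    intro g₁ g₂ hg
    have hker : ∀ g : G, (∀ a : G ⧸ Subgroup.normalizer (A : Set G), g • a = a) → g = 1 := by
      intro g hga
      have hgk : g ∈ (MulAction.toPermHom G (G ⧸ Subgroup.normalizer (A : Set G))).ker := by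
        rw [MonoidHom.mem_ker]
        ext a
        exact hga a
      rcases (MonoidHom.normal_ker (MulAction.toPermHom G
        (G ⧸ Subgroup.normalizer (A : Set G)))).eq_bot_or_eq_top with hK | hK
      · rw [hK, Subgroup.mem_bot] at hgk
        exact hgk
      · exfalso
        apply hg₀
        have : g₀ ∈ (MulAction.toPermHom G (G ⧸ Subgroup.normalizer (A : Set G))).ker := by
          rw [hK]; trivial
        rw [MonoidHom.mem_ker] at this
        have h1 := congrArg (fun σ => σ (QuotientGroup.mk 1 : G ⧸ Subgroup.normalizer (A : Set G))) this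
        simp only [MulAction.toPermHom_apply, MulAction.toPerm_apply, Equiv.Perm.coe_one, id_eq] at h1
        exact (mem_iff_fix _ _).mpr h1
    have : g₂⁻¹ * g₁ = 1 := by
      apply hker
      intro a
      rw [mul_smul, hg a, inv_smul_smul]
    calc g₁ = g₂ * (g₂⁻¹ * g₁) := by group
      _ = g₂ := by rw [this, mul_one]
  · -- 2-transitive
    rw [MulAction.is_two_pretransitive_iff]
    intro a b c d hab hcd
    obtain ⟨g₁, hg₁⟩ := hmove a
    obtain ⟨g₂, hg₂⟩ := hmove c
    have hb1 : g₁ • b ≠ QuotientGroup.mk 1 := by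
      rw [← hg₁]; intro e; exact hab (smul_left_cancel g₁ e).symm
    have hd1 : g₂ • d ≠ QuotientGroup.mk 1 := by
      rw [← hg₂]; intro e; exact hcd (smul_left_cancel g₂ e).symm
    obtain ⟨n, hn, hnb⟩ := A_transitive h hb1 hd1
    have hnM : n ∈ Subgroup.normalizer (A : Set G) := Subgroup.le_normalizer hn
    refine ⟨g₂⁻¹ * n * g₁, ?_, ?_⟩
    · rw [mul_smul, mul_smul, hg₁, (mem_iff_fix _ _).mp hnM, ← hg₂, inv_smul_smul]
    · rw [mul_smul, mul_smul, hnb, inv_smul_smul]
  · -- a nonidentity element fixing two points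
    obtain ⟨d, hd, hd1⟩ := exists_D_ne_one h hu₀ hu₀H
    refine ⟨d, hd1, QuotientGroup.mk 1, QuotientGroup.mk u₀, ?_, ?_, ?_⟩
    · rw [hu₀x]; exact hp₀.symm
    · exact ((mem_D_iff _ u₀ d).mp hd).1
    · exact ((mem_D_iff _ u₀ d).mp hd).2
  · -- no regular normal subgroup
    intro N hN hNt
    rcases hN.eq_bot_or_eq_top with rfl | rfl
    · exfalso
      obtain ⟨n, hn⟩ := hNt.exists_smul_eq (QuotientGroup.mk 1) (QuotientGroup.mk g₀)
      have hn1 : (n : G) = 1 := by
        have := n.2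
        rw [Subgroup.mem_bot] at this
        exact this
      have : (n : G) • (QuotientGroup.mk 1 : G ⧸ Subgroup.normalizer (A : Set G)) =
          QuotientGroup.mk g₀ := hn
      rw [hn1, one_smul] at this
      exact hp₀ this.symm
    · refine ⟨QuotientGroup.mk 1, ?_⟩
      intro hbot
      rw [Subgroup.eq_bot_iff_forall] at hbot
      have hmem : (⟨t, Subgroup.mem_top t⟩ : (⊤ : Subgroup G)) ∈ MulAction.stabilizer (⊤ : Subgroup G)
          (QuotientGroup.mk 1 : G ⧸ Subgroup.normalizer (A : Set G)) := by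
        rw [MulAction.mem_stabilizer_iff]
        exact (mem_iff_fix _ _).mp htN
      have := hbot _ hmem
      exact ne_one ht (congrArg Subtype.val this)

end Cfsg.Agent.Lib.H21.CATI
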