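import Mathlib
import Cfsg.Agent.Lib.H21.CATI4
import Cfsg.Agent.S1230

set_option autoImplicit false
set_option linter.unusedSectionVars false

/-!
# Self-centralizing abelian TI subgroups of even order, V: the main theorem

A finite simple group with a subgroup `A` containing an involution such that `C_G(a) = A` for all
`1 ≠ a ∈ A` and `N_G(A) ≠ G` is isomorphic to `PSL₂(F)`, `|F| = |A| = 2 ^ f`, `f ≥ 2`.
-/

namespace Cfsg.Agent.Lib.H21.CATI

open Cfsg.Agent.Lib.H6.SE
open Cfsg.Agent.Lib.H6.CIT (mem_centralizer_singleton comm_of_inverted mem_D_iff eq_one_of_odd_of_sq)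

variable {G : Type*} [Group G] [Finite G] [IsSimpleGroup G] {A : Subgroup G}

theorem main (h : Hyp A) :
    ∃ (F : Type) (_ : Field F) (_ : Fintype F) (f : ℕ), 2 ≤ f ∧ Fintype.card F = 2 ^ f ∧
      Fintype.card F = Nat.card A ∧
      Nonempty (G ≃* Matrix.ProjectiveSpecialLinearGroup (Fin 2) F) := by
  classical
  haveI : Fintype (G ⧸ Subgroup.normalizer (A : Set G)) := Fintype.ofFinite _
  have hZ := isZassenhaus h
  have hP := Cfsg.Agent.Lib.H2.Zass.pre_of_zassenhaus hZ
  obtain ⟨t, htA, ht⟩ := h.inv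
  have htN : t ∈ Subgroup.normalizer (A : Set G) := Subgroup.le_normalizer htA
  obtain ⟨g₀, hg₀⟩ : ∃ g₀ : G, g₀ ∉ Subgroup.normalizer (A : Set G) := by
    by_contra hcon
    push Not at hcon
    exact h.ne_top (eq_top_iff.2 fun x _ => hcon x)
  have hp₀ : (QuotientGroup.mk g₀ : G ⧸ Subgroup.normalizer (A : Set G)) ≠ QuotientGroup.mk 1 := by
    intro e
    rw [QuotientGroup.eq] at e
    apply hg₀
    simpa using e
  obtain ⟨u, hu, huH, hux⟩ := exists_involution_mk h hp₀
  have hab : (QuotientGroup.mk 1 : G ⧸ Subgroup.normalizer (A : Set G)) ≠ QuotientGroup.mk u := by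
    rw [hux]; exact hp₀.symm
  -- regularity of `A`
  have hreg : ∀ y z : G ⧸ Subgroup.normalizer (A : Set G), y ≠ QuotientGroup.mk 1 →
      z ≠ QuotientGroup.mk 1 → ∃! n : A, (n : G) • y = z := by
    intro y z hy hz
    obtain ⟨n, hn, hnz⟩ := A_transitive h hy hz
    refine ⟨⟨n, hn⟩, hnz, ?_⟩
    intro n' hn'
    have hfix : ((n : G)⁻¹ * (n' : G)) • y = y := by
      rw [mul_smul, hn', ← hnz, inv_smul_smul]
    have h1 := A_semiregular h (A.mul_mem (A.inv_mem hn) n'.2) hy hfix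
    apply Subtype.ext
    show (n' : G) = n
    calc (n' : G) = n * (n⁻¹ * (n' : G)) := by group
      _ = n := by rw [h1, mul_one]
  have hFle : A ≤ MulAction.stabilizer G (QuotientGroup.mk 1 : G ⧸ Subgroup.normalizer (A : Set G)) := by
    intro a ha
    rw [MulAction.mem_stabilizer_iff]
    exact (mem_iff_fix _ _).mp (Subgroup.le_normalizer ha)
  -- the degree
  have hreg' : ∀ x y : G ⧸ Subgroup.normalizer (A : Set G), x ≠ QuotientGroup.mk 1 →
      y ≠ QuotientGroup.mk 1 → ∃! t : G, t ∈ A ∧ t • x = y := by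
    intro x y hx hy
    obtain ⟨n, hn, hnu⟩ := hreg x y hx hy
    refine ⟨n, ⟨n.2, hn⟩, ?_⟩
    rintro t' ⟨ht'A, ht'⟩
    have := hnu ⟨t', ht'A⟩ ht'
    exact congrArg Subtype.val this
  have hcard := Cfsg.Agent.S1230.card_quotient_of_regular A _ Subgroup.le_normalizer h.ne_top hreg'
  -- `|A|` is even
  have hAeven : 2 ∣ Nat.card A := by
    have := orderOf_dvd_natCard (⟨t, htA⟩ : A)
    rwa [Subgroup.orderOf_mk, ht] at this
  -- the two point stabilizer is `D`
  have hstab : MulAction.stabilizer G (QuotientGroup.mk 1 : G ⧸ Subgroup.normalizer (A : Set G)) ⊓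
      MulAction.stabilizer G (QuotientGroup.mk u : G ⧸ Subgroup.normalizer (A : Set G)) =
      Subgroup.normalizer (A : Set G) ⊓
        (Subgroup.normalizer (A : Set G)).map (MulAut.conj u).toMonoidHom := by
    ext d
    rw [mem_D_iff, Subgroup.mem_inf, MulAction.mem_stabilizer_iff, MulAction.mem_stabilizer_iff]
  have hDodd := D_odd h hu huH
  have hcardΩ : Nat.card (G ⧸ Subgroup.normalizer (A : Set G)) = Nat.card A + 1 := by
    rw [Nat.card_eq_fintype_card]; exact hcard
  have hkey := Cfsg.Agent.Lib.H4.Feit.zassenhaus_abelian_kernel hZ hab A hFle h.comm hreg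
  rw [hstab, hcardΩ] at hkey
  obtain ⟨k, hk⟩ := hAeven
  have hApos : 0 < Nat.card A := Nat.card_pos
  rcases hkey with hD | ⟨hD, -⟩
  swap
  · exfalso
    obtain ⟨m, hm⟩ := hDodd
    omega
  -- sharply 3-transitive
  have he : Nat.card ↥(MulAction.stabilizer G (QuotientGroup.mk 1 : G ⧸ Subgroup.normalizer (A : Set G)) ⊓
      MulAction.stabilizer G (QuotientGroup.mk u : G ⧸ Subgroup.normalizer (A : Set G))) =
      Nat.card (G ⧸ Subgroup.normalizer (A : Set G)) - 2 := by
    rw [hstab, hcardΩ]; exact hD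
  obtain ⟨h3, hfix⟩ := Cfsg.Agent.S0731.sharp_three hP hab he
  have hS : Cfsg.Agent.Lib.H4.S3T.Sharp3 G (G ⧸ Subgroup.normalizer (A : Set G)) := by
    constructor
    · intro u v w u' v' w' huv huw hvw huv' huw' hvw'
      let x : Fin 3 ↪ (G ⧸ Subgroup.normalizer (A : Set G)) := ⟨![u, v, w], by
        intro i j hij
        fin_cases i <;> fin_cases j <;> simp_all⟩
      let y : Fin 3 ↪ (G ⧸ Subgroup.normalizer (A : Set G)) := ⟨![u', v', w'], by
        intro i j hij
        fin_cases i <;> fin_cases j <;> simp_all⟩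
      obtain ⟨g, hg⟩ := h3.exists_smul_eq x y
      refine ⟨g, ?_, ?_, ?_⟩
      · exact DFunLike.congr_fun hg 0
      · exact DFunLike.congr_fun hg 1
      · exact DFunLike.congr_fun hg 2
    · intro g a b c hab' hac hbc h1 h2 h3'
      exact hP.three g a b c hab' hbc hac h1 h2 h3'
  -- `|D| ≥ 3`, so `|A| ≥ 4`
  obtain ⟨d, hd, hd1⟩ := exists_D_ne_one h hu huH
  have hD3 : 3 ≤ Nat.card ↥(Subgroup.normalizer (A : Set G) ⊓
      (Subgroup.normalizer (A : Set G)).map (MulAut.conj u).toMonoidHom) := by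
    have h1 : 1 < Nat.card ↥(Subgroup.normalizer (A : Set G) ⊓
        (Subgroup.normalizer (A : Set G)).map (MulAut.conj u).toMonoidHom) := by
      rw [Finite.one_lt_card_iff_nontrivial]
      exact ⟨⟨⟨d, hd⟩, 1, fun e => hd1 (congrArg Subtype.val e)⟩⟩
    obtain ⟨m, hm⟩ := hDodd
    omega
  have hoddΩ : Odd (Fintype.card (G ⧸ Subgroup.normalizer (A : Set G))) := by
    rw [hcard, hk]; exact ⟨k, by ring⟩
  obtain ⟨F, fld, fin, hF, ⟨φ⟩⟩ := Cfsg.Agent.Lib.H4.S3T.exists_PGL_small hS hoddΩ (by omega)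
  have hFA : Fintype.card F = Nat.card A := by omega
  have heven : Even (Fintype.card F) := by
    rw [hFA, hk]; exact ⟨k, by ring⟩
  obtain ⟨n, hp, hn⟩ := FiniteField.card F (ringChar F)
  have hchar : ringChar F = 2 := by
    rw [hn] at heven
    have h2 : 2 ∣ ringChar F ^ (n : ℕ) := even_iff_two_dvd.1 heven
    have := Nat.prime_two.dvd_of_dvd_pow h2
    exact ((Nat.prime_dvd_prime_iff_eq Nat.prime_two hp).1 this).symm
  rw [hchar] at hn
  have hn1 : 1 ≤ (n : ℕ) := n.pos
  have hn2 : 2 ≤ (n : ℕ) := by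
    by_contra hcon
    have : (n : ℕ) = 1 := by omega
    rw [this, pow_one] at hn
    omega
  obtain ⟨ψ⟩ := Cfsg.Agent.Lib.H4.S3T.nonempty_PSL_mulEquiv_PGL hn1 hn
  exact ⟨F, fld, fin, n, hn2, hn, hFA, ⟨φ.trans ψ.symm⟩⟩

end Cfsg.Agent.Lib.H21.CATI
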