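import Mathlib

/-!
# Groups in which centralizers of non-central elements are maximal (helper21)

`CM G` : the centralizer of every non-central element is a maximal subgroup.
For a centre-free `CM`-group we study `M x = C_G(x)` and `A x = C_G(C_G(x)) = Z(C_G(x))`.
-/

set_option autoImplicit false

namespace Cfsg.Agent.Lib.H21.CM

variable {G : Type*} [Group G]

/-- Centralizers of non-central elements are maximal subgroups. -/
def CM (G : Type*) [Group G] : Prop :=
  ∀ g : G, g ∉ Subgroup.center G → IsCoatom (Subgroup.centralizer ({g} : Set G))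

/-- `M x = C_G(x)`. -/
abbrev M (x : G) : Subgroup G := Subgroup.centralizer ({x} : Set G)

/-- `A x = C_G(C_G(x))`, the centre of `C_G(x)`. -/
abbrev A (x : G) : Subgroup G := Subgroup.centralizer ((M x : Subgroup G) : Set G)

theorem mem_M {x y : G} : y ∈ M x ↔ x * y = y * x := by
  rw [Subgroup.mem_centralizer_iff]
  simp

theorem mem_A {x z : G} : z ∈ A x ↔ ∀ y, x * y = y * x → y * z = z * y := by
  rw [Subgroup.mem_centralizer_iff]
  constructor
  · intro h y hy
    exact h y (mem_M.mpr hy)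
  · intro h y hy
    exact h y (mem_M.mp hy)

theorem self_mem_A (x : G) : x ∈ A x := by
  rw [mem_A]
  intro y hy
  exact hy.symm

theorem self_mem_M (x : G) : x ∈ M x := mem_M.mpr rfl

theorem A_le_M (x : G) : A x ≤ M x := by
  intro z hz
  rw [mem_M]
  exact ((mem_A.mp hz) x rfl)

theorem M_le_M_of_mem_A {x z : G} (hz : z ∈ A x) : M x ≤ M z := by
  intro y hy
  rw [mem_M] at hy ⊢
  exact ((mem_A.mp hz) y hy).symm

section CenterFree

variable (hCM : CM G) (hZ : Subgroup.center G = ⊥)
include hCM hZ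

theorem isCoatom_M {x : G} (hx : x ≠ 1) : IsCoatom (M x) := by
  apply hCM
  rw [hZ, Subgroup.mem_bot]
  exact hx

theorem M_ne_top {x : G} (hx : x ≠ 1) : M x ≠ ⊤ := (isCoatom_M hCM hZ hx).1

/-- (F3) -/
theorem M_eq_of_mem_A {x z : G} (hx : x ≠ 1) (hz : z ∈ A x) (hz1 : z ≠ 1) : M z = M x := by
  have h1 := M_le_M_of_mem_A hz
  rcases eq_or_lt_of_le h1 with h | h
  · exact h.symm
  · exact absurd ((isCoatom_M hCM hZ hx).2 _ h) (M_ne_top hCM hZ hz1)

theorem A_eq_of_mem_A {x z : G} (hx : x ≠ 1) (hz : z ∈ A x) (hz1 : z ≠ 1) : A z = A x := by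
  show Subgroup.centralizer ((M z : Subgroup G) : Set G) = Subgroup.centralizer ((M x : Subgroup G) : Set G)
  rw [M_eq_of_mem_A hCM hZ hx hz hz1]

/-- (F4) commuting elements have commuting `A`'s. -/
theorem A_commute {x y : G} (hy : y ≠ 1) (hxy : x * y = y * x) {a b : G}
    (ha : a ∈ A x) (hb : b ∈ A y) : a * b = b * a := by
  -- `a` commutes with `y`, so `a ∈ M y`, hence commutes with `b ∈ A y`
  have h1 : y * a = a * y := (mem_A.mp ha) y hxy
  have h2 := (mem_A.mp hb) a h1
  exact h2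
  
/-- Distinct classes meet trivially. -/
theorem A_inf_eq_bot {x y : G} (hx : x ≠ 1) (hy : y ≠ 1) (hne : M x ≠ M y) :
    A x ⊓ A y = ⊥ := by
  rw [eq_bot_iff]
  intro z hz
  rw [Subgroup.mem_bot]
  by_contra hz1
  apply hne
  rw [← M_eq_of_mem_A hCM hZ hx hz.1 hz1, ← M_eq_of_mem_A hCM hZ hy hz.2 hz1]

/-- Key divisibility: if `y ∈ M x ∖ A x`, then `o(b) ∣ o(a)` for `a ∈ A x`, `b ∈ A y`
non-trivial. -/
theorem orderOf_dvd_of_not_mem_A [Finite G] {x y : G} (hx : x ≠ 1) (hyM : y ∈ M x)
    (hyA : y ∉ A x)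
    {a b : G} (ha : a ∈ A x) (ha1 : a ≠ 1) (hb : b ∈ A y) (_hb1 : b ≠ 1) :
    orderOf b ∣ orderOf a := by
  have hy1 : y ≠ 1 := by
    rintro rfl
    exact hyA (Subgroup.one_mem _)
  have hxy : x * y = y * x := mem_M.mp hyM
  have hMne : M x ≠ M y := by
    intro h
    apply hyA
    have : A x = A y := by
      show Subgroup.centralizer ((M x : Subgroup G) : Set G)
        = Subgroup.centralizer ((M y : Subgroup G) : Set G)
      rw [h]
    rw [this]
    exact self_mem_A y
  have hinf := A_inf_eq_bot hCM hZ hx hy1 hMne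
  have hab : a * b = b * a := A_commute hCM hZ hy1 hxy ha hb
  apply orderOf_dvd_of_pow_eq_one
  by_contra hb'
  -- `c = a * b`
  have hc1 : a * b ≠ 1 := by
    intro h
    have : a = b⁻¹ := eq_inv_of_mul_eq_one_left h
    have ha' : a ∈ A x ⊓ A y := ⟨ha, this ▸ (A y).inv_mem hb⟩
    rw [hinf, Subgroup.mem_bot] at ha'
    exact ha1 ha'
  have hpow : (a * b) ^ orderOf a = b ^ orderOf a := by
    rw [(Commute.mul_pow hab), pow_orderOf_eq_one, one_mul]
  have h1 : b ^ orderOf a ∈ A y := (A y).pow_mem hb _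
  have h2 : b ^ orderOf a ∈ A (a * b) := by
    rw [← hpow]
    exact (A (a * b)).pow_mem (self_mem_A _) _
  have e1 : M (b ^ orderOf a) = M y := M_eq_of_mem_A hCM hZ hy1 h1 hb'
  have e2 : M (b ^ orderOf a) = M (a * b) := M_eq_of_mem_A hCM hZ hc1 h2 hb'
  have e3 : M (a * b) = M y := e2.symm.trans e1
  have h3 : a * b ∈ A y := by
    have : A (a * b) = A y := by
      show Subgroup.centralizer ((M (a * b) : Subgroup G) : Set G)
        = Subgroup.centralizer ((M y : Subgroup G) : Set G)
      rw [e3]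
    rw [← this]
    exact self_mem_A _
  have h4 : a ∈ A y := by
    have := (A y).mul_mem h3 ((A y).inv_mem hb)
    simpa using this
  have ha' : a ∈ A x ⊓ A y := ⟨ha, h4⟩
  rw [hinf, Subgroup.mem_bot] at ha'
  exact ha1 ha'

/-- (F5') if `y ∈ M x ∖ A x` then all non-trivial elements of `A x` and `A y` have the same
prime order. -/
theorem exists_prime_order [Finite G] {x y : G} (hx : x ≠ 1) (hyM : y ∈ M x) (hyA : y ∉ A x) :
    ∃ p : ℕ, p.Prime ∧ (∀ a ∈ A x, a ≠ 1 → orderOf a = p) ∧ (∀ b ∈ A y, b ≠ 1 → orderOf b = p) := by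
  have hy1 : y ≠ 1 := by
    rintro rfl
    exact hyA (Subgroup.one_mem _)
  have hxy : x * y = y * x := mem_M.mp hyM
  -- symmetric hypotheses
  have hxM : x ∈ M y := mem_M.mpr hxy.symm
  have hMne : M x ≠ M y := by
    intro h
    apply hyA
    have : A x = A y := by
      show Subgroup.centralizer ((M x : Subgroup G) : Set G)
        = Subgroup.centralizer ((M y : Subgroup G) : Set G)
      rw [h]
    rw [this]
    exact self_mem_A y
  have hxA : x ∉ A y := by
    intro h
    have : x ∈ A x ⊓ A y := ⟨self_mem_A x, h⟩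
    rw [A_inf_eq_bot hCM hZ hx hy1 hMne, Subgroup.mem_bot] at this
    exact hx this
  have heq : ∀ a ∈ A x, a ≠ 1 → ∀ b ∈ A y, b ≠ 1 → orderOf a = orderOf b := by
    intro a ha ha1 b hb hb1
    exact Nat.dvd_antisymm
      (orderOf_dvd_of_not_mem_A hCM hZ hy1 hxM hxA hb hb1 ha ha1)
      (orderOf_dvd_of_not_mem_A hCM hZ hx hyM hyA ha ha1 hb hb1)
  set n := orderOf x with hn
  have hn1 : n ≠ 1 := by
    rw [hn, Ne, orderOf_eq_one_iff]
    exact hx
  have hny : orderOf y = n := (heq x (self_mem_A x) hx y (self_mem_A y) hy1).symm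
  -- `n` is prime
  have hnp : n.Prime := by
    set q := n.minFac with hq
    have hqp : q.Prime := Nat.minFac_prime hn1
    have hqn : q ∣ n := Nat.minFac_dvd n
    have hnpos : 0 < n := orderOf_pos x
    -- `x ^ (n / q)` has order `q`
    have h1 : orderOf (x ^ (n / q)) = q := by
      rw [orderOf_pow_of_dvd (by
        intro h0
        have := Nat.div_mul_cancel hqn
        rw [h0, zero_mul] at this
        omega) (Nat.div_dvd_of_dvd hqn)]
      rw [← hn]
      exact Nat.div_div_self hqn hnpos.ne'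
    have h2 : x ^ (n / q) ≠ 1 := by
      intro h
      rw [h, orderOf_one] at h1
      exact hqp.one_lt.ne h1
    have h3 := heq _ ((A x).pow_mem (self_mem_A x) _) h2 y (self_mem_A y) hy1
    rw [h1, hny] at h3
    rw [← h3]
    exact hqp
  refine ⟨n, hnp, ?_, ?_⟩
  · intro a ha ha1
    rw [heq a ha ha1 y (self_mem_A y) hy1, hny]
  · intro b hb hb1
    rw [← heq x (self_mem_A x) hx b hb hb1]

/-- (F6) type II elements: `C_G(x)` has prime exponent `o(x)`. -/
theorem pow_eq_one_of_typeII [Finite G] {x : G} (hx : x ≠ 1) (hII : ¬ M x ≤ A x) :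
    (orderOf x).Prime ∧ ∀ h ∈ M x, h ^ orderOf x = 1 := by
  obtain ⟨y₀, hy₀M, hy₀A⟩ := SetLike.not_le_iff_exists.mp hII
  obtain ⟨p, hp, h1, -⟩ := exists_prime_order hCM hZ hx hy₀M hy₀A
  have hxp : orderOf x = p := h1 x (self_mem_A x) hx
  rw [hxp]
  refine ⟨hp, ?_⟩
  intro h hh
  by_cases hh1 : h = 1
  · rw [hh1, one_pow]
  by_cases hhA : h ∈ A x
  · rw [← h1 h hhA hh1, pow_orderOf_eq_one]
  · obtain ⟨p', -, h1', h2'⟩ := exists_prime_order hCM hZ hx hh hhA
    have e1 : orderOf x = p' := h1' x (self_mem_A x) hx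
    have e2 : orderOf h = p' := h2' h (self_mem_A h) hh1
    rw [← hxp, e1, ← e2, pow_orderOf_eq_one]

/-- For a type II element, `C_G(x)` is a `p`-group, `p = o(x)`. -/
theorem isPGroup_M_of_typeII [Finite G] {x : G} (hx : x ≠ 1) (hII : ¬ M x ≤ A x) :
    IsPGroup (orderOf x) (M x) := by
  obtain ⟨-, h2⟩ := pow_eq_one_of_typeII hCM hZ hx hII
  intro g
  refine ⟨1, ?_⟩
  rw [pow_one]
  exact Subtype.ext (h2 g g.2)

/-- For a type II element, `C_G(x)` is a Sylow subgroup. -/
theorem exists_sylow_of_typeII [Finite G] {x : G} (hx : x ≠ 1) (hII : ¬ M x ≤ A x)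
    [Fact (orderOf x).Prime] :
    ∃ S : Sylow (orderOf x) G, (S : Subgroup G) = M x := by
  have hP := isPGroup_M_of_typeII hCM hZ hx hII
  refine ⟨⟨M x, hP, ?_⟩, rfl⟩
  intro Q hQ hMQ
  rcases eq_or_lt_of_le hMQ with h | h
  · exact h.symm
  · exfalso
    have hQtop : Q = ⊤ := (isCoatom_M hCM hZ hx).2 Q h
    have hG : IsPGroup (orderOf x) G := by
      intro g
      obtain ⟨k, hk⟩ := hQ ⟨g, hQtop ▸ Subgroup.mem_top g⟩
      exact ⟨k, by simpa [Subtype.ext_iff] using hk⟩
    have : Nontrivial G := ⟨⟨x, 1, hx⟩⟩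
    have := hG.center_nontrivial
    rw [hZ] at this
    exact not_nontrivial _ this

omit hCM hZ in
theorem card_A_eq_card_center (x : G) :
    Nat.card (A x) = Nat.card (Subgroup.center (M x)) := by
  have h : (Subgroup.center (M x)).map (M x).subtype = A x := by
    ext z
    constructor
    · rintro ⟨w, hw, rfl⟩
      rw [Subgroup.mem_centralizer_iff]
      intro y hy
      have := Subgroup.mem_center_iff.mp hw ⟨y, hy⟩
      exact congrArg Subtype.val this
    · intro hz
      refine ⟨⟨z, A_le_M x hz⟩, ?_, rfl⟩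
      show (⟨z, A_le_M x hz⟩ : M x) ∈ Subgroup.center (M x)
      rw [Subgroup.mem_center_iff]
      intro y
      apply Subtype.ext
      exact (Subgroup.mem_centralizer_iff.mp hz) y y.2
  rw [← h]
  exact Nat.card_congr ((Subgroup.center (M x)).equivMapOfInjective _
    (M x).subtype_injective).symm.toEquiv

/-- For a type II element, the centre of `C_G(x)` has index at least `p²`. -/
theorem card_A_mul_sq_le [Finite G] {x : G} (hx : x ≠ 1) (hII : ¬ M x ≤ A x) :
    Nat.card (A x) * (orderOf x) ^ 2 ≤ Nat.card (M x) := by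
  obtain ⟨hp, -⟩ := pow_eq_one_of_typeII hCM hZ hx hII
  haveI := Fact.mk hp
  have hP := isPGroup_M_of_typeII hCM hZ hx hII
  rw [card_A_eq_card_center]
  obtain ⟨k, hk⟩ := hP.index (Subgroup.center (M x))
  have hk2 : 2 ≤ k := by
    by_contra hlt
    apply hII
    have hcyc : IsCyclic ((M x) ⧸ Subgroup.center (M x)) := by
      have hcard : Nat.card ((M x) ⧸ Subgroup.center (M x)) = (orderOf x) ^ k := by
        rw [← hk, Subgroup.index_eq_card]
      interval_cases k
      · rw [pow_zero] at hcard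
        haveI : Subsingleton ((M x) ⧸ Subgroup.center (M x)) :=
          (Nat.card_eq_one_iff_unique.mp hcard).1
        exact isCyclic_of_subsingleton
      · rw [pow_one] at hcard
        exact isCyclic_of_prime_card hcard
    have hcomm := ((QuotientGroup.mk' (Subgroup.center (M x))).isMulCommutative_of_isCyclic_of_ker_le_center
      (by rw [QuotientGroup.ker_mk'])).is_comm.comm
    intro h hh
    rw [Subgroup.mem_centralizer_iff]
    intro y hy
    exact congrArg Subtype.val (hcomm ⟨y, hy⟩ ⟨h, hh⟩)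
  have h1 : Nat.card (M x) = (orderOf x) ^ k * Nat.card (Subgroup.center (M x)) := by
    rw [← hk, Subgroup.index_mul_card]
  rw [h1, mul_comm]
  exact Nat.mul_le_mul_right _ (Nat.pow_le_pow_right hp.pos hk2)

end CenterFree

end Cfsg.Agent.Lib.H21.CM
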