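import Mathlib
import Cfsg.Agent.Lib.H21.CMGroup
import Cfsg.Agent.Lib.H18.FrobeniusThm
import Cfsg.Agent.Lib.H1.FpfNilpotent

/-!
# CM-groups, part 2: the abelian (type I) case (helper21)
-/

set_option autoImplicit false

namespace Cfsg.Agent.Lib.H21.CM

open Pointwise

universe u

variable {G : Type u} [Group G]

/-- A group with a solvable normal maximal subgroup is solvable. -/
theorem solvable_of_normal_coatom [Finite G] (N : Subgroup G) [N.Normal] (hN : IsCoatom N)
    (hs : Group.IsSolvable N) : Group.IsSolvable G := by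
  have key : ∀ a : G ⧸ N, a ≠ 1 → Subgroup.zpowers a = ⊤ := by
    intro a ha
    have hsurj : Function.Surjective (QuotientGroup.mk' N) := QuotientGroup.mk'_surjective N
    obtain ⟨g, rfl⟩ := hsurj a
    set K := (Subgroup.zpowers (QuotientGroup.mk' N g)).comap (QuotientGroup.mk' N) with hK
    have hNK : N ≤ K := by
      intro y hy
      rw [hK, Subgroup.mem_comap]
      have : QuotientGroup.mk' N y = 1 := (QuotientGroup.eq_one_iff y).mpr hy
      rw [this]
      exact Subgroup.one_mem _
    have hgK : g ∈ K := by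
      rw [hK, Subgroup.mem_comap]
      exact Subgroup.mem_zpowers _
    have hgN : g ∉ N := by
      intro h
      exact ha ((QuotientGroup.eq_one_iff g).mpr h)
    have hlt : N < K := lt_of_le_of_ne hNK (fun h => hgN (h ▸ hgK))
    have hKtop : K = ⊤ := hN.2 K hlt
    have := Subgroup.map_comap_eq_self_of_surjective hsurj
      (Subgroup.zpowers (QuotientGroup.mk' N g))
    rw [← this, ← hK, hKtop, ← MonoidHom.range_eq_map, MonoidHom.range_eq_top.mpr hsurj]
  have hcomm : ∀ a b : G ⧸ N, a * b = b * a := by
    intro a b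
    by_cases ha : a = 1
    · rw [ha, one_mul, mul_one]
    · have hb : b ∈ Subgroup.zpowers a := by rw [key a ha]; exact Subgroup.mem_top b
      obtain ⟨k, rfl⟩ := Subgroup.mem_zpowers_iff.mp hb
      exact (Commute.self_zpow a k).eq
  have hq : Group.IsSolvable (G ⧸ N) := isSolvable_of_comm hcomm
  exact solvable_of_ker_le_range N.subtype (QuotientGroup.mk' N)
    (by rw [QuotientGroup.ker_mk', Subgroup.range_subtype])

theorem M_conj (g w : G) : M (g * w * g⁻¹) = MulAut.conj g • M w := by
  ext y
  rw [mem_M, Subgroup.mem_pointwise_smul_iff_inv_smul_mem, mem_M]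
  simp only [MulAut.smul_def, MulAut.conj_inv_apply]
  constructor
  · intro h
    have : w * (g⁻¹ * y * g) = g⁻¹ * (g * w * g⁻¹ * y) * g := by group
    rw [this, h]; group
  · intro h
    have : g * w * g⁻¹ * y = g * (w * (g⁻¹ * y * g)) * g⁻¹ := by group
    rw [this, h]; group

section CenterFree

variable (hCM : CM G) (hZ : Subgroup.center G = ⊥)
include hCM hZ

/-- Type I: if `C_G(x)` is abelian then `G` is solvable. -/
theorem solvable_of_typeI [Finite G] {x : G} (hx : x ≠ 1) (hI : M x ≤ A x) :
    Group.IsSolvable G := by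
  have hcoat := isCoatom_M hCM hZ hx
  have hcommM : ∀ a ∈ M x, ∀ b ∈ M x, a * b = b * a := by
    intro a ha b hb
    exact (Subgroup.mem_centralizer_iff.mp (hI hb) a ha)
  have hMsolv : Group.IsSolvable (M x) :=
    isSolvable_of_comm (fun a b => Subtype.ext (hcommM a a.2 b b.2))
  by_cases hnorm : (M x).Normal
  · exact solvable_of_normal_coatom (M x) hcoat hMsolv
  -- `M x` is self-normalizing
  have hself : Subgroup.normalizer ((M x : Subgroup G) : Set G) = M x := by
    rcases eq_or_lt_of_le (Subgroup.le_normalizer (H := M x)) with h | h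
    · exact h.symm
    · exfalso
      apply hnorm
      exact Subgroup.normalizer_eq_top_iff.mp (hcoat.2 _ h)
  -- `M x` is a Frobenius complement
  have hF : Cfsg.IsFrobeniusComplement (M x) := by
    refine ⟨?_, hcoat.1, ?_⟩
    · intro h
      have := self_mem_M x
      rw [h, Subgroup.mem_bot] at this
      exact hx this
    · intro g hg
      rw [eq_bot_iff]
      intro z hz
      rw [Subgroup.mem_bot]
      by_contra hz1
      apply hg
      have hz1' : z ∈ M x := hz.1
      have hz2 : z ∈ MulAut.conj g • M x := hz.2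
      rw [Subgroup.mem_pointwise_smul_iff_inv_smul_mem] at hz2
      simp only [MulAut.smul_def, MulAut.conj_inv_apply] at hz2
      set w := g⁻¹ * z * g with hw
      have hw1 : w ≠ 1 := by
        intro h
        apply hz1
        have : z = g * w * g⁻¹ := by rw [hw]; group
        rw [this, h]; group
      have e1 : M z = M x := M_eq_of_mem_A hCM hZ hx (hI hz1') hz1
      have e2 : M w = M x := M_eq_of_mem_A hCM hZ hx (hI hz2) hw1
      have e3 : M z = MulAut.conj g • M w := by
        have : z = g * w * g⁻¹ := by rw [hw]; group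
        rw [this]
        exact M_conj g w
      rw [e1, e2] at e3
      have : g ∈ Subgroup.normalizer ((M x : Subgroup G) : Set G) := by
        rw [Subgroup.mem_normalizer_iff_map_conj_eq]
        exact e3.symm
      rwa [hself] at this
  -- the Frobenius kernel
  set K := Cfsg.Agent.Lib.H18.frobKer (M x) hF with hK
  have hKn : K.Normal := Cfsg.Agent.Lib.H18.frobKer_normal (M x) hF
  have hKinf : K ⊓ M x = ⊥ := Cfsg.Agent.Lib.H18.frobKer_inf (M x) hF
  have hKsup : K ⊔ M x = ⊤ := Cfsg.Agent.Lib.H18.frobKer_sup (M x) hF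
  -- an element of prime order in `M x`
  set n := orderOf x with hn
  have hn1 : n ≠ 1 := by
    rw [hn, Ne, orderOf_eq_one_iff]; exact hx
  set q := n.minFac with hq
  have hqp : q.Prime := Nat.minFac_prime hn1
  have hqn : q ∣ n := Nat.minFac_dvd n
  have hnpos : 0 < n := orderOf_pos x
  set a := x ^ (n / q) with ha
  have hao : orderOf a = q := by
    rw [ha, orderOf_pow_of_dvd (by
      intro h0
      have := Nat.div_mul_cancel hqn
      rw [h0, zero_mul] at this
      omega) (Nat.div_dvd_of_dvd hqn), ← hn]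
    exact Nat.div_div_self hqn hnpos.ne'
  have ha1 : a ≠ 1 := by
    intro h
    rw [h, orderOf_one] at hao
    exact hqp.one_lt.ne hao
  have haA : a ∈ A x := (A x).pow_mem (self_mem_A x) _
  have hMa : M a = M x := M_eq_of_mem_A hCM hZ hx haA ha1
  -- the automorphism of `K` induced by `a`
  set φ : K ≃* K := MulAut.conjNormal a with hφ
  have hφ_apply : ∀ k : K, ((φ k : K) : G) = a * k * a⁻¹ := fun k => by
    rw [hφ, MulAut.conjNormal_apply]
  have hfpf : Cfsg.Agent.Lib.H1.Fpf φ := by
    intro k hk
    have h1 : a * (k : G) * a⁻¹ = k := by rw [← hφ_apply, hk]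
    have h2 : (k : G) ∈ M a := by
      rw [mem_M]
      have : a * (k : G) = a * k * a⁻¹ * a := by group
      rw [this, h1]
    rw [hMa] at h2
    have h3 : (k : G) ∈ K ⊓ M x := ⟨k.2, h2⟩
    rw [hKinf, Subgroup.mem_bot] at h3
    exact Subtype.ext h3
  have hφq : φ ^ q = 1 := by
    rw [hφ, ← map_pow, ← hao, pow_orderOf_eq_one, map_one]
  have hKnil : Group.IsNilpotent K :=
    Cfsg.Agent.Lib.H1.fpf_prime_nilpotent hqp (Nat.card K) K rfl φ hfpf hφq
  have hKsolv : Group.IsSolvable K := inferInstance
  -- `G / K` is commutative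
  have hcomm : ∀ s t : G ⧸ K, s * t = t * s := by
    intro s t
    obtain ⟨g, rfl⟩ := QuotientGroup.mk'_surjective K s
    obtain ⟨h, rfl⟩ := QuotientGroup.mk'_surjective K t
    have hg : g ∈ K ⊔ M x := hKsup ▸ Subgroup.mem_top g
    have hh : h ∈ K ⊔ M x := hKsup ▸ Subgroup.mem_top h
    obtain ⟨k1, hk1, m1, hm1, rfl⟩ := Subgroup.mem_sup_of_normal_left.mp hg
    obtain ⟨k2, hk2, m2, hm2, rfl⟩ := Subgroup.mem_sup_of_normal_left.mp hh
    have e1 : QuotientGroup.mk' K (k1 * m1) = QuotientGroup.mk' K m1 := by
      have h0 : QuotientGroup.mk' K k1 = 1 := (QuotientGroup.eq_one_iff k1).mpr hk1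
      rw [map_mul, h0, one_mul]
    have e2 : QuotientGroup.mk' K (k2 * m2) = QuotientGroup.mk' K m2 := by
      have h0 : QuotientGroup.mk' K k2 = 1 := (QuotientGroup.eq_one_iff k2).mpr hk2
      rw [map_mul, h0, one_mul]
    rw [e1, e2, ← map_mul, ← map_mul, hcommM m1 hm1 m2 hm2]
  have hq' : Group.IsSolvable (G ⧸ K) := isSolvable_of_comm hcomm
  exact solvable_of_ker_le_range K.subtype (QuotientGroup.mk' K)
    (by rw [QuotientGroup.ker_mk', Subgroup.range_subtype])

end CenterFree

end Cfsg.Agent.Lib.H21.CM
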