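import Mathlib
import Cfsg.Agent.Lib.H21.CMGroup
import Cfsg.Agent.Lib.H21.CMGroup2

/-!
# CM-groups, part 3: the case where no centralizer is abelian (helper21)
-/

set_option autoImplicit false

namespace Cfsg.Agent.Lib.H21.CM

open Pointwise

universe u

variable {G : Type u} [Group G]

theorem sum_Ico_inv (N : ℕ) (hN : 2 ≤ N) :
    ∑ m ∈ Finset.Ico 3 (N + 1), (1 : ℚ) / ((m : ℚ) * ((m : ℚ) - 1)) = 1 / 2 - 1 / (N : ℚ) := by
  induction N, hN using Nat.le_induction with
  | base => norm_num
  | succ N hN ih =>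
    rw [Finset.sum_Ico_succ_top (by omega), ih]
    have h1 : (N : ℚ) ≠ 0 := by
      have : (2 : ℚ) ≤ N := by exact_mod_cast hN
      linarith
    have e : ((N + 1 : ℕ) : ℚ) - 1 = N := by push_cast; ring
    rw [e]
    have h2 : ((N + 1 : ℕ) : ℚ) ≠ 0 := by positivity
    have e2 : ((N + 1 : ℕ) : ℚ) = (N : ℚ) + 1 := by push_cast; ring
    rw [e2] at h2 ⊢
    field_simp
    ring

section AllTypeII

variable (hCM : CM G) (hZ : Subgroup.center G = ⊥) (hII : ∀ x : G, x ≠ 1 → ¬ M x ≤ A x)
include hCM hZ hII

theorem orderOf_prime_of_allII [Finite G] {x : G} (hx : x ≠ 1) : (orderOf x).Prime :=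
  (pow_eq_one_of_typeII hCM hZ hx (hII x hx)).1

theorem orderOf_ne_two_of_allII [Finite G] {x : G} (hx : x ≠ 1) : orderOf x ≠ 2 := by
  intro h2
  apply hII x hx
  obtain ⟨-, hexp⟩ := pow_eq_one_of_typeII hCM hZ hx (hII x hx)
  rw [h2] at hexp
  intro h hh
  rw [Subgroup.mem_centralizer_iff]
  intro y hy
  have h1 := hexp (y * h) (mul_mem hy hh)
  have h2 := hexp y hy
  have h3 := hexp h hh
  have e1 : (y * h)⁻¹ = y * h := by
    rw [inv_eq_iff_mul_eq_one, ← sq, h1]
  have e2 : y⁻¹ = y := by rw [inv_eq_iff_mul_eq_one, ← sq, h2]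
  have e3 : h⁻¹ = h := by rw [inv_eq_iff_mul_eq_one, ← sq, h3]
  rw [← e1, mul_inv_rev, e2, e3]

theorem exists_sylow_p [Finite G] {p : ℕ} [Fact p.Prime] {x : G} (hxp : orderOf x = p) :
    ∃ S : Sylow p G, (S : Subgroup G) = M x := by
  have hx : x ≠ 1 := by
    rintro rfl
    rw [orderOf_one] at hxp
    exact (Fact.out : p.Prime).one_lt.ne hxp
  subst hxp
  exact exists_sylow_of_typeII hCM hZ hx (hII x hx)

/-- The number of elements of order `p` is less than `|G| / p²`. -/
theorem card_orderOf_mul_sq_lt [Fintype G] (hnn : ∀ x : G, x ≠ 1 → ¬ (M x).Normal) (p : ℕ)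
    [Fact p.Prime] :
    (Finset.univ.filter (fun x : G => orderOf x = p)).card * p ^ 2 < Nat.card G := by
  classical
  have hp : p.Prime := Fact.out
  set E := Finset.univ.filter (fun x : G => orderOf x = p) with hE
  by_cases hEe : E = ∅
  · rw [hEe, Finset.card_empty, zero_mul]
    exact Nat.card_pos
  obtain ⟨x₀, hx₀⟩ := Finset.nonempty_iff_ne_empty.mpr hEe
  have hx₀p : orderOf x₀ = p := (Finset.mem_filter.mp hx₀).2
  have hne1 : ∀ x : G, orderOf x = p → x ≠ 1 := by
    rintro x hxp rfl
    rw [orderOf_one] at hxp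
    exact hp.one_lt.ne hxp
  have hx₀1 := hne1 x₀ hx₀p
  obtain ⟨S₀, hS₀⟩ := exists_sylow_p hCM hZ hII hx₀p
  set f : G → Sylow p G := fun x =>
    if h : orderOf x = p then Classical.choose (exists_sylow_p hCM hZ hII h) else S₀ with hf
  have hf_spec : ∀ x : G, orderOf x = p → ((f x : Sylow p G) : Subgroup G) = M x := by
    intro x hxp
    simp only [hf, dif_pos hxp]
    exact Classical.choose_spec (exists_sylow_p hCM hZ hII hxp)
  set s := Nat.card (M x₀) with hs
  have hcardM : ∀ x : G, orderOf x = p → Nat.card (M x) = s := by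
    intro x hxp
    rw [hs, ← hf_spec x hxp, ← hS₀, Sylow.card_eq_multiplicity, Sylow.card_eq_multiplicity]
  have hAsq : ∀ x : G, orderOf x = p → Nat.card (A x) * p ^ 2 ≤ s := by
    intro x hxp
    have := card_A_mul_sq_le hCM hZ (hne1 x hxp) (hII x (hne1 x hxp))
    rwa [hxp, hcardM x hxp] at this
  -- number of Sylow subgroups
  have hnp : Nat.card (Sylow p G) * s = Nat.card G := by
    rw [Sylow.card_eq_index_normalizer S₀]
    show (Subgroup.normalizer ((S₀ : Subgroup G) : Set G)).index * s = Nat.card G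
    rw [hS₀]
    have hself : Subgroup.normalizer ((M x₀ : Subgroup G) : Set G) = M x₀ := by
      rcases eq_or_lt_of_le (Subgroup.le_normalizer (H := M x₀)) with h | h
      · exact h.symm
      · exfalso
        apply hnn x₀ hx₀1
        exact Subgroup.normalizer_eq_top_iff.mp ((isCoatom_M hCM hZ hx₀1).2 _ h)
    rw [hself, hs]
    exact Subgroup.index_mul_card _
  -- fibre bound
  have hfib : ∀ S : Sylow p G, ((E.filter (fun x => f x = S)).card + 1) * p ^ 2 ≤ s := by
    intro S
    by_cases hFe : E.filter (fun x => f x = S) = ∅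
    · rw [hFe, Finset.card_empty, zero_add, one_mul]
      have h1 := hAsq x₀ hx₀p
      have h2 : 1 ≤ Nat.card (A x₀) := Nat.card_pos
      calc p ^ 2 = 1 * p ^ 2 := (one_mul _).symm
        _ ≤ Nat.card (A x₀) * p ^ 2 := Nat.mul_le_mul_right _ h2
        _ ≤ s := h1
    obtain ⟨x₁, hx₁⟩ := Finset.nonempty_iff_ne_empty.mpr hFe
    have hx₁E : x₁ ∈ E := (Finset.mem_filter.mp hx₁).1
    have hx₁p : orderOf x₁ = p := (Finset.mem_filter.mp hx₁E).2
    have hx₁S : f x₁ = S := (Finset.mem_filter.mp hx₁).2
    have hsub : ((insert 1 (E.filter (fun x => f x = S)) : Finset G) : Set G)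
        ⊆ ((A x₁ : Subgroup G) : Set G) := by
      intro y hy
      rw [Finset.coe_insert, Set.mem_insert_iff] at hy
      rcases hy with rfl | hy
      · exact Subgroup.one_mem _
      · have hy' := Finset.mem_filter.mp (Finset.mem_coe.mp hy)
        have hyp : orderOf y = p := (Finset.mem_filter.mp hy'.1).2
        have hMy : M y = M x₁ := by
          rw [← hf_spec y hyp, ← hf_spec x₁ hx₁p, hy'.2, hx₁S]
        have hAy : A y = A x₁ := by
          show Subgroup.centralizer ((M y : Subgroup G) : Set G)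
            = Subgroup.centralizer ((M x₁ : Subgroup G) : Set G)
          rw [hMy]
        rw [← hAy]
        exact self_mem_A y
    have hcard : (E.filter (fun x => f x = S)).card + 1 ≤ Nat.card (A x₁) := by
      have h1 : (1 : G) ∉ E.filter (fun x => f x = S) := by
        intro h
        have := (Finset.mem_filter.mp (Finset.mem_filter.mp h).1).2
        exact hne1 1 this rfl
      rw [← Finset.card_insert_of_notMem h1, ← Set.ncard_coe_finset]
      have h2 : Nat.card (A x₁) = ((A x₁ : Subgroup G) : Set G).ncard :=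
        Nat.card_coe_set_eq _
      rw [h2]
      exact Set.ncard_le_ncard hsub (Set.toFinite _)
    calc ((E.filter (fun x => f x = S)).card + 1) * p ^ 2
        ≤ Nat.card (A x₁) * p ^ 2 := Nat.mul_le_mul_right _ hcard
      _ ≤ s := hAsq x₁ hx₁p
  -- sum over the fibres
  haveI : Fintype (Sylow p G) := Fintype.ofFinite _
  have hsum : E.card = ∑ S : Sylow p G, (E.filter (fun x => f x = S)).card :=
    Finset.card_eq_sum_card_fiberwise (fun x _ => Finset.mem_univ (f x))
  have hp2 : 0 < p ^ 2 := pow_pos hp.pos 2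
  have hsp2 : p ^ 2 ≤ s := by
    have := hfib S₀
    have h2 : 1 * p ^ 2 ≤ ((E.filter (fun x => f x = S₀)).card + 1) * p ^ 2 :=
      Nat.mul_le_mul_right _ (Nat.le_add_left 1 _)
    rw [one_mul] at h2
    exact h2.trans this
  have hterm : ∀ S : Sylow p G, (E.filter (fun x => f x = S)).card * p ^ 2 ≤ s - p ^ 2 := by
    intro S
    have := hfib S
    rw [add_mul, one_mul] at this
    omega
  calc E.card * p ^ 2 = ∑ S : Sylow p G, (E.filter (fun x => f x = S)).card * p ^ 2 := by
        rw [hsum, Finset.sum_mul]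
    _ ≤ ∑ _S : Sylow p G, (s - p ^ 2) := Finset.sum_le_sum (fun S _ => hterm S)
    _ = Nat.card (Sylow p G) * (s - p ^ 2) := by
        rw [Finset.sum_const, smul_eq_mul, Finset.card_univ, Nat.card_eq_fintype_card]
    _ < Nat.card (Sylow p G) * s := by
        apply Nat.mul_lt_mul_of_pos_left
        · omega
        · exact Nat.card_pos
    _ = Nat.card G := hnp

/-- If no centralizer of a non-trivial element is abelian and none is normal: contradiction. -/
theorem false_of_allII_of_not_normal [Finite G] [Nontrivial G]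
    (hnn' : ∀ x : G, x ≠ 1 → ¬ (M x).Normal) : False := by
  classical
  haveI := Fintype.ofFinite G
  set n := Nat.card G with hn
  have hn2 : 2 ≤ n := Finite.one_lt_card
  have hn0 : n ≠ 0 := by omega
  -- counting elements by their orders
  have hcount : n - 1 = ∑ p ∈ n.primeFactors,
      (Finset.univ.filter (fun x : G => orderOf x = p)).card := by
    have h1 : (Finset.univ.erase (1 : G)).card = n - 1 := by
      rw [Finset.card_erase_of_mem (Finset.mem_univ _), Finset.card_univ,
        ← Nat.card_eq_fintype_card]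
    have hmaps : ∀ x ∈ Finset.univ.erase (1 : G), orderOf x ∈ n.primeFactors := by
      intro x hx
      have hx1 : x ≠ 1 := (Finset.mem_erase.mp hx).1
      rw [Nat.mem_primeFactors]
      exact ⟨orderOf_prime_of_allII hCM hZ hII hx1, orderOf_dvd_natCard x, hn0⟩
    rw [← h1, Finset.card_eq_sum_card_fiberwise hmaps]
    apply Finset.sum_congr rfl
    intro p hp
    congr 1
    ext x
    simp only [Finset.mem_filter, Finset.mem_erase, Finset.mem_univ, and_true, true_and]
    constructor
    · rintro ⟨-, h⟩; exact h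
    · intro h
      refine ⟨?_, h⟩
      rintro rfl
      rw [orderOf_one] at h
      exact (Nat.prime_of_mem_primeFactors hp).one_lt.ne h
  -- bounds for each prime
  have hbound : ∀ p ∈ n.primeFactors, 3 ≤ p ∧
      (Finset.univ.filter (fun x : G => orderOf x = p)).card * p ^ 2 ≤ n - 1 := by
    intro p hp
    have hpp : p.Prime := Nat.prime_of_mem_primeFactors hp
    haveI := Fact.mk hpp
    have hpn : p ∣ Nat.card G := Nat.dvd_of_mem_primeFactors hp
    obtain ⟨x, hx⟩ := exists_prime_orderOf_dvd_card' p hpn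
    have hx1 : x ≠ 1 := by
      rintro rfl
      rw [orderOf_one] at hx
      exact hpp.one_lt.ne hx
    have hp2 : p ≠ 2 := by
      rw [← hx]
      exact orderOf_ne_two_of_allII hCM hZ hII hx1
    have hp3 : 3 ≤ p := by
      have := hpp.two_le
      omega
    refine ⟨hp3, ?_⟩
    have := card_orderOf_mul_sq_lt hCM hZ hII hnn' p
    omega
  -- the rational inequality
  have hQ : ((n : ℚ) - 1) ≤ ((n : ℚ) - 1) * (1 / 2) := by
    have hn1 : (1 : ℚ) ≤ n := by exact_mod_cast (by omega : 1 ≤ n)
    have hcast : ((n - 1 : ℕ) : ℚ) = (n : ℚ) - 1 := by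
      rw [Nat.cast_sub (by omega : 1 ≤ n)]; simp
    calc ((n : ℚ) - 1) = ((n - 1 : ℕ) : ℚ) := hcast.symm
      _ = ∑ p ∈ n.primeFactors,
            ((Finset.univ.filter (fun x : G => orderOf x = p)).card : ℚ) := by
          rw [hcount]; push_cast; rfl
      _ ≤ ∑ p ∈ n.primeFactors, ((n : ℚ) - 1) * (1 / ((p : ℚ) * ((p : ℚ) - 1))) := by
          apply Finset.sum_le_sum
          intro p hp
          obtain ⟨hp3, hb⟩ := hbound p hp
          have hp3' : (3 : ℚ) ≤ p := by exact_mod_cast hp3
          have hpos1 : (0 : ℚ) < (p : ℚ) * ((p : ℚ) - 1) := by nlinarith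
          have hb' : ((Finset.univ.filter (fun x : G => orderOf x = p)).card : ℚ) * (p : ℚ) ^ 2
              ≤ (n : ℚ) - 1 := by
            rw [← hcast]
            exact_mod_cast hb
          rw [mul_one_div, le_div_iff₀ hpos1]
          have hcnn : (0 : ℚ) ≤ ((Finset.univ.filter (fun x : G => orderOf x = p)).card : ℚ) :=
            Nat.cast_nonneg _
          nlinarith
      _ = ((n : ℚ) - 1) * ∑ p ∈ n.primeFactors, (1 / ((p : ℚ) * ((p : ℚ) - 1))) := by
          rw [Finset.mul_sum]
      _ ≤ ((n : ℚ) - 1) * ∑ m ∈ Finset.Ico 3 (n + 1), (1 / ((m : ℚ) * ((m : ℚ) - 1))) := by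
          apply mul_le_mul_of_nonneg_left _ (by linarith)
          apply Finset.sum_le_sum_of_subset_of_nonneg
          · intro p hp
            rw [Finset.mem_Ico]
            refine ⟨(hbound p hp).1, ?_⟩
            have := Nat.le_of_dvd (by omega) (Nat.dvd_of_mem_primeFactors hp)
            omega
          · intro m hm _
            have hm3 : (3 : ℚ) ≤ m := by exact_mod_cast (Finset.mem_Ico.mp hm).1
            have : (0 : ℚ) < (m : ℚ) * ((m : ℚ) - 1) := by nlinarith
            positivity
      _ = ((n : ℚ) - 1) * (1 / 2 - 1 / (n : ℚ)) := by rw [sum_Ico_inv n hn2]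
      _ ≤ ((n : ℚ) - 1) * (1 / 2) := by
          apply mul_le_mul_of_nonneg_left _ (by linarith)
          have : (0 : ℚ) < 1 / (n : ℚ) := by positivity
          linarith
  have hn1 : (2 : ℚ) ≤ n := by exact_mod_cast hn2
  nlinarith


/-- If no centralizer of a non-trivial element is abelian, the group is solvable (in fact this
case only occurs when some centralizer is normal). -/
theorem solvable_of_allII [Finite G] [Nontrivial G] : Group.IsSolvable G := by
  classical
  by_cases hnn : ∃ x : G, x ≠ 1 ∧ (M x).Normal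
  · obtain ⟨x, hx, hn⟩ := hnn
    haveI := hn
    have hp := orderOf_prime_of_allII hCM hZ hII hx
    haveI := Fact.mk hp
    have hP := isPGroup_M_of_typeII hCM hZ hx (hII x hx)
    have hnil : Group.IsNilpotent (M x) := hP.isNilpotent
    exact solvable_of_normal_coatom (M x) (isCoatom_M hCM hZ hx) inferInstance
  · have hnn' : ∀ x : G, x ≠ 1 → ¬ (M x).Normal := fun x hx hn => hnn ⟨x, hx, hn⟩
    exact (false_of_allII_of_not_normal hCM hZ hII hnn').elim

end AllTypeII

end Cfsg.Agent.Lib.H21.CM
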