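import Mathlib
import Cfsg.Agent.Lib.H21.CMGroup3

/-!
# CM-groups, part 4: the exact structure of centre-free CM-groups (helper21)
-/

set_option autoImplicit false

namespace Cfsg.Agent.Lib.H21.CM

open Pointwise

universe u

variable {G : Type u} [Group G]

/-- In the quotient by a normal coatom every non-identity element generates. -/
theorem zpowers_eq_top_of_coatom (N : Subgroup G) [N.Normal] (hN : IsCoatom N)
    (a : G ⧸ N) (ha : a ≠ 1) : Subgroup.zpowers a = ⊤ := by
  have hsurj : Function.Surjective (QuotientGroup.mk' N) := QuotientGroup.mk'_surjective N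
  obtain ⟨g, rfl⟩ := hsurj a
  set K := (Subgroup.zpowers (QuotientGroup.mk' N g)).comap (QuotientGroup.mk' N) with hK
  have hNK : N ≤ K := by
    intro y hy
    rw [hK, Subgroup.mem_comap]
    have : QuotientGroup.mk' N y = 1 := (QuotientGroup.eq_one_iff y).mpr hy
    rw [this]
    exact Subgroup.one_mem _
  have hgK : g ∈ K := by
    rw [hK, Subgroup.mem_comap]
    exact Subgroup.mem_zpowers _
  have hgN : g ∉ N := by
    intro h
    exact ha ((QuotientGroup.eq_one_iff g).mpr h)
  have hlt : N < K := lt_of_le_of_ne hNK (fun h => hgN (h ▸ hgK))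
  have hKtop : K = ⊤ := hN.2 K hlt
  have := Subgroup.map_comap_eq_self_of_surjective hsurj
    (Subgroup.zpowers (QuotientGroup.mk' N g))
  rw [← this, ← hK, hKtop, ← MonoidHom.range_eq_map, MonoidHom.range_eq_top.mpr hsurj]

/-- The index of a normal coatom is prime. -/
theorem index_prime_of_coatom [Finite G] (N : Subgroup G) [N.Normal] (hN : IsCoatom N) :
    N.index.Prime := by
  have h1 : N.index ≠ 1 := by
    intro h; exact hN.1 (Subgroup.index_eq_one.1 h)
  obtain ⟨r, hr, hrdvd⟩ := Nat.exists_prime_and_dvd h1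
  haveI : Fact r.Prime := ⟨hr⟩
  have hcard : Nat.card (G ⧸ N) = N.index := rfl
  obtain ⟨a, ha⟩ := exists_prime_orderOf_dvd_card' (G := G ⧸ N) r (hcard ▸ hrdvd)
  have ha1 : a ≠ 1 := by
    rintro rfl
    rw [orderOf_one] at ha
    exact hr.one_lt.ne ha
  have htop := zpowers_eq_top_of_coatom N hN a ha1
  have : Nat.card (G ⧸ N) = r := by
    rw [← ha, ← Nat.card_zpowers, htop, Subgroup.card_top]
  rw [← hcard, this]
  exact hr

/-- The quotient by a normal coatom is commutative. -/
theorem comm_quotient_of_coatom (N : Subgroup G) [N.Normal] (hN : IsCoatom N)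
    (a b : G ⧸ N) : a * b = b * a := by
  by_cases ha : a = 1
  · rw [ha, one_mul, mul_one]
  · have hb : b ∈ Subgroup.zpowers a := by
      rw [zpowers_eq_top_of_coatom N hN a ha]; exact Subgroup.mem_top b
    obtain ⟨k, rfl⟩ := Subgroup.mem_zpowers_iff.mp hb
    exact (Commute.self_zpow a k).eq

section CenterFree

variable (hCM : CM G) (hZ : Subgroup.center G = ⊥)
include hCM hZ

/-- In a nontrivial centre-free CM-group some centralizer is abelian and normal. -/
theorem exists_normal_abelian_M [Finite G] [Nontrivial G] :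
    ∃ k : G, k ≠ 1 ∧ (M k).Normal ∧ M k ≤ A k := by
  by_cases hI : ∃ x : G, x ≠ 1 ∧ M x ≤ A x
  · obtain ⟨x, hx, hI⟩ := hI
    by_cases hnorm : (M x).Normal
    · exact ⟨x, hx, hnorm, hI⟩
    have hcoat := isCoatom_M hCM hZ hx
    -- `M x` is self-normalizing
    have hself : Subgroup.normalizer ((M x : Subgroup G) : Set G) = M x := by
      rcases eq_or_lt_of_le (Subgroup.le_normalizer (H := M x)) with h | h
      · exact h.symm
      · exfalso
        apply hnorm
        exact Subgroup.normalizer_eq_top_iff.mp (hcoat.2 _ h)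
    -- `M x` is a Frobenius complement
    have hF : Cfsg.IsFrobeniusComplement (M x) := by
      refine ⟨?_, hcoat.1, ?_⟩
      · intro h
        have := self_mem_M x
        rw [h, Subgroup.mem_bot] at this
        exact hx this
      · intro g hg
        rw [eq_bot_iff]
        intro z hz
        rw [Subgroup.mem_bot]
        by_contra hz1
        apply hg
        have hz1' : z ∈ M x := hz.1
        have hz2 : z ∈ MulAut.conj g • M x := hz.2
        rw [Subgroup.mem_pointwise_smul_iff_inv_smul_mem] at hz2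
        simp only [MulAut.smul_def, MulAut.conj_inv_apply] at hz2
        set w := g⁻¹ * z * g with hw
        have hw1 : w ≠ 1 := by
          intro h
          apply hz1
          have : z = g * w * g⁻¹ := by rw [hw]; group
          rw [this, h]; group
        have e1 : M z = M x := M_eq_of_mem_A hCM hZ hx (hI hz1') hz1
        have e2 : M w = M x := M_eq_of_mem_A hCM hZ hx (hI hz2) hw1
        have e3 : M z = MulAut.conj g • M w := by
          have : z = g * w * g⁻¹ := by rw [hw]; group
          rw [this]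
          exact M_conj g w
        rw [e1, e2] at e3
        have : g ∈ Subgroup.normalizer ((M x : Subgroup G) : Set G) := by
          rw [Subgroup.mem_normalizer_iff_map_conj_eq]
          exact e3.symm
        rwa [hself] at this
    set K := Cfsg.Agent.Lib.H18.frobKer (M x) hF with hK
    have hKn : K.Normal := Cfsg.Agent.Lib.H18.frobKer_normal (M x) hF
    have hKinf : K ⊓ M x = ⊥ := Cfsg.Agent.Lib.H18.frobKer_inf (M x) hF
    have hKsup : K ⊔ M x = ⊤ := Cfsg.Agent.Lib.H18.frobKer_sup (M x) hF
    have hKbot : K ≠ ⊥ := by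
      intro h
      rw [h, bot_sup_eq] at hKsup
      exact hcoat.1 hKsup
    have hKtop : K ≠ ⊤ := by
      intro h
      rw [h, top_inf_eq] at hKinf
      have := self_mem_M x
      rw [hKinf, Subgroup.mem_bot] at this
      exact hx this
    -- centralizers of kernel elements lie in the kernel
    have hMK : ∀ k ∈ K, k ≠ 1 → M k = K := by
      intro k hk hk1
      have hle : M k ≤ K := by
        intro c hc
        by_contra hcK
        rw [hK, Cfsg.Agent.Lib.H18.mem_frobKer hF] at hcK
        simp only [Cfsg.frobeniusKernel, Set.mem_ofPred_eq, not_or, not_forall, not_not] at hcK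
        obtain ⟨hc1, g, hcg⟩ := hcK
        rw [Subgroup.mem_pointwise_smul_iff_inv_smul_mem] at hcg
        simp only [MulAut.smul_def, MulAut.conj_inv_apply] at hcg
        set c' := g⁻¹ * c * g with hc'
        have hc'1 : c' ≠ 1 := by
          intro h
          apply hc1
          have : c = g * c' * g⁻¹ := by rw [hc']; group
          rw [this, h]; group
        set k' := g⁻¹ * k * g with hk'
        have hk'K : k' ∈ K := by
          have := hKn.conj_mem k hk g⁻¹
          rwa [inv_inv] at this
        have hk'1 : k' ≠ 1 := by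
          intro h
          apply hk1
          have : k = g * k' * g⁻¹ := by rw [hk']; group
          rw [this, h]; group
        have hcomm : c' * k' = k' * c' := by
          rw [mem_M] at hc
          rw [hc', hk']
          calc g⁻¹ * c * g * (g⁻¹ * k * g) = g⁻¹ * (c * k) * g := by group
            _ = g⁻¹ * (k * c) * g := by rw [← hc]
            _ = g⁻¹ * k * g * (g⁻¹ * c * g) := by group
        have e : M c' = M x := M_eq_of_mem_A hCM hZ hx (hI hcg) hc'1
        have hk'M : k' ∈ M x := by rw [← e, mem_M]; exact hcomm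
        have : k' ∈ K ⊓ M x := ⟨hk'K, hk'M⟩
        rw [hKinf, Subgroup.mem_bot] at this
        exact hk'1 this
      have hk0 : k ∉ Subgroup.center G := by rw [hZ, Subgroup.mem_bot]; exact hk1
      rcases eq_or_lt_of_le hle with h | h
      · exact h
      · exact absurd ((isCoatom_M hCM hZ hk1).2 K h) hKtop
    obtain ⟨k, hk1⟩ := (Subgroup.ne_bot_iff_exists_ne_one).1 hKbot
    refine ⟨k, ?_, ?_, ?_⟩
    · intro h; apply hk1; exact Subtype.ext h
    · have hk1' : (k : G) ≠ 1 := fun h => hk1 (Subtype.ext h)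
      rw [hMK k k.2 hk1']; exact hKn
    · have hk1' : (k : G) ≠ 1 := fun h => hk1 (Subtype.ext h)
      intro y hy
      rw [mem_A]
      intro z hz
      -- z ∈ M k = K
      have hzK : z ∈ K := by rw [← hMK k k.2 hk1']; exact mem_M.2 hz
      rw [hMK k k.2 hk1'] at hy
      by_cases hy1 : y = 1
      · rw [hy1, mul_one, one_mul]
      · have := hMK y hy hy1
        rw [← this, mem_M] at hzK
        exact hzK.symm
  · -- all type II
    have hII : ∀ x : G, x ≠ 1 → ¬ M x ≤ A x := fun x hx h => hI ⟨x, hx, h⟩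
    exfalso
    by_cases hnn : ∃ x : G, x ≠ 1 ∧ (M x).Normal
    · obtain ⟨x, hx, hn⟩ := hnn
      haveI := hn
      obtain ⟨y, hyM, hyA⟩ := SetLike.not_le_iff_exists.mp (hII x hx)
      have hy1 : y ≠ 1 := by
        rintro rfl; exact hyA (Subgroup.one_mem _)
      obtain ⟨hpx, hexp⟩ := pow_eq_one_of_typeII hCM hZ hx (hII x hx)
      have hyo : orderOf y = orderOf x := by
        have h1 : orderOf y ∣ orderOf x := orderOf_dvd_of_pow_eq_one (hexp y hyM)
        rcases (Nat.dvd_prime hpx).1 h1 with h | h
        · exact absurd (orderOf_eq_one_iff.1 h) hy1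
        · exact h
      have hPx := isPGroup_M_of_typeII hCM hZ hx (hII x hx)
      have hPy := isPGroup_M_of_typeII hCM hZ hy1 (hII y hy1)
      rw [hyo] at hPy
      haveI : Fact (orderOf x).Prime := ⟨hpx⟩
      have hsup : IsPGroup (orderOf x) (M x ⊔ M y : Subgroup G) :=
        IsPGroup.to_sup_of_normal_left hPx hPy
      have hcoy := isCoatom_M hCM hZ hy1
      have hcox := isCoatom_M hCM hZ hx
      rcases eq_or_lt_of_le (le_sup_right : M y ≤ M x ⊔ M y) with h | h
      · have hle : M x ≤ M y := by rw [h]; exact le_sup_left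
        have heq : M x = M y := by
          rcases eq_or_lt_of_le hle with h' | h'
          · exact h'
          · exact absurd (hcox.2 _ h') hcoy.1
        apply hyA
        have : y ∈ A y := self_mem_A y
        show y ∈ Subgroup.centralizer ((M x : Subgroup G) : Set G)
        rw [heq]
        exact this
      · have htop := hcoy.2 _ h
        have hG : IsPGroup (orderOf x) G := by
          intro g
          obtain ⟨k, hk⟩ := hsup ⟨g, htop ▸ Subgroup.mem_top g⟩
          exact ⟨k, by simpa [Subtype.ext_iff] using hk⟩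
        have := hG.center_nontrivial
        rw [hZ] at this
        exact not_nontrivial _ this
    · have hnn' : ∀ x : G, x ≠ 1 → ¬ (M x).Normal := fun x hx hn => hnn ⟨x, hx, hn⟩
      exact false_of_allII_of_not_normal hCM hZ hII hnn'


/-- The exact structure of a nontrivial centre-free CM-group: a Frobenius group
`p^a : q` with elementary abelian minimal normal kernel and all proper subgroups abelian. -/
theorem centerless_structure [Finite G] [Nontrivial G] :
    ∃ (K : Subgroup G) (p q a : ℕ), K.Normal ∧ p.Prime ∧ q.Prime ∧ p ≠ q ∧ K.index = q ∧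
      Nat.card K = p ^ a ∧ (∀ x ∈ K, ∀ y ∈ K, x * y = y * x) ∧ (∀ x ∈ K, x ^ p = 1) ∧
      (∀ L : Subgroup G, L ≠ ⊤ → ∀ x ∈ L, ∀ y ∈ L, x * y = y * x) ∧
      (∀ t : G, t ∉ K → t ^ q = 1) := by
  obtain ⟨k, hk1, hKn, hKab⟩ := exists_normal_abelian_M hCM hZ
  set K := M k with hK
  haveI : K.Normal := hKn
  have hcoat : IsCoatom K := isCoatom_M hCM hZ hk1
  have hKcomm : ∀ x ∈ K, ∀ y ∈ K, x * y = y * x := by
    intro x hx y hy
    exact (mem_A.1 (hKab hy)) x (mem_M.1 hx)
  have hq : K.index.Prime := index_prime_of_coatom K hcoat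
  set q := K.index with hqdef
  -- (s1)
  have hfix : ∀ t : G, t ∉ K → ∀ z ∈ K, z * t = t * z → z = 1 := by
    intro t ht z hz hzt
    by_contra hz1
    have hcz := isCoatom_M hCM hZ hz1
    have hle : K ≤ M z := fun w hw => mem_M.2 (hKcomm z hz w hw)
    have htz : t ∈ M z := mem_M.2 hzt
    rcases eq_or_lt_of_le hle with h | h
    · exact ht (h ▸ htz)
    · exact hcz.1 (hcoat.2 _ h)
  -- (s3)
  have hpowq : ∀ t : G, t ∉ K → t ^ q = 1 := by
    intro t ht
    have h1 : (QuotientGroup.mk t : G ⧸ K) ^ q = 1 := by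
      have : Nat.card (G ⧸ K) = q := rfl
      rw [← this]; exact pow_card_eq_one'
    rw [← QuotientGroup.mk_pow, QuotientGroup.eq_one_iff] at h1
    exact hfix t ht _ h1 (pow_mul_comm' t q)
  -- (L0)
  have hmin : ∀ N : Subgroup G, N.Normal → N ≤ K → N = ⊥ ∨ N = K := by
    intro N hN hNK
    obtain ⟨t, htK⟩ : ∃ t : G, t ∉ K := by
      by_contra hcon
      push Not at hcon
      exact hcoat.1 (eq_top_iff.2 (fun g _ => hcon g))
    have ht1 : t ≠ 1 := by rintro rfl; exact htK K.one_mem
    have hct := isCoatom_M hCM hZ ht1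
    have hMtK : M t ⊓ K = ⊥ := by
      rw [eq_bot_iff]
      intro z hz
      rw [Subgroup.mem_bot]
      exact hfix t htK z hz.2 (mem_M.1 hz.1).symm
    by_cases hNbot : N = ⊥
    · left; exact hNbot
    right
    have hsup : N ⊔ M t = ⊤ := by
      rcases eq_or_lt_of_le (le_sup_right : M t ≤ N ⊔ M t) with h | h
      · exfalso
        apply hNbot
        rw [eq_bot_iff, ← hMtK]
        intro z hz
        exact ⟨h ▸ (le_sup_left : N ≤ N ⊔ M t) hz, hNK hz⟩
      · exact hct.2 _ h
    apply le_antisymm hNK
    intro z hz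
    have hz' : z ∈ N ⊔ M t := hsup ▸ Subgroup.mem_top z
    obtain ⟨ν, hν, m, hm, rfl⟩ := Subgroup.mem_sup_of_normal_left.mp hz'
    have hmK : m ∈ K := by
      have : m = ν⁻¹ * (ν * m) := by group
      rw [this]
      exact K.mul_mem (K.inv_mem (hNK hν)) hz
    have : m ∈ M t ⊓ K := ⟨hm, hmK⟩
    rw [hMtK, Subgroup.mem_bot] at this
    rw [this, mul_one]
    exact hν
  -- (s4)
  have hKbot : K ≠ ⊥ := by
    intro h
    have := self_mem_M k
    rw [← hK, h, Subgroup.mem_bot] at this
    exact hk1 this
  have hcardK : Nat.card K ≠ 1 := by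
    rw [Ne, Subgroup.card_eq_one]; exact hKbot
  set p := (Nat.card K).minFac with hpdef
  have hp : p.Prime := Nat.minFac_prime hcardK
  have hpK : p ∣ Nat.card K := Nat.minFac_dvd _
  let Ω : Subgroup G :=
    { carrier := {z | z ∈ K ∧ z ^ p = 1}
      one_mem' := ⟨K.one_mem, one_pow _⟩
      mul_mem' := by
        rintro a b ⟨ha, ha'⟩ ⟨hb, hb'⟩
        refine ⟨K.mul_mem ha hb, ?_⟩
        have hc : Commute a b := hKcomm a ha b hb
        rw [hc.mul_pow, ha', hb', one_mul]
      inv_mem' := by
        rintro a ⟨ha, ha'⟩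
        exact ⟨K.inv_mem ha, by rw [inv_pow, ha', inv_one]⟩ }
  have hΩn : Ω.Normal := by
    constructor
    rintro z ⟨hz, hz'⟩ g
    exact ⟨hKn.conj_mem z hz g, by rw [conj_pow, hz', mul_one, mul_inv_cancel]⟩
  have hΩK : Ω ≤ K := fun z hz => hz.1
  have hΩbot : Ω ≠ ⊥ := by
    haveI : Fact p.Prime := ⟨hp⟩
    obtain ⟨z, hz⟩ := exists_prime_orderOf_dvd_card' (G := K) p hpK
    intro h
    have hzΩ : (z : G) ∈ Ω := by
      refine ⟨z.2, ?_⟩
      have := pow_orderOf_eq_one z
      rw [hz] at this
      have := congrArg Subtype.val this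
      simpa using this
    rw [h, Subgroup.mem_bot] at hzΩ
    have : z = 1 := Subtype.ext hzΩ
    rw [this, orderOf_one] at hz
    exact hp.one_lt.ne hz
  have hΩeq : Ω = K := by
    rcases hmin Ω hΩn hΩK with h | h
    · exact absurd h hΩbot
    · exact h
  have hexp : ∀ x ∈ K, x ^ p = 1 := by
    intro x hx
    have : x ∈ Ω := hΩeq ▸ hx
    exact this.2
  have hKp : IsPGroup p K := by
    intro x
    refine ⟨1, ?_⟩
    rw [pow_one]
    exact Subtype.ext (by simpa using hexp x x.2)
  haveI : Fact p.Prime := ⟨hp⟩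
  obtain ⟨a, ha⟩ := IsPGroup.iff_card.1 hKp
  -- (s5)
  have hpq : p ≠ q := by
    intro hpq
    have hG : IsPGroup p G := by
      intro g
      refine ⟨1, ?_⟩
      rw [pow_one]
      by_cases hg : g ∈ K
      · exact hexp g hg
      · rw [hpq]; exact hpowq g hg
    have := hG.center_nontrivial
    rw [hZ] at this
    exact not_nontrivial _ this
  refine ⟨K, p, q, a, hKn, hp, hq, hpq, rfl, ha, hKcomm, hexp, ?_, hpowq⟩
  -- (s6)
  intro L hL x hx y hy
  by_cases hLK : L ≤ K
  · exact hKcomm x (hLK hx) y (hLK hy)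
  obtain ⟨t, htL, htK⟩ := SetLike.not_le_iff_exists.mp hLK
  have hKt : K ⊔ Subgroup.zpowers t = ⊤ := by
    apply hcoat.2
    apply lt_of_le_of_ne le_sup_left
    intro h
    apply htK
    rw [h]
    exact (le_sup_right : Subgroup.zpowers t ≤ K ⊔ Subgroup.zpowers t) (Subgroup.mem_zpowers t)
  have hNn : (L ⊓ K).Normal := by
    rw [← Subgroup.normalizer_eq_top_iff, eq_top_iff, ← hKt]
    apply sup_le
    · intro z hz
      rw [Subgroup.mem_normalizer_iff]
      intro h
      constructor
      · rintro ⟨hL', hK'⟩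
        have : z * h * z⁻¹ = h := by
          rw [hKcomm z hz h hK']; group
        rw [this]; exact ⟨hL', hK'⟩
      · rintro ⟨hL', hK'⟩
        have hhK : h ∈ K := by
          have := hKn.conj_mem _ hK' z⁻¹
          rwa [show z⁻¹ * (z * h * z⁻¹) * z⁻¹⁻¹ = h by group] at this
        have : z * h * z⁻¹ = h := by
          rw [hKcomm z hz h hhK]; group
        rw [this] at hL'
        exact ⟨hL', hhK⟩
    · rw [Subgroup.zpowers_le, Subgroup.mem_normalizer_iff]
      intro h
      constructor
      · rintro ⟨hL', hK'⟩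
        exact ⟨L.mul_mem (L.mul_mem htL hL') (L.inv_mem htL), hKn.conj_mem h hK' t⟩
      · rintro ⟨hL', hK'⟩
        have e : h = t⁻¹ * (t * h * t⁻¹) * t := by group
        refine ⟨?_, ?_⟩
        · rw [e]; exact L.mul_mem (L.mul_mem (L.inv_mem htL) hL') htL
        · have := hKn.conj_mem _ hK' t⁻¹
          rwa [show t⁻¹ * (t * h * t⁻¹) * t⁻¹⁻¹ = h by group] at this
  have hN : L ⊓ K = ⊥ := by
    rcases hmin (L ⊓ K) hNn inf_le_right with h | h
    · exact h
    · exfalso
      have hKL : K ≤ L := by rw [← h]; exact inf_le_left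
      have : K < L := lt_of_le_of_ne hKL (fun h' => htK (h' ▸ htL))
      exact hL (hcoat.2 _ this)
  have hq' := comm_quotient_of_coatom K hcoat (QuotientGroup.mk x) (QuotientGroup.mk y)
  rw [← QuotientGroup.mk_mul, ← QuotientGroup.mk_mul, QuotientGroup.eq] at hq'
  have hmem : (x * y)⁻¹ * (y * x) ∈ L ⊓ K :=
    ⟨L.mul_mem (L.inv_mem (L.mul_mem hx hy)) (L.mul_mem hy hx), hq'⟩
  rw [hN, Subgroup.mem_bot] at hmem
  have := inv_mul_eq_one.1 hmem
  exact this

end CenterFree

end Cfsg.Agent.Lib.H21.CM
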