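import Mathlib
import Cfsg.Agent.Lib.H3.Supersolvable5
import Cfsg.Agent.Lib.H9.Huppert

/-!
# Generic lemmas for the conjugate-pair supersolvability criterion (helper21)
-/

set_option autoImplicit false

namespace Cfsg.Agent.Lib.H21.CPair

open Cfsg.Agent.Lib.H3

variable {G : Type*} [Group G]

/-- If two coprime powers of `x` lie in a subgroup then so does `x`. -/
theorem mem_of_pow_mem_of_coprime (S : Subgroup G) {x : G} {a b : ℕ} (ha : x ^ a ∈ S)
    (hb : x ^ b ∈ S) (hab : Nat.Coprime a b) : x ∈ S := by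
  have h1 : (a : ℤ) * Nat.gcdA a b + (b : ℤ) * Nat.gcdB a b = 1 := by
    have := Nat.gcd_eq_gcd_ab a b
    rw [hab] at this
    simpa using this.symm
  have h2 : x = (x ^ a) ^ (Nat.gcdA a b) * (x ^ b) ^ (Nat.gcdB a b) := by
    rw [← zpow_natCast x a, ← zpow_natCast x b, ← zpow_mul, ← zpow_mul, ← zpow_add, h1, zpow_one]
  rw [h2]
  exact S.mul_mem (S.zpow_mem ha _) (S.zpow_mem hb _)

/-- Lifting a `p`-element through a surjection. -/
theorem exists_pElement_lift {H : Type*} [Group H] [Finite G] (f : G →* H)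
    (hf : Function.Surjective f) {p : ℕ} (hp : p.Prime) (y : H)
    (hy : ∃ a : ℕ, orderOf y = p ^ a) :
    ∃ x : G, f x = y ∧ ∃ a : ℕ, orderOf x = p ^ a := by
  obtain ⟨a, ha⟩ := hy
  obtain ⟨x₀, rfl⟩ := hf y
  obtain ⟨k, m, hm, hkm⟩ :=
    Nat.exists_eq_pow_mul_and_not_dvd (orderOf_pos x₀).ne' p hp.ne_one
  have hcop : Nat.Coprime (p ^ k) m := ((Nat.Prime.coprime_iff_not_dvd hp).2 hm).pow_left k
  obtain ⟨e, he1, he2⟩ := Nat.chineseRemainder hcop 1 0
  refine ⟨x₀ ^ e, ?_, ?_⟩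
  · rw [map_pow]
    have h1 : orderOf (f x₀) ∣ p ^ k := by
      have h2 : orderOf (f x₀) ∣ p ^ k * m := hkm ▸ orderOf_map_dvd f x₀
      have h3 : Nat.Coprime (orderOf (f x₀)) m := by
        rw [ha]; exact ((Nat.Prime.coprime_iff_not_dvd hp).2 hm).pow_left a
      exact h3.dvd_of_dvd_mul_right h2
    have h4 : e ≡ 1 [MOD orderOf (f x₀)] := he1.of_dvd h1
    have := (pow_eq_pow_iff_modEq (x := f x₀)).2 h4
    rw [this, pow_one]
  · have h1 : (x₀ ^ e) ^ (p ^ k) = 1 := by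
      rw [← pow_mul]
      apply orderOf_dvd_iff_pow_eq_one.1
      rw [hkm, mul_comm e]
      exact Nat.mul_dvd_mul_left _ ((Nat.modEq_zero_iff_dvd).1 he2)
    obtain ⟨j, -, hj⟩ := (Nat.dvd_prime_pow hp).1 (orderOf_dvd_of_pow_eq_one h1)
    exact ⟨j, hj⟩

/-- If a subgroup contains all prime-power-order powers of `x`, it contains `x`. -/
theorem mem_of_primePow_powers_mem (S : Subgroup G) :
    ∀ (n : ℕ) (x : G), orderOf x = n → 0 < n →
      (∀ k : ℕ, (∃ r a : ℕ, r.Prime ∧ orderOf (x ^ k) = r ^ a) → x ^ k ∈ S) → x ∈ S := by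
  intro n
  induction n using Nat.strong_induction_on with
  | _ n ih =>
  intro x hx hn0 h
  by_cases hpp : ∃ r a : ℕ, r.Prime ∧ orderOf x = r ^ a
  · have := h 1 (by simpa using hpp)
    simpa using this
  · have hn1 : n ≠ 1 := by
      intro h1
      exact hpp ⟨2, 0, Nat.prime_two, by rw [hx, h1, pow_zero]⟩
    obtain ⟨r, hr, hrn⟩ : ∃ r : ℕ, r.Prime ∧ r ∣ n := ⟨n.minFac, Nat.minFac_prime hn1, Nat.minFac_dvd n⟩
    obtain ⟨k, m, hm, hkm⟩ :=
      Nat.exists_eq_pow_mul_and_not_dvd hn0.ne' r hr.ne_one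
    have hk0 : k ≠ 0 := by
      rintro rfl
      rw [pow_zero, one_mul] at hkm
      exact hm (hkm ▸ hrn)
    have hm1 : m ≠ 1 := by
      rintro rfl
      rw [mul_one] at hkm
      exact hpp ⟨r, k, hr, by rw [hx]; exact hkm⟩
    have hm0 : 0 < m := by
      rcases Nat.eq_zero_or_pos m with h0 | h0
      · rw [h0, mul_zero] at hkm; omega
      · exact h0
    have hrk : 1 < r ^ k := Nat.one_lt_pow hk0 hr.one_lt
    have hcop : Nat.Coprime (r ^ k) m :=
      ((Nat.Prime.coprime_iff_not_dvd hr).2 hm).pow_left k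
    -- `x ^ (r^k)` has order `m`
    have ho1 : orderOf (x ^ r ^ k) = m := by
      rw [orderOf_pow' _ (by positivity), hx, hkm, Nat.gcd_eq_right (Dvd.intro _ rfl)]
      exact Nat.mul_div_cancel_left m (by positivity)
    have ho2 : orderOf (x ^ m) = r ^ k := by
      rw [orderOf_pow' _ hm0.ne', hx, hkm, Nat.gcd_eq_right (Dvd.intro_left _ rfl)]
      exact Nat.mul_div_cancel _ hm0
    have hlt1 : m < n := by
      rw [hkm]; nlinarith
    have hlt2 : r ^ k < n := by
      rw [hkm]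
      have : 1 < m := by omega
      nlinarith
    have h1 : x ^ r ^ k ∈ S := by
      apply ih m hlt1 _ ho1 hm0
      intro j hj
      rw [← pow_mul] at hj ⊢
      exact h _ hj
    have h2 : x ^ m ∈ S := by
      apply ih _ hlt2 _ ho2 (by positivity)
      intro j hj
      rw [← pow_mul] at hj ⊢
      exact h _ hj
    exact mem_of_pow_mem_of_coprime S h1 h2 hcop

/-- Conjugation by `x` on `c ^ b` when `x c x⁻¹ = c ^ a`. -/
theorem conj_zpow_of_conj_eq {c x : G} {a : ℤ} (h : x * c * x⁻¹ = c ^ a) (b : ℤ) :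
    x * c ^ b * x⁻¹ = c ^ (a * b) := by
  have h1 : x * c ^ b * x⁻¹ = (x * c * x⁻¹) ^ b := by
    simpa using (map_zpow (MulAut.conj x) c b)
  rw [h1, h, ← zpow_mul]

theorem conj_pow_of_conj_eq {c x : G} {a : ℤ} (h : x * c * x⁻¹ = c ^ a) (k : ℕ) :
    x ^ k * c * (x ^ k)⁻¹ = c ^ (a ^ k) := by
  induction k with
  | zero => simp
  | succ k ih =>
    have h1 : x ^ (k + 1) * c * (x ^ (k + 1))⁻¹ = x * (x ^ k * c * (x ^ k)⁻¹) * x⁻¹ := by
      rw [pow_succ']; group
    rw [h1, ih, conj_zpow_of_conj_eq h, pow_succ']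

/-- An element normalizing a subgroup of prime order `q` has its `(q-1)`-st power centralizing it. -/
theorem conj_pow_pred_eq {c x : G} {q : ℕ} (hq : q.Prime) (hc : orderOf c = q)
    (hx : x * c * x⁻¹ ∈ Subgroup.zpowers c) : x ^ (q - 1) * c * (x ^ (q - 1))⁻¹ = c := by
  obtain ⟨a, ha⟩ := Subgroup.mem_zpowers_iff.1 hx
  have hc1 : c ≠ 1 := by
    rintro rfl
    rw [orderOf_one] at hc
    exact hq.ne_one hc.symm
  have hqa : ¬ (q : ℤ) ∣ a := by
    intro hd
    have h1 : c ^ a = 1 := by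
      rw [← orderOf_dvd_iff_zpow_eq_one, hc]; exact hd
    rw [h1] at ha
    apply hc1
    have : c = x⁻¹ * (x * c * x⁻¹) * x := by group
    rw [this, ← ha]; group
  have hcop : IsCoprime a (q : ℤ) := by
    rw [isCoprime_comm]
    exact (Nat.prime_iff_prime_int.1 hq).coprime_iff_not_dvd.2 hqa
  have hf := Int.ModEq.pow_card_sub_one_eq_one hq hcop
  rw [conj_pow_of_conj_eq ha.symm]
  have : c ^ (a ^ (q - 1)) = c ^ (1 : ℤ) := by
    rw [zpow_eq_zpow_iff_modEq, hc]; exact hf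
  rw [this, zpow_one]

/-- If moreover the order of `x` is coprime to `q - 1` then `x` centralizes `c`. -/
theorem conj_eq_of_coprime_pred {c x : G} {q : ℕ} (hq : q.Prime) (hc : orderOf c = q)
    (hx : x * c * x⁻¹ ∈ Subgroup.zpowers c) (hcop : Nat.Coprime (orderOf x) (q - 1)) :
    x * c * x⁻¹ = c := by
  have h1 := conj_pow_pred_eq hq hc hx
  have h2 : x ∈ Subgroup.centralizer ({c} : Set G) := by
    apply mem_of_pow_mem_of_coprime _ (a := orderOf x) (b := q - 1) _ _ hcop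
    · rw [pow_orderOf_eq_one]; exact Subgroup.one_mem _
    · rw [Subgroup.mem_centralizer_singleton_iff]
      have : x ^ (q - 1) * c = (x ^ (q - 1) * c * (x ^ (q - 1))⁻¹) * x ^ (q - 1) := by group
      rw [this, h1]
  rw [Subgroup.mem_centralizer_singleton_iff] at h2
  rw [h2]; group

end Cfsg.Agent.Lib.H21.CPair
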