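import Mathlib
import Cfsg.Agent.Lib.H21.CPairA

/-!
# More generic lemmas: fixed points of p-groups on normal p-subgroups, normal p-complements of
supersolvable groups for the smallest prime (helper21)
-/

set_option autoImplicit false

namespace Cfsg.Agent.Lib.H21.CPair

open Cfsg.Agent.Lib.H3

variable {G : Type*} [Group G]

/-- A `q`-subgroup `Q` acting by conjugation on a nontrivial normal `q`-subgroup `N` fixes a
nontrivial element. -/
theorem exists_fixed_of_pGroups [Finite G] {q : ℕ} [hq : Fact q.Prime] (N Q : Subgroup G)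
    [hN : N.Normal] (hNq : IsPGroup q N) (hQq : IsPGroup q Q) (hne : N ≠ ⊥) :
    ∃ n ∈ N, n ≠ 1 ∧ ∀ x ∈ Q, x * n * x⁻¹ = n := by
  classical
  letI : MulAction Q N := MulAction.compHom N ((MulAut.conjNormal (H := N)).comp Q.subtype)
  have hsmul : ∀ (x : Q) (n : N), ((x • n : N) : G) = (x : G) * n * (x : G)⁻¹ := by
    intro x n; rfl
  have h1 := hQq.card_modEq_card_fixedPoints (α := N)
  have hNnt : Nontrivial N := (Subgroup.nontrivial_iff_ne_bot N).2 hne
  have h2 : q ∣ Nat.card N := by
    obtain ⟨k, hk⟩ := (IsPGroup.iff_card.1 hNq)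
    have hk0 : k ≠ 0 := by
      rintro rfl
      rw [pow_zero] at hk
      have := Finite.one_lt_card (α := N)
      omega
    rw [hk]; exact dvd_pow_self q hk0
  have h3 : q ∣ Nat.card (MulAction.fixedPoints Q N) :=
    (Nat.modEq_zero_iff_dvd).1 (h1.symm.trans ((Nat.modEq_zero_iff_dvd).2 h2))
  have h4 : 1 < Nat.card (MulAction.fixedPoints Q N) := by
    have hpos : 0 < Nat.card (MulAction.fixedPoints Q N) := by
      haveI : Nonempty (MulAction.fixedPoints Q N) := ⟨⟨1, fun x => by
        apply Subtype.ext; rw [hsmul]; simp⟩⟩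
      exact Nat.card_pos
    exact lt_of_lt_of_le hq.out.one_lt (Nat.le_of_dvd hpos h3)
  haveI : Nontrivial (MulAction.fixedPoints Q N) := Finite.one_lt_card_iff_nontrivial.1 h4
  obtain ⟨⟨n, hn⟩, hn1⟩ := exists_ne (⟨1, fun x => by
        apply Subtype.ext; rw [hsmul]; simp⟩ : MulAction.fixedPoints Q N)
  refine ⟨n, n.2, ?_, ?_⟩
  · intro h
    apply hn1
    apply Subtype.ext
    apply Subtype.ext
    exact h
  · intro x hx
    have := hn ⟨x, hx⟩
    have h5 := congrArg (fun z : N => (z : G)) this
    simpa [hsmul] using h5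

theorem card_mul_relIndex_le {H K : Subgroup G} (h : H ≤ K) :
    Nat.card H * H.relIndex K = Nat.card K := by
  have h1 := (H.subgroupOf K).card_mul_index
  rwa [Nat.card_congr (Subgroup.subgroupOfEquivOfLe h).toEquiv] at h1

/-- primes dividing the order of the top of a `PChain b` are at least `b`. -/
theorem PChain.le_of_prime_dvd [Finite G] {b : ℕ} {K : Subgroup G} (h : PChain b K) :
    ∀ r : ℕ, r.Prime → r ∣ Nat.card K → b ≤ r := by
  induction h with
  | bot b =>
    intro r hr hd
    rw [Subgroup.card_bot] at hd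
    exact absurd (Nat.dvd_one.1 hd) hr.ne_one
  | step b r K L hK hKL hLn hidx hr hbr ih =>
    intro r' hr' hd
    have h1 : Nat.card L = Nat.card K * r := by
      rw [← hidx]
      exact (card_mul_relIndex_le hKL).symm
    rw [h1] at hd
    rcases (Nat.Prime.dvd_mul hr').1 hd with h2 | h2
    · exact hbr.trans (ih r' hr' h2)
    · rw [(Nat.prime_dvd_prime_iff_eq hr' hr).1 h2]; exact hbr

/-- normal `p`-complement inside a `PChain` for the smallest prime. -/
theorem PChain.exists_compl [Finite G] {b : ℕ} {K : Subgroup G} (h : PChain b K) (p : ℕ)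
    (hp : p.Prime) (hmin : ∀ r : ℕ, r.Prime → r ∣ Nat.card G → p ≤ r) :
    ∃ L : Subgroup G, L.Normal ∧ L ≤ K ∧ ¬ p ∣ Nat.card L ∧ ∃ a : ℕ, L.relIndex K = p ^ a := by
  induction h with
  | bot b =>
    refine ⟨⊥, inferInstance, le_rfl, ?_, 0, ?_⟩
    · rw [Subgroup.card_bot]; exact hp.one_lt.ne' ∘ Nat.dvd_one.1
    · simp
  | step b r K L hK hKL hLn hidx hr hbr ih =>
    obtain ⟨L₀, hL₀n, hL₀K, hpL₀, a, ha⟩ := ih
    have hcard : Nat.card L = Nat.card K * r := by
      rw [← hidx]
      exact (card_mul_relIndex_le hKL).symm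
    by_cases hrp : r = p
    · refine ⟨L₀, hL₀n, hL₀K.trans hKL, hpL₀, a + 1, ?_⟩
      rw [← Subgroup.relIndex_mul_relIndex L₀ K L hL₀K hKL, ha, hidx, hrp, pow_succ]
    · refine ⟨L, hLn, le_rfl, ?_, 0, ?_⟩
      · intro hd
        have hrG : r ∣ Nat.card G := by
          have : r ∣ Nat.card L := by rw [hcard]; exact Dvd.intro_left _ rfl
          exact this.trans (Subgroup.card_subgroup_dvd_card L)
        have h1 : p ≤ r := hmin r hr hrG
        have h2 : r ≤ p := by
          rw [hcard] at hd
          rcases (Nat.Prime.dvd_mul hp).1 hd with h3 | h3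
          · exact PChain.le_of_prime_dvd hK p hp h3
          · exact le_of_eq ((Nat.prime_dvd_prime_iff_eq hp hr).1 h3).symm
        exact hrp (le_antisymm h2 h1)
      · simp

/-- A finite supersolvable group has a normal `p`-complement for the smallest prime `p`. -/
theorem exists_normal_compl_of_ssReach [Finite G] (hss : SSReach (⊤ : Subgroup G)) (p : ℕ)
    (hp : p.Prime) (hmin : ∀ r : ℕ, r.Prime → r ∣ Nat.card G → p ≤ r) :
    ∃ L : Subgroup G, L.Normal ∧ ¬ p ∣ Nat.card L ∧ ∃ a : ℕ, L.index = p ^ a := by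
  have h1 := pchain_top_of_ssReach _ G rfl hss
  obtain ⟨L, hLn, -, hpL, a, ha⟩ := PChain.exists_compl h1 p hp hmin
  exact ⟨L, hLn, hpL, a, by rwa [Subgroup.relIndex_top_right] at ha⟩

/-- supersolvable groups are solvable. -/
theorem isSolvable_of_ssReach (hss : SSReach (⊤ : Subgroup G)) : Group.IsSolvable G := by
  have h1 : Group.IsNilpotent (commutator G) := isNilpotent_commutator_of_ssReach hss
  have : Group.IsSolvable (commutator G) := inferInstance
  exact Group.isSolvable_of_ker_le_range (commutator G).subtype (Abelianization.of (G := G))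
    (by rw [Abelianization.ker_of, Subgroup.range_subtype])

end Cfsg.Agent.Lib.H21.CPair
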