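import Mathlib
import Cfsg.Agent.Lib.H21.CPairB

/-!
# The conjugate-pair order hypothesis: inheritance and the quasi-reflection property (helper21)
-/

set_option autoImplicit false

namespace Cfsg.Agent.Lib.H21.CPair

open scoped commutatorElement

/-- for distinct primes `p`, `q`, a `p`-element `x` and a `q`-element `g`:
`q ^ 2 ∤ |⟨x, g x g⁻¹⟩|`. -/
def Hyp (G : Type*) [Group G] : Prop :=
  ∀ (p q : ℕ), p.Prime → q.Prime → p ≠ q → ∀ (x g : G), (∃ a : ℕ, orderOf x = p ^ a) →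
    (∃ b : ℕ, orderOf g = q ^ b) →
      ¬ q ^ 2 ∣ Nat.card ↥(Subgroup.zpowers x ⊔ Subgroup.zpowers (g * x * g⁻¹))

variable {G : Type*} [Group G]

theorem Hyp.subgroup (h : Hyp G) (H : Subgroup G) : Hyp H := by
  intro p q hp hq hpq x g hx hg hdvd
  apply h p q hp hq hpq (x : G) (g : G) (by simpa [Subgroup.orderOf_coe] using hx)
    (by simpa [Subgroup.orderOf_coe] using hg)
  have h1 : (Subgroup.zpowers x ⊔ Subgroup.zpowers (g * x * g⁻¹)).map H.subtype =
      Subgroup.zpowers (x : G) ⊔ Subgroup.zpowers ((g : G) * x * (g : G)⁻¹) := by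
    rw [Subgroup.map_sup, MonoidHom.map_zpowers, MonoidHom.map_zpowers]
    rfl
  rw [← h1, Subgroup.card_map_of_injective H.subtype_injective]
  exact hdvd

theorem Hyp.of_surjective [Finite G] (h : Hyp G) {H : Type*} [Group H] (f : G →* H)
    (hf : Function.Surjective f) : Hyp H := by
  intro p q hp hq hpq x g hx hg hdvd
  obtain ⟨x₀, rfl, hx₀⟩ := exists_pElement_lift f hf hp x hx
  obtain ⟨g₀, rfl, hg₀⟩ := exists_pElement_lift f hf hq g hg
  apply h p q hp hq hpq x₀ g₀ hx₀ hg₀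
  have h1 : (Subgroup.zpowers x₀ ⊔ Subgroup.zpowers (g₀ * x₀ * g₀⁻¹)).map f =
      Subgroup.zpowers (f x₀) ⊔ Subgroup.zpowers (f g₀ * f x₀ * (f g₀)⁻¹) := by
    rw [Subgroup.map_sup, MonoidHom.map_zpowers, MonoidHom.map_zpowers]
    simp
  rw [← h1] at hdvd
  exact hdvd.trans (Subgroup.card_map_dvd _ f)

/-- The quasi-reflection property: a `r`-element `x` normalizes `⟨[g, x]⟩` for `g` in an
elementary abelian normal `q`-subgroup, `r ≠ q`. -/
theorem Hyp.qr [Finite G] (h : Hyp G) {q : ℕ} (hq : q.Prime) (N : Subgroup G) [hN : N.Normal]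
    (hNexp : ∀ a ∈ N, a ^ q = 1)
    {r : ℕ} (hr : r.Prime) (hrq : r ≠ q) {x : G} (hx : ∃ a : ℕ, orderOf x = r ^ a)
    {g : G} (hg : g ∈ N) : x * ⁅g, x⁆ * x⁻¹ ∈ Subgroup.zpowers ⁅g, x⁆ := by
  by_contra hnot
  haveI : Fact q.Prime := ⟨hq⟩
  set c := ⁅g, x⁆ with hc
  have hcN : c ∈ N := by
    rw [hc, commutatorElement_def]
    have : g * x * g⁻¹ * x⁻¹ = g * (x * g⁻¹ * x⁻¹) := by group
    rw [this]
    exact N.mul_mem hg (hN.conj_mem _ (N.inv_mem hg) x)
  have hc'N : x * c * x⁻¹ ∈ N := hN.conj_mem _ hcN x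
  have hgord : ∃ b : ℕ, orderOf g = q ^ b := by
    have := orderOf_dvd_of_pow_eq_one (hNexp g hg)
    rcases (Nat.dvd_prime hq).1 this with h1 | h1
    · exact ⟨0, by rw [h1, pow_zero]⟩
    · exact ⟨1, by rw [h1, pow_one]⟩
  apply h r q hr hq hrq x g hx hgord
  set T := Subgroup.zpowers x ⊔ Subgroup.zpowers (g * x * g⁻¹) with hT
  have hxT : x ∈ T := (le_sup_left : Subgroup.zpowers x ≤ T) (Subgroup.mem_zpowers x)
  have hgxT : g * x * g⁻¹ ∈ T :=
    (le_sup_right : Subgroup.zpowers (g * x * g⁻¹) ≤ T) (Subgroup.mem_zpowers _)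
  have hcT : c ∈ T := by
    rw [hc, commutatorElement_def]
    exact T.mul_mem hgxT (T.inv_mem hxT)
  have hc'T : x * c * x⁻¹ ∈ T := T.mul_mem (T.mul_mem hxT hcT) (T.inv_mem hxT)
  set K := Subgroup.zpowers c ⊔ Subgroup.zpowers (x * c * x⁻¹) with hK
  have hKT : K ≤ T := sup_le (by rwa [Subgroup.zpowers_le]) (by rwa [Subgroup.zpowers_le])
  have hKN : K ≤ N := sup_le (by rwa [Subgroup.zpowers_le]) (by rwa [Subgroup.zpowers_le])
  have hNp : IsPGroup q N := by
    intro ⟨a, ha⟩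
    refine ⟨1, ?_⟩
    apply Subtype.ext
    simpa using hNexp a ha
  have hKp : IsPGroup q K := hNp.to_le hKN
  obtain ⟨j, hj⟩ := IsPGroup.iff_card.1 hKp
  have hc1 : c ≠ 1 := by
    intro h1
    apply hnot
    rw [h1]; simp
  have hcord : orderOf c = q := by
    have := orderOf_dvd_of_pow_eq_one (hNexp c hcN)
    rcases (Nat.dvd_prime hq).1 this with h1 | h1
    · exact absurd (orderOf_eq_one_iff.1 h1) hc1
    · exact h1
  have hle : Subgroup.zpowers c ≤ K := le_sup_left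
  have h2 := card_mul_relIndex_le hle
  rw [Nat.card_zpowers, hcord, hj] at h2
  have h3 : (Subgroup.zpowers c).relIndex K ≠ 1 := by
    intro h4
    rw [Subgroup.relIndex_eq_one] at h4
    exact hnot (h4 ((le_sup_right : Subgroup.zpowers (x * c * x⁻¹) ≤ K) (Subgroup.mem_zpowers _)))
  have hj2 : 2 ≤ j := by
    rcases j with _ | _ | j
    · rw [pow_zero] at h2
      have := Nat.eq_one_of_mul_eq_one_right h2
      exact absurd this hq.ne_one
    · rw [pow_one] at h2
      have : (Subgroup.zpowers c).relIndex K = 1 := by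
        have h5 : q * (Subgroup.zpowers c).relIndex K = q * 1 := by rw [h2, mul_one]
        exact Nat.eq_of_mul_eq_mul_left hq.pos h5
      exact absurd this h3
    · omega
  have h5 : q ^ 2 ∣ Nat.card K := by rw [hj]; exact pow_dvd_pow q hj2
  exact h5.trans (Subgroup.card_dvd_of_le hKT)

end Cfsg.Agent.Lib.H21.CPair
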