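import Mathlib
import Cfsg.Agent.Lib.H21.CPairC
import Cfsg.Agent.Lib.L0.FrobeniusPC

/-!
# A group all of whose proper subgroups and proper quotients are supersolvable is solvable
(helper21)
-/

set_option autoImplicit false

namespace Cfsg.Agent.Lib.H21.CPair

open Cfsg.Agent.Lib.H3 Cfsg.Agent.Lib.L0

theorem frobHyp_of_proper_ssReach {G : Type*} [Group G] [Finite G] [Nontrivial G]
    (hsub : ∀ H : Subgroup G, H ≠ ⊤ → SSReach (⊤ : Subgroup H))
    (hsimple : ∀ K : Subgroup G, K.Normal → K ≠ ⊥ → K = ⊤) :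
    FrobHyp (Nat.card G).minFac G := by
  have hcard : Nat.card G ≠ 1 := (Finite.one_lt_card (α := G)).ne'
  have hp : (Nat.card G).minFac.Prime := Nat.minFac_prime hcard
  set p := (Nat.card G).minFac with hpdef
  haveI : Fact p.Prime := ⟨hp⟩
  intro Q hQ g hg hcop
  rw [Subgroup.mem_centralizer_iff]
  set H := Q ⊔ Subgroup.zpowers g with hH
  by_cases hHt : H = ⊤
  · have hQn : Q.Normal := by
      rw [← Subgroup.normalizer_eq_top_iff, eq_top_iff, ← hHt]
      exact sup_le Subgroup.le_normalizer (by rwa [Subgroup.zpowers_le])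
    by_cases hQb : Q = ⊥
    · intro x hx
      rw [SetLike.mem_coe, hQb, Subgroup.mem_bot] at hx
      rw [hx]; simp
    · have hQt := hsimple Q hQn hQb
      have hg1 : g = 1 := by
        obtain ⟨k, hk⟩ := hQ ⟨g, by rw [hQt]; trivial⟩
        have hk' : g ^ p ^ k = 1 := by simpa using congrArg Subtype.val hk
        have h1 : orderOf g ∣ p ^ k := orderOf_dvd_of_pow_eq_one hk'
        have h2 : Nat.Coprime (orderOf g) (p ^ k) := hcop.pow_right k
        exact orderOf_eq_one_iff.1 (h2.eq_one_of_dvd h1)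
      intro x _
      rw [hg1]; simp
  · have hss := hsub H hHt
    have hmin : ∀ r : ℕ, r.Prime → r ∣ Nat.card H → p ≤ r := by
      intro r hr hd
      exact Nat.minFac_le_of_dvd hr.two_le (hd.trans (Subgroup.card_subgroup_dvd_card H))
    obtain ⟨L, hLn, hpL, a, ha⟩ := exists_normal_compl_of_ssReach hss p hp hmin
    have hgH : g ∈ H := (le_sup_right : Subgroup.zpowers g ≤ H) (Subgroup.mem_zpowers g)
    have hgL : (⟨g, hgH⟩ : H) ∈ L := by
      apply mem_of_pow_mem_of_coprime L (a := p ^ a) (b := orderOf g)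
      · rw [← ha]; exact Subgroup.pow_index_mem L _
      · have : (⟨g, hgH⟩ : H) ^ orderOf g = 1 := by
          apply Subtype.ext; simp [pow_orderOf_eq_one]
        rw [this]; exact L.one_mem
      · exact (hcop.pow_right a).symm
    have hinf : L ⊓ Q.subgroupOf H = ⊥ := by
      apply Subgroup.inf_eq_bot_of_coprime
      have h1 : Nat.card (Q.subgroupOf H) = Nat.card Q :=
        Nat.card_congr (Subgroup.subgroupOfEquivOfLe le_sup_left).toEquiv
      obtain ⟨k, hk⟩ := IsPGroup.iff_card.1 hQ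
      rw [h1, hk]
      exact ((Nat.Prime.coprime_iff_not_dvd hp).2 hpL).symm.pow_right k
    intro x hx
    have hxH : x ∈ H := (le_sup_left : Q ≤ H) hx
    have he1 : (⟨x, hxH⟩ : H) * ⟨g, hgH⟩ * (⟨x, hxH⟩ : H)⁻¹ * (⟨g, hgH⟩ : H)⁻¹ ∈ L :=
      L.mul_mem (hLn.conj_mem _ hgL _) (L.inv_mem hgL)
    have he2 : (⟨x, hxH⟩ : H) * ⟨g, hgH⟩ * (⟨x, hxH⟩ : H)⁻¹ * (⟨g, hgH⟩ : H)⁻¹ ∈
        Q.subgroupOf H := by
      rw [Subgroup.mem_subgroupOf]
      have : x * g * x⁻¹ * g⁻¹ = x * (g * x⁻¹ * g⁻¹) := by group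
      simp only [Subgroup.coe_mul, Subgroup.coe_inv]
      rw [this]
      exact Q.mul_mem hx ((Subgroup.mem_normalizer_iff.1 hg x⁻¹).1 (Q.inv_mem hx))
    have he3 : (⟨x, hxH⟩ : H) * ⟨g, hgH⟩ * (⟨x, hxH⟩ : H)⁻¹ * (⟨g, hgH⟩ : H)⁻¹ = 1 := by
      have : _ ∈ L ⊓ Q.subgroupOf H := ⟨he1, he2⟩
      rwa [hinf, Subgroup.mem_bot] at this
    have he4 : x * g * x⁻¹ * g⁻¹ = 1 := by
      simpa using congrArg Subtype.val he3
    have : x * g = (x * g * x⁻¹ * g⁻¹) * (g * x) := by group
    rw [this, he4, one_mul]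

theorem isSolvable_of_proper_ssReach {G : Type*} [Group G] [Finite G]
    (hsub : ∀ H : Subgroup G, H ≠ ⊤ → SSReach (⊤ : Subgroup H))
    (hquot : ∀ K : Subgroup G, ∀ _ : K.Normal, K ≠ ⊥ → SSReach (⊤ : Subgroup (G ⧸ K))) :
    Group.IsSolvable G := by
  by_cases h : ∃ K : Subgroup G, K.Normal ∧ K ≠ ⊥ ∧ K ≠ ⊤
  · obtain ⟨K, hKn, hKb, hKt⟩ := h
    have h1 : Group.IsSolvable K := isSolvable_of_ssReach (hsub K hKt)
    have h2 : Group.IsSolvable (G ⧸ K) := isSolvable_of_ssReach (hquot K hKn hKb)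
    exact Group.isSolvable_of_ker_le_range K.subtype (QuotientGroup.mk' K) (by simp)
  · have hsimple : ∀ K : Subgroup G, K.Normal → K ≠ ⊥ → K = ⊤ := by
      intro K hKn hKb
      by_contra hKt
      exact h ⟨K, hKn, hKb, hKt⟩
    rcases subsingleton_or_nontrivial G with hs | hnt
    · exact Group.isSolvable_of_top_eq_bot G (Subsingleton.elim _ _)
    · have hcard : Nat.card G ≠ 1 := (Finite.one_lt_card (α := G)).ne'
      have hp : (Nat.card G).minFac.Prime := Nat.minFac_prime hcard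
      haveI : Fact (Nat.card G).minFac.Prime := ⟨hp⟩
      obtain ⟨P, N, hNn, hc⟩ :=
        hasNormalPComplement_of_frobHyp (frobHyp_of_proper_ssReach hsub hsimple)
      have hmul := hc.card_mul_card
      by_cases hNb : N = ⊥
      · rw [hNb, Subgroup.card_bot, one_mul] at hmul
        have hPt : (P : Subgroup G) = ⊤ := (Subgroup.card_eq_iff_eq_top _).1 hmul
        have hG : IsPGroup (Nat.card G).minFac G := by
          have := P.isPGroup'
          rw [hPt] at this
          exact IsPGroup.of_equiv this Subgroup.topEquiv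
        have := hG.isNilpotent
        infer_instance
      · have hNt := hsimple N hNn hNb
        rw [hNt, Subgroup.card_top] at hmul
        have h1 : Nat.card (P : Subgroup G) = 1 := by
          have h2 : Nat.card G * Nat.card (P : Subgroup G) = Nat.card G * 1 := by
            rw [hmul, mul_one]
          exact Nat.eq_of_mul_eq_mul_left Nat.card_pos h2
        have h3 : (P : Subgroup G) ≠ ⊥ := P.ne_bot_of_dvd_card (Nat.minFac_dvd _)
        exact absurd (Subgroup.card_eq_one.1 h1) h3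

end Cfsg.Agent.Lib.H21.CPair
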