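import Mathlib
import Cfsg.Agent.Lib.H21.CPairD

/-!
# The core configuration `G = N ⋊ M` for the conjugate-pair criterion, part 1 (helper21)
-/

set_option autoImplicit false

namespace Cfsg.Agent.Lib.H21.CPair

open Cfsg.Agent.Lib.H3
open scoped commutatorElement

/-- `N` minimal normal elementary abelian `q`-group, complemented by `M` acting faithfully,
quasi-reflection property, all proper subgroups supersolvable. -/
structure Cfg (G : Type*) [Group G] (q : ℕ) (N M : Subgroup G) : Prop where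
  hq : q.Prime
  hNn : N.Normal
  hNne : N ≠ ⊥
  hNexp : ∀ a ∈ N, a ^ q = 1
  hNcomm : ∀ a ∈ N, ∀ b ∈ N, a * b = b * a
  hNmin : ∀ K : Subgroup G, K.Normal → K ≤ N → K ≠ ⊥ → K = N
  hinf : N ⊓ M = ⊥
  hsup : N ⊔ M = ⊤
  hfaith : ∀ m ∈ M, (∀ n ∈ N, m * n = n * m) → m = 1
  hqr : ∀ (r : ℕ), r.Prime → r ≠ q → ∀ x : G, (∃ a : ℕ, orderOf x = r ^ a) → ∀ g ∈ N,
      x * ⁅g, x⁆ * x⁻¹ ∈ Subgroup.zpowers ⁅g, x⁆
  hsub : ∀ H : Subgroup G, H ≠ ⊤ → SSReach (⊤ : Subgroup H)

variable {G : Type*} [Group G]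

/-- membership in the normalizer of a cyclic subgroup of a finite group. -/
theorem mem_nrm_iff [Finite G] {a g : G} :
    g ∈ Subgroup.normalizer (Subgroup.zpowers a : Set G) ↔
      g * a * g⁻¹ ∈ Subgroup.zpowers a := by
  constructor
  · intro h
    exact (Subgroup.mem_normalizer_iff.1 h a).1 (Subgroup.mem_zpowers a)
  · intro h
    apply Subgroup.mem_normalizer_fintype
    intro n hn
    obtain ⟨k, rfl⟩ := Subgroup.mem_zpowers_iff.1 hn
    have : g * a ^ k * g⁻¹ = (g * a * g⁻¹) ^ k := by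
      simpa using (map_zpow (MulAut.conj g) a k)
    rw [this]
    exact Subgroup.zpow_mem _ h k

namespace Cfg

variable {q : ℕ} {N M : Subgroup G} (C : Cfg G q N M)
include C

theorem conj_eq {n a : G} (hn : n ∈ N) (ha : a ∈ N) : n * a * n⁻¹ = a := by
  rw [C.hNcomm n hn a ha]; group

theorem orderOf_eq {a : G} (ha : a ∈ N) (ha1 : a ≠ 1) : orderOf a = q := by
  have := orderOf_dvd_of_pow_eq_one (C.hNexp a ha)
  rcases (Nat.dvd_prime C.hq).1 this with h1 | h1
  · exact absurd (orderOf_eq_one_iff.1 h1) ha1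
  · exact h1

theorem exists_mul {g : G} : ∃ n ∈ N, ∃ m ∈ M, n * m = g := by
  haveI := C.hNn
  have : g ∈ N ⊔ M := by rw [C.hsup]; trivial
  exact Subgroup.mem_sup_of_normal_left.1 this

/-- A line of `N` normalized by `M` is normal, hence equal to `N`. -/
theorem card_of_line [Finite G] {a : G} (ha : a ∈ N) (ha1 : a ≠ 1)
    (h : ∀ m ∈ M, m * a * m⁻¹ ∈ Subgroup.zpowers a) : Nat.card N = q := by
  have hall : ∀ g : G, g * a * g⁻¹ ∈ Subgroup.zpowers a := by
    intro g
    obtain ⟨n, hn, m, hm, rfl⟩ := C.exists_mul (g := g)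
    have h1 : n * m * a * (n * m)⁻¹ = n * (m * a * m⁻¹) * n⁻¹ := by group
    have h2 : m * a * m⁻¹ ∈ N := C.hNn.conj_mem a ha m
    rw [h1, C.conj_eq hn h2]
    exact h m hm
  have hnorm : (Subgroup.zpowers a).Normal := by
    constructor
    intro n hn g
    obtain ⟨k, rfl⟩ := Subgroup.mem_zpowers_iff.1 hn
    have : g * a ^ k * g⁻¹ = (g * a * g⁻¹) ^ k := by
      simpa using (map_zpow (MulAut.conj g) a k)
    rw [this]
    exact Subgroup.zpow_mem _ (hall g) k
  have hle : Subgroup.zpowers a ≤ N := by rwa [Subgroup.zpowers_le]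
  have hne : Subgroup.zpowers a ≠ ⊥ := by rwa [Ne, Subgroup.zpowers_eq_bot]
  have := C.hNmin _ hnorm hle hne
  rw [← this, Nat.card_zpowers, C.orderOf_eq ha ha1]

/-- A subgroup containing all `M`-conjugates of a nontrivial element of `N` contains `N`. -/
theorem le_of_conj_mem (S : Subgroup G) {c : G} (hc : c ∈ N) (hc1 : c ≠ 1)
    (h : ∀ m ∈ M, m * c * m⁻¹ ∈ S) : N ≤ S := by
  haveI := C.hNn
  have h1 : Subgroup.normalClosure ({c} : Set G) ≤ N :=
    Subgroup.normalClosure_le_normal (by simpa using hc)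
  have h2 : Subgroup.normalClosure ({c} : Set G) ≠ ⊥ := by
    intro h3
    have : c ∈ Subgroup.normalClosure ({c} : Set G) :=
      Subgroup.subset_normalClosure (Set.mem_singleton c)
    rw [h3, Subgroup.mem_bot] at this
    exact hc1 this
  have h3 := C.hNmin _ Subgroup.normalClosure_normal h1 h2
  rw [← h3, Subgroup.normalClosure, Subgroup.closure_le]
  intro x hx
  rw [Group.mem_conjugatesOfSet_iff] at hx
  obtain ⟨a, ha, hax⟩ := hx
  rw [Set.mem_singleton_iff] at ha
  subst ha
  obtain ⟨g, rfl⟩ := isConj_iff.1 hax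
  obtain ⟨n, hn, m, hm, rfl⟩ := C.exists_mul (g := g)
  have h4 : n * m * a * (n * m)⁻¹ = n * (m * a * m⁻¹) * n⁻¹ := by group
  have h5 : m * a * m⁻¹ ∈ N := C.hNn.conj_mem a hc m
  rw [h4, C.conj_eq hn h5]
  exact h m hm

/-- An element of `M` centralizing all `M`-conjugates of a nontrivial element of `N` is trivial. -/
theorem eq_one_of_centralizes {x c : G} (hx : x ∈ M) (hc : c ∈ N) (hc1 : c ≠ 1)
    (h : ∀ m ∈ M, x * (m * c * m⁻¹) = (m * c * m⁻¹) * x) : x = 1 := by
  apply C.hfaith x hx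
  have h1 : N ≤ Subgroup.centralizer ({x} : Set G) := by
    apply C.le_of_conj_mem _ hc hc1
    intro m hm
    rw [Subgroup.mem_centralizer_singleton_iff]
    exact (h m hm).symm
  intro n hn
  have := h1 hn
  rw [Subgroup.mem_centralizer_singleton_iff] at this
  exact this.symm

/-- An element of `M` centralizing two elements generating `N` is trivial. -/
theorem eq_one_of_centralizes_pair {x a b : G} (hx : x ∈ M)
    (hN : N ≤ Subgroup.zpowers a ⊔ Subgroup.zpowers b)
    (ha : x * a = a * x) (hb : x * b = b * x) : x = 1 := by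
  apply C.hfaith x hx
  have h1 : Subgroup.zpowers a ⊔ Subgroup.zpowers b ≤ Subgroup.centralizer ({x} : Set G) := by
    apply sup_le
    · rw [Subgroup.zpowers_le, Subgroup.mem_centralizer_singleton_iff]; exact ha.symm
    · rw [Subgroup.zpowers_le, Subgroup.mem_centralizer_singleton_iff]; exact hb.symm
  intro n hn
  have := h1 (hN hn)
  rw [Subgroup.mem_centralizer_singleton_iff] at this
  exact this.symm

end Cfg

end Cfsg.Agent.Lib.H21.CPair
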