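import Mathlib
import Cfsg.Agent.Lib.H21.CPairE

/-!
# The core configuration, part 2: a normal subgroup `M₀` of prime index, an `M₀`-invariant line,
a prime power element outside `M₀`, and the case of index `q` (helper21)
-/

set_option autoImplicit false

namespace Cfsg.Agent.Lib.H21.CPair

open Cfsg.Agent.Lib.H3 Cfsg.Agent.Lib.H9.Huppert
open scoped commutatorElement

variable {G : Type*} [Group G]

theorem PChain.exists_top_step {b : ℕ} {K : Subgroup G} (h : PChain b K) (hK : K ≠ ⊥) :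
    ∃ (r : ℕ) (K' : Subgroup G), PChain r K' ∧ K' ≤ K ∧ K'.Normal ∧ K'.relIndex K = r ∧
      r.Prime := by
  cases h with
  | bot => exact absurd rfl hK
  | step b r K' L hK' hle hn hidx hr hbr => exact ⟨r, K', hK', hle, hK'.normal, hidx, hr⟩

/-- A nontrivial supersolvable subgroup `M` has a subgroup `M₀`, normalized by `M`, of prime index
equal to the smallest prime divisor of `|M|`. -/
theorem exists_normal_prime_relIndex [Finite G] (M : Subgroup G) (hM : M ≠ ⊥)
    (hss : SSReach (⊤ : Subgroup M)) :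
    ∃ M₀ : Subgroup G, M₀ ≤ M ∧ (∀ m ∈ M, ∀ x ∈ M₀, m * x * m⁻¹ ∈ M₀) ∧
      (M₀.relIndex M).Prime ∧ ∀ r : ℕ, r.Prime → r ∣ Nat.card M₀ → M₀.relIndex M ≤ r := by
  have h1 := pchain_top_of_ssReach _ M rfl hss
  haveI : Nontrivial M := (Subgroup.nontrivial_iff_ne_bot M).2 hM
  obtain ⟨r, K', hK', -, hK'n, hidx, hr⟩ := PChain.exists_top_step h1 top_ne_bot
  rw [Subgroup.relIndex_top_right] at hidx
  have hrel : (K'.map M.subtype).relIndex M = r := by
    rw [Subgroup.relIndex, Subgroup.subgroupOf,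
      Subgroup.comap_map_eq_self_of_injective M.subtype_injective, hidx]
  refine ⟨K'.map M.subtype, Subgroup.map_subtype_le K', ?_, ?_, ?_⟩
  · rintro m hm x ⟨x', hx', rfl⟩
    exact ⟨⟨m, hm⟩ * x' * ⟨m, hm⟩⁻¹, hK'n.conj_mem x' hx' ⟨m, hm⟩, by simp⟩
  · rw [hrel]; exact hr
  · intro r' hr' hd
    rw [hrel]
    rw [Subgroup.card_map_of_injective M.subtype_injective] at hd
    exact PChain.le_of_prime_dvd hK' r' hr' hd

/-- For `M₀ ≤ M` normalized by `M` with prime index `s`, there is an `s`-element of `M`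
outside `M₀`. -/
theorem exists_primePow_not_mem [Finite G] {M₀ M : Subgroup G} (hle : M₀ ≤ M)
    (hnorm : ∀ m ∈ M, ∀ x ∈ M₀, m * x * m⁻¹ ∈ M₀) (hs : (M₀.relIndex M).Prime) :
    ∃ t ∈ M, t ∉ M₀ ∧ ∃ e : ℕ, orderOf t = (M₀.relIndex M) ^ e := by
  set s := M₀.relIndex M with hsdef
  have hex : ∃ t₀ ∈ M, t₀ ∉ M₀ := by
    by_contra hcon
    push Not at hcon
    have : s = 1 := Subgroup.relIndex_eq_one.2 hcon
    rw [this] at hs
    exact Nat.not_prime_one hs
  obtain ⟨t₀, ht₀M, ht₀⟩ := hex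
  haveI hnormal : (M₀.subgroupOf M).Normal := by
    constructor
    intro x hx m
    rw [Subgroup.mem_subgroupOf] at hx ⊢
    simpa using hnorm m m.2 x hx
  have hpow : t₀ ^ s ∈ M₀ := by
    have := Subgroup.pow_index_mem (M₀.subgroupOf M) ⟨t₀, ht₀M⟩
    rw [Subgroup.mem_subgroupOf] at this
    exact this
  obtain ⟨k, m, hm, hkm⟩ :=
    Nat.exists_eq_pow_mul_and_not_dvd (orderOf_pos t₀).ne' s hs.ne_one
  have hm0 : m ≠ 0 := by
    rintro rfl
    rw [mul_zero] at hkm
    exact (orderOf_pos t₀).ne' hkm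
  refine ⟨t₀ ^ m, M.pow_mem ht₀M m, ?_, k, ?_⟩
  · intro hmem
    apply ht₀
    exact mem_of_pow_mem_of_coprime M₀ hpow hmem ((Nat.Prime.coprime_iff_not_dvd hs).2 hm)
  · rw [orderOf_pow' _ hm0, hkm, Nat.gcd_eq_right (Dvd.intro_left _ rfl)]
    exact Nat.mul_div_cancel _ (Nat.pos_of_ne_zero hm0)

namespace Cfg

variable {q : ℕ} {N M : Subgroup G} (C : Cfg G q N M)
include C

/-- A line of `N` invariant under a proper subgroup `M₀` of `M`. -/
theorem exists_line [Finite G] {M₀ : Subgroup G} (hM₀ : M₀ ≤ M) (hne : ¬ M ≤ M₀) :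
    ∃ c ∈ N, c ≠ 1 ∧ ∀ h ∈ M₀, h * c * h⁻¹ ∈ Subgroup.zpowers c := by
  haveI := C.hNn
  set H := N ⊔ M₀ with hH
  have hHt : H ≠ ⊤ := by
    intro htop
    apply hne
    intro m hm
    have : m ∈ N ⊔ M₀ := by rw [← hH, htop]; trivial
    obtain ⟨n, hn, m₀, hm₀, rfl⟩ := Subgroup.mem_sup_of_normal_left.1 this
    have hnM : n ∈ M := by
      have : n = n * m₀ * m₀⁻¹ := by group
      rw [this]
      exact M.mul_mem hm (M.inv_mem (hM₀ hm₀))
    have : n ∈ N ⊓ M := ⟨hn, hnM⟩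
    rw [C.hinf, Subgroup.mem_bot] at this
    rw [this, one_mul]
    exact hm₀
  have hss := C.hsub H hHt
  have hNH : N ≤ H := le_sup_left
  have hne' : N.subgroupOf H ≠ ⊥ := by
    intro h
    rw [Subgroup.subgroupOf_eq_bot] at h
    exact C.hNne (disjoint_self.1 (h.mono_right hNH))
  obtain ⟨c', hc'1, hc'n, hc'le⟩ := exists_normal_zpowers_le hss (N.subgroupOf H) hne'
  refine ⟨(c' : G), ?_, ?_, ?_⟩
  · have := hc'le (Subgroup.mem_zpowers c')
    rwa [Subgroup.mem_subgroupOf] at this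
  · intro h
    apply hc'1
    apply Subtype.ext
    simpa using h
  · intro h hh
    have hhH : h ∈ H := (le_sup_right : M₀ ≤ H) hh
    have := hc'n.conj_mem c' (Subgroup.mem_zpowers c') ⟨h, hhH⟩
    obtain ⟨k, hk⟩ := Subgroup.mem_zpowers_iff.1 this
    rw [Subgroup.mem_zpowers_iff]
    refine ⟨k, ?_⟩
    have := congrArg Subtype.val hk
    simpa using this

omit C in
/-- If `M₀` normalizes `⟨c⟩` and is normalized by `M`, it normalizes every `M`-conjugate. -/
theorem conj_line {M₀ : Subgroup G} (hnorm : ∀ m ∈ M, ∀ x ∈ M₀, m * x * m⁻¹ ∈ M₀) {c : G}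
    (hc : ∀ h ∈ M₀, h * c * h⁻¹ ∈ Subgroup.zpowers c) {m : G} (hm : m ∈ M) :
    ∀ h ∈ M₀, h * (m * c * m⁻¹) * h⁻¹ ∈ Subgroup.zpowers (m * c * m⁻¹) := by
  intro h hh
  have h1 : m⁻¹ * h * m ∈ M₀ := by
    have := hnorm m⁻¹ (M.inv_mem hm) h hh
    simpa using this
  obtain ⟨k, hk⟩ := Subgroup.mem_zpowers_iff.1 (hc _ h1)
  rw [Subgroup.mem_zpowers_iff]
  refine ⟨k, ?_⟩
  have h2 : (m * c * m⁻¹) ^ k = m * c ^ k * m⁻¹ := by
    simpa using (map_zpow (MulAut.conj m) c k).symm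
  rw [h2, hk]
  group

/-- The case where the index of `M₀` in `M` is `q`. -/
theorem card_of_relIndex_eq [Finite G] {M₀ : Subgroup G} (hM₀ : M₀ ≤ M)
    (hnorm : ∀ m ∈ M, ∀ x ∈ M₀, m * x * m⁻¹ ∈ M₀) (hidx : M₀.relIndex M = q)
    (hmin : ∀ r : ℕ, r.Prime → r ∣ Nat.card M₀ → M₀.relIndex M ≤ r) : Nat.card N = q := by
  haveI : Fact q.Prime := ⟨C.hq⟩
  haveI := C.hNn
  have hne : ¬ M ≤ M₀ := by
    intro h
    have : M₀.relIndex M = 1 := Subgroup.relIndex_eq_one.2 h
    rw [hidx] at this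
    exact C.hq.ne_one this
  obtain ⟨c, hcN, hc1, hc⟩ := C.exists_line hM₀ hne
  have hbot : M₀ = ⊥ := by
    by_contra hb
    have hcard : Nat.card M₀ ≠ 1 := by
      intro h1
      exact hb (Subgroup.card_eq_one.1 h1)
    have hl := Nat.minFac_prime hcard
    haveI : Fact (Nat.card M₀).minFac.Prime := ⟨hl⟩
    obtain ⟨x, hx⟩ := exists_prime_orderOf_dvd_card' (G := M₀) (Nat.card M₀).minFac
      (Nat.minFac_dvd _)
    have hge : q ≤ (Nat.card M₀).minFac := by
      rw [← hidx]; exact hmin _ hl (Nat.minFac_dvd _)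
    have hxo : orderOf (x : G) = (Nat.card M₀).minFac := by
      rw [Subgroup.orderOf_coe]; exact hx
    have hcop : Nat.Coprime (orderOf (x : G)) (q - 1) := by
      rw [hxo, Nat.Prime.coprime_iff_not_dvd hl]
      apply Nat.not_dvd_of_pos_of_lt
      · have := C.hq.two_le; omega
      · have := C.hq.two_le; omega
    have hx1 : (x : G) = 1 := by
      apply C.eq_one_of_centralizes (hM₀ x.2) hcN hc1
      intro m hm
      have h1 := conj_line hnorm hc hm (x : G) x.2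
      have h2 : orderOf (m * c * m⁻¹) = q := by
        have : m * c * m⁻¹ = MulAut.conj m c := by simp
        rw [this, MulEquiv.orderOf_eq, C.orderOf_eq hcN hc1]
      have h3 := conj_eq_of_coprime_pred C.hq h2 h1 hcop
      have : (x : G) * (m * c * m⁻¹) = ((x : G) * (m * c * m⁻¹) * (x : G)⁻¹) * (x : G) := by
        group
      rw [this, h3]
    rw [hx1, orderOf_one] at hxo
    exact hl.ne_one hxo.symm
  have hMcard : Nat.card M = q := by
    rw [← hidx, hbot, Subgroup.relIndex_bot_left]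
  have hMq : IsPGroup q M := IsPGroup.of_card (n := 1) (by rw [hMcard, pow_one])
  have hNq : IsPGroup q N := by
    intro ⟨a, ha⟩
    refine ⟨1, ?_⟩
    apply Subtype.ext
    simpa using C.hNexp a ha
  obtain ⟨n, hnN, hn1, hfix⟩ := exists_fixed_of_pGroups N M hNq hMq C.hNne
  apply C.card_of_line hnN hn1
  intro m hm
  rw [hfix m hm]
  exact Subgroup.mem_zpowers n

end Cfg

end Cfsg.Agent.Lib.H21.CPair
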