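import Mathlib
import Cfsg.Agent.Lib.H21.CPairA

/-!
# Exponent calculus in `⟨a⟩ × ⟨b⟩` for commuting elements of prime order (helper21)
-/

set_option autoImplicit false

namespace Cfsg.Agent.Lib.H21.CPair

variable {G : Type*} [Group G]

/-- `a ^ i * b ^ j`. -/
def E (a b : G) (i j : ℤ) : G := a ^ i * b ^ j

theorem E_mul {a b : G} (hab : Commute a b) (i j i' j' : ℤ) :
    E a b i j * E a b i' j' = E a b (i + i') (j + j') := by
  unfold E
  have h1 : Commute (b ^ j) (a ^ i') := (hab.zpow_zpow i' j).symm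
  calc a ^ i * b ^ j * (a ^ i' * b ^ j') = a ^ i * (b ^ j * a ^ i') * b ^ j' := by group
    _ = a ^ i * (a ^ i' * b ^ j) * b ^ j' := by rw [h1.eq]
    _ = a ^ (i + i') * b ^ (j + j') := by rw [zpow_add, zpow_add]; group

theorem E_inv {a b : G} (hab : Commute a b) (i j : ℤ) :
    (E a b i j)⁻¹ = E a b (-i) (-j) := by
  unfold E
  have h1 : Commute (b ^ j) (a ^ i) := (hab.zpow_zpow i j).symm
  rw [mul_inv_rev, zpow_neg, zpow_neg]
  exact ((h1.inv_inv).eq)

theorem E_zpow {a b : G} (hab : Commute a b) (i j k : ℤ) :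
    (E a b i j) ^ k = E a b (k * i) (k * j) := by
  unfold E
  rw [(hab.zpow_zpow i j).mul_zpow, ← zpow_mul, ← zpow_mul, mul_comm i, mul_comm j]

theorem E_one_zero (a b : G) : E a b 1 0 = a := by simp [E]

theorem E_zero_one (a b : G) : E a b 0 1 = b := by simp [E]

theorem E_congr {a b : G} {q : ℕ} (ha : orderOf a = q) (hb : orderOf b = q) {i j i' j' : ℤ}
    (hi : (q : ℤ) ∣ i - i') (hj : (q : ℤ) ∣ j - j') : E a b i j = E a b i' j' := by
  unfold E
  have h1 : a ^ i = a ^ i' := by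
    rw [zpow_eq_zpow_iff_modEq, ha]; exact (Int.modEq_iff_dvd.2 hi).symm
  have h2 : b ^ j = b ^ j' := by
    rw [zpow_eq_zpow_iff_modEq, hb]; exact (Int.modEq_iff_dvd.2 hj).symm
  rw [h1, h2]

/-- if `q ∤ u` and `b` has order `q`, then `b` is a power of `b ^ u`. -/
theorem mem_zpowers_zpow_of_not_dvd {b : G} {q : ℕ} (hq : q.Prime) (hb : orderOf b = q) {u : ℤ}
    (hu : ¬ (q : ℤ) ∣ u) : b ∈ Subgroup.zpowers (b ^ u) := by
  have hcop : IsCoprime u (q : ℤ) := by
    rw [isCoprime_comm]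
    exact (Nat.prime_iff_prime_int.1 hq).coprime_iff_not_dvd.2 hu
  obtain ⟨x, y, hxy⟩ := hcop
  rw [Subgroup.mem_zpowers_iff]
  refine ⟨x, ?_⟩
  have h1 : b ^ (q : ℤ) = 1 := by rw [zpow_natCast, ← hb, pow_orderOf_eq_one]
  have h3 : b ^ (y * (q : ℤ)) = 1 := by rw [mul_comm, zpow_mul, h1, one_zpow]
  have h2 : b = b ^ (x * u + y * q) := by rw [hxy, zpow_one]
  rw [← zpow_mul, mul_comm u x]
  conv_rhs => rw [h2]
  rw [zpow_add, h3, mul_one]

theorem E_eq_iff {a b : G} {q : ℕ} (hq : q.Prime) (ha : orderOf a = q) (hb : orderOf b = q)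
    (hind : b ∉ Subgroup.zpowers a) {i j i' j' : ℤ} :
    E a b i j = E a b i' j' ↔ (q : ℤ) ∣ i - i' ∧ (q : ℤ) ∣ j - j' := by
  constructor
  · intro h
    unfold E at h
    -- a^(i - i') = b^(j' - j)
    have h1 : a ^ (i - i') = b ^ (j' - j) := by
      have : a ^ (i - i') = (a ^ i')⁻¹ * (a ^ i * b ^ j) * (b ^ j)⁻¹ := by
        rw [zpow_sub]; group
      rw [this, h, zpow_sub]; group
    have hj : (q : ℤ) ∣ j' - j := by
      by_contra hnd
      apply hind
      have h2 := mem_zpowers_zpow_of_not_dvd hq hb hnd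
      rw [← h1] at h2
      exact (Subgroup.zpowers_le.2 (Subgroup.zpow_mem _ (Subgroup.mem_zpowers a) _)) h2
    have h3 : b ^ (j' - j) = 1 := by
      rw [← orderOf_dvd_iff_zpow_eq_one, hb]; exact hj
    rw [h3, ← orderOf_dvd_iff_zpow_eq_one, ha] at h1
    refine ⟨h1, ?_⟩
    have : j - j' = -(j' - j) := by ring
    rw [this]; exact (dvd_neg).2 hj
  · rintro ⟨hi, hj⟩
    exact E_congr ha hb hi hj

theorem conj_E {a b x : G} {α β : ℤ} (hxa : x * a * x⁻¹ = a ^ α) (hxb : x * b * x⁻¹ = b ^ β)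
    (i j : ℤ) : x * E a b i j * x⁻¹ = E a b (α * i) (β * j) := by
  unfold E
  have : x * (a ^ i * b ^ j) * x⁻¹ = (x * a ^ i * x⁻¹) * (x * b ^ j * x⁻¹) := by group
  rw [this, conj_zpow_of_conj_eq hxa, conj_zpow_of_conj_eq hxb]

end Cfsg.Agent.Lib.H21.CPair
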