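import Mathlib
import Cfsg.Agent.Lib.H21.CPairF
import Cfsg.Agent.Lib.H21.CPairG

/-!
# The core configuration, part 3: quasi-reflections normalizing two independent lines (helper21)
-/

set_option autoImplicit false

namespace Cfsg.Agent.Lib.H21.CPair

open Cfsg.Agent.Lib.H3
open scoped commutatorElement

variable {G : Type*} [Group G]

theorem mem_normalizer_sup_zpowers [Finite G] {a b x : G}
    (ha : x * a * x⁻¹ ∈ Subgroup.zpowers a ⊔ Subgroup.zpowers b)
    (hb : x * b * x⁻¹ ∈ Subgroup.zpowers a ⊔ Subgroup.zpowers b) :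
    x ∈ Subgroup.normalizer ((Subgroup.zpowers a ⊔ Subgroup.zpowers b : Subgroup G) : Set G) := by
  apply Subgroup.mem_normalizer_fintype
  intro n hn
  have h1 : (Subgroup.zpowers a ⊔ Subgroup.zpowers b).map (MulAut.conj x).toMonoidHom ≤
      Subgroup.zpowers a ⊔ Subgroup.zpowers b := by
    rw [Subgroup.map_sup, MonoidHom.map_zpowers, MonoidHom.map_zpowers]
    apply sup_le
    · rw [Subgroup.zpowers_le]; simpa using ha
    · rw [Subgroup.zpowers_le]; simpa using hb
  have h2 : x * n * x⁻¹ ∈ (Subgroup.zpowers a ⊔ Subgroup.zpowers b).map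
      (MulAut.conj x).toMonoidHom := ⟨n, hn, by simp⟩
  exact h1 h2

theorem E_mem_sup (a b : G) (i j : ℤ) : E a b i j ∈ Subgroup.zpowers a ⊔ Subgroup.zpowers b :=
  Subgroup.mul_mem _ ((le_sup_left : Subgroup.zpowers a ≤ _) (Subgroup.zpow_mem_zpowers a i))
    ((le_sup_right : Subgroup.zpowers b ≤ _) (Subgroup.zpow_mem_zpowers b j))

namespace Cfg

variable {q : ℕ} {N M : Subgroup G} (C : Cfg G q N M)
include C

theorem E_mem {a b : G} (ha : a ∈ N) (hb : b ∈ N) (i j : ℤ) : E a b i j ∈ N :=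
  N.mul_mem (N.zpow_mem ha i) (N.zpow_mem hb j)

/-- A quasi-reflection normalizing two independent lines centralizes one of them or acts on both
by the same scalar. -/
theorem qr_lines {a b x : G} (haN : a ∈ N) (hbN : b ∈ N) (ha1 : a ≠ 1) (hb1 : b ≠ 1)
    (hind : b ∉ Subgroup.zpowers a) {r e : ℕ} (hr : r.Prime) (hrq : r ≠ q)
    (hx : orderOf x = r ^ e) {α β : ℤ} (hxa : x * a * x⁻¹ = a ^ α) (hxb : x * b * x⁻¹ = b ^ β) :
    (q : ℤ) ∣ α - 1 ∨ (q : ℤ) ∣ β - 1 ∨ (q : ℤ) ∣ α - β := by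
  have hq := C.hq
  have hab : Commute a b := C.hNcomm a haN b hbN
  have ha := C.orderOf_eq haN ha1
  have hb := C.orderOf_eq hbN hb1
  have hgN : E a b 1 1 ∈ N := C.E_mem haN hbN 1 1
  have h1 := C.hqr r hr hrq x ⟨e, hx⟩ (E a b 1 1) hgN
  have hf : ⁅E a b 1 1, x⁆ = E a b (1 - α) (1 - β) := by
    rw [commutatorElement_def]
    have : E a b 1 1 * x * (E a b 1 1)⁻¹ * x⁻¹ = E a b 1 1 * (x * E a b 1 1 * x⁻¹)⁻¹ := by group
    rw [this, conj_E hxa hxb, E_inv hab, E_mul hab]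
    congr 1 <;> ring
  rw [hf] at h1
  obtain ⟨κ, hκ⟩ := Subgroup.mem_zpowers_iff.1 h1
  rw [E_zpow hab, conj_E hxa hxb, E_eq_iff hq ha hb hind] at hκ
  obtain ⟨h2, h3⟩ := hκ
  have h2' : (q : ℤ) ∣ (κ - α) * (1 - α) := by
    have : (κ - α) * (1 - α) = κ * (1 - α) - α * (1 - α) := by ring
    rw [this]; exact h2
  have h3' : (q : ℤ) ∣ (κ - β) * (1 - β) := by
    have : (κ - β) * (1 - β) = κ * (1 - β) - β * (1 - β) := by ring
    rw [this]; exact h3
  rcases Int.Prime.dvd_mul' hq h2' with h4 | h4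
  · rcases Int.Prime.dvd_mul' hq h3' with h5 | h5
    · right; right
      have : α - β = (κ - β) - (κ - α) := by ring
      rw [this]; exact dvd_sub h5 h4
    · right; left
      have : β - 1 = -(1 - β) := by ring
      rw [this]; exact (dvd_neg).2 h5
  · left
    have : α - 1 = -(1 - α) := by ring
    rw [this]; exact (dvd_neg).2 h4

end Cfg

end Cfsg.Agent.Lib.H21.CPair
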