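import Mathlib
import Cfsg.Agent.Lib.H21.CPairH

/-!
# The core configuration, part 4: the case where `M₀` has index prime to `q` (helper21)
-/

set_option autoImplicit false

namespace Cfsg.Agent.Lib.H21.CPair

open Cfsg.Agent.Lib.H3
open scoped commutatorElement

variable {G : Type*} [Group G]

/-- if `u c u⁻¹ = v c v⁻¹` then `u⁻¹ v` centralizes `c`. -/
theorem commute_of_conj_eq {u v c : G} (h : u * c * u⁻¹ = v * c * v⁻¹) :
    (u⁻¹ * v) * c = c * (u⁻¹ * v) := by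
  have h1 : (u⁻¹ * v) * c * (u⁻¹ * v)⁻¹ = u⁻¹ * (v * c * v⁻¹) * u := by group
  rw [← h] at h1
  have h2 : u⁻¹ * (u * c * u⁻¹) * u = c := by group
  rw [h2] at h1
  have : (u⁻¹ * v) * c = ((u⁻¹ * v) * c * (u⁻¹ * v)⁻¹) * (u⁻¹ * v) := by group
  rw [this, h1]

namespace Cfg

variable {q : ℕ} {N M : Subgroup G} (C : Cfg G q N M)
include C

theorem card_of_relIndex_ne [Finite G] {M₀ : Subgroup G} (hM₀ : M₀ ≤ M)
    (hnorm : ∀ m ∈ M, ∀ x ∈ M₀, m * x * m⁻¹ ∈ M₀) (hs : (M₀.relIndex M).Prime)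
    (hsq : M₀.relIndex M ≠ q) : Nat.card N = q := by
  haveI := C.hNn
  have hq := C.hq
  obtain ⟨t, htM, htM₀, e, hte⟩ := exists_primePow_not_mem hM₀ hnorm hs
  have hne : ¬ M ≤ M₀ := fun h => htM₀ (h htM)
  obtain ⟨c, hcN, hc1, hc⟩ := C.exists_line hM₀ hne
  -- `M ≤ M₀ ⊔ ⟨t⟩`
  have hMle : M ≤ M₀ ⊔ Subgroup.zpowers t := by
    have h1 : M₀ ≤ M₀ ⊔ Subgroup.zpowers t := le_sup_left
    have h2 : M₀ ⊔ Subgroup.zpowers t ≤ M := sup_le hM₀ (by rwa [Subgroup.zpowers_le])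
    have h3 := Subgroup.relIndex_mul_relIndex M₀ _ M h1 h2
    rcases (Nat.dvd_prime hs).1 (Dvd.intro _ h3) with h4 | h4
    · exfalso; apply htM₀
      exact (Subgroup.relIndex_eq_one.1 h4)
        ((le_sup_right : Subgroup.zpowers t ≤ _) (Subgroup.mem_zpowers t))
    · rw [h4] at h3
      have h5 : (M₀ ⊔ Subgroup.zpowers t).relIndex M = 1 :=
        Nat.eq_of_mul_eq_mul_left hs.pos (by rw [h3, mul_one])
      exact Subgroup.relIndex_eq_one.1 h5
  -- criterion: a line normalized by `M₀` and `t` finishes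
  have crit : ∀ a ∈ N, a ≠ 1 → (∀ h ∈ M₀, h * a * h⁻¹ ∈ Subgroup.zpowers a) →
      t * a * t⁻¹ ∈ Subgroup.zpowers a → Nat.card N = q := by
    intro a haN ha1 h1 h2
    apply C.card_of_line haN ha1
    intro m hm
    rw [← mem_nrm_iff]
    have h3 : M₀ ⊔ Subgroup.zpowers t ≤ Subgroup.normalizer (Subgroup.zpowers a : Set G) := by
      apply sup_le
      · intro h hh; exact mem_nrm_iff.2 (h1 h hh)
      · rw [Subgroup.zpowers_le]; exact mem_nrm_iff.2 h2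
    exact h3 (hMle hm)
  obtain ⟨c₁, hc₁def⟩ : ∃ c₁ : G, c₁ = t * c * t⁻¹ := ⟨_, rfl⟩
  by_cases hA : c₁ ∈ Subgroup.zpowers c
  · exact crit c hcN hc1 hc (hc₁def ▸ hA)
  -- Case B : independent lines
  have hc₁N : c₁ ∈ N := by rw [hc₁def]; exact C.hNn.conj_mem c hcN t
  have hc₁1 : c₁ ≠ 1 := by
    intro h; apply hA; rw [h]; exact Subgroup.one_mem _
  have hc₁ : ∀ h ∈ M₀, h * c₁ * h⁻¹ ∈ Subgroup.zpowers c₁ := by
    rw [hc₁def]; exact conj_line hnorm hc htM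
  have hab : Commute c c₁ := C.hNcomm c hcN c₁ hc₁N
  have ha := C.orderOf_eq hcN hc1
  have hb := C.orderOf_eq hc₁N hc₁1
  -- `d = c c₁⁻¹`
  have hqr_t := C.hqr _ hs hsq t ⟨e, hte⟩ c hcN
  have hd : ⁅c, t⁆ = E c c₁ 1 (-1) := by
    rw [commutatorElement_def, hc₁def]; unfold E; simp only [zpow_one, zpow_neg]; group
  rw [hd] at hqr_t
  have hdN : E c c₁ 1 (-1) ∈ N := C.E_mem hcN hc₁N 1 (-1)
  have hd1 : E c c₁ 1 (-1) ≠ 1 := by
    intro h
    apply hA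
    have h2 : c = c₁ := by
      unfold E at h
      simp only [zpow_one, zpow_neg] at h
      exact mul_inv_eq_one.1 h
    rw [← h2]; exact Subgroup.mem_zpowers c
  obtain ⟨k, hk⟩ := Subgroup.mem_zpowers_iff.1 hqr_t
  obtain ⟨c₂, hc₂def⟩ : ∃ c₂ : G, c₂ = t * c₁ * t⁻¹ := ⟨_, rfl⟩
  have htd : t * E c c₁ 1 (-1) * t⁻¹ = c₁ * c₂⁻¹ := by
    rw [hc₂def, hc₁def]; unfold E; simp only [zpow_one, zpow_neg]; group
  have hc₂ : c₂ = E c c₁ (-k) (k + 1) := by
    have h1 : c₂ = (c₁ * c₂⁻¹)⁻¹ * c₁ := by group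
    have h2 : (c₁ * c₂⁻¹)⁻¹ = E c c₁ (-k) k := by
      rw [← htd, ← hk, E_zpow hab, E_inv hab]; congr 1 <;> ring
    calc c₂ = (c₁ * c₂⁻¹)⁻¹ * c₁ := h1
      _ = E c c₁ (-k) k * E c c₁ 0 1 := by rw [h2, E_zero_one]
      _ = E c c₁ (-k) (k + 1) := by rw [E_mul hab]; congr 1; ring
  -- `N = ⟨c, c₁⟩`
  have hNW : N ≤ Subgroup.zpowers c ⊔ Subgroup.zpowers c₁ := by
    have hWN : Subgroup.zpowers c ⊔ Subgroup.zpowers c₁ ≤ N :=
      sup_le (by rwa [Subgroup.zpowers_le]) (by rwa [Subgroup.zpowers_le])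
    have hle1 : Subgroup.zpowers c ≤ Subgroup.zpowers c ⊔ Subgroup.zpowers c₁ := le_sup_left
    have hle2 : Subgroup.zpowers c₁ ≤ Subgroup.zpowers c ⊔ Subgroup.zpowers c₁ := le_sup_right
    have hnormW : (Subgroup.zpowers c ⊔ Subgroup.zpowers c₁).Normal := by
      rw [← Subgroup.normalizer_eq_top_iff, eq_top_iff, ← C.hsup]
      apply sup_le
      · intro n hn
        apply mem_normalizer_sup_zpowers
        · rw [C.conj_eq hn hcN]; exact hle1 (Subgroup.mem_zpowers c)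
        · rw [C.conj_eq hn hc₁N]; exact hle2 (Subgroup.mem_zpowers c₁)
      · refine hMle.trans (sup_le ?_ ?_)
        · intro h hh
          exact mem_normalizer_sup_zpowers (hle1 (hc h hh)) (hle2 (hc₁ h hh))
        · rw [Subgroup.zpowers_le]
          apply mem_normalizer_sup_zpowers
          · rw [← hc₁def]; exact hle2 (Subgroup.mem_zpowers c₁)
          · rw [← hc₂def, hc₂]; exact E_mem_sup c c₁ _ _
    have hWne : Subgroup.zpowers c ⊔ Subgroup.zpowers c₁ ≠ ⊥ := by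
      intro h
      have := hle1 (Subgroup.mem_zpowers c)
      rw [h, Subgroup.mem_bot] at this
      exact hc1 this
    exact (C.hNmin _ hnormW hWN hWne).ge
  -- Case B1 : `M₀` normalizes `⟨d⟩`
  by_cases hB1 : ∀ h ∈ M₀, h * E c c₁ 1 (-1) * h⁻¹ ∈ Subgroup.zpowers (E c c₁ 1 (-1))
  · exact crit _ hdN hd1 hB1 hqr_t
  -- Case B2
  push Not at hB1
  obtain ⟨h₀, hh₀, hh₀d⟩ := hB1
  -- a prime power order element of `M₀` not normalizing `⟨d⟩`
  have hex : ∃ m ∈ M₀, (∃ r e' : ℕ, r.Prime ∧ orderOf m = r ^ e') ∧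
      m * E c c₁ 1 (-1) * m⁻¹ ∉ Subgroup.zpowers (E c c₁ 1 (-1)) := by
    by_contra hcon
    push Not at hcon
    apply hh₀d
    rw [← mem_nrm_iff]
    apply mem_of_primePow_powers_mem _ (orderOf h₀) h₀ rfl (orderOf_pos h₀)
    intro j hj
    rw [mem_nrm_iff]
    exact hcon _ (M₀.pow_mem hh₀ j) hj
  obtain ⟨m, hm, ⟨r, e', hr, hmord⟩, hmd⟩ := hex
  obtain ⟨α, hα⟩ := Subgroup.mem_zpowers_iff.1 (hc m hm)
  obtain ⟨β, hβ⟩ := Subgroup.mem_zpowers_iff.1 (hc₁ m hm)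
  have hαβ : ¬ (q : ℤ) ∣ α - β := by
    intro hdvd
    apply hmd
    rw [conj_E hα.symm hβ.symm, Subgroup.mem_zpowers_iff]
    refine ⟨α, ?_⟩
    rw [E_zpow hab]
    apply E_congr ha hb
    · simp
    · have : α * -1 - β * -1 = -(α - β) := by ring
      rw [this]; exact (dvd_neg).2 hdvd
  -- `r ≠ q`
  have hcop_q : Nat.Coprime q (q - 1) := by
    rw [Nat.Prime.coprime_iff_not_dvd hq]
    apply Nat.not_dvd_of_pos_of_lt
    · have := hq.two_le; omega
    · have := hq.two_le; omega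
  have hrq : r ≠ q := by
    intro hrq
    apply hαβ
    have hcop : Nat.Coprime (orderOf m) (q - 1) := by
      rw [hmord, hrq]; exact hcop_q.pow_left e'
    have h1 := conj_eq_of_coprime_pred hq ha (hc m hm) hcop
    have h2 := conj_eq_of_coprime_pred hq hb (hc₁ m hm) hcop
    have h3 : (q : ℤ) ∣ α - 1 := by
      have : c ^ α = c ^ (1 : ℤ) := by rw [hα, h1, zpow_one]
      rw [zpow_eq_zpow_iff_modEq, ha] at this
      exact Int.modEq_iff_dvd.1 this.symm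
    have h4 : (q : ℤ) ∣ β - 1 := by
      have : c₁ ^ β = c₁ ^ (1 : ℤ) := by rw [hβ, h2, zpow_one]
      rw [zpow_eq_zpow_iff_modEq, hb] at this
      exact Int.modEq_iff_dvd.1 this.symm
    have : α - β = (α - 1) - (β - 1) := by ring
    rw [this]; exact dvd_sub h3 h4
  -- the line `⟨c₂⟩` is `M₀`-invariant
  have hc₂line : m * c₂ * m⁻¹ ∈ Subgroup.zpowers c₂ := by
    have h1 := conj_line hnorm hc (M.mul_mem htM htM) m hm
    have h2 : t * t * c * (t * t)⁻¹ = c₂ := by rw [hc₂def, hc₁def]; group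
    rwa [h2] at h1
  obtain ⟨γ, hγ⟩ := Subgroup.mem_zpowers_iff.1 hc₂line
  rw [hc₂, E_zpow hab, conj_E hα.symm hβ.symm, E_eq_iff hq ha hb hA] at hγ
  obtain ⟨hγ1, hγ2⟩ := hγ
  have hk_or : (q : ℤ) ∣ k ∨ (q : ℤ) ∣ k + 1 := by
    by_contra hcon
    push Not at hcon
    obtain ⟨hk1, hk2⟩ := hcon
    apply hαβ
    have h1 : (q : ℤ) ∣ k * (α - γ) := by
      have : k * (α - γ) = γ * -k - α * -k := by ring
      rw [this]; exact hγ1
    have h2 : (q : ℤ) ∣ (k + 1) * (γ - β) := by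
      have : (k + 1) * (γ - β) = γ * (k + 1) - β * (k + 1) := by ring
      rw [this]; exact hγ2
    have h3 := (Int.Prime.dvd_mul' hq h1).resolve_left hk1
    have h4 := (Int.Prime.dvd_mul' hq h2).resolve_left hk2
    have : α - β = (α - γ) + (γ - β) := by ring
    rw [this]; exact dvd_add h3 h4
  rcases hk_or with hk0 | hk1
  · -- `c₂ = c₁`: `t` normalizes `⟨c₁⟩`
    have h1 : c₂ = c₁ := by
      rw [hc₂]
      calc E c c₁ (-k) (k + 1) = E c c₁ 0 1 :=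
            E_congr ha hb (by simpa using hk0) (by simpa using hk0)
        _ = c₁ := E_zero_one c c₁
    exact crit c₁ hc₁N hc₁1 hc₁ (by rw [← hc₂def, h1]; exact Subgroup.mem_zpowers c₁)
  · exfalso
    -- swap: `t c₁ t⁻¹ = c`
    have hswap : t * c₁ * t⁻¹ = c := by
      rw [← hc₂def, hc₂]
      calc E c c₁ (-k) (k + 1) = E c c₁ 1 0 :=
            E_congr ha hb (by
              have : -k - 1 = -(k + 1) := by ring
              rw [this]; exact (dvd_neg).2 hk1) (by simpa using hk1)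
        _ = c := E_one_zero c c₁
    have hti1 : t⁻¹ * c * t = c₁ := by rw [← hswap]; group
    have hti2 : t⁻¹ * c₁ * t = c := by rw [hc₁def]; group
    have zpow_eq_self : ∀ x : G, orderOf x = q → ∀ a : ℤ, (q : ℤ) ∣ a - 1 → x ^ a = x := by
      intro x hx a hdvd
      have : x ^ a = x ^ (1 : ℤ) := by
        rw [zpow_eq_zpow_iff_modEq, hx]; exact (Int.modEq_iff_dvd.2 hdvd).symm
      rw [this, zpow_one]
    -- conjugating elements of `M₀` by `t` swaps the exponents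
    have hconj : ∀ x : G, ∀ a b : ℤ, x * c * x⁻¹ = c ^ a → x * c₁ * x⁻¹ = c₁ ^ b →
        (t * x * t⁻¹) * c * (t * x * t⁻¹)⁻¹ = c ^ b ∧
        (t * x * t⁻¹) * c₁ * (t * x * t⁻¹)⁻¹ = c₁ ^ a := by
      intro x a b hxa hxb
      constructor
      · have h1 : (t * x * t⁻¹) * c * (t * x * t⁻¹)⁻¹ =
            t * (x * (t⁻¹ * c * t) * x⁻¹) * t⁻¹ := by group
        rw [h1, hti1, hxb]
        have h2 : t * c₁ ^ b * t⁻¹ = (t * c₁ * t⁻¹) ^ b := by
          simpa using (map_zpow (MulAut.conj t) c₁ b)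
        rw [h2, hswap]
      · have h1 : (t * x * t⁻¹) * c₁ * (t * x * t⁻¹)⁻¹ =
            t * (x * (t⁻¹ * c₁ * t) * x⁻¹) * t⁻¹ := by group
        rw [h1, hti2, hxa]
        have h2 : t * c ^ a * t⁻¹ = (t * c * t⁻¹) ^ a := by
          simpa using (map_zpow (MulAut.conj t) c a)
        rw [h2, ← hc₁def]
    -- an element `m'` of `M₀` of prime power order centralizing `c₁`, not `c`
    obtain ⟨m', hm'M₀, hm'ord, α', hm'c, hm'c₁, hα'⟩ : ∃ m' ∈ M₀, orderOf m' = r ^ e' ∧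
        ∃ α' : ℤ, m' * c * m'⁻¹ = c ^ α' ∧ m' * c₁ * m'⁻¹ = c₁ ∧ ¬ (q : ℤ) ∣ α' - 1 := by
      rcases C.qr_lines hcN hc₁N hc1 hc₁1 hA hr hrq hmord hα.symm hβ.symm with h1 | h1 | h1
      · obtain ⟨h2, h3⟩ := hconj m α β hα.symm hβ.symm
        refine ⟨t * m * t⁻¹, hnorm t htM m hm, ?_, β, h2, ?_, ?_⟩
        · have : t * m * t⁻¹ = MulAut.conj t m := by simp
          rw [this, MulEquiv.orderOf_eq, hmord]
        · rw [h3]; exact zpow_eq_self c₁ hb α h1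
        · intro h4
          apply hαβ
          have : α - β = (α - 1) - (β - 1) := by ring
          rw [this]; exact dvd_sub h1 h4
      · refine ⟨m, hm, hmord, α, hα.symm, ?_, ?_⟩
        · rw [← hβ]; exact zpow_eq_self c₁ hb β h1
        · intro h4
          apply hαβ
          have : α - β = (α - 1) - (β - 1) := by ring
          rw [this]; exact dvd_sub h4 h1
      · exact absurd h1 hαβ
    obtain ⟨h4, h5⟩ := hconj m' α' 1 hm'c (by rw [hm'c₁, zpow_one])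
    obtain ⟨m'', hm''def⟩ : ∃ m'' : G, m'' = t * m' * t⁻¹ := ⟨_, rfl⟩
    rw [← hm''def] at h4 h5
    have hm''M₀ : m'' ∈ M₀ := by rw [hm''def]; exact hnorm t htM m' hm'M₀
    have hm''ord : orderOf m'' = r ^ e' := by
      have : m'' = MulAut.conj t m' := by rw [hm''def]; simp
      rw [this, MulEquiv.orderOf_eq, hm'ord]
    have hm'c₁' : m' * c₁ * m'⁻¹ = c₁ ^ (1 : ℤ) := by rw [hm'c₁, zpow_one]
    -- `m'` and `m''` commute
    have hcomm : Commute m' m'' := by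
      have hu1 : (m' * m'') * c * (m' * m'')⁻¹ = c ^ α' := by
        have : (m' * m'') * c * (m' * m'')⁻¹ = m' * (m'' * c * m''⁻¹) * m'⁻¹ := by group
        rw [this, h4, zpow_one, hm'c]
      have hv1 : (m'' * m') * c * (m'' * m')⁻¹ = c ^ α' := by
        have : (m'' * m') * c * (m'' * m')⁻¹ = m'' * (m' * c * m'⁻¹) * m''⁻¹ := by group
        rw [this, hm'c, conj_zpow_of_conj_eq h4, one_mul]
      have hu2 : (m' * m'') * c₁ * (m' * m'')⁻¹ = c₁ ^ α' := by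
        have : (m' * m'') * c₁ * (m' * m'')⁻¹ = m' * (m'' * c₁ * m''⁻¹) * m'⁻¹ := by group
        rw [this, h5, conj_zpow_of_conj_eq hm'c₁', one_mul]
      have hv2 : (m'' * m') * c₁ * (m'' * m')⁻¹ = c₁ ^ α' := by
        have : (m'' * m') * c₁ * (m'' * m')⁻¹ = m'' * (m' * c₁ * m'⁻¹) * m''⁻¹ := by group
        rw [this, hm'c₁, h5]
      have hw : (m' * m'')⁻¹ * (m'' * m') = 1 := by
        apply C.eq_one_of_centralizes_pair _ hNW
        · exact commute_of_conj_eq (hu1.trans hv1.symm)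
        · exact commute_of_conj_eq (hu2.trans hv2.symm)
        · exact M.mul_mem (M.inv_mem (M.mul_mem (hM₀ hm'M₀) (hM₀ hm''M₀)))
            (M.mul_mem (hM₀ hm''M₀) (hM₀ hm'M₀))
      exact (inv_mul_eq_one.1 hw)
    -- the element `m₁ = m' m''^j`
    have hR1 : 1 ≤ r ^ e' := Nat.one_le_pow _ _ hr.pos
    obtain ⟨j, hj⟩ : ∃ j : ℕ, j + 1 = r ^ e' := ⟨r ^ e' - 1, Nat.sub_add_cancel hR1⟩
    have hm₁pow : (m' * m'' ^ j) ^ (r ^ e') = 1 := by
      rw [(hcomm.pow_right j).mul_pow, ← hm'ord, pow_orderOf_eq_one, one_mul, ← pow_mul,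
        mul_comm, pow_mul, hm'ord, ← hm''ord, pow_orderOf_eq_one, one_pow]
    obtain ⟨e'', -, hm₁ord⟩ := (Nat.dvd_prime_pow hr).1 (orderOf_dvd_of_pow_eq_one hm₁pow)
    have hm₁c : (m' * m'' ^ j) * c * (m' * m'' ^ j)⁻¹ = c ^ α' := by
      have : (m' * m'' ^ j) * c * (m' * m'' ^ j)⁻¹ =
          m' * (m'' ^ j * c * (m'' ^ j)⁻¹) * m'⁻¹ := by group
      rw [this, conj_pow_of_conj_eq h4 j, one_pow, zpow_one, hm'c]
    have hm₁c₁ : (m' * m'' ^ j) * c₁ * (m' * m'' ^ j)⁻¹ = c₁ ^ (1 * α' ^ j) := by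
      have : (m' * m'' ^ j) * c₁ * (m' * m'' ^ j)⁻¹ =
          m' * (m'' ^ j * c₁ * (m'' ^ j)⁻¹) * m'⁻¹ := by group
      rw [this, conj_pow_of_conj_eq h5 j, conj_zpow_of_conj_eq hm'c₁']
    have hpow : (q : ℤ) ∣ α' ^ (r ^ e') - 1 := by
      have h6 := conj_pow_of_conj_eq hm'c (r ^ e')
      rw [← hm'ord, pow_orderOf_eq_one, one_mul, inv_one, mul_one] at h6
      have h7 : c ^ (α' ^ orderOf m') = c ^ (1 : ℤ) := by rw [← h6, zpow_one]
      rw [zpow_eq_zpow_iff_modEq, ha] at h7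
      rw [← hm'ord]
      exact Int.modEq_iff_dvd.1 h7.symm
    have hneg : (q : ℤ) ∣ α' + 1 := by
      have hsplit : α' ^ (r ^ e') = α' ^ j * α' := by rw [← hj, pow_succ]
      rcases C.qr_lines hcN hc₁N hc1 hc₁1 hA hr hrq hm₁ord hm₁c hm₁c₁ with h6 | h6 | h6
      · exact absurd h6 hα'
      · exfalso
        apply hα'
        have : α' - 1 = (α' ^ (r ^ e') - 1) - (1 * α' ^ j - 1) * α' := by rw [hsplit]; ring
        rw [this]
        exact dvd_sub hpow (Dvd.dvd.mul_right h6 _)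
      · have h7 : (q : ℤ) ∣ (α' - 1) * (α' + 1) := by
          have : (α' - 1) * (α' + 1) = α' * (α' - 1 * α' ^ j) + (α' ^ (r ^ e') - 1) := by
            rw [hsplit]; ring
          rw [this]
          exact dvd_add (Dvd.dvd.mul_left h6 _) hpow
        exact (Int.Prime.dvd_mul' hq h7).resolve_left hα'
    have hq2 : (2 : ℕ) ≠ q := by
      intro h2
      apply hα'
      have h3 : (q : ℤ) ∣ 2 := by rw [← h2]; norm_num
      have : α' - 1 = (α' + 1) - 2 := by ring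
      rw [this]; exact dvd_sub hneg h3
    have hcinv : c ^ α' = c⁻¹ := by
      have : c ^ α' = c ^ (-1 : ℤ) := by
        rw [zpow_eq_zpow_iff_modEq, ha]
        apply (Int.modEq_iff_dvd.2 _).symm
        have : α' - -1 = α' + 1 := by ring
        rw [this]; exact hneg
      rw [this, zpow_neg_one]
    -- the element `y = m' t`
    have hyM : m' * t ∈ M := M.mul_mem (hM₀ hm'M₀) htM
    have hy1 : (m' * t) * c * (m' * t)⁻¹ = c₁ := by
      have : (m' * t) * c * (m' * t)⁻¹ = m' * (t * c * t⁻¹) * m'⁻¹ := by group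
      rw [this, ← hc₁def, hm'c₁]
    have hy2 : (m' * t) * c₁ * (m' * t)⁻¹ = c⁻¹ := by
      have : (m' * t) * c₁ * (m' * t)⁻¹ = m' * (t * c₁ * t⁻¹) * m'⁻¹ := by group
      rw [this, hswap, hm'c, hcinv]
    obtain ⟨y, hydef⟩ : ∃ y : G, y = m' * t := ⟨_, rfl⟩
    rw [← hydef] at hy1 hy2 hyM
    have hy3 : y ^ 2 * c * (y ^ 2)⁻¹ = c⁻¹ := by
      have : y ^ 2 * c * (y ^ 2)⁻¹ =
          y * (y * c * y⁻¹) * y⁻¹ := by rw [pow_two]; group
      rw [this, hy1, hy2]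
    have hy4 : y ^ 2 * c₁ * (y ^ 2)⁻¹ = c₁⁻¹ := by
      have : y ^ 2 * c₁ * (y ^ 2)⁻¹ =
          y * (y * c₁ * y⁻¹) * y⁻¹ := by rw [pow_two]; group
      rw [this, hy2]
      have h6 : y * c⁻¹ * y⁻¹ = (y * c * y⁻¹)⁻¹ := by group
      rw [h6, hy1]
    have hy5 : y ^ 4 = 1 := by
      apply C.eq_one_of_centralizes_pair (M.pow_mem hyM 4) hNW
      · have h6 : y ^ 4 * c * (y ^ 4)⁻¹ = c := by
          have : y ^ 4 * c * (y ^ 4)⁻¹ =
              y ^ 2 * (y ^ 2 * c * (y ^ 2)⁻¹) * (y ^ 2)⁻¹ := by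
            rw [show y ^ 4 = y ^ 2 * y ^ 2 by rw [← pow_add]]; group
          rw [this, hy3]
          have h7 : y ^ 2 * c⁻¹ * (y ^ 2)⁻¹ =
              (y ^ 2 * c * (y ^ 2)⁻¹)⁻¹ := by group
          rw [h7, hy3, inv_inv]
        have : y ^ 4 * c = (y ^ 4 * c * (y ^ 4)⁻¹) * y ^ 4 := by group
        rw [this, h6]
      · have h6 : y ^ 4 * c₁ * (y ^ 4)⁻¹ = c₁ := by
          have : y ^ 4 * c₁ * (y ^ 4)⁻¹ =
              y ^ 2 * (y ^ 2 * c₁ * (y ^ 2)⁻¹) * (y ^ 2)⁻¹ := by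
            rw [show y ^ 4 = y ^ 2 * y ^ 2 by rw [← pow_add]]; group
          rw [this, hy4]
          have h7 : y ^ 2 * c₁⁻¹ * (y ^ 2)⁻¹ =
              (y ^ 2 * c₁ * (y ^ 2)⁻¹)⁻¹ := by group
          rw [h7, hy4, inv_inv]
        have : y ^ 4 * c₁ = (y ^ 4 * c₁ * (y ^ 4)⁻¹) * y ^ 4 := by
          group
        rw [this, h6]
    obtain ⟨b, -, hyord⟩ := (Nat.dvd_prime_pow Nat.prime_two).1
      (show orderOf y ∣ 2 ^ 2 from orderOf_dvd_of_pow_eq_one hy5)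
    have hqr_y := C.hqr 2 Nat.prime_two hq2 y ⟨b, hyord⟩ c hcN
    have hcy : ⁅c, y⁆ = E c c₁ 1 (-1) := by
      rw [commutatorElement_def]
      have : c * y * c⁻¹ * y⁻¹ = c * (y * c * y⁻¹)⁻¹ := by group
      rw [this, hy1]; unfold E; simp
    rw [hcy] at hqr_y
    have hyd : y * E c c₁ 1 (-1) * y⁻¹ = E c c₁ 1 1 := by
      have : y * E c c₁ 1 (-1) * y⁻¹ =
          (y * c * y⁻¹) * (y * c₁ * y⁻¹)⁻¹ := by
        unfold E; simp only [zpow_one, zpow_neg]; group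
      rw [this, hy1, hy2, inv_inv]
      unfold E; simp only [zpow_one]
      exact hab.eq.symm
    rw [hyd] at hqr_y
    obtain ⟨κ, hκ⟩ := Subgroup.mem_zpowers_iff.1 hqr_y
    rw [E_zpow hab, E_eq_iff hq ha hb hA] at hκ
    obtain ⟨h6, h7⟩ := hκ
    have h8 : (q : ℤ) ∣ 2 := by
      have : (2 : ℤ) = -((κ * 1 - 1) + (κ * -1 - 1)) := by ring
      rw [this]; exact (dvd_neg).2 (dvd_add h6 h7)
    have h9 : q ∣ 2 := by exact_mod_cast h8
    exact hq2 ((Nat.prime_dvd_prime_iff_eq hq Nat.prime_two).1 h9).symm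

end Cfg

end Cfsg.Agent.Lib.H21.CPair
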