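import Mathlib
import Cfsg.Agent.Lib.H21.CPairI

/-!
# The conjugate-pair criterion for supersolvability: assembly (helper21)
-/

set_option autoImplicit false

namespace Cfsg.Agent.Lib.H21.CPair

open Cfsg.Agent.Lib.H3 Cfsg.Agent.Lib.H9.Huppert
open scoped commutatorElement

variable {G : Type*} [Group G]

theorem Cfg.card_eq [Finite G] {q : ℕ} {N M : Subgroup G} (C : Cfg G q N M) :
    Nat.card N = q := by
  by_cases hM : M = ⊥
  · obtain ⟨a, ha1⟩ := (Subgroup.ne_bot_iff_exists_ne_one).1 C.hNne
    have ha1' : (a : G) ≠ 1 := by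
      intro h; apply ha1; exact Subtype.ext h
    apply C.card_of_line a.2 ha1'
    intro m hm
    rw [hM, Subgroup.mem_bot] at hm
    rw [hm]; simp
  · have hMt : M ≠ ⊤ := by
      intro h
      have := C.hinf
      rw [h, inf_top_eq] at this
      exact C.hNne this
    obtain ⟨M₀, hM₀, hnorm, hs, hmin⟩ := exists_normal_prime_relIndex M hM (C.hsub M hMt)
    by_cases hidx : M₀.relIndex M = q
    · exact C.card_of_relIndex_eq hM₀ hnorm hidx hmin
    · exact C.card_of_relIndex_ne hM₀ hnorm hs hidx

/-- existence of a minimal normal subgroup. -/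
theorem exists_minimal_normal [Finite G] [Nontrivial G] :
    ∃ N : Subgroup G, N.Normal ∧ N ≠ ⊥ ∧ ∀ K : Subgroup G, K.Normal → K ≤ N → K ≠ ⊥ → K = N := by
  classical
  have hex : ∃ n : ℕ, ∃ K : Subgroup G, K.Normal ∧ K ≠ ⊥ ∧ Nat.card K = n :=
    ⟨_, ⊤, inferInstance, top_ne_bot, rfl⟩
  obtain ⟨N, hNn, hNb, hNc⟩ := Nat.find_spec hex
  refine ⟨N, hNn, hNb, ?_⟩
  intro K hKn hKN hKb
  have h1 : Nat.find hex ≤ Nat.card K := Nat.find_min' hex ⟨K, hKn, hKb, rfl⟩
  exact Subgroup.eq_of_le_of_card_ge hKN (hNc ▸ h1)

/-- a minimal normal subgroup of a solvable group is abelian. -/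
theorem comm_of_minimal_normal [hsolv : Group.IsSolvable G] {N : Subgroup G} (hNn : N.Normal)
    (hNb : N ≠ ⊥)
    (hmin : ∀ K : Subgroup G, K.Normal → K ≤ N → K ≠ ⊥ → K = N) :
    ∀ a ∈ N, ∀ b ∈ N, a * b = b * a := by
  have hle : ⁅N, N⁆ ≤ N := Subgroup.commutator_le_right N N
  have hbot : ⁅N, N⁆ = ⊥ := by
    by_contra hne
    have heq := hmin ⁅N, N⁆ inferInstance hle hne
    obtain ⟨n, hn⟩ := hsolv.solvable
    have hall : ∀ k : ℕ, N ≤ derivedSeries G k := by
      intro k
      induction k with
      | zero => simp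
      | succ k ih =>
        rw [derivedSeries_succ]
        calc N = ⁅N, N⁆ := heq.symm
          _ ≤ ⁅derivedSeries G k, derivedSeries G k⁆ := Subgroup.commutator_mono ih ih
    have := hall n
    rw [hn, le_bot_iff] at this
    exact hNb this
  rw [Subgroup.commutator_eq_bot_iff_le_centralizer] at hbot
  intro a ha b hb
  exact ((Subgroup.mem_centralizer_iff.1 (hbot hb)) a ha)

theorem card_lt_of_ne_top [Finite G] {H : Subgroup G} (h : H ≠ ⊤) : Nat.card H < Nat.card G := by
  apply lt_of_le_of_ne (Subgroup.card_le_card_group H)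
  intro h1
  exact h ((Subgroup.card_eq_iff_eq_top H).1 h1)

theorem card_quotient_lt [Finite G] {K : Subgroup G} [K.Normal] (hK : K ≠ ⊥) :
    Nat.card (G ⧸ K) < Nat.card G := by
  rw [← Subgroup.index_eq_card]
  have h1 := Subgroup.index_mul_card K
  have h2 : 1 < Nat.card K := by
    have : Nontrivial K := (Subgroup.nontrivial_iff_ne_bot K).mpr hK
    exact Finite.one_lt_card
  have h3 : 0 < K.index := Nat.pos_of_ne_zero (Subgroup.index_ne_zero_of_finite)
  nlinarith

/-- The main theorem. -/
theorem ssReach_of_hyp.{u} : ∀ (n : ℕ) (G : Type u) [Group G] [Finite G], Nat.card G = n →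
    Hyp G → SSReach (⊤ : Subgroup G) := by
  intro n
  induction n using Nat.strong_induction_on with
  | _ n ih =>
  intro G _ _ hcard h
  have hsub : ∀ H : Subgroup G, H ≠ ⊤ → SSReach (⊤ : Subgroup H) := by
    intro H hH
    exact ih (Nat.card H) (hcard ▸ card_lt_of_ne_top hH) H rfl (h.subgroup H)
  have hquot : ∀ K : Subgroup G, ∀ _ : K.Normal, K ≠ ⊥ → SSReach (⊤ : Subgroup (G ⧸ K)) := by
    intro K hKn hKb
    exact ih (Nat.card (G ⧸ K)) (hcard ▸ card_quotient_lt hKb) (G ⧸ K) rfl
      (h.of_surjective (QuotientGroup.mk' K) (QuotientGroup.mk'_surjective K))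
  apply huppert _ G rfl
  intro M hM
  by_cases hcore : M.normalCore = ⊥
  · -- core-free case
    haveI hsolv : Group.IsSolvable G := isSolvable_of_proper_ssReach hsub hquot
    haveI : Nontrivial G := by
      by_contra hnt
      rw [not_nontrivial_iff_subsingleton] at hnt
      exact hM.1 (Subsingleton.elim _ _)
    obtain ⟨N, hNn, hNb, hNmin⟩ := exists_minimal_normal (G := G)
    haveI := hNn
    have hNcomm := comm_of_minimal_normal hNn hNb hNmin
    have hNM : ¬ N ≤ M := by
      intro hle
      have := Subgroup.normal_le_normalCore.2 hle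
      rw [hcore, le_bot_iff] at this
      exact hNb this
    have hsup : N ⊔ M = ⊤ := by
      apply hM.2
      apply lt_of_le_of_ne le_sup_right
      intro heq
      apply hNM
      rw [heq]; exact le_sup_left
    have hmul : ∀ g : G, ∃ n ∈ N, ∃ m ∈ M, n * m = g := by
      intro g
      have : g ∈ N ⊔ M := by rw [hsup]; trivial
      exact Subgroup.mem_sup_of_normal_left.1 this
    have hconjN : ∀ n ∈ N, ∀ a ∈ N, n * a * n⁻¹ = a := by
      intro n hn a ha
      rw [hNcomm n hn a ha]; group
    -- the prime `q`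
    have hNcard : Nat.card N ≠ 1 := by
      intro h1; exact hNb (Subgroup.card_eq_one.1 h1)
    have hq : (Nat.card N).minFac.Prime := Nat.minFac_prime hNcard
    obtain ⟨q, hqdef⟩ : ∃ q : ℕ, q = (Nat.card N).minFac := ⟨_, rfl⟩
    rw [← hqdef] at hq
    haveI : Fact q.Prime := ⟨hq⟩
    have hNexp : ∀ a ∈ N, a ^ q = 1 := by
      let Ω : Subgroup G :=
        { carrier := {a | a ∈ N ∧ a ^ q = 1}
          mul_mem' := by
            rintro a b ⟨ha, ha1⟩ ⟨hb, hb1⟩
            refine ⟨N.mul_mem ha hb, ?_⟩
            have hc : Commute a b := hNcomm a ha b hb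
            rw [hc.mul_pow, ha1, hb1, one_mul]
          one_mem' := ⟨N.one_mem, one_pow _⟩
          inv_mem' := by
            rintro a ⟨ha, ha1⟩
            exact ⟨N.inv_mem ha, by rw [inv_pow, ha1, inv_one]⟩ }
      have hΩn : Ω.Normal := by
        constructor
        rintro a ⟨ha, ha1⟩ g
        refine ⟨hNn.conj_mem a ha g, ?_⟩
        have : (g * a * g⁻¹) ^ q = g * a ^ q * g⁻¹ := by
          simpa using (map_pow (MulAut.conj g) a q).symm
        rw [this, ha1]; group
      have hΩle : Ω ≤ N := fun a ha => ha.1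
      have hΩb : Ω ≠ ⊥ := by
        obtain ⟨x, hx⟩ := exists_prime_orderOf_dvd_card' (G := N) q
          (hqdef ▸ Nat.minFac_dvd _)
        intro hb
        have hmem : (x : G) ∈ Ω := by
          refine ⟨x.2, ?_⟩
          have : x ^ q = 1 := by rw [← hx, pow_orderOf_eq_one]
          simpa using congrArg Subtype.val this
        rw [hb, Subgroup.mem_bot] at hmem
        have hx1 : x = 1 := Subtype.ext hmem
        rw [hx1, orderOf_one] at hx
        exact hq.ne_one hx.symm
      have := hNmin Ω hΩn hΩle hΩb
      intro a ha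
      have ha' : a ∈ Ω := by rw [this]; exact ha
      exact ha'.2
    -- `N ⊓ M = ⊥`
    have hinf : N ⊓ M = ⊥ := by
      have hnorm : (N ⊓ M).Normal := by
        constructor
        rintro a ⟨haN, haM⟩ g
        obtain ⟨n, hn, m, hm, rfl⟩ := hmul g
        have h1 : n * m * a * (n * m)⁻¹ = n * (m * a * m⁻¹) * n⁻¹ := by group
        have h2 : m * a * m⁻¹ ∈ N := hNn.conj_mem a haN m
        rw [h1, hconjN n hn _ h2]
        exact ⟨h2, M.mul_mem (M.mul_mem hm haM) (M.inv_mem hm)⟩
      have h3 : N ⊓ M ≤ M.normalCore := Subgroup.normal_le_normalCore.2 inf_le_right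
      rwa [hcore, le_bot_iff] at h3
    -- faithful
    have hfaith : ∀ m ∈ M, (∀ n ∈ N, m * n = n * m) → m = 1 := by
      let K : Subgroup G := M ⊓ Subgroup.centralizer (N : Set G)
      have hKn : K.Normal := by
        constructor
        rintro a ⟨haM, haC'⟩ g
        have haC : a ∈ Subgroup.centralizer (N : Set G) := haC'
        obtain ⟨n, hn, m, hm, rfl⟩ := hmul g
        have h1 : n * m * a * (n * m)⁻¹ = n * (m * a * m⁻¹) * n⁻¹ := by group
        have h2 : m * a * m⁻¹ ∈ Subgroup.centralizer (N : Set G) := by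
          rw [Subgroup.mem_centralizer_iff] at haC ⊢
          intro x hx
          have hx' : m⁻¹ * x * m ∈ N := by
            have := hNn.conj_mem x hx m⁻¹
            simpa using this
          have h3 := haC _ hx'
          calc x * (m * a * m⁻¹) = m * ((m⁻¹ * x * m) * a) * m⁻¹ := by group
            _ = m * (a * (m⁻¹ * x * m)) * m⁻¹ := by rw [h3]
            _ = m * a * m⁻¹ * x := by group
        have h4 : n * (m * a * m⁻¹) * n⁻¹ = m * a * m⁻¹ := by
          rw [Subgroup.mem_centralizer_iff] at h2
          rw [h2 n hn]; group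
        rw [h1, h4]
        exact ⟨M.mul_mem (M.mul_mem hm haM) (M.inv_mem hm), h2⟩
      have h5 : K ≤ M.normalCore := Subgroup.normal_le_normalCore.2 inf_le_left
      rw [hcore, le_bot_iff] at h5
      intro m hm hc
      have : m ∈ K := by
        refine Subgroup.mem_inf.2 ⟨hm, ?_⟩
        rw [Subgroup.mem_centralizer_iff]
        intro n hn
        exact (hc n hn).symm
      rwa [h5, Subgroup.mem_bot] at this
    have C : Cfg G q N M :=
      { hq := hq
        hNn := hNn
        hNne := hNb
        hNexp := hNexp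
        hNcomm := hNcomm
        hNmin := hNmin
        hinf := hinf
        hsup := hsup
        hfaith := hfaith
        hqr := fun r hr hrq x hx g hg => h.qr hq N hNexp hr hrq hx hg
        hsub := hsub }
    have hcardN := C.card_eq
    have hcompl : Subgroup.IsComplement' N M := by
      apply Subgroup.isComplement'_of_disjoint_and_mul_eq_univ (disjoint_iff.2 hinf)
      rw [← Subgroup.normal_mul, hsup, Subgroup.coe_top]
    have h1 := hcompl.card_mul_card
    have h2 := M.card_mul_index
    have h3 : M.index = Nat.card N := by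
      have : Nat.card M * M.index = Nat.card M * Nat.card N := by rw [h2, ← h1, mul_comm]
      exact Nat.eq_of_mul_eq_mul_left Nat.card_pos this
    rw [h3, hcardN]; exact hq
  · -- quotient by the core
    have hss := hquot M.normalCore inferInstance hcore
    have hker : (QuotientGroup.mk' M.normalCore).ker ≤ M := by
      rw [QuotientGroup.ker_mk']; exact Subgroup.normalCore_le M
    have hco := isCoatom_map_of_surjective (QuotientGroup.mk'_surjective M.normalCore) hker hM
    have := index_prime_of_isCoatom_of_ssReach hss hco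
    rwa [Subgroup.index_map_eq _ (QuotientGroup.mk'_surjective M.normalCore) hker] at this

end Cfsg.Agent.Lib.H21.CPair
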