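import Mathlib
import Cfsg.Agent.Lib.H28.CSL2Defs

/-!
# S3211 piece E (helper21): the hypotheses of S3211 give the configuration `Cfg`
-/

set_option autoImplicit false

namespace Cfsg.Agent.Lib.H21.CSL2

open Cfsg.Agent.Lib.H28.CSL2

/-- elements of the join of two elementwise commuting subgroups are products. -/
theorem mem_sup_of_commute {G : Type*} [Group G] (L₁ L₂ : Subgroup G)
    (hc : ∀ x ∈ L₁, ∀ y ∈ L₂, x * y = y * x) {g : G} (hg : g ∈ L₁ ⊔ L₂) :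
    ∃ a ∈ L₁, ∃ b ∈ L₂, g = a * b := by
  have comm : ∀ (m : L₁) (k : L₂), Commute (L₁.subtype m) (L₂.subtype k) :=
    fun m k => hc m.1 m.2 k.1 k.2
  have hr := MonoidHom.noncommCoprod_range L₁.subtype L₂.subtype comm
  rw [Subgroup.range_subtype, Subgroup.range_subtype] at hr
  rw [← hr] at hg
  obtain ⟨⟨a, b⟩, rfl⟩ := hg
  exact ⟨a.1, a.2, b.1, b.2, by simp [MonoidHom.noncommCoprod_apply]⟩

/-- **E**. The hypotheses of S3211 give the configuration (`n ∉ L₁ ⊔ L₂`, else `L₁ = L₂ = ⟨j⟩` has order `2`;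
index two: `g ∉ Y → g n⁻¹ ∈ Y`; `L₁ ⊔ L₂ = {a b}` as the factors commute). -/
theorem cfg_of_hyp {G : Type*} [Group G] [Finite G] (L₁ L₂ : Subgroup G) (j n : G)
    (hs1 : SLike L₁ j) (hs2 : SLike L₂ j) (h24 : 2 < Nat.card L₁)
    (hc : ∀ x ∈ L₁, ∀ y ∈ L₂, x * y = y * x) (hm : L₁ ⊓ L₂ = Subgroup.zpowers j)
    (hle : L₁ ⊔ L₂ ≤ Subgroup.centralizer ({j} : Set G))
    (hi : (L₁ ⊔ L₂).relIndex (Subgroup.centralizer ({j} : Set G)) = 2)
    (hn : n ∈ Subgroup.centralizer ({j} : Set G)) (hn2 : n ^ 2 = j)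
    (hswap : L₁.map (MulAut.conj n).toMonoidHom = L₂) : Cfg L₁ L₂ j n := by
  have hnj : n * j = j * n := by
    have := (Subgroup.mem_centralizer_iff.1 hn) j (Set.mem_singleton j)
    exact this.symm
  have hnn : n * n = j := by rw [← pow_two]; exact hn2
  have hjinv : j⁻¹ = j := inv_eq_of_mul_eq_one_right hs1.jj
  have hmeet : ∀ g, g ∈ L₁ → g ∈ L₂ → g = 1 ∨ g = j := by
    intro g h1 h2
    have hg : g ∈ Subgroup.zpowers j := by rw [← hm]; exact ⟨h1, h2⟩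
    obtain ⟨k, rfl⟩ := Subgroup.mem_zpowers_iff.1 hg
    rcases Int.even_or_odd' k with ⟨m, rfl | rfl⟩
    · left
      rw [zpow_mul, zpow_two, hs1.jj, one_zpow]
    · right
      rw [zpow_add, zpow_mul, zpow_two, hs1.jj, one_zpow, one_mul, zpow_one]
  have hn12 : ∀ a ∈ L₁, n * a * n⁻¹ ∈ L₂ := by
    intro a ha
    rw [← hswap]
    exact ⟨a, ha, by simp [MulAut.conj_apply]⟩
  have hn21 : ∀ b ∈ L₂, n * b * n⁻¹ ∈ L₁ := by
    intro b hb
    rw [← hswap] at hb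
    obtain ⟨a, ha, rfl⟩ := hb
    have h1 : n * (MulAut.conj n).toMonoidHom a * n⁻¹ = j * a * j⁻¹ := by
      simp only [MulEquiv.toMonoidHom_eq_coe, MonoidHom.coe_coe, MulAut.conj_apply]
      rw [← hnn]; group
    rw [h1, ← hs1.cen a ha, mul_assoc, mul_inv_cancel, mul_one]
    exact ha
  -- n ∉ L₁ ⊔ L₂
  have hnY : n ∉ L₁ ⊔ L₂ := by
    intro hnY
    obtain ⟨a, ha, b, hb, hab⟩ := mem_sup_of_commute L₁ L₂ hc hnY
    have hL12 : L₁ ≤ L₂ := by
      intro x hx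
      have h1 : n * (a⁻¹ * x * a) * n⁻¹ = x := by
        have hbx : b * (a⁻¹ * x * a) = (a⁻¹ * x * a) * b :=
          (hc _ (L₁.mul_mem (L₁.mul_mem (L₁.inv_mem ha) hx) ha) b hb).symm
        rw [hab]
        calc a * b * (a⁻¹ * x * a) * (a * b)⁻¹
            = a * (b * (a⁻¹ * x * a)) * b⁻¹ * a⁻¹ := by group
          _ = a * ((a⁻¹ * x * a) * b) * b⁻¹ * a⁻¹ := by rw [hbx]
          _ = x := by group
      rw [← h1]
      exact hn12 _ (L₁.mul_mem (L₁.mul_mem (L₁.inv_mem ha) hx) ha)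
    have hL1 : L₁ = Subgroup.zpowers j := by
      rw [← hm]; exact (inf_of_le_left hL12).symm
    have hcard : Nat.card L₁ ≤ 2 := by
      rw [hL1, Nat.card_zpowers]
      exact orderOf_le_of_pow_eq_one (by norm_num) (by rw [pow_two]; exact hs1.jj)
    omega
  refine ⟨hs1, hs2, hc, hmeet, ?_, hnj, hnn, hn12, hn21⟩
  intro g hg
  have hgC : g ∈ Subgroup.centralizer ({j} : Set G) := by
    rw [Subgroup.mem_centralizer_iff]
    intro h hh
    rw [Set.mem_singleton_iff] at hh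
    rw [hh]; exact hg.symm
  by_cases hgY : g ∈ L₁ ⊔ L₂
  · obtain ⟨a, ha, b, hb, hab⟩ := mem_sup_of_commute L₁ L₂ hc hgY
    exact ⟨a, ha, b, hb, Or.inl hab⟩
  · -- index two
    have hidx : ((L₁ ⊔ L₂).subgroupOf (Subgroup.centralizer ({j} : Set G))).index = 2 := hi
    have key := Subgroup.mul_mem_iff_of_index_two hidx
      (a := (⟨g, hgC⟩ : Subgroup.centralizer ({j} : Set G)))
      (b := (⟨n, hn⟩ : Subgroup.centralizer ({j} : Set G))⁻¹)
    have h1 : (⟨g, hgC⟩ : Subgroup.centralizer ({j} : Set G)) ∉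
        (L₁ ⊔ L₂).subgroupOf (Subgroup.centralizer ({j} : Set G)) := by
      rw [Subgroup.mem_subgroupOf]; exact hgY
    have h2 : (⟨n, hn⟩ : Subgroup.centralizer ({j} : Set G))⁻¹ ∉
        (L₁ ⊔ L₂).subgroupOf (Subgroup.centralizer ({j} : Set G)) := by
      rw [inv_mem_iff, Subgroup.mem_subgroupOf]; exact hnY
    have h3 : (⟨g, hgC⟩ : Subgroup.centralizer ({j} : Set G)) *
        (⟨n, hn⟩ : Subgroup.centralizer ({j} : Set G))⁻¹ ∈
        (L₁ ⊔ L₂).subgroupOf (Subgroup.centralizer ({j} : Set G)) :=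
      key.2 ⟨fun h => absurd h h1, fun h => absurd h h2⟩
    rw [Subgroup.mem_subgroupOf] at h3
    have h4 : g * n⁻¹ ∈ L₁ ⊔ L₂ := h3
    obtain ⟨a, ha, b, hb, hab⟩ := mem_sup_of_commute L₁ L₂ hc h4
    refine ⟨a, ha, b, hb, Or.inr ?_⟩
    rw [← hab]; group

end Cfsg.Agent.Lib.H21.CSL2
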