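import Mathlib
import Cfsg.Prelude.Def_BrauerPairs
import Cfsg.Agent.Lib.L0.BrauerAbelian
import Cfsg.Agent.Lib.H25.CYC

/-!
# S4645, pieces (D1), (D2): claims (1) and (2) (helper21)

`(P, c)` a maximal `B`-pair, `(Q, f) ≤ (P, c)`, `T = N_G(P, c)`, `T' = N_G(Q, f)`.

General forms (`P` abelian, `N_G(P) ≤ N_G(Q)` as a hypothesis): `inertial_eq_sup_gen`, `relIndex_eq_gen`,
`claims_124`.  Exact signatures of `tools/blueprints/S4645_sigs.lean` (`P` cyclic): `inertial_eq_sup`,
`relIndex_eq`.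
-/

set_option autoImplicit false
set_option linter.unusedSectionVars false

namespace Cfsg.Agent.Lib.H21.CY

open Cfsg Cfsg.Agent.Lib.L0 Cfsg.Agent.Lib.L0.BrauerAbelian Cfsg.Agent.Lib.L0.BrauerCentric
  Cfsg.Agent.Lib.L0.BrauerSubpair

section general

variable {G : Type*} [Group G] [Fintype G] {p : ℕ} {M : Ideal AlgInt}

/-- a cyclic subgroup is commutative, elementwise -/
theorem comm_of_isCyclic {P : Subgroup G} (hcyc : IsCyclic P) :
    ∀ x ∈ P, ∀ y ∈ P, x * y = y * x := by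
  intro x hx y hy
  let _ := IsCyclic.commGroup (α := P)
  have h := mul_comm (⟨x, hx⟩ : P) ⟨y, hy⟩
  exact congrArg Subtype.val h

theorem inertial_eq_sup_gen (hM : IsPModular p M) {B : Set (IrrCharacter G)} {P Q : Subgroup G}
    {c : Set (IrrCharacter (Subgroup.centralizer (P : Set G)))}
    {f : Set (IrrCharacter (Subgroup.centralizer (Q : Set G)))}
    (hmax : IsMaximalBrauerPair p M B P c) (hab : ∀ x ∈ P, ∀ y ∈ P, x * y = y * x)
    (hfB : IsPBlock M f) (hle : SubpairLE p M Q f P c)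
    (T : Subgroup G) (hT : ∀ g : G, g ∈ T ↔ (g ∈ Subgroup.normalizer (P : Set G) ∧
      StabilizesBlock (Subgroup.centralizer (P : Set G)) c g))
    (T' : Subgroup G) (hT' : ∀ g : G, g ∈ T' ↔ (g ∈ Subgroup.normalizer (Q : Set G) ∧
      StabilizesBlock (Subgroup.centralizer (Q : Set G)) f g))
    (hC : Subgroup.normalizer (P : Set G) ≤ Subgroup.normalizer (Q : Set G)) :
    T' = T ⊔ Subgroup.centralizer (Q : Set G) := by
  classical
  obtain ⟨h1, -⟩ := inertial_of_abelian hM hmax hab hfB hle T' hT' T hT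
  have hCNQ := Subgroup.centralizer_le_normalizer ((Q : Subgroup G) : Set G)
  have hCQT' : Subgroup.centralizer (Q : Set G) ≤ T' := fun z hz =>
    (hT' z).2 ⟨hCNQ hz, stabilizesBlock_of_mem_sup _ _ (Subgroup.mem_sup_right hz)⟩
  have hTN : T ≤ Subgroup.normalizer (Q : Set G) := fun t ht => hC ((hT t).1 ht).1
  have hTT' : T ≤ T' := fun t ht =>
    (hT' t).2 ⟨hTN ht, stab_of_stab_of_le hM hmax.1.1.2 hle ((hT t).1 ht).1 ((hT t).1 ht).2
      (hTN ht)⟩
  apply le_antisymm
  · intro x hx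
    obtain ⟨y, hy, z, hz, rfl⟩ := h1 x hx
    exact Subgroup.mul_mem_sup hy hz
  · exact sup_le hTT' hCQT'

theorem relIndex_eq_gen (hM : IsPModular p M) {B : Set (IrrCharacter G)} {P Q : Subgroup G}
    {c : Set (IrrCharacter (Subgroup.centralizer (P : Set G)))}
    {f : Set (IrrCharacter (Subgroup.centralizer (Q : Set G)))}
    (hmax : IsMaximalBrauerPair p M B P c) (hab : ∀ x ∈ P, ∀ y ∈ P, x * y = y * x)
    (hQP : Q ≤ P) (hfB : IsPBlock M f) (hle : SubpairLE p M Q f P c)
    (hfree : ∀ g : G, g ∈ Subgroup.centralizer (Q : Set G) →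
      g ∈ Subgroup.normalizer (P : Set G) →
      StabilizesBlock (Subgroup.centralizer (P : Set G)) c g →
      g ∈ Subgroup.centralizer (P : Set G))
    (T : Subgroup G) (hT : ∀ g : G, g ∈ T ↔ (g ∈ Subgroup.normalizer (P : Set G) ∧
      StabilizesBlock (Subgroup.centralizer (P : Set G)) c g))
    (T' : Subgroup G) (hT' : ∀ g : G, g ∈ T' ↔ (g ∈ Subgroup.normalizer (Q : Set G) ∧
      StabilizesBlock (Subgroup.centralizer (Q : Set G)) f g))
    (hC : Subgroup.normalizer (P : Set G) ≤ Subgroup.normalizer (Q : Set G)) :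
    (Subgroup.centralizer (Q : Set G)).relIndex T' =
      (Subgroup.centralizer (P : Set G)).relIndex T := by
  classical
  obtain ⟨-, h2⟩ := inertial_of_abelian hM hmax hab hfB hle T' hT' T hT
  have hCNP := Subgroup.centralizer_le_normalizer ((P : Subgroup G) : Set G)
  have hCPT : Subgroup.centralizer (P : Set G) ≤ T := fun z hz =>
    (hT z).2 ⟨hCNP hz, stabilizesBlock_of_mem_sup _ _ (Subgroup.mem_sup_right hz)⟩
  have hCPQ : Subgroup.centralizer (P : Set G) ≤ Subgroup.centralizer (Q : Set G) :=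
    Subgroup.centralizer_le (by exact_mod_cast hQP)
  have hTN : T ≤ Subgroup.normalizer (Q : Set G) := fun t ht => hC ((hT t).1 ht).1
  have e1 : T ⊓ Subgroup.normalizer (Q : Set G) = T := inf_eq_left.2 hTN
  have e2 : T ⊓ Subgroup.centralizer (Q : Set G) = Subgroup.centralizer (P : Set G) := by
    apply le_antisymm
    · intro g hg
      obtain ⟨hg1, hg2⟩ := Subgroup.mem_inf.1 hg
      exact hfree g hg2 ((hT g).1 hg1).1 ((hT g).1 hg1).2
    · exact le_inf hCPT hCPQ
  rw [e1, e2] at h2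
  exact h2

/-- claims (1), (2), (4) at once, pieces A/B/C as hypotheses. -/
theorem claims_124 (hM : IsPModular p M) {B : Set (IrrCharacter G)} {P Q : Subgroup G}
    {c : Set (IrrCharacter (Subgroup.centralizer (P : Set G)))}
    {f : Set (IrrCharacter (Subgroup.centralizer (Q : Set G)))}
    (hmax : IsMaximalBrauerPair p M B P c) (hab : ∀ x ∈ P, ∀ y ∈ P, x * y = y * x)
    (hQP : Q ≤ P) (hfB : IsPBlock M f) (hle : SubpairLE p M Q f P c)
    (T : Subgroup G) (hT : ∀ g : G, g ∈ T ↔ (g ∈ Subgroup.normalizer (P : Set G) ∧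
      StabilizesBlock (Subgroup.centralizer (P : Set G)) c g))
    (T' : Subgroup G) (hT' : ∀ g : G, g ∈ T' ↔ (g ∈ Subgroup.normalizer (Q : Set G) ∧
      StabilizesBlock (Subgroup.centralizer (Q : Set G)) f g))
    (hC : Subgroup.normalizer (P : Set G) ≤ Subgroup.normalizer (Q : Set G))
    (hfree : ∀ g : G, g ∈ Subgroup.centralizer (Q : Set G) →
      g ∈ Subgroup.normalizer (P : Set G) →
      StabilizesBlock (Subgroup.centralizer (P : Set G)) c g →
      g ∈ Subgroup.centralizer (P : Set G))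
    (hnil : IsNilpotentBlock p M f ↔
      ∀ g ∈ Subgroup.centralizer (Q : Set G), g ∈ Subgroup.normalizer (P : Set G) →
        StabilizesBlock (Subgroup.centralizer (P : Set G)) c g →
        g ∈ Subgroup.centralizer (P : Set G)) :
    T' = T ⊔ Subgroup.centralizer (Q : Set G) ∧
      (Subgroup.centralizer (Q : Set G)).relIndex T' =
        (Subgroup.centralizer (P : Set G)).relIndex T ∧
      IsNilpotentBlock p M f :=
  ⟨inertial_eq_sup_gen hM hmax hab hfB hle T hT T' hT' hC,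
    relIndex_eq_gen hM hmax hab hQP hfB hle hfree T hT T' hT' hC, hnil.2 hfree⟩

end general

section blocks
variable {G : Type*} [Group G] [Fintype G] {p : ℕ} {M : Ideal Cfsg.AlgInt}

/-- (D1) claim (1): `T' = T ⊔ C_G(Q)`. -/
theorem inertial_eq_sup (hM : Cfsg.IsPModular p M) {B : Set (Cfsg.IrrCharacter G)}
    {P : Subgroup G} {c : Set (Cfsg.IrrCharacter (Subgroup.centralizer (P : Set G)))}
    (hmax : Cfsg.IsMaximalBrauerPair p M B P c) (hcyc : IsCyclic P)
    {Q : Subgroup G} {f : Set (Cfsg.IrrCharacter (Subgroup.centralizer (Q : Set G)))}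
    (hfB : Cfsg.IsPBlock M f) (hle : Cfsg.SubpairLE p M Q f P c)
    (T : Subgroup G) (hT : ∀ g : G, g ∈ T ↔ (g ∈ Subgroup.normalizer (P : Set G) ∧
      Cfsg.StabilizesBlock (Subgroup.centralizer (P : Set G)) c g))
    (T' : Subgroup G) (hT' : ∀ g : G, g ∈ T' ↔ (g ∈ Subgroup.normalizer (Q : Set G) ∧
      Cfsg.StabilizesBlock (Subgroup.centralizer (Q : Set G)) f g)) :
    T' = T ⊔ Subgroup.centralizer (Q : Set G) := by
  have hQP : Q ≤ P := fst_le_of_reflTransGen (a := ⟨Q, f⟩) (b := ⟨P, c⟩) hle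
  exact inertial_eq_sup_gen hM hmax (comm_of_isCyclic hcyc) hfB hle T hT T' hT'
    (Cfsg.Agent.Lib.H25.CY.normalizer_le_of_cyclic P hcyc Q hQP)

/-- (D2) claim (2): `|T' : C_G(Q)| = |T : C_G(P)|`. -/
theorem relIndex_eq (hM : Cfsg.IsPModular p M) {B : Set (Cfsg.IrrCharacter G)}
    {P : Subgroup G} {c : Set (Cfsg.IrrCharacter (Subgroup.centralizer (P : Set G)))}
    (hmax : Cfsg.IsMaximalBrauerPair p M B P c) (hcyc : IsCyclic P)
    {Q : Subgroup G} {f : Set (Cfsg.IrrCharacter (Subgroup.centralizer (Q : Set G)))}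
    (hfB : Cfsg.IsPBlock M f) (hle : Cfsg.SubpairLE p M Q f P c)
    (hfree : ∀ g : G, g ∈ Subgroup.centralizer (Q : Set G) → g ∈ Subgroup.normalizer (P : Set G) →
      Cfsg.StabilizesBlock (Subgroup.centralizer (P : Set G)) c g →
      g ∈ Subgroup.centralizer (P : Set G))
    (T : Subgroup G) (hT : ∀ g : G, g ∈ T ↔ (g ∈ Subgroup.normalizer (P : Set G) ∧
      Cfsg.StabilizesBlock (Subgroup.centralizer (P : Set G)) c g))
    (T' : Subgroup G) (hT' : ∀ g : G, g ∈ T' ↔ (g ∈ Subgroup.normalizer (Q : Set G) ∧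
      Cfsg.StabilizesBlock (Subgroup.centralizer (Q : Set G)) f g)) :
    (Subgroup.centralizer (Q : Set G)).relIndex T' = (Subgroup.centralizer (P : Set G)).relIndex T := by
  have hQP : Q ≤ P := fst_le_of_reflTransGen (a := ⟨Q, f⟩) (b := ⟨P, c⟩) hle
  exact relIndex_eq_gen hM hmax (comm_of_isCyclic hcyc) hQP hfB hle hfree T hT T' hT'
    (Cfsg.Agent.Lib.H25.CY.normalizer_le_of_cyclic P hcyc Q hQP)

end blocks

end Cfsg.Agent.Lib.H21.CY
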