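import Mathlib
import Cfsg.Agent.Lib.H9.PiElements

/-!
# General lemmas for S4016 (helper21)
-/

set_option autoImplicit false

namespace Cfsg.Agent.Lib.H21.Cyc

variable {G : Type*} [Group G]

/-- `p`-element: order a power of `p`. -/
def IsPEl (p : ℕ) (x : G) : Prop := ∃ k, orderOf x = p ^ k

theorem IsPEl.conj {p : ℕ} {x : G} (h : IsPEl p x) (g : G) : IsPEl p (g * x * g⁻¹) := by
  obtain ⟨k, hk⟩ := h
  refine ⟨k, ?_⟩
  have := orderOf_injective (MulAut.conj g).toMonoidHom (MulAut.conj g).injective x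
  simp only [MulEquiv.coe_toMonoidHom, MulAut.conj_apply] at this
  rw [this, hk]

theorem orderOf_conj' (g x : G) : orderOf (g * x * g⁻¹) = orderOf x := by
  have := orderOf_injective (MulAut.conj g).toMonoidHom (MulAut.conj g).injective x
  simpa [MulAut.conj_apply] using this

theorem IsPEl.of_mem_zpowers {p : ℕ} [Fact p.Prime] {x y : G} (h : IsPEl p x)
    (hy : y ∈ Subgroup.zpowers x) : IsPEl p y := by
  obtain ⟨k, hk⟩ := h
  have h1 : orderOf y ∣ p ^ k := by
    rw [← hk]; exact orderOf_dvd_of_mem_zpowers hy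
  obtain ⟨j, _, hj⟩ := (Nat.dvd_prime_pow Fact.out).mp h1
  exact ⟨j, hj⟩

theorem IsPEl.one (p : ℕ) : IsPEl p (1 : G) := ⟨0, by simp⟩

/-- decomposition into commuting `p`-part and `p'`-part, both powers of `x`. -/
theorem exists_pdecomp [Finite G] (p : ℕ) [Fact p.Prime] (x : G) :
    ∃ a b : G, a ∈ Subgroup.zpowers x ∧ b ∈ Subgroup.zpowers x ∧ x = a * b ∧
      IsPEl p a ∧ (orderOf b).Coprime p := by
  obtain ⟨⟨a, b⟩, ha, hb, hx, hpa, hpb⟩ :=
    Cfsg.Agent.Lib.H9.PiElements.exists_decomp ({p} : Set ℕ) x (isOfFinOrder_of_finite x)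
  refine ⟨a, b, ha, hb, hx, ?_, ?_⟩
  · have h0 : orderOf a ≠ 0 := (orderOf_pos a).ne'
    exact ⟨_, Nat.eq_prime_pow_of_unique_prime_dvd h0 (fun {d} hd hda => hpa d hd hda)⟩
  · rw [Nat.coprime_comm, Nat.Prime.coprime_iff_not_dvd Fact.out]
    intro hdvd
    exact hpb p Fact.out hdvd rfl

/-- an element whose `p'`-part is trivial. -/
theorem isPEl_of_forall_coprime_eq_one [Finite G] (p : ℕ) [Fact p.Prime] (x : G)
    (h : ∀ b ∈ Subgroup.zpowers x, (orderOf b).Coprime p → b = 1) : IsPEl p x := by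
  obtain ⟨a, b, _, hb, hx, hpa, hpb⟩ := exists_pdecomp p x
  have := h b hb hpb
  rw [this, mul_one] at hx
  rw [hx]; exact hpa

/-- `|H ⊔ K|` divides `|H| |K|` when `H` normalizes `K`. -/
theorem card_sup_dvd [Finite G] {H K : Subgroup G}
    (hHK : H ≤ Subgroup.normalizer (K : Set G)) :
    Nat.card (H ⊔ K : Subgroup G) ∣ Nat.card H * Nat.card K := by
  -- work inside N = normalizer K
  set N := Subgroup.normalizer (K : Set G) with hN
  have hKN : K ≤ N := Subgroup.le_normalizer
  haveI : (K.subgroupOf N).Normal := Subgroup.normal_in_normalizer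
  have h1 : (K.subgroupOf N).relIndex (H.subgroupOf N ⊔ K.subgroupOf N) =
      (K.subgroupOf N).relIndex (H.subgroupOf N) := Subgroup.relIndex_sup_right _ _
  have hsup : H.subgroupOf N ⊔ K.subgroupOf N = (H ⊔ K).subgroupOf N :=
    (Subgroup.subgroupOf_sup hHK hKN).symm
  have hle : H ⊔ K ≤ N := sup_le hHK hKN
  have c1 : Nat.card ((H ⊔ K).subgroupOf N) = Nat.card (H ⊔ K : Subgroup G) :=
    Nat.card_congr (Subgroup.subgroupOfEquivOfLe hle).toEquiv
  have c2 : Nat.card (H.subgroupOf N) = Nat.card H :=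
    Nat.card_congr (Subgroup.subgroupOfEquivOfLe hHK).toEquiv
  have c3 : Nat.card (K.subgroupOf N) = Nat.card K :=
    Nat.card_congr (Subgroup.subgroupOfEquivOfLe hKN).toEquiv
  -- |HK| = |K| * relIndex K (HK)
  have e1 : Nat.card ((H ⊔ K).subgroupOf N) =
      Nat.card (K.subgroupOf N) * (K.subgroupOf N).relIndex ((H ⊔ K).subgroupOf N) := by
    have hle' : K.subgroupOf N ≤ (H ⊔ K).subgroupOf N := by
      rw [← hsup]; exact le_sup_right
    have := Subgroup.relIndex_mul_relIndex ⊥ (K.subgroupOf N) ((H ⊔ K).subgroupOf N) bot_le hle'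
    rw [Subgroup.relIndex_bot_left, Subgroup.relIndex_bot_left] at this
    exact this.symm
  rw [← hsup, h1, hsup, c1, c3] at e1
  rw [e1, mul_comm]
  apply Nat.mul_dvd_mul_right
  rw [← c2]
  exact Subgroup.relIndex_dvd_card _ _

/-- generator description of a cyclic subgroup. -/
theorem exists_gen (P : Subgroup G) (hcyc : IsCyclic P) :
    ∃ g₀ ∈ P, ∀ y ∈ P, ∃ i : ℤ, y = g₀ ^ i := by
  obtain ⟨g, hg⟩ := hcyc.exists_zpow_surjective
  refine ⟨g.1, g.2, ?_⟩
  intro y hy
  obtain ⟨i, hi⟩ := hg ⟨y, hy⟩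
  refine ⟨i, ?_⟩
  have := congrArg Subtype.val hi
  simpa using this.symm

theorem comm_of_cyclic (P : Subgroup G) (hcyc : IsCyclic P) {x y : G} (hx : x ∈ P)
    (hy : y ∈ P) : x * y = y * x := by
  obtain ⟨g₀, _, hg⟩ := exists_gen P hcyc
  obtain ⟨i, rfl⟩ := hg x hx
  obtain ⟨j, rfl⟩ := hg y hy
  exact ((Commute.refl g₀).zpow_zpow i j).eq

/-- **F1**: a `p'`-element normalizing a cyclic `p`-group and fixing a nontrivial element
centralizes it. -/
theorem cyclic_fixed [Finite G] {p : ℕ} [Fact p.Prime] (P : Subgroup G) (hcyc : IsCyclic P)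
    (hP : IsPGroup p P) {a : G} (haN : a ∈ Subgroup.normalizer (P : Set G))
    (hap : (orderOf a).Coprime p) {x : G} (hxP : x ∈ P) (hx1 : x ≠ 1)
    (hax : a * x * a⁻¹ = x) : ∀ y ∈ P, a * y * a⁻¹ = y := by
  have hp : p.Prime := Fact.out
  obtain ⟨g₀, hg₀P, hg⟩ := exists_gen P hcyc
  have hconjP : ∀ y ∈ P, a * y * a⁻¹ ∈ P := fun y hy =>
    (Subgroup.mem_set_normalizer_iff.mp haN y).mp hy
  -- a acts as a power map
  obtain ⟨k, hk⟩ := hg _ (hconjP g₀ hg₀P)
  have hpow : ∀ y ∈ P, a * y * a⁻¹ = y ^ k := by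
    intro y hy
    obtain ⟨i, rfl⟩ := hg y hy
    rw [← conj_zpow, hk, ← zpow_mul, ← zpow_mul, mul_comm]
  -- an element of order p fixed by a
  obtain ⟨n, hn⟩ : ∃ n, orderOf x = p ^ n := by
    obtain ⟨n, hn⟩ := hP ⟨x, hxP⟩
    have h1 : orderOf x ∣ p ^ n := by
      apply orderOf_dvd_of_pow_eq_one
      have := congrArg Subtype.val hn
      simpa using this
    obtain ⟨j, _, hj⟩ := (Nat.dvd_prime_pow hp).mp h1
    exact ⟨j, hj⟩
  have hn0 : n ≠ 0 := by
    intro h0
    rw [h0, pow_zero, orderOf_eq_one_iff] at hn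
    exact hx1 hn
  have hpdvd : p ∣ orderOf x := by rw [hn]; exact dvd_pow_self p hn0
  set x' := x ^ (orderOf x / p) with hx'
  have hx'o : orderOf x' = p := orderOf_pow_orderOf_div (orderOf_pos x).ne' hpdvd
  have hx'P : x' ∈ P := Subgroup.pow_mem _ hxP _
  have hax' : a * x' * a⁻¹ = x' := by rw [hx', ← conj_pow, hax]
  -- p ∣ k - 1
  have hk1 : (p : ℤ) ∣ k - 1 := by
    have h1 : x' ^ k = x' := by rw [← hpow x' hx'P, hax']
    have h2 : x' ^ (k - 1) = 1 := by rw [zpow_sub, zpow_one, h1, mul_inv_cancel]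
    have := orderOf_dvd_iff_zpow_eq_one.mpr h2
    rwa [hx'o] at this
  -- elements of order dividing p are fixed
  have hΩ : ∀ w ∈ P, w ^ p = 1 → a * w * a⁻¹ = w := by
    intro w hw hwp
    rw [hpow w hw]
    obtain ⟨c, hc⟩ := hk1
    have : k = 1 + p * c := by omega
    rw [this, zpow_add, zpow_one, zpow_mul, zpow_natCast, hwp, one_zpow, mul_one]
  -- induction
  have hind : ∀ m : ℕ, ∀ y ∈ P, y ^ (p ^ m) = 1 → a * y * a⁻¹ = y := by
    intro m
    induction m with
    | zero =>
      intro y _ hy1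
      rw [pow_zero, pow_one] at hy1
      rw [hy1]; group
    | succ m ih =>
      intro y hy hy1
      have hyp : (y ^ p) ^ (p ^ m) = 1 := by rw [← pow_mul, ← pow_succ']; exact hy1
      have h1 : a * y ^ p * a⁻¹ = y ^ p := ih (y ^ p) (Subgroup.pow_mem _ hy _) hyp
      obtain ⟨w, hw⟩ : ∃ w, w = a * y * a⁻¹ * y⁻¹ := ⟨_, rfl⟩
      have hwP : w ∈ P := by
        rw [hw]; exact Subgroup.mul_mem _ (hconjP y hy) (Subgroup.inv_mem _ hy)
      have hcomm : Commute (a * y * a⁻¹) y⁻¹ :=
        comm_of_cyclic P hcyc (hconjP y hy) (Subgroup.inv_mem _ hy)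
      have hwp : w ^ p = 1 := by
        rw [hw, hcomm.mul_pow, conj_pow, h1, inv_pow, mul_inv_cancel]
      have hwfix : a * w * a⁻¹ = w := hΩ w hwP hwp
      have hay : a * y * a⁻¹ = w * y := by rw [hw]; group
      -- a^j y a^-j = w^j y
      have hj : ∀ j : ℕ, a ^ j * y * (a ^ j)⁻¹ = w ^ j * y := by
        intro j
        induction j with
        | zero => simp
        | succ j ihj =>
          have e1 : a ^ (j + 1) * y * (a ^ (j + 1))⁻¹ = a * (a ^ j * y * (a ^ j)⁻¹) * a⁻¹ := by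
            rw [pow_succ']; group
          rw [e1, ihj]
          have e2 : a * (w ^ j * y) * a⁻¹ = (a * w * a⁻¹) ^ j * (a * y * a⁻¹) := by
            rw [conj_pow]; group
          rw [e2, hwfix, hay, pow_succ, mul_assoc]
      have h2 := hj (orderOf a)
      rw [pow_orderOf_eq_one, one_mul, inv_one, mul_one] at h2
      have h3 : w ^ orderOf a = 1 := by
        have : w ^ orderOf a * y = 1 * y := by rw [one_mul]; exact h2.symm
        exact mul_right_cancel this
      have h4 : orderOf w ∣ Nat.gcd (orderOf a) p :=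
        Nat.dvd_gcd (orderOf_dvd_of_pow_eq_one h3) (orderOf_dvd_of_pow_eq_one hwp)
      rw [hap.gcd_eq_one, Nat.dvd_one, orderOf_eq_one_iff] at h4
      rw [hay, h4, one_mul]
  intro y hy
  obtain ⟨m, hm⟩ := hP ⟨y, hy⟩
  apply hind m y hy
  have := congrArg Subtype.val hm
  simpa using this

/-- elements of order dividing `p` in a cyclic group lie in the subgroup generated by any element
of order `p`. -/
theorem mem_zpowers_of_pow_eq_one [Finite G] {p : ℕ} [Fact p.Prime] (P : Subgroup G)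
    (hcyc : IsCyclic P) {z w : G} (hzP : z ∈ P) (hz : orderOf z = p) (hwP : w ∈ P)
    (hw : w ^ p = 1) : w ∈ Subgroup.zpowers z := by
  classical
  have hp : p.Prime := Fact.out
  haveI : Fintype P := Fintype.ofFinite _
  haveI := hcyc
  have hle := IsCyclic.card_pow_eq_one_le (α := P) hp.pos
  -- the subgroup of elements with w^p = 1 inside P
  let zP : P := ⟨z, hzP⟩
  have hzPo : orderOf zP = p := by
    rw [← hz]; exact Subgroup.orderOf_mk z hzP
  -- image of zpowers zP is contained in the filter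
  have hsub : (Finset.univ.filter (fun y : P => y ∈ Subgroup.zpowers zP)) ⊆
      Finset.univ.filter (fun y : P => y ^ p = 1) := by
    intro y hy
    rw [Finset.mem_filter] at hy ⊢
    refine ⟨Finset.mem_univ _, ?_⟩
    obtain ⟨i, rfl⟩ := Subgroup.mem_zpowers_iff.mp hy.2
    rw [← zpow_natCast, ← zpow_mul, mul_comm, zpow_mul, zpow_natCast, ← hzPo,
      pow_orderOf_eq_one, one_zpow]
  have hcard : (Finset.univ.filter (fun y : P => y ∈ Subgroup.zpowers zP)).card = p := by
    have h1 : Nat.card (Subgroup.zpowers zP) = p := by rw [Nat.card_zpowers, hzPo]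
    rw [← h1, Nat.card_eq_fintype_card, Fintype.card_subtype]
  have heq := Finset.eq_of_subset_of_card_le hsub (by rw [hcard]; exact hle)
  have hmem : (⟨w, hwP⟩ : P) ∈ Finset.univ.filter (fun y : P => y ^ p = 1) := by
    rw [Finset.mem_filter]
    refine ⟨Finset.mem_univ _, ?_⟩
    apply Subtype.ext
    simpa using hw
  rw [← heq, Finset.mem_filter] at hmem
  obtain ⟨i, hi⟩ := Subgroup.mem_zpowers_iff.mp hmem.2
  rw [Subgroup.mem_zpowers_iff]
  refine ⟨i, ?_⟩
  have := congrArg Subtype.val hi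
  simpa using this

/-- fixed-point-free action of an element of order `p` gives `|H| ≡ 1 mod p`. -/
theorem card_modEq_one_of_fpf [Finite G] {p : ℕ} [Fact p.Prime] {z : G} (hz : orderOf z = p)
    (H : Subgroup G) (hzN : z ∈ Subgroup.normalizer (H : Set G))
    (hfpf : ∀ y ∈ H, z * y * z⁻¹ = y → y = 1) : Nat.card H ≡ 1 [MOD p] := by
  classical
  haveI : Fintype H := Fintype.ofFinite _
  let f : Function.End H := fun y =>
    ⟨z * y.1 * z⁻¹, (Subgroup.mem_set_normalizer_iff.mp hzN y.1).mp y.2⟩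
  have hfk : ∀ k : ℕ, ∀ y : H, (((f ^ k) y : H) : G) = z ^ k * y.1 * (z ^ k)⁻¹ := by
    intro k
    induction k with
    | zero =>
      intro y
      rw [pow_zero, pow_zero, inv_one, one_mul, mul_one]
      rfl
    | succ k ih =>
      intro y
      rw [pow_succ']
      show z * ((f ^ k) y : G) * z⁻¹ = _
      rw [ih y, pow_succ']; group
  have hf : f ^ p ^ 1 = 1 := by
    rw [pow_one]
    funext y
    apply Subtype.ext
    rw [hfk p y, ← hz, pow_orderOf_eq_one, inv_one, one_mul, mul_one]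
    rfl
  have h1 := Equiv.Perm.card_fixedPoints_modEq hf
  rw [Nat.card_eq_fintype_card]
  refine h1.trans ?_
  have h2 : Fintype.card (Function.fixedPoints f) = 1 := by
    rw [Fintype.card_eq_one_iff]
    refine ⟨⟨1, ?_⟩, ?_⟩
    · show f 1 = 1
      apply Subtype.ext
      show z * (1 : G) * z⁻¹ = 1
      group
    · rintro ⟨y, hy⟩
      apply Subtype.ext
      apply Subtype.ext
      have hy' : f y = y := hy
      have : z * y.1 * z⁻¹ = y.1 := congrArg Subtype.val hy'
      exact hfpf y.1 y.2 this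
  rw [h2]

end Cfsg.Agent.Lib.H21.Cyc
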