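import Mathlib
import Cfsg.Agent.Lib.H21.Friendship

/-!
# Involutions and the Friendship theorem (helper21)

Core lemma: if the commuting graph on the involutions of a finite group has the
"exactly one common neighbour" property (derived here from local hypotheses around a
subgroup `C` with a unique involution `v`), then some involution commutes with all involutions.
-/

set_option autoImplicit false

namespace Cfsg.Agent.Lib.H21.InvFriend

open Cfsg.Agent.Lib.H21.Friend

variable {G : Type*} [Group G]

theorem inv_mul_self {u : G} (h : orderOf u = 2) : u * u = 1 := by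
  have := pow_orderOf_eq_one u
  rwa [h, pow_two] at this

theorem inv_inv_eq {u : G} (h : orderOf u = 2) : u⁻¹ = u :=
  inv_eq_of_mul_eq_one_left (inv_mul_self h)

theorem inv_ne_one {u : G} (h : orderOf u = 2) : u ≠ 1 := by
  rintro rfl
  simp at h

theorem orderOf_eq_two_of {u : G} (h1 : u * u = 1) (h2 : u ≠ 1) : orderOf u = 2 :=
  orderOf_eq_prime (by rwa [pow_two]) h2

theorem orderOf_conj_eq (h u : G) : orderOf (h * u * h⁻¹) = orderOf u := by
  have := orderOf_injective (MulAut.conj h).toMonoidHom (MulAut.conj h).injective u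
  simpa [MulAut.conj_apply] using this

theorem commute_conj_iff (h a v : G) :
    Commute (h * a * h⁻¹) v ↔ Commute a (h⁻¹ * v * h) := by
  constructor
  · intro hc
    have key : a * (h⁻¹ * v * h) = h⁻¹ * ((h * a * h⁻¹) * v) * h := by group
    show a * (h⁻¹ * v * h) = (h⁻¹ * v * h) * a
    rw [key, hc.eq]; group
  · intro hc
    have key : (h * a * h⁻¹) * v = h * (a * (h⁻¹ * v * h)) * h⁻¹ := by group
    show (h * a * h⁻¹) * v = v * (h * a * h⁻¹)
    rw [key, hc.eq]; group

/-- product of two commuting distinct involutions is an involution -/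
theorem orderOf_mul_of_commute {a b : G} (ha : orderOf a = 2) (hb : orderOf b = 2)
    (hab : a ≠ b) (hc : Commute a b) : orderOf (a * b) = 2 := by
  apply orderOf_eq_two_of
  · calc a * b * (a * b) = a * (b * a) * b := by group
      _ = a * (a * b) * b := by rw [hc.eq]
      _ = (a * a) * (b * b) := by group
      _ = 1 := by rw [inv_mul_self ha, inv_mul_self hb, one_mul]
  · intro h1
    apply hab
    have : a = b⁻¹ := eq_inv_of_mul_eq_one_left h1
    rw [this, inv_inv_eq hb]

/-- The commuting graph on involutions. -/
def commGraph (G : Type*) [Group G] : SimpleGraph {g : G // orderOf g = 2} where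
  Adj a b := a ≠ b ∧ Commute a.1 b.1
  symm := ⟨fun _ _ h => ⟨h.1.symm, h.2.symm⟩⟩
  loopless := ⟨fun _ h => h.1 rfl⟩

theorem commGraph_adj (a b : {g : G // orderOf g = 2}) :
    (commGraph G).Adj a b ↔ a ≠ b ∧ Commute a.1 b.1 := Iff.rfl

variable [Finite G]

theorem exists_central_involution
    (C : Subgroup G) (v : G)
    (hv : orderOf v = 2)
    (c1 : ∀ c ∈ C, orderOf c = 2 → c = v)
    (c2 : ∀ g x : G, x ∈ C → x ≠ 1 → g * x * g⁻¹ ∈ C → Commute g v)
    (c3 : ∀ a b : G, Commute a v → Commute b v → a ∉ C → b ∉ C → a * b ∈ C)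
    (c4 : ∀ z : G, orderOf z = 3 → ∃ h : G, h * z * h⁻¹ ∈ C)
    (c5 : ∀ u u' : G, orderOf u = 2 → orderOf u' = 2 → ¬ Commute u u' →
        3 ∣ orderOf (u * u'))
    (c6 : ∀ u u' t : G, orderOf u = 2 → orderOf u' = 2 → orderOf t = 2 → Commute u u' →
        Commute t u → Commute t u' → u ≠ u' → t ≠ u → t ≠ u' → t = u * u') :
    ∃ w : G, orderOf w = 2 ∧ ∀ u : G, orderOf u = 2 → Commute w u := by
  classical
  haveI : Fintype {g : G // orderOf g = 2} := Fintype.ofFinite _
  have : Nonempty {g : G // orderOf g = 2} := ⟨⟨v, hv⟩⟩
  have hF : Friendship (commGraph G) := by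
    intro a b hab
    rw [Fintype.card_eq_one_iff]
    obtain ⟨a, ha⟩ := a
    obtain ⟨b, hb⟩ := b
    have hab' : a ≠ b := fun h => hab (Subtype.ext h)
    by_cases hc : Commute a b
    · -- commuting: unique common neighbour is a * b
      have hw : orderOf (a * b) = 2 := orderOf_mul_of_commute ha hb hab' hc
      refine ⟨⟨⟨a * b, hw⟩, ?_⟩, ?_⟩
      · rw [SimpleGraph.mem_commonNeighbors]
        refine ⟨⟨?_, ?_⟩, ⟨?_, ?_⟩⟩
        · intro h
          have h1 : a = a * b := congrArg Subtype.val h
          have : b = 1 := by
            have := mul_left_cancel (a := a) (b := 1) (c := b) (by rw [mul_one]; exact h1)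
            exact this.symm
          exact inv_ne_one hb this
        · show Commute a (a * b)
          exact (Commute.refl a).mul_right hc
        · intro h
          have h1 : b = a * b := congrArg Subtype.val h
          have : a = 1 := by
            have := mul_right_cancel (a := 1) (b := b) (c := a) (by rw [one_mul]; exact h1)
            exact this.symm
          exact inv_ne_one ha this
        · show Commute b (a * b)
          exact hc.symm.mul_right (Commute.refl b)
      · rintro ⟨⟨t, ht⟩, hmem⟩
        rw [SimpleGraph.mem_commonNeighbors, commGraph_adj, commGraph_adj] at hmem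
        obtain ⟨⟨h1, h2⟩, ⟨h3, h4⟩⟩ := hmem
        have h1' : t ≠ a := fun h => h1 (Subtype.ext h.symm)
        have h3' : t ≠ b := fun h => h3 (Subtype.ext h.symm)
        have := c6 a b t ha hb ht hc (show Commute t a from h2.symm)
          (show Commute t b from h4.symm) hab' h1' h3'
        exact Subtype.ext (Subtype.ext this)
    · -- non-commuting
      have h3 : 3 ∣ orderOf (a * b) := c5 a b ha hb hc
      set d := a * b with hd
      have hdpos : orderOf d ≠ 0 := (orderOf_pos d).ne'
      set z := d ^ (orderOf d / 3) with hz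
      have hz3 : orderOf z = 3 := orderOf_pow_orderOf_div hdpos h3
      have hzne : z ≠ 1 := by
        intro h; rw [h, orderOf_one] at hz3; omega
      -- a and b invert d
      have had : a * d * a⁻¹ = d⁻¹ := by
        rw [hd, inv_inv_eq ha, mul_inv_rev, inv_inv_eq ha, inv_inv_eq hb]
        calc a * (a * b) * a = (a * a) * b * a := by group
          _ = b * a := by rw [inv_mul_self ha, one_mul]
      have hbd : b * d * b⁻¹ = d⁻¹ := by
        rw [hd, inv_inv_eq hb, mul_inv_rev, inv_inv_eq ha, inv_inv_eq hb]
        calc b * (a * b) * b = b * a * (b * b) := by group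
          _ = b * a := by rw [inv_mul_self hb, mul_one]
      have haz : a * z * a⁻¹ = z⁻¹ := by
        rw [hz, ← conj_pow, had, inv_pow]
      have hbz : b * z * b⁻¹ = z⁻¹ := by
        rw [hz, ← conj_pow, hbd, inv_pow]
      obtain ⟨h, hh⟩ := c4 z hz3
      have hz1ne : h * z * h⁻¹ ≠ 1 := by
        intro h1
        apply hzne
        have : z = h⁻¹ * (h * z * h⁻¹) * h := by group
        rw [this, h1]; group
      -- conjugates commute with v
      have hca : Commute (h * a * h⁻¹) v := by
        apply c2 (h * a * h⁻¹) (h * z * h⁻¹) hh hz1ne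
        have : (h * a * h⁻¹) * (h * z * h⁻¹) * (h * a * h⁻¹)⁻¹ = h * (a * z * a⁻¹) * h⁻¹ := by
          group
        rw [this, haz]
        have : h * z⁻¹ * h⁻¹ = (h * z * h⁻¹)⁻¹ := by group
        rw [this]
        exact C.inv_mem hh
      have hcb : Commute (h * b * h⁻¹) v := by
        apply c2 (h * b * h⁻¹) (h * z * h⁻¹) hh hz1ne
        have : (h * b * h⁻¹) * (h * z * h⁻¹) * (h * b * h⁻¹)⁻¹ = h * (b * z * b⁻¹) * h⁻¹ := by
          group
        rw [this, hbz]
        have : h * z⁻¹ * h⁻¹ = (h * z * h⁻¹)⁻¹ := by group
        rw [this]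
        exact C.inv_mem hh
      set v₁ := h⁻¹ * v * h with hv₁
      have hv₁o : orderOf v₁ = 2 := by
        have := orderOf_conj_eq h⁻¹ v
        rw [inv_inv] at this
        rw [hv₁, this, hv]
      have hav₁ : Commute a v₁ := (commute_conj_iff h a v).mp hca
      have hbv₁ : Commute b v₁ := (commute_conj_iff h b v).mp hcb
      have hne_a : a ≠ v₁ := by
        intro h1
        apply hc
        rw [h1]; exact hbv₁.symm
      have hne_b : b ≠ v₁ := by
        intro h1
        apply hc
        rw [h1]; exact hav₁
      refine ⟨⟨⟨v₁, hv₁o⟩, ?_⟩, ?_⟩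
      · rw [SimpleGraph.mem_commonNeighbors, commGraph_adj, commGraph_adj]
        exact ⟨⟨fun h1 => hne_a (congrArg Subtype.val h1), hav₁⟩,
          ⟨fun h1 => hne_b (congrArg Subtype.val h1), hbv₁⟩⟩
      · rintro ⟨⟨t, ht⟩, hmem⟩
        rw [SimpleGraph.mem_commonNeighbors, commGraph_adj, commGraph_adj] at hmem
        obtain ⟨⟨h1, h2⟩, ⟨h3', h4⟩⟩ := hmem
        have h1' : t ≠ a := fun h => h1 (Subtype.ext h.symm)
        have h3'' : t ≠ b := fun h => h3' (Subtype.ext h.symm)
        have h2' : Commute t a := Commute.symm h2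
        have h4' : Commute t b := Commute.symm h4
        -- t commutes with d and z
        have htd : Commute t d := h2'.mul_right h4'
        have htz : Commute t z := htd.pow_right _
        -- conj
        have htz1 : (h * t * h⁻¹) * (h * z * h⁻¹) * (h * t * h⁻¹)⁻¹ = h * z * h⁻¹ := by
          have : (h * t * h⁻¹) * (h * z * h⁻¹) * (h * t * h⁻¹)⁻¹ = h * (t * z * t⁻¹) * h⁻¹ := by
            group
          rw [this]
          have : t * z * t⁻¹ = z := by rw [htz.eq]; group
          rw [this]
        have hct : Commute (h * t * h⁻¹) v := by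
          apply c2 (h * t * h⁻¹) (h * z * h⁻¹) hh hz1ne
          rw [htz1]; exact hh
        have hto : orderOf (h * t * h⁻¹) = 2 := by rw [orderOf_conj_eq, ht]
        have hao : orderOf (h * a * h⁻¹) = 2 := by rw [orderOf_conj_eq, ha]
        have hbo : orderOf (h * b * h⁻¹) = 2 := by rw [orderOf_conj_eq, hb]
        have conj_inj : ∀ x y : G, h * x * h⁻¹ = h * y * h⁻¹ → x = y := by
          intro x y hxy
          have : x = h⁻¹ * (h * x * h⁻¹) * h := by group
          rw [this, hxy]; group
        by_cases htC : h * t * h⁻¹ ∈ C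
        · have : h * t * h⁻¹ = v := c1 _ htC hto
          have : t = v₁ := by
            rw [hv₁, ← this]; group
          exact Subtype.ext (Subtype.ext this)
        · exfalso
          have haC : h * a * h⁻¹ ∉ C := by
            intro haC
            have h5 : h * a * h⁻¹ = v := c1 _ haC hao
            apply hc
            have : Commute (h * a * h⁻¹) (h * b * h⁻¹) := by
              rw [h5]; exact hcb.symm
            have h6 := this.eq
            have : h * (a * b) * h⁻¹ = h * (b * a) * h⁻¹ := by
              have e1 : h * (a * b) * h⁻¹ = (h * a * h⁻¹) * (h * b * h⁻¹) := by group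
              have e2 : h * (b * a) * h⁻¹ = (h * b * h⁻¹) * (h * a * h⁻¹) := by group
              rw [e1, e2, h6]
            exact conj_inj _ _ this
          have hbC : h * b * h⁻¹ ∉ C := by
            intro hbC
            have h5 : h * b * h⁻¹ = v := c1 _ hbC hbo
            apply hc
            have : Commute (h * a * h⁻¹) (h * b * h⁻¹) := by
              rw [h5]; exact hca
            have h6 := this.eq
            have : h * (a * b) * h⁻¹ = h * (b * a) * h⁻¹ := by
              have e1 : h * (a * b) * h⁻¹ = (h * a * h⁻¹) * (h * b * h⁻¹) := by group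
              have e2 : h * (b * a) * h⁻¹ = (h * b * h⁻¹) * (h * a * h⁻¹) := by group
              rw [e1, e2, h6]
            exact conj_inj _ _ this
          -- t₁ * a₁ ∈ C, of order ≤ 2
          have key : ∀ x : G, orderOf x = 2 → Commute t x → t ≠ x → h * x * h⁻¹ ∉ C →
              Commute (h * x * h⁻¹) v → h * t * h⁻¹ = v * (h * x * h⁻¹) := by
            intro x hx htx hne hxC hxv
            have hm : (h * t * h⁻¹) * (h * x * h⁻¹) ∈ C := c3 _ _ hct hxv htC hxC
            have he : (h * t * h⁻¹) * (h * x * h⁻¹) = h * (t * x) * h⁻¹ := by group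
            have htxo : orderOf (t * x) = 2 := orderOf_mul_of_commute ht hx hne htx
            have ho : orderOf ((h * t * h⁻¹) * (h * x * h⁻¹)) = 2 := by
              rw [he, orderOf_conj_eq, htxo]
            have := c1 _ hm ho
            have hxo : orderOf (h * x * h⁻¹) = 2 := by rw [orderOf_conj_eq, hx]
            calc h * t * h⁻¹ = (h * t * h⁻¹) * (h * x * h⁻¹) * (h * x * h⁻¹)⁻¹ := by group
              _ = v * (h * x * h⁻¹) := by rw [this, inv_inv_eq hxo]
          have k1 := key a ha h2' h1' haC hca
          have k2 := key b hb h4' h3'' hbC hcb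
          rw [k1] at k2
          have := mul_left_cancel k2
          exact hab' (conj_inj _ _ this)
  obtain ⟨⟨w, hw⟩, hpol⟩ := friendship_theorem hF
  refine ⟨w, hw, ?_⟩
  intro u hu
  by_cases hwu : w = u
  · rw [hwu]
  · have := hpol ⟨u, hu⟩ (fun h => hwu (congrArg Subtype.val h))
    rw [commGraph_adj] at this
    exact this.2

end Cfsg.Agent.Lib.H21.InvFriend
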