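import Mathlib
import Cfsg.Prelude.Def_Transfer
import Cfsg.Agent.Lib.H21.CycA
import Cfsg.Agent.Lib.H21.InvFriend
import Cfsg.Agent.Lib.L0.NPCBasic

/-!
# S4016 helpers, part B (helper21): dihedral lemma, ambient forms of `p`-nilpotent / `p`-closed
-/

set_option autoImplicit false

namespace Cfsg.Agent.Lib.H21.Cyc

open Cfsg.Agent.Lib.H21.InvFriend

variable {G : Type*} [Group G]

/-- In the subgroup generated by two involutions `u, u'` every element is `d^i` or `d^i u`
with `d = u u'`; hence an odd prime dividing its order divides the order of `d`. -/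
theorem dvd_orderOf_mul_of_dvd_card_closure [Finite G] {q : ℕ} [Fact q.Prime] (hq2 : q ≠ 2)
    {u u' : G} (hu : orderOf u = 2) (hu' : orderOf u' = 2)
    (hq : q ∣ Nat.card (Subgroup.closure ({u, u'} : Set G))) : q ∣ orderOf (u * u') := by
  set d := u * u' with hd
  have hud : u * d * u⁻¹ = d⁻¹ := by
    rw [hd, inv_inv_eq hu, mul_inv_rev, inv_inv_eq hu, inv_inv_eq hu']
    calc u * (u * u') * u = (u * u) * u' * u := by group
      _ = u' * u := by rw [inv_mul_self hu, one_mul]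
  have hudi : ∀ i : ℤ, u * d ^ i = d ^ (-i) * u := by
    intro i
    have : u * d ^ i * u⁻¹ = (d⁻¹) ^ i := by rw [← conj_zpow, hud]
    calc u * d ^ i = (u * d ^ i * u⁻¹) * u := by group
      _ = d ^ (-i) * u := by rw [this, inv_zpow, zpow_neg]
  let L : Subgroup G :=
    { carrier := {x | ∃ i : ℤ, x = d ^ i ∨ x = d ^ i * u}
      one_mem' := ⟨0, Or.inl (by simp)⟩
      mul_mem' := by
        rintro a b ⟨i, hi⟩ ⟨j, hj⟩
        rcases hi with hi | hi <;> rcases hj with hj | hj <;> rw [hi, hj]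
        · exact ⟨i + j, Or.inl (zpow_add d i j).symm⟩
        · exact ⟨i + j, Or.inr (by rw [zpow_add, mul_assoc])⟩
        · refine ⟨i - j, Or.inr ?_⟩
          rw [mul_assoc, hudi j, ← mul_assoc, ← zpow_add, sub_eq_add_neg]
        · refine ⟨i - j, Or.inl ?_⟩
          calc d ^ i * u * (d ^ j * u) = d ^ i * (u * d ^ j) * u := by group
            _ = d ^ i * (d ^ (-j) * u) * u := by rw [hudi j]
            _ = d ^ i * d ^ (-j) * (u * u) := by group
            _ = d ^ (i - j) := by rw [inv_mul_self hu, mul_one, ← zpow_add, sub_eq_add_neg]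
      inv_mem' := by
        rintro a ⟨i, hi⟩
        rcases hi with hi | hi <;> rw [hi]
        · exact ⟨-i, Or.inl (zpow_neg d i).symm⟩
        · refine ⟨i, Or.inr ?_⟩
          rw [mul_inv_rev, inv_inv_eq hu, ← zpow_neg, hudi (-i), neg_neg] }
  have hle : Subgroup.closure ({u, u'} : Set G) ≤ L := by
    rw [Subgroup.closure_le]
    intro x hx
    rcases hx with hx | hx
    · rw [hx]; exact ⟨0, Or.inr (by simp)⟩
    · rw [Set.mem_singleton_iff] at hx
      rw [hx]
      refine ⟨-1, Or.inr ?_⟩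
      rw [zpow_neg, zpow_one, hd, mul_inv_rev, inv_inv_eq hu, inv_inv_eq hu', mul_assoc,
        inv_mul_self hu, mul_one]
  obtain ⟨x, hx⟩ := exists_prime_orderOf_dvd_card' (G := Subgroup.closure ({u, u'} : Set G)) q hq
  have hxo : orderOf (x : G) = q := by rw [Subgroup.orderOf_coe]; exact hx
  obtain ⟨i, hi | hi⟩ := hle x.2
  · rw [← hxo, hi]
    exact orderOf_dvd_of_mem_zpowers (Subgroup.zpow_mem _ (Subgroup.mem_zpowers d) i)
  · exfalso
    have hsq : (x : G) * (x : G) = 1 := by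
      rw [hi]
      calc d ^ i * u * (d ^ i * u) = d ^ i * (u * d ^ i) * u := by group
        _ = d ^ i * (d ^ (-i) * u) * u := by rw [hudi i]
        _ = (d ^ i * d ^ (-i)) * (u * u) := by group
        _ = 1 := by rw [inv_mul_self hu, mul_one, ← zpow_add, add_neg_cancel, zpow_zero]
    have h2 : orderOf (x : G) ∣ 2 := orderOf_dvd_of_pow_eq_one (by rw [pow_two]; exact hsq)
    rw [hxo] at h2
    exact hq2 ((Nat.prime_dvd_prime_iff_eq Fact.out Nat.prime_two).mp h2)

/-- ambient `p`-nilpotency of a subgroup -/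
def NPCin (p : ℕ) (H : Subgroup G) : Prop :=
  ∃ L : Subgroup G, L ≤ H ∧ H ≤ Subgroup.normalizer (L : Set G) ∧ ¬ p ∣ Nat.card L ∧
    ∀ h ∈ H, (orderOf h).Coprime p → h ∈ L

/-- ambient `p`-closedness of a subgroup -/
def PCin (p : ℕ) (H : Subgroup G) : Prop :=
  ∃ R : Subgroup G, R ≤ H ∧ H ≤ Subgroup.normalizer (R : Set G) ∧ IsPGroup p R ∧
    ∀ h ∈ H, IsPEl p h → h ∈ R

theorem le_normalizer_map_subtype (H : Subgroup G) (N' : Subgroup H) [hN : N'.Normal] :
    H ≤ Subgroup.normalizer ((N'.map H.subtype : Subgroup G) : Set G) := by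
  have key : ∀ h ∈ H, ∀ x ∈ N'.map H.subtype, h * x * h⁻¹ ∈ N'.map H.subtype := by
    intro h hh x hx
    obtain ⟨n, hn, rfl⟩ := Subgroup.mem_map.mp hx
    refine Subgroup.mem_map.mpr ⟨⟨h, hh⟩ * n * ⟨h, hh⟩⁻¹, hN.conj_mem n hn ⟨h, hh⟩, ?_⟩
    simp
  intro h hh
  rw [Subgroup.mem_set_normalizer_iff]
  intro x
  constructor
  · exact key h hh x
  · intro hx
    have := key h⁻¹ (H.inv_mem hh) _ hx
    have e : h⁻¹ * (h * x * h⁻¹) * h⁻¹⁻¹ = x := by group
    rwa [e] at this

theorem npcin_of_npc [Finite G] {p : ℕ} [Fact p.Prime] (H : Subgroup G)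
    (h : Cfsg.HasNormalPComplement p H) : NPCin p H := by
  obtain ⟨N', hN', hpN', k, hk⟩ := Cfsg.Agent.Lib.L0.HasNormalPComplement.exists_normal h
  refine ⟨N'.map H.subtype, Subgroup.map_subtype_le N', le_normalizer_map_subtype H N', ?_, ?_⟩
  · rw [Subgroup.card_map_of_injective H.subtype_injective]; exact hpN'
  · intro x hx hcop
    have := Cfsg.Agent.Lib.L0.mem_of_coprime_orderOf_of_index_pow N' k hk ⟨x, hx⟩
      (by rw [Subgroup.orderOf_mk]; exact hcop)
    exact Subgroup.mem_map.mpr ⟨⟨x, hx⟩, this, rfl⟩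

theorem pcin_of_normal_sylow [Finite G] {p : ℕ} [Fact p.Prime] (H : Subgroup G)
    (Q : Sylow p H) (hQ : (Q : Subgroup H).Normal) : PCin p H := by
  refine ⟨(Q : Subgroup H).map H.subtype, Subgroup.map_subtype_le _,
    le_normalizer_map_subtype H _, Q.isPGroup'.map H.subtype, ?_⟩
  intro x hx hpx
  obtain ⟨k, hk⟩ := hpx
  have hp : IsPGroup p (Subgroup.zpowers (⟨x, hx⟩ : H)) := by
    apply IsPGroup.of_card (n := k)
    rw [Nat.card_zpowers, Subgroup.orderOf_mk, hk]
  obtain ⟨Q', hQ'⟩ := hp.exists_le_sylow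
  haveI := Sylow.unique_of_normal Q hQ
  have : Q' = Q := Subsingleton.elim _ _
  rw [this] at hQ'
  exact Subgroup.mem_map.mpr ⟨⟨x, hx⟩, hQ' (Subgroup.mem_zpowers _), rfl⟩

end Cfsg.Agent.Lib.H21.Cyc
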