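import Mathlib
import Cfsg.Agent.Lib.H21.CycB

/-!
# S4016: minimal counterexample analysis, part C (helper21)
-/

set_option autoImplicit false

namespace Cfsg.Agent.Lib.H21.Cyc

open Cfsg.Agent.Lib.L0
open scoped Pointwise

universe u

/-- finite normalizer criterion -/
theorem mem_normalizer_of_conj_mem' {G : Type*} [Group G] [Finite G] (H : Subgroup G) (g : G)
    (h : ∀ x ∈ H, g * x * g⁻¹ ∈ H) : g ∈ Subgroup.normalizer (H : Set G) := by
  rw [Subgroup.mem_set_normalizer_iff]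
  intro y
  refine ⟨h y, fun hy => ?_⟩
  let f : H → H := fun x => ⟨g * x * g⁻¹, h x x.2⟩
  have hinj : Function.Injective f := by
    intro a b hab
    have : g * (a : G) * g⁻¹ = g * (b : G) * g⁻¹ := congrArg Subtype.val hab
    apply Subtype.ext
    simpa using this
  obtain ⟨x, hx⟩ := (Finite.injective_iff_surjective.mp hinj) ⟨g * y * g⁻¹, hy⟩
  have : g * (x : G) * g⁻¹ = g * y * g⁻¹ := congrArg Subtype.val hx
  have hxy : (x : G) = y := by simpa using this
  rw [← hxy]; exact x.2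

/-- hypotheses of S4016 -/
structure Hyp (p : ℕ) (G : Type u) [Group G] : Prop where
  cyc : ∃ P : Sylow p G, IsCyclic P
  ab : ∀ H : Subgroup G, ¬ p ∣ Nat.card H → IsMulCommutative H

/-- conclusion of S4016 -/
def Concl (p : ℕ) (G : Type u) [Group G] : Prop :=
  Cfsg.HasNormalPComplement p G ∨ ∃ Q : Sylow p G, (Q : Subgroup G).Normal

section general

variable {G : Type u} [Group G] [Finite G] {p : ℕ} [Fact p.Prime]

/-- a `p`-element normalizing a Sylow `p`-subgroup lies in it. -/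
theorem mem_sylow_of_pEl (P : Sylow p G) {x : G}
    (hx : x ∈ Subgroup.normalizer ((P : Subgroup G) : Set G)) (hp : IsPEl p x) :
    x ∈ (P : Subgroup G) := by
  obtain ⟨k, hk⟩ := hp
  have hz : IsPGroup p (Subgroup.zpowers x) := by
    apply IsPGroup.of_card (n := k)
    rw [Nat.card_zpowers, hk]
  have hle : Subgroup.zpowers x ≤ Subgroup.normalizer ((P : Subgroup G) : Set G) := by
    rw [Subgroup.zpowers_le]; exact hx
  have hsup : IsPGroup p (Subgroup.zpowers x ⊔ (P : Subgroup G) : Subgroup G) :=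
    IsPGroup.to_sup_of_normal_right' hz P.isPGroup' hle
  have := P.is_maximal' hsup le_sup_right
  rw [← this]
  exact (le_sup_left : Subgroup.zpowers x ≤ _) (Subgroup.mem_zpowers x)

/-- every `p`-element is conjugate into a given Sylow `p`-subgroup. -/
theorem exists_conj_mem_sylow (P : Sylow p G) {x : G} (hp : IsPEl p x) :
    ∃ g : G, g * x * g⁻¹ ∈ (P : Subgroup G) := by
  obtain ⟨k, hk⟩ := hp
  have hz : IsPGroup p (Subgroup.zpowers x) := by
    apply IsPGroup.of_card (n := k)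
    rw [Nat.card_zpowers, hk]
  obtain ⟨Q, hQ⟩ := hz.exists_le_sylow
  obtain ⟨g, hg⟩ := MulAction.exists_smul_eq G Q P
  refine ⟨g, ?_⟩
  have hxQ : x ∈ (Q : Subgroup G) := hQ (Subgroup.mem_zpowers x)
  have h1 : (g • Q : Sylow p G) = P := hg
  have h2 : ((g • Q : Sylow p G) : Subgroup G) = MulAut.conj g • (Q : Subgroup G) :=
    Sylow.pointwise_smul_def
  rw [← h1, h2]
  have := Subgroup.smul_mem_pointwise_smul x (MulAut.conj g) (Q : Subgroup G) hxQ
  rwa [MulAut.smul_def, MulAut.conj_apply] at this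

theorem isPEl_of_mem_sylow (P : Sylow p G) {x : G} (hx : x ∈ (P : Subgroup G)) : IsPEl p x := by
  obtain ⟨n, hn⟩ := P.isPGroup' ⟨x, hx⟩
  have h1 : orderOf x ∣ p ^ n := by
    apply orderOf_dvd_of_pow_eq_one
    have := congrArg Subtype.val hn
    simpa using this
  obtain ⟨j, _, hj⟩ := (Nat.dvd_prime_pow Fact.out).mp h1
  exact ⟨j, hj⟩

theorem coprime_of_isPEl_ne {q : ℕ} (hq : q.Prime) (hpq : q ≠ p) {x : G} (h : IsPEl q x) :
    (orderOf x).Coprime p := by
  obtain ⟨k, hk⟩ := h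
  rw [hk]
  exact Nat.Coprime.pow_left k ((Nat.coprime_primes hq Fact.out).mpr hpq)

end general

/-- minimal counterexample -/
structure MC (p : ℕ) [Fact p.Prime] (G : Type u) [Group G] [Finite G] (P : Sylow p G) : Prop where
  ab : ∀ H : Subgroup G, ¬ p ∣ Nat.card H → IsMulCommutative H
  cyc : IsCyclic P
  sub : ∀ H : Subgroup G, H ≠ ⊤ → NPCin p H ∨ PCin p H
  quot : ∀ (K : Subgroup G) [K.Normal], K ≠ ⊥ → ¬ p ∣ Nat.card K → Concl p (G ⧸ K)
  not_npc : ¬ Cfsg.HasNormalPComplement p G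
  not_normal : ∀ Q : Sylow p G, ¬ (Q : Subgroup G).Normal

namespace MC

variable {p : ℕ} [Fact p.Prime] {G : Type u} [Group G] [Finite G] {P : Sylow p G}

/-- normalizer of `P` -/
abbrev NP (P : Sylow p G) : Subgroup G := Subgroup.normalizer ((P : Subgroup G) : Set G)

/-- centralizer of `P` -/
abbrev CP (P : Sylow p G) : Subgroup G := Subgroup.centralizer ((P : Subgroup G) : Set G)

theorem comm (h : MC p G P) {x y : G} (hx : x ∈ (P : Subgroup G)) (hy : y ∈ (P : Subgroup G)) :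
    x * y = y * x := comm_of_cyclic (P : Subgroup G) h.cyc hx hy

theorem P_le_C (h : MC p G P) : (P : Subgroup G) ≤ CP P := by
  intro x hx
  rw [Subgroup.mem_centralizer_iff]
  intro y hy
  exact h.comm hy hx

theorem C_le_N (_h : MC p G P) : CP P ≤ NP P := Subgroup.centralizer_le_normalizer _

theorem mem_C_iff (_h : MC p G P) {g : G} :
    g ∈ CP P ↔ ∀ y ∈ (P : Subgroup G), g * y * g⁻¹ = y := by
  rw [Subgroup.mem_centralizer_iff]
  constructor
  · intro hg y hy
    have := hg y hy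
    calc g * y * g⁻¹ = (y * g) * g⁻¹ := by rw [this]
      _ = y := by group
  · intro hg y hy
    have := hg y hy
    calc y * g = (g * y * g⁻¹) * g := by rw [this]
      _ = g * y := by group

theorem conj_mem_P (_h : MC p G P) {g y : G} (hg : g ∈ NP P) (hy : y ∈ (P : Subgroup G)) :
    g * y * g⁻¹ ∈ (P : Subgroup G) :=
  (Subgroup.mem_set_normalizer_iff.mp hg y).mp hy

/-- L2: a `p'`-element of `N` outside `C`. -/
theorem exists_a (h : MC p G P) :
    ∃ a ∈ NP P, (orderOf a).Coprime p ∧ a ∉ CP P := by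
  by_contra hno
  push Not at hno
  apply h.not_npc
  apply hasNormalPComplement_of_normalizer_le_centralizer P
  intro g hg
  obtain ⟨b, c, hb, hc, hgbc, hpb, hpc⟩ := exists_pdecomp p g
  have hzle : Subgroup.zpowers g ≤ NP P := by rw [Subgroup.zpowers_le]; exact hg
  have hbP : b ∈ (P : Subgroup G) := mem_sylow_of_pEl P (hzle hb) hpb
  have hcC : c ∈ CP P := hno c (hzle hc) hpc
  have : g ∈ CP P := by rw [hgbc]; exact Subgroup.mul_mem _ (h.P_le_C hbP) hcC
  exact this

/-- L3 -/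
theorem mem_C_of_fix (h : MC p G P) {a x : G} (haN : a ∈ NP P) (hap : (orderOf a).Coprime p)
    (hxP : x ∈ (P : Subgroup G)) (hx1 : x ≠ 1) (hax : a * x * a⁻¹ = x) : a ∈ CP P := by
  rw [h.mem_C_iff]
  exact cyclic_fixed (P : Subgroup G) h.cyc P.isPGroup' haN hap hxP hx1 hax

/-- L4: every element of `P` is `a x a⁻¹ x⁻¹`. -/
theorem exists_commutator (h : MC p G P) {a : G} (haN : a ∈ NP P)
    (hap : (orderOf a).Coprime p) (haC : a ∉ CP P) (y : G) (hy : y ∈ (P : Subgroup G)) :
    ∃ x ∈ (P : Subgroup G), a * x * a⁻¹ * x⁻¹ = y := by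
  let ψ : ↥(P : Subgroup G) → ↥(P : Subgroup G) := fun x =>
    ⟨a * x.1 * a⁻¹ * x.1⁻¹, Subgroup.mul_mem _ (h.conj_mem_P haN x.2) (Subgroup.inv_mem _ x.2)⟩
  have hinj : Function.Injective ψ := by
    intro x₁ x₂ h12
    have e : a * x₁.1 * a⁻¹ * x₁.1⁻¹ = a * x₂.1 * a⁻¹ * x₂.1⁻¹ := congrArg Subtype.val h12
    by_contra hne
    apply haC
    have ht : x₂.1⁻¹ * x₁.1 ∈ (P : Subgroup G) :=
      Subgroup.mul_mem _ (Subgroup.inv_mem _ x₂.2) x₁.2
    have ht1 : x₂.1⁻¹ * x₁.1 ≠ 1 := by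
      intro h1
      apply hne
      apply Subtype.ext
      have : x₁.1 = x₂.1 := by
        calc x₁.1 = x₂.1 * (x₂.1⁻¹ * x₁.1) := by group
          _ = x₂.1 := by rw [h1, mul_one]
      exact this
    apply h.mem_C_of_fix haN hap ht ht1
    calc a * (x₂.1⁻¹ * x₁.1) * a⁻¹
        = (a * x₂.1 * a⁻¹)⁻¹ * (a * x₁.1 * a⁻¹ * x₁.1⁻¹) * x₁.1 := by group
      _ = (a * x₂.1 * a⁻¹)⁻¹ * (a * x₂.1 * a⁻¹ * x₂.1⁻¹) * x₁.1 := by rw [e]
      _ = x₂.1⁻¹ * x₁.1 := by group
  obtain ⟨x, hx⟩ := (Finite.injective_iff_surjective.mp hinj) ⟨y, hy⟩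
  exact ⟨x.1, x.2, congrArg Subtype.val hx⟩

/-- L5: `G` is generated by its `p'`-elements. -/
theorem closure_eq_top (h : MC p G P) :
    Subgroup.closure {g : G | (orderOf g).Coprime p} = ⊤ := by
  obtain ⟨a, haN, hap, haC⟩ := h.exists_a
  set R := Subgroup.closure {g : G | (orderOf g).Coprime p} with hR
  have hconj : ∀ x ∈ (P : Subgroup G), ∀ g : G, g * x * g⁻¹ ∈ R := by
    intro y hy g
    obtain ⟨x, _, hxy⟩ := h.exists_commutator haN hap haC y hy
    have e : g * y * g⁻¹ = (g * a * g⁻¹) * ((g * x) * a⁻¹ * (g * x)⁻¹) := by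
      rw [← hxy]; group
    rw [e]
    apply Subgroup.mul_mem
    · apply Subgroup.subset_closure
      show (orderOf (g * a * g⁻¹)).Coprime p
      rw [orderOf_conj']; exact hap
    · apply Subgroup.subset_closure
      show (orderOf ((g * x) * a⁻¹ * (g * x)⁻¹)).Coprime p
      rw [orderOf_conj', orderOf_inv]; exact hap
  rw [eq_top_iff]
  intro t _
  obtain ⟨b, c, _, _, htbc, hpb, hpc⟩ := exists_pdecomp p t
  rw [htbc]
  apply Subgroup.mul_mem
  · obtain ⟨g, hg⟩ := exists_conj_mem_sylow P hpb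
    have := hconj _ hg g⁻¹
    have e : g⁻¹ * (g * b * g⁻¹) * g⁻¹⁻¹ = b := by group
    rwa [e] at this
  · exact Subgroup.subset_closure hpc

/-- L6: normal `p'`-subgroups are central. -/
theorem central_of_normal (h : MC p G P) (K : Subgroup G) [hKn : K.Normal]
    (hK : ¬ p ∣ Nat.card K) {k : G} (hk : k ∈ K) (g : G) : g * k = k * g := by
  have hle : Subgroup.closure {g : G | (orderOf g).Coprime p} ≤ Subgroup.centralizer {k} := by
    rw [Subgroup.closure_le]
    intro c hc
    have hc' : (orderOf c).Coprime p := hc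
    -- zpowers c ⊔ K is a p'-group
    have hnorm : Subgroup.zpowers c ≤ Subgroup.normalizer (K : Set G) := by
      rw [Subgroup.normalizer_eq_top_iff.mpr hKn]; exact le_top
    have hdvd := card_sup_dvd hnorm
    have hnot : ¬ p ∣ Nat.card (Subgroup.zpowers c ⊔ K : Subgroup G) := by
      intro hp
      have := hp.trans hdvd
      rcases (Nat.Prime.dvd_mul Fact.out).mp this with h1 | h1
      · rw [Nat.card_zpowers] at h1
        exact (Nat.Prime.coprime_iff_not_dvd Fact.out).mp hc'.symm h1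
      · exact hK h1
    have hcomm := h.ab _ hnot
    have hcm : c ∈ Subgroup.zpowers c ⊔ K :=
      (le_sup_left : Subgroup.zpowers c ≤ _) (Subgroup.mem_zpowers c)
    have hkm : k ∈ Subgroup.zpowers c ⊔ K := (le_sup_right : K ≤ _) hk
    have := hcomm.is_comm.comm ⟨c, hcm⟩ ⟨k, hkm⟩
    have e : c * k = k * c := congrArg Subtype.val this
    show c ∈ Subgroup.centralizer {k}
    rw [Subgroup.mem_centralizer_iff]
    intro y hy
    rw [Set.mem_singleton_iff] at hy
    rw [hy]; exact e.symm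
  have : g ∈ Subgroup.centralizer {k} := hle (by rw [h.closure_eq_top]; trivial)
  exact ((Subgroup.mem_centralizer_iff.mp this) k rfl).symm

end MC

end Cfsg.Agent.Lib.H21.Cyc
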