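import Mathlib
import Cfsg.Agent.Lib.H21.CycC

/-!
# S4016: minimal counterexample analysis, part D (helper21)
-/

set_option autoImplicit false

namespace Cfsg.Agent.Lib.H21.Cyc

open Cfsg.Agent.Lib.L0
open scoped Pointwise

universe u

namespace MC

variable {p : ℕ} [Fact p.Prime] {G : Type u} [Group G] [Finite G] {P : Sylow p G}

theorem pow_card_P_eq_one (_h : MC p G P) {x : G} (hx : x ∈ (P : Subgroup G)) :
    x ^ Nat.card (P : Subgroup G) = 1 :=
  orderOf_dvd_iff_pow_eq_one.mp (Subgroup.orderOf_dvd_natCard _ hx)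

/-- L7: `O_{p'}(G) = 1`. -/
theorem pprime_normal_eq_bot (h : MC p G P) (K : Subgroup G) [hKn : K.Normal]
    (hK : ¬ p ∣ Nat.card K) : K = ⊥ := by
  by_contra hne
  rcases h.quot K hne hK with hnpc | ⟨Q', hQ'⟩
  · exact h.not_npc (hasNormalPComplement_of_quotient K hK hnpc)
  · have hsurj := QuotientGroup.mk'_surjective K
    haveI := Sylow.unique_of_normal Q' hQ'
    have hPQ : P.mapSurjective hsurj = Q' := Subsingleton.elim _ _
    have hnorm : ((P : Subgroup G).map (QuotientGroup.mk' K)).Normal := by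
      have : ((P.mapSurjective hsurj : Sylow p (G ⧸ K)) : Subgroup (G ⧸ K)).Normal := by
        rw [hPQ]; exact hQ'
      exact this
    have hM : (((P : Subgroup G).map (QuotientGroup.mk' K)).comap (QuotientGroup.mk' K)).Normal :=
      hnorm.comap _
    rw [Subgroup.comap_map_eq, QuotientGroup.ker_mk'] at hM
    apply h.not_normal P
    constructor
    intro x hx g
    have hmem : g * x * g⁻¹ ∈ (P : Subgroup G) ⊔ K :=
      hM.conj_mem x ((le_sup_left : (P : Subgroup G) ≤ _) hx) g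
    obtain ⟨x', hx', k, hk, hxk⟩ := Subgroup.mem_sup_of_normal_right.mp hmem
    set n := Nat.card (P : Subgroup G) with hn
    have hcomm : Commute x' k := h.central_of_normal K hK hk x'
    have e1 : (x' * k) ^ n = k ^ n := by
      rw [hcomm.mul_pow, h.pow_card_P_eq_one hx', one_mul]
    have e2 : (g * x * g⁻¹) ^ n = 1 := by
      rw [conj_pow, h.pow_card_P_eq_one hx]; group
    rw [hxk, e2] at e1
    have h1 : orderOf k ∣ n := orderOf_dvd_of_pow_eq_one e1.symm
    have h2 : orderOf k ∣ Nat.card K := Subgroup.orderOf_dvd_natCard _ hk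
    obtain ⟨m, hm⟩ := IsPGroup.iff_card.mp P.isPGroup'
    have hcop : Nat.Coprime n (Nat.card K) := by
      rw [hn, hm]
      exact Nat.Coprime.pow_left m ((Nat.Prime.coprime_iff_not_dvd Fact.out).mpr hK)
    have h3 : orderOf k = 1 := Nat.eq_one_of_dvd_coprimes hcop h1 h2
    rw [orderOf_eq_one_iff] at h3
    rw [← hxk, h3, mul_one]; exact hx'

theorem P_ne_bot (h : MC p G P) : (P : Subgroup G) ≠ ⊥ := by
  intro hbot
  apply h.not_normal P
  rw [hbot]; infer_instance

/-- L8: no proper normal subgroup contains `P`. -/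
theorem eq_top_of_normal_ge (h : MC p G P) (M : Subgroup G) [hMn : M.Normal]
    (hPM : (P : Subgroup G) ≤ M) : M = ⊤ := by
  by_contra hne
  rcases h.sub M hne with ⟨L, hLM, _, hpL, hL⟩ | ⟨R, hRM, _, hR, hRel⟩
  · -- L is normal in G
    have hLn : L.Normal := by
      constructor
      intro x hx g
      apply hL _ (hMn.conj_mem x (hLM hx) g)
      rw [orderOf_conj']
      have h1 : orderOf x ∣ Nat.card L := Subgroup.orderOf_dvd_natCard _ hx
      exact Nat.Coprime.coprime_dvd_left h1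
        ((Nat.Prime.coprime_iff_not_dvd Fact.out).mpr hpL).symm
    have hLbot : L = ⊥ := h.pprime_normal_eq_bot L hpL
    have hMp : IsPGroup p M := by
      intro t
      have hpel : IsPEl p (t : G) := by
        apply isPEl_of_forall_coprime_eq_one
        intro b hb hcop
        have hbM : b ∈ M := by
          have hle : Subgroup.zpowers (t : G) ≤ M := by rw [Subgroup.zpowers_le]; exact t.2
          exact hle hb
        have := hL b hbM hcop
        rwa [hLbot, Subgroup.mem_bot] at this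
      obtain ⟨k, hk⟩ := hpel
      refine ⟨k, ?_⟩
      apply Subtype.ext
      rw [Subgroup.coe_pow, ← hk, pow_orderOf_eq_one]; rfl
    have := P.is_maximal' hMp hPM
    apply h.not_normal P
    rw [← this]; exact hMn
  · have hPR : (P : Subgroup G) ≤ R := fun x hx => hRel x (hPM hx) (isPEl_of_mem_sylow P hx)
    have hRP := P.is_maximal' hR hPR
    apply h.not_normal P
    constructor
    intro x hx g
    rw [← hRP]
    exact hRel _ (hMn.conj_mem x (hPM hx) g) ((isPEl_of_mem_sylow P hx).conj g)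

/-- existence of an element of order `p` in `P`. -/
theorem exists_z (h : MC p G P) : ∃ z ∈ (P : Subgroup G), orderOf z = p := by
  have hdvd : p ∣ Nat.card (P : Subgroup G) := by
    obtain ⟨m, hm⟩ := IsPGroup.iff_card.mp P.isPGroup'
    rw [hm]
    apply dvd_pow_self
    intro h0
    rw [h0, pow_zero] at hm
    exact h.P_ne_bot (Subgroup.card_eq_one.mp hm)
  obtain ⟨x, hx⟩ := exists_prime_orderOf_dvd_card' (G := (P : Subgroup G)) p hdvd
  exact ⟨x.1, x.2, by rw [Subgroup.orderOf_coe]; exact hx⟩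

theorem mem_Z (h : MC p G P) {z w : G} (hz : z ∈ (P : Subgroup G)) (hzo : orderOf z = p)
    (hw : w ∈ (P : Subgroup G)) (hwp : w ^ p = 1) : w ∈ Subgroup.zpowers z :=
  mem_zpowers_of_pow_eq_one (P : Subgroup G) h.cyc hz hzo hw hwp

/-- `N ≤ N(Z)`. -/
theorem N_le_NZ (h : MC p G P) {z : G} (hz : z ∈ (P : Subgroup G)) (hzo : orderOf z = p) :
    NP P ≤ Subgroup.normalizer (Subgroup.zpowers z : Set G) := by
  intro g hg
  apply mem_normalizer_of_conj_mem'
  intro x hx
  obtain ⟨i, rfl⟩ := Subgroup.mem_zpowers_iff.mp hx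
  rw [← conj_zpow]
  apply Subgroup.zpow_mem
  apply h.mem_Z hz hzo (h.conj_mem_P hg hz)
  rw [conj_pow, ← hzo, pow_orderOf_eq_one]; group

/-- `Z` is not normal. -/
theorem Z_not_normal (h : MC p G P) {z : G} (hz : z ∈ (P : Subgroup G)) (hzo : orderOf z = p) :
    ¬ (Subgroup.zpowers z).Normal := by
  intro hZn
  obtain ⟨a, haN, hap, haC⟩ := h.exists_a
  -- centralizer of Z is normal and contains P
  have hCn : (Subgroup.centralizer (Subgroup.zpowers z : Set G)).Normal := by
    constructor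
    intro c hc g
    rw [Subgroup.mem_centralizer_iff] at hc ⊢
    intro w hw
    have hw' : g⁻¹ * w * g⁻¹⁻¹ ∈ Subgroup.zpowers z := hZn.conj_mem w hw g⁻¹
    have := hc _ hw'
    calc w * (g * c * g⁻¹) = g * ((g⁻¹ * w * g⁻¹⁻¹) * c) * g⁻¹ := by group
      _ = g * (c * (g⁻¹ * w * g⁻¹⁻¹)) * g⁻¹ := by rw [this]
      _ = g * c * g⁻¹ * w := by group
  have hPle : (P : Subgroup G) ≤ Subgroup.centralizer (Subgroup.zpowers z : Set G) := by
    intro x hx
    rw [Subgroup.mem_centralizer_iff]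
    intro w hw
    have hwP : w ∈ (P : Subgroup G) := by
      have hle : Subgroup.zpowers z ≤ (P : Subgroup G) := by rw [Subgroup.zpowers_le]; exact hz
      exact hle hw
    exact h.comm hwP hx
  have htop := h.eq_top_of_normal_ge _ hPle
  have haz : a ∈ Subgroup.centralizer (Subgroup.zpowers z : Set G) := by rw [htop]; trivial
  have hcomm : z * a = a * z := (Subgroup.mem_centralizer_iff.mp haz) z (Subgroup.mem_zpowers z)
  apply haC
  apply h.mem_C_of_fix haN hap hz
  · intro h1; rw [h1, orderOf_one] at hzo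
    exact (Fact.out : p.Prime).one_lt.ne hzo
  · calc a * z * a⁻¹ = (z * a) * a⁻¹ := by rw [hcomm]
      _ = z := by group

/-- L10: `N` is a maximal subgroup. -/
theorem le_N_of_ge (h : MC p G P) (H : Subgroup G) (hNH : NP P ≤ H) (hH : H ≠ ⊤) : H ≤ NP P := by
  obtain ⟨a, haN, hap, haC⟩ := h.exists_a
  have hPN : (P : Subgroup G) ≤ NP P := Subgroup.le_normalizer
  rcases h.sub H hH with ⟨L, _, hHN, hpL, hL⟩ | ⟨R, _, hHN, hR, hRel⟩
  · exfalso
    apply haC
    rw [h.mem_C_iff]
    intro y hy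
    have haL : a ∈ L := hL a (hNH haN) hap
    have hyH : y ∈ H := hNH (hPN hy)
    have h1 : y * a⁻¹ * y⁻¹ ∈ L :=
      (Subgroup.mem_set_normalizer_iff.mp (hHN hyH) a⁻¹).mp (L.inv_mem haL)
    have h2 : a * y * a⁻¹ * y⁻¹ ∈ L := by
      have e : a * y * a⁻¹ * y⁻¹ = a * (y * a⁻¹ * y⁻¹) := by group
      rw [e]; exact L.mul_mem haL h1
    have h3 : a * y * a⁻¹ * y⁻¹ ∈ (P : Subgroup G) :=
      Subgroup.mul_mem _ (h.conj_mem_P haN hy) (Subgroup.inv_mem _ hy)
    have hdisj : L ⊓ (P : Subgroup G) = ⊥ := by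
      apply Subgroup.inf_eq_bot_of_coprime
      obtain ⟨m, hm⟩ := IsPGroup.iff_card.mp P.isPGroup'
      rw [hm]
      exact Nat.Coprime.pow_right m ((Nat.Prime.coprime_iff_not_dvd Fact.out).mpr hpL).symm
    have h4 : a * y * a⁻¹ * y⁻¹ ∈ L ⊓ (P : Subgroup G) := ⟨h2, h3⟩
    rw [hdisj, Subgroup.mem_bot] at h4
    exact mul_inv_eq_one.mp h4
  · have hPR : (P : Subgroup G) ≤ R :=
      fun x hx => hRel x (hNH (hPN hx)) (isPEl_of_mem_sylow P hx)
    have hRP := P.is_maximal' hR hPR
    rw [hRP] at hHN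
    exact hHN

/-- L11 -/
theorem NZ_eq (h : MC p G P) {z : G} (hz : z ∈ (P : Subgroup G)) (hzo : orderOf z = p) :
    Subgroup.normalizer (Subgroup.zpowers z : Set G) = NP P := by
  apply le_antisymm _ (h.N_le_NZ hz hzo)
  apply h.le_N_of_ge _ (h.N_le_NZ hz hzo)
  intro htop
  exact h.Z_not_normal hz hzo (Subgroup.normalizer_eq_top_iff.mp htop)

/-- L12: TI property. -/
theorem mem_N_of_conj (h : MC p G P) {g x : G} (hx : x ∈ (P : Subgroup G)) (hx1 : x ≠ 1)
    (hgx : g * x * g⁻¹ ∈ (P : Subgroup G)) : g ∈ NP P := by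
  obtain ⟨z, hz, hzo⟩ := h.exists_z
  rw [← h.NZ_eq hz hzo]
  have hp : p.Prime := Fact.out
  -- element of order p in zpowers x
  obtain ⟨n, hn⟩ := isPEl_of_mem_sylow P hx
  have hn0 : n ≠ 0 := by
    intro h0
    rw [h0, pow_zero, orderOf_eq_one_iff] at hn
    exact hx1 hn
  have hpdvd : p ∣ orderOf x := by rw [hn]; exact dvd_pow_self p hn0
  set w := x ^ (orderOf x / p) with hw
  have hwo : orderOf w = p := orderOf_pow_orderOf_div (orderOf_pos x).ne' hpdvd
  have hwP : w ∈ (P : Subgroup G) := Subgroup.pow_mem _ hx _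
  have hwZ : w ∈ Subgroup.zpowers z :=
    h.mem_Z hz hzo hwP (by rw [← hwo, pow_orderOf_eq_one])
  have hZeq : Subgroup.zpowers w = Subgroup.zpowers z := by
    apply Subgroup.eq_of_le_of_card_ge
    · rw [Subgroup.zpowers_le]; exact hwZ
    · rw [Nat.card_zpowers, Nat.card_zpowers, hwo, hzo]
  apply mem_normalizer_of_conj_mem'
  intro t ht
  rw [← hZeq] at ht ⊢
  obtain ⟨i, rfl⟩ := Subgroup.mem_zpowers_iff.mp ht
  rw [← conj_zpow]
  apply Subgroup.zpow_mem
  rw [hZeq]
  have hgw : g * w * g⁻¹ = (g * x * g⁻¹) ^ (orderOf x / p) := by rw [hw, conj_pow]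
  apply h.mem_Z hz hzo
  · rw [hgw]; exact Subgroup.pow_mem _ hgx _
  · rw [conj_pow, ← hwo, pow_orderOf_eq_one]; group

theorem mem_C_of_commute (h : MC p G P) {y x : G} (hy : (orderOf y).Coprime p)
    (hx : x ∈ (P : Subgroup G)) (hx1 : x ≠ 1) (hyx : y * x * y⁻¹ = x) : y ∈ CP P := by
  have hyN : y ∈ NP P := h.mem_N_of_conj hx hx1 (by rw [hyx]; exact hx)
  exact h.mem_C_of_fix hyN hy hx hx1 hyx

end MC

end Cfsg.Agent.Lib.H21.Cyc
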