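import Mathlib
import Cfsg.Agent.Lib.H21.CycD

/-!
# S4016: minimal counterexample analysis, part E (helper21)
-/

set_option autoImplicit false

namespace Cfsg.Agent.Lib.H21.Cyc

open Cfsg.Agent.Lib.L0
open scoped Pointwise

universe u

namespace MC

variable {p : ℕ} [Fact p.Prime] {G : Type u} [Group G] [Finite G] {P : Sylow p G}

/-- the hypotheses do not depend on the choice of the Sylow subgroup -/
theorem conj (h : MC p G P) (g : G) : MC p G (g • P) where
  ab := h.ab
  cyc := by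
    haveI := h.cyc
    exact isCyclic_of_surjective (P.equivSMul g) (P.equivSMul g).surjective
  sub := h.sub
  quot := h.quot
  not_npc := h.not_npc
  not_normal := h.not_normal

theorem conj_mem_C (_h : MC p G P) {n c : G} (hn : n ∈ NP P) (hc : c ∈ CP P) :
    n * c * n⁻¹ ∈ CP P := by
  have hninv : n⁻¹ ∈ NP P := Subgroup.inv_mem _ hn
  rw [Subgroup.mem_centralizer_iff]
  intro x hx
  have hx' : n⁻¹ * x * n⁻¹⁻¹ ∈ ((P : Subgroup G) : Set G) :=
    (Subgroup.mem_set_normalizer_iff.mp hninv x).mp hx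
  have h2 := (Subgroup.mem_centralizer_iff.mp hc) _ hx'
  calc x * (n * c * n⁻¹) = n * ((n⁻¹ * x * n⁻¹⁻¹) * c) * n⁻¹ := by group
    _ = n * (c * (n⁻¹ * x * n⁻¹⁻¹)) * n⁻¹ := by rw [h2]
    _ = n * c * n⁻¹ * x := by group

/-- Burnside applied to `C = C_G(P)`. -/
theorem npcin_C (h : MC p G P) : NPCin p (CP P) := by
  apply npcin_of_npc
  apply hasNormalPComplement_of_normalizer_le_centralizer (P.subtype h.P_le_C)
  intro g _
  rw [Subgroup.mem_centralizer_iff]
  intro x hx
  have hx' : x ∈ ((P.subtype h.P_le_C : Sylow p (CP P)) : Subgroup (CP P)) := hx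
  rw [Sylow.coe_subtype, Subgroup.mem_subgroupOf] at hx'
  apply Subtype.ext
  have := (Subgroup.mem_centralizer_iff.mp g.2) x.1 hx'
  simpa using this

/-- `p'`-elements normalizing a `p'`-subgroup `L` commute with its elements -/
theorem commute_of_normalizes (h : MC p G P) {c : G} (hc : (orderOf c).Coprime p)
    (L : Subgroup G) (hpL : ¬ p ∣ Nat.card L) (hcL : c ∈ Subgroup.normalizer (L : Set G))
    {y : G} (hy : y ∈ L) : c * y = y * c := by
  have hnorm : Subgroup.zpowers c ≤ Subgroup.normalizer (L : Set G) := by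
    rw [Subgroup.zpowers_le]; exact hcL
  have hdvd := card_sup_dvd hnorm
  have hnot : ¬ p ∣ Nat.card (Subgroup.zpowers c ⊔ L : Subgroup G) := by
    intro hp
    have := hp.trans hdvd
    rcases (Nat.Prime.dvd_mul Fact.out).mp this with h1 | h1
    · rw [Nat.card_zpowers] at h1
      exact (Nat.Prime.coprime_iff_not_dvd Fact.out).mp hc.symm h1
    · exact hpL h1
  have hcomm := h.ab _ hnot
  have hcm : c ∈ Subgroup.zpowers c ⊔ L :=
    (le_sup_left : Subgroup.zpowers c ≤ _) (Subgroup.mem_zpowers c)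
  have hym : y ∈ Subgroup.zpowers c ⊔ L := (le_sup_right : L ≤ _) hy
  have := hcomm.is_comm.comm ⟨c, hcm⟩ ⟨y, hym⟩
  exact congrArg Subtype.val this

/-- L13: `p'`-elements of `C` are central in `N`. -/
theorem commute_of_mem_C (h : MC p G P) {y g : G} (hyC : y ∈ CP P)
    (hy : (orderOf y).Coprime p) (hg : g ∈ NP P) : Commute g y := by
  obtain ⟨L, hLC, _, hpL, hL⟩ := h.npcin_C
  have hyL : y ∈ L := hL y hyC hy
  have key : ∀ n ∈ NP P, ∀ x ∈ L, n * x * n⁻¹ ∈ L := by
    intro n hn x hx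
    apply hL _ (h.conj_mem_C hn (hLC hx))
    rw [orderOf_conj']
    exact Nat.Coprime.coprime_dvd_left (Subgroup.orderOf_dvd_natCard _ hx)
      ((Nat.Prime.coprime_iff_not_dvd Fact.out).mpr hpL).symm
  obtain ⟨b, c, hb, hc, hgbc, hpb, hpc⟩ := exists_pdecomp p g
  have hzle : Subgroup.zpowers g ≤ NP P := by rw [Subgroup.zpowers_le]; exact hg
  have hbP : b ∈ (P : Subgroup G) := mem_sylow_of_pEl P (hzle hb) hpb
  have h1 : b * y = y * b := (Subgroup.mem_centralizer_iff.mp hyC) b hbP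
  have hcL : c ∈ Subgroup.normalizer (L : Set G) :=
    mem_normalizer_of_conj_mem' L c (key c (hzle hc))
  have h2 : c * y = y * c := h.commute_of_normalizes hpc L hpL hcL hyL
  show g * y = y * g
  rw [hgbc, mul_assoc, h2, ← mul_assoc, h1, mul_assoc]

/-- L14 -/
theorem centralizer_ne_top (h : MC p G P) {y : G} (hy1 : y ≠ 1) :
    Subgroup.centralizer {y} ≠ ⊤ := by
  intro htop
  have hcent : ∀ g : G, g * y = y * g := by
    intro g
    have : g ∈ Subgroup.centralizer {y} := by rw [htop]; trivial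
    exact ((Subgroup.mem_centralizer_iff.mp this) y rfl).symm
  have hcentz : ∀ t ∈ Subgroup.zpowers y, ∀ g : G, g * t = t * g := by
    intro t ht g
    obtain ⟨i, rfl⟩ := Subgroup.mem_zpowers_iff.mp ht
    exact ((show Commute g y from hcent g).zpow_right i).eq
  obtain ⟨b, c, hb, hc, hybc, hpb, hpc⟩ := exists_pdecomp p y
  have hc1 : c = 1 := by
    have hKn : (Subgroup.zpowers c).Normal := by
      constructor
      intro t ht g
      obtain ⟨i, rfl⟩ := Subgroup.mem_zpowers_iff.mp ht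
      have : g * c ^ i * g⁻¹ = c ^ i := by
        have e := hcentz (c ^ i) (Subgroup.zpow_mem _ hc i) g
        calc g * c ^ i * g⁻¹ = (c ^ i * g) * g⁻¹ := by rw [e]
          _ = c ^ i := by group
      rw [this]; exact Subgroup.zpow_mem _ (Subgroup.mem_zpowers c) i
    have hpK : ¬ p ∣ Nat.card (Subgroup.zpowers c) := by
      rw [Nat.card_zpowers]
      exact (Nat.Prime.coprime_iff_not_dvd Fact.out).mp hpc.symm
    have := h.pprime_normal_eq_bot (Subgroup.zpowers c) hpK
    have hcm : c ∈ Subgroup.zpowers c := Subgroup.mem_zpowers c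
    rwa [this, Subgroup.mem_bot] at hcm
  rw [hc1, mul_one] at hybc
  rw [← hybc] at hpb
  -- y is a central p-element, so in P
  have hyN : y ∈ NP P := by
    apply mem_normalizer_of_conj_mem'
    intro x hx
    have : y * x * y⁻¹ = x := by
      calc y * x * y⁻¹ = (x * y) * y⁻¹ := by rw [hcent x]
        _ = x := by group
    rw [this]; exact hx
  have hyP : y ∈ (P : Subgroup G) := mem_sylow_of_pEl P hyN hpb
  obtain ⟨a, haN, hap, haC⟩ := h.exists_a
  apply haC
  apply h.mem_C_of_fix haN hap hyP hy1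
  calc a * y * a⁻¹ = (y * a) * a⁻¹ := by rw [hcent a]
    _ = y := by group

theorem centralizer_eq_N (h : MC p G P) {y : G} (hyC : y ∈ CP P)
    (hy : (orderOf y).Coprime p) (hy1 : y ≠ 1) : Subgroup.centralizer {y} = NP P := by
  have hle : NP P ≤ Subgroup.centralizer {y} := by
    intro g hg
    rw [Subgroup.mem_centralizer_iff]
    intro t ht
    rw [Set.mem_singleton_iff] at ht
    rw [ht]
    exact (h.commute_of_mem_C hyC hy hg).eq.symm
  exact le_antisymm (h.le_N_of_ge _ hle (h.centralizer_ne_top hy1)) hle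

/-- `p'`-elements normalizing a Sylow `q`-subgroup (`q ≠ p`) centralize it. -/
theorem mem_centralizer_sylow (h : MC p G P) {q : ℕ} (hq : q.Prime) (hqp : q ≠ p)
    (Q : Sylow q G) {c : G} (hc : (orderOf c).Coprime p)
    (hcN : c ∈ Subgroup.normalizer ((Q : Subgroup G) : Set G)) :
    c ∈ Subgroup.centralizer ((Q : Subgroup G) : Set G) := by
  haveI : Fact q.Prime := ⟨hq⟩
  have hpQ : ¬ p ∣ Nat.card (Q : Subgroup G) := by
    obtain ⟨m, hm⟩ := IsPGroup.iff_card.mp Q.isPGroup'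
    rw [hm]
    intro hdvd
    have := (Nat.Prime.dvd_of_dvd_pow Fact.out hdvd)
    exact hqp ((Nat.prime_dvd_prime_iff_eq Fact.out hq).mp this).symm
  rw [Subgroup.mem_centralizer_iff]
  intro y hy
  exact (h.commute_of_normalizes hc (Q : Subgroup G) hpQ hcN hy).symm

/-- L15 -/
theorem exists_pEl_not_centralizing (h : MC p G P) {q : ℕ} (hq : q.Prime) (hqp : q ≠ p)
    (Q : Sylow q G) (hQ : (Q : Subgroup G) ≠ ⊥) :
    ∃ g ∈ Subgroup.normalizer ((Q : Subgroup G) : Set G), IsPEl p g ∧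
      g ∉ Subgroup.centralizer ((Q : Subgroup G) : Set G) := by
  haveI : Fact q.Prime := ⟨hq⟩
  by_contra hno
  push Not at hno
  have hle : Subgroup.normalizer ((Q : Subgroup G) : Set G) ≤
      Subgroup.centralizer ((Q : Subgroup G) : Set G) := by
    intro g hg
    obtain ⟨b, c, hb, hc, hgbc, hpb, hpc⟩ := exists_pdecomp p g
    have hzle : Subgroup.zpowers g ≤ Subgroup.normalizer ((Q : Subgroup G) : Set G) := by
      rw [Subgroup.zpowers_le]; exact hg
    rw [hgbc]
    exact Subgroup.mul_mem _ (hno b (hzle hb) hpb)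
      (h.mem_centralizer_sylow hq hqp Q hpc (hzle hc))
  have hnpc : Cfsg.HasNormalPComplement q G :=
    hasNormalPComplement_of_normalizer_le_centralizer Q hle
  obtain ⟨M, hMn, hqM, k, hk⟩ := HasNormalPComplement.exists_normal hnpc
  have hPM : (P : Subgroup G) ≤ M := by
    intro x hx
    apply mem_of_coprime_orderOf_of_index_pow M k hk x
    obtain ⟨j, hj⟩ := isPEl_of_mem_sylow P hx
    rw [hj]
    exact Nat.Coprime.pow_left j ((Nat.coprime_primes Fact.out hq).mpr hqp.symm)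
  have htop := h.eq_top_of_normal_ge M hPM
  rw [htop, Subgroup.card_top] at hqM
  apply hQ
  rw [← Subgroup.card_eq_one]
  obtain ⟨m, hm⟩ := IsPGroup.iff_card.mp Q.isPGroup'
  rw [hm]
  rcases Nat.eq_zero_or_pos m with h0 | h0
  · rw [h0, pow_zero]
  · exfalso
    apply hqM
    have : q ∣ Nat.card (Q : Subgroup G) := by rw [hm]; exact dvd_pow_self q h0.ne'
    exact this.trans (Subgroup.card_subgroup_dvd_card _)

/-- L16': fixed-point-freeness, for `z ∈ P`. -/
theorem fpf_aux (h : MC p G P) {q : ℕ} (hq : q.Prime) (hqp : q ≠ p) (Q : Sylow q G)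
    (hQ : (Q : Subgroup G) ≠ ⊥) {z : G} (hzP : z ∈ (P : Subgroup G)) (hzo : orderOf z = p)
    (hzN : z ∈ Subgroup.normalizer ((Q : Subgroup G) : Set G)) :
    ∀ y ∈ (Q : Subgroup G), z * y * z⁻¹ = y → y = 1 := by
  haveI : Fact q.Prime := ⟨hq⟩
  intro y hyQ hzy
  by_contra hy1
  have hz1 : z ≠ 1 := by
    intro h1; rw [h1, orderOf_one] at hzo
    exact (Fact.out : p.Prime).one_lt.ne hzo
  have hQcop : ∀ x ∈ (Q : Subgroup G), (orderOf x).Coprime p := fun x hx =>
    coprime_of_isPEl_ne hq hqp (isPEl_of_mem_sylow Q hx)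
  have hpQ : ¬ p ∣ Nat.card (Q : Subgroup G) := by
    obtain ⟨m, hm⟩ := IsPGroup.iff_card.mp Q.isPGroup'
    rw [hm]
    intro hdvd
    have := (Nat.Prime.dvd_of_dvd_pow Fact.out hdvd)
    exact hqp ((Nat.prime_dvd_prime_iff_eq Fact.out hq).mp this).symm
  have hyz : y * z * y⁻¹ = z := by
    have : z * y = y * z := by
      calc z * y = (z * y * z⁻¹) * z := by group
        _ = y * z := by rw [hzy]
    calc y * z * y⁻¹ = (z * y) * y⁻¹ := by rw [this]
      _ = z := by group
  have hyC : y ∈ CP P := h.mem_C_of_commute (hQcop y hyQ) hzP hz1 hyz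
  have hcent := h.centralizer_eq_N hyC (hQcop y hyQ) hy1
  have hQab := h.ab (Q : Subgroup G) hpQ
  have hQN : (Q : Subgroup G) ≤ NP P := by
    rw [← hcent]
    intro x hx
    rw [Subgroup.mem_centralizer_iff]
    intro t ht
    rw [Set.mem_singleton_iff] at ht
    rw [ht]
    exact congrArg Subtype.val (hQab.is_comm.comm ⟨y, hyQ⟩ ⟨x, hx⟩)
  have hdisj : (P : Subgroup G) ⊓ (Q : Subgroup G) = ⊥ := by
    apply Subgroup.inf_eq_bot_of_coprime
    obtain ⟨m, hm⟩ := IsPGroup.iff_card.mp P.isPGroup'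
    rw [hm]
    exact Nat.Coprime.pow_left m ((Nat.Prime.coprime_iff_not_dvd Fact.out).mpr hpQ)
  -- z centralizes Q
  have hzQ : ∀ x ∈ (Q : Subgroup G), x * z * x⁻¹ = z := by
    intro x hx
    have h1 : z * x * z⁻¹ * x⁻¹ ∈ (Q : Subgroup G) :=
      Subgroup.mul_mem _ ((Subgroup.mem_set_normalizer_iff.mp hzN x).mp hx)
        (Subgroup.inv_mem _ hx)
    have h2 : z * x * z⁻¹ * x⁻¹ ∈ (P : Subgroup G) := by
      have e : z * x * z⁻¹ * x⁻¹ = z * (x * z⁻¹ * x⁻¹) := by group
      rw [e]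
      exact Subgroup.mul_mem _ hzP (h.conj_mem_P (hQN hx) (Subgroup.inv_mem _ hzP))
    have h3 : z * x * z⁻¹ * x⁻¹ ∈ (P : Subgroup G) ⊓ (Q : Subgroup G) := ⟨h2, h1⟩
    rw [hdisj, Subgroup.mem_bot] at h3
    have h4 : z * x * z⁻¹ = x := mul_inv_eq_one.mp h3
    have h5 : z * x = x * z := by
      calc z * x = (z * x * z⁻¹) * z := by group
        _ = x * z := by rw [h4]
    calc x * z * x⁻¹ = (z * x) * x⁻¹ := by rw [h5]
      _ = z := by group
  -- so Q ≤ C and N ≤ C(Q)
  have hNle : NP P ≤ Subgroup.centralizer ((Q : Subgroup G) : Set G) := by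
    intro n hn
    rw [Subgroup.mem_centralizer_iff]
    intro x hx
    have hxC : x ∈ CP P := h.mem_C_of_commute (hQcop x hx) hzP hz1 (hzQ x hx)
    exact (h.commute_of_mem_C hxC (hQcop x hx) hn).eq.symm
  have hNQtop : Subgroup.normalizer ((Q : Subgroup G) : Set G) ≠ ⊤ := by
    intro htop
    haveI : (Q : Subgroup G).Normal := Subgroup.normalizer_eq_top_iff.mp htop
    exact hQ (h.pprime_normal_eq_bot (Q : Subgroup G) hpQ)
  have hNQle := h.le_N_of_ge _ (hNle.trans (Subgroup.centralizer_le_normalizer _)) hNQtop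
  obtain ⟨g, hgN, _, hgC⟩ := h.exists_pEl_not_centralizing hq hqp Q hQ
  exact hgC (hNle (hNQle hgN))

/-- L16: fixed-point-freeness, general. -/
theorem fpf (h : MC p G P) {q : ℕ} (hq : q.Prime) (hqp : q ≠ p) (Q : Sylow q G)
    (hQ : (Q : Subgroup G) ≠ ⊥) {z : G} (hzo : orderOf z = p)
    (hzN : z ∈ Subgroup.normalizer ((Q : Subgroup G) : Set G)) :
    ∀ y ∈ (Q : Subgroup G), z * y * z⁻¹ = y → y = 1 := by
  have hz : IsPGroup p (Subgroup.zpowers z) := by
    apply IsPGroup.of_card (n := 1)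
    rw [Nat.card_zpowers, hzo, pow_one]
  obtain ⟨P₁, hP₁⟩ := hz.exists_le_sylow
  obtain ⟨g, hg⟩ := MulAction.exists_smul_eq G P P₁
  have h1 : MC p G P₁ := hg ▸ h.conj g
  exact h1.fpf_aux hq hqp Q hQ (hP₁ (Subgroup.mem_zpowers z)) hzo hzN

/-- `|Q| ≡ 1 mod p` for every Sylow `q`-subgroup, `q ≠ p`. -/
theorem card_sylow_modEq (h : MC p G P) {q : ℕ} (hq : q.Prime) (hqp : q ≠ p) (Q : Sylow q G) :
    Nat.card (Q : Subgroup G) ≡ 1 [MOD p] := by
  by_cases hQ : (Q : Subgroup G) = ⊥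
  · rw [hQ, Subgroup.card_bot]
  obtain ⟨g, hgN, hpg, hgC⟩ := h.exists_pEl_not_centralizing hq hqp Q hQ
  have hg1 : g ≠ 1 := by
    intro h1; apply hgC; rw [h1]; exact Subgroup.one_mem _
  obtain ⟨k, hk⟩ := hpg
  have hk0 : k ≠ 0 := by
    intro h0
    rw [h0, pow_zero, orderOf_eq_one_iff] at hk
    exact hg1 hk
  have hpdvd : p ∣ orderOf g := by rw [hk]; exact dvd_pow_self p hk0
  set z := g ^ (orderOf g / p) with hz
  have hzo : orderOf z = p := orderOf_pow_orderOf_div (orderOf_pos g).ne' hpdvd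
  have hzN : z ∈ Subgroup.normalizer ((Q : Subgroup G) : Set G) := Subgroup.pow_mem _ hgN _
  exact card_modEq_one_of_fpf hzo (Q : Subgroup G) hzN (h.fpf hq hqp Q hQ hzo hzN)

end MC

end Cfsg.Agent.Lib.H21.Cyc
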