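import Mathlib
import Cfsg.Agent.Lib.H21.CycE

/-!
# S4016: minimal counterexample analysis, part F: counting (helper21)
-/

set_option autoImplicit false

namespace Cfsg.Agent.Lib.H21.Cyc

open Cfsg.Agent.Lib.L0
open scoped Pointwise

universe u

theorem prod_modEq_one {s : Finset ℕ} {f : ℕ → ℕ} {m : ℕ} (h : ∀ q ∈ s, f q ≡ 1 [MOD m]) :
    ∏ q ∈ s, f q ≡ 1 [MOD m] := by
  classical
  induction s using Finset.induction_on with
  | empty => simp only [Finset.prod_empty]; rfl
  | insert a s ha ih =>
    rw [Finset.prod_insert ha]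
    have h1 := (h a (Finset.mem_insert_self a s)).mul
      (ih (fun q hq => h q (Finset.mem_insert_of_mem hq)))
    simpa using h1

namespace MC

variable {p : ℕ} [Fact p.Prime] {G : Type u} [Group G] [Finite G] {P : Sylow p G}

theorem p_dvd_card (h : MC p G P) : p ∣ Nat.card G := by
  obtain ⟨z, hz, hzo⟩ := h.exists_z
  rw [← hzo]; exact orderOf_dvd_natCard z

/-- L17 -/
theorem index_P_modEq (h : MC p G P) : (P : Subgroup G).index ≡ 1 [MOD p] := by
  classical
  set n := Nat.card G with hn
  have hn0 : n ≠ 0 := Nat.card_pos.ne'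
  have hprod : ∏ q ∈ n.primeFactors, q ^ n.factorization q = n :=
    Nat.prod_factorization_pow_eq_self hn0
  have hpmem : p ∈ n.primeFactors :=
    Nat.mem_primeFactors.mpr ⟨Fact.out, h.p_dvd_card, hn0⟩
  rw [← Finset.mul_prod_erase _ _ hpmem] at hprod
  have hcardP : Nat.card (P : Subgroup G) = p ^ n.factorization p := P.card_eq_multiplicity
  have hidx : Nat.card (P : Subgroup G) * (P : Subgroup G).index = n :=
    Subgroup.card_mul_index _
  have hidx' : p ^ n.factorization p * (P : Subgroup G).index =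
      p ^ n.factorization p * ∏ x ∈ n.primeFactors.erase p, x ^ n.factorization x := by
    rw [← hcardP, hidx, hcardP, hprod]
  have hpos : 0 < p ^ n.factorization p := pow_pos (Fact.out : p.Prime).pos _
  have heq := Nat.eq_of_mul_eq_mul_left hpos hidx'
  rw [heq]
  apply prod_modEq_one
  intro q hq
  rw [Finset.mem_erase, Nat.mem_primeFactors] at hq
  obtain ⟨hqp, hqprime, _, _⟩ := hq
  haveI : Fact q.Prime := ⟨hqprime⟩
  obtain ⟨Q⟩ : Nonempty (Sylow q G) := inferInstance
  rw [← Q.card_eq_multiplicity]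
  exact h.card_sylow_modEq hqprime hqp Q

theorem index_N_modEq (_h : MC p G P) : (NP P).index ≡ 1 [MOD p] := by
  have h1 := card_sylow_modEq_one p G
  rwa [P.card_eq_index_normalizer] at h1

theorem P_le_N (_h : MC p G P) : (P : Subgroup G) ≤ NP P := Subgroup.le_normalizer

/-- `|N : P| ≡ 1 mod p`. -/
theorem relIndex_P_N_modEq (h : MC p G P) : (P : Subgroup G).relIndex (NP P) ≡ 1 [MOD p] := by
  have h1 := Subgroup.relIndex_mul_index h.P_le_N
  have h2 := h.index_P_modEq
  have h3 := h.index_N_modEq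
  rw [← h1] at h2
  have h4 : (P : Subgroup G).relIndex (NP P) * (NP P).index ≡
      (P : Subgroup G).relIndex (NP P) * 1 [MOD p] := Nat.ModEq.mul_left _ h3
  rw [mul_one] at h4
  exact h4.symm.trans h2

/-- the centralizer of `Z` is `C`. -/
theorem CZ_eq (h : MC p G P) {z : G} (hz : z ∈ (P : Subgroup G)) (hzo : orderOf z = p) :
    Subgroup.centralizer (Subgroup.zpowers z : Set G) = CP P := by
  have hz1 : z ≠ 1 := by
    intro h1; rw [h1, orderOf_one] at hzo
    exact (Fact.out : p.Prime).one_lt.ne hzo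
  apply le_antisymm
  · intro g hg
    have hgz : z * g = g * z := (Subgroup.mem_centralizer_iff.mp hg) z (Subgroup.mem_zpowers z)
    have hgzc : g * z * g⁻¹ = z := by
      calc g * z * g⁻¹ = (z * g) * g⁻¹ := by rw [hgz]
        _ = z := by group
    have hgN : g ∈ NP P := h.mem_N_of_conj hz hz1 (by rw [hgzc]; exact hz)
    obtain ⟨b, c, hb, hc, hgbc, hpb, hpc⟩ := exists_pdecomp p g
    have hzle : Subgroup.zpowers g ≤ NP P := by rw [Subgroup.zpowers_le]; exact hgN
    have hbP : b ∈ (P : Subgroup G) := mem_sylow_of_pEl P (hzle hb) hpb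
    have hcz : c * z * c⁻¹ = z := by
      obtain ⟨i, rfl⟩ := Subgroup.mem_zpowers_iff.mp hc
      have hcomm : Commute g z := hgz.symm
      have := (hcomm.zpow_left i).eq
      calc g ^ i * z * (g ^ i)⁻¹ = (z * g ^ i) * (g ^ i)⁻¹ := by rw [this]
        _ = z := by group
    have hcC : c ∈ CP P := h.mem_C_of_commute hpc hz hz1 hcz
    rw [hgbc]
    exact Subgroup.mul_mem _ (h.P_le_C hbP) hcC
  · intro g hg
    rw [Subgroup.mem_centralizer_iff]
    intro w hw
    have hle : Subgroup.zpowers z ≤ (P : Subgroup G) := by rw [Subgroup.zpowers_le]; exact hz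
    exact (Subgroup.mem_centralizer_iff.mp hg) w (hle hw)

/-- `|N : C|` divides `p - 1`. -/
theorem e_dvd (h : MC p G P) : (CP P).relIndex (NP P) ∣ p - 1 := by
  obtain ⟨z, hz, hzo⟩ := h.exists_z
  rw [← h.NZ_eq hz hzo, ← h.CZ_eq hz hzo]
  have hker := Subgroup.normalizerMonoidHom_ker (H := Subgroup.zpowers z)
  have h1 : (Subgroup.centralizer (Subgroup.zpowers z : Set G)).relIndex
      (Subgroup.normalizer (Subgroup.zpowers z : Set G)) =
      Nat.card (Subgroup.zpowers z).normalizerMonoidHom.range := by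
    rw [← Subgroup.index_ker, hker]; rfl
  rw [h1]
  have h2 : Nat.card (MulAut (Subgroup.zpowers z)) = p - 1 := by
    rw [IsCyclic.card_mulAut, Nat.card_zpowers, hzo, Nat.totient_prime Fact.out]
  rw [← h2]
  exact Subgroup.card_subgroup_dvd_card _

theorem one_lt_e (h : MC p G P) : 1 < (CP P).relIndex (NP P) := by
  obtain ⟨a, haN, _, haC⟩ := h.exists_a
  have hne : (CP P).relIndex (NP P) ≠ 1 := by
    intro h1
    rw [Subgroup.relIndex_eq_one] at h1
    exact haC (h1 haN)
  have hpos : 0 < (CP P).relIndex (NP P) := by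
    have : ((CP P).subgroupOf (NP P)).index ≠ 0 := Subgroup.index_ne_zero_of_finite
    have e : (CP P).relIndex (NP P) = ((CP P).subgroupOf (NP P)).index := rfl
    omega
  omega

theorem three_le_p (h : MC p G P) : 3 ≤ p := by
  have h1 := h.one_lt_e
  have h2 := Nat.le_of_dvd (by
    have hp := (Fact.out : p.Prime).two_le
    by_contra hc
    have h0 : p - 1 = 0 := by omega
    have := h.e_dvd
    rw [h0] at this
    omega) h.e_dvd
  omega

/-- `|C : P| * |N : C| = |N : P|`. -/
theorem a0_mul_e (h : MC p G P) :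
    (P : Subgroup G).relIndex (CP P) * (CP P).relIndex (NP P) =
      (P : Subgroup G).relIndex (NP P) :=
  Subgroup.relIndex_mul_relIndex _ _ _ h.P_le_C h.C_le_N

theorem not_dvd_relIndex_P (_h : MC p G P) (H : Subgroup G) (hPH : (P : Subgroup G) ≤ H) :
    ¬ p ∣ (P : Subgroup G).relIndex H := by
  intro hdvd
  exact P.not_dvd_index (hdvd.trans (Subgroup.relIndex_dvd_index_of_le hPH))

end MC

end Cfsg.Agent.Lib.H21.Cyc
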