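import Mathlib
import Cfsg.Agent.Lib.H21.CycF

/-!
# S4016: minimal counterexample analysis, part G (helper21)
-/

set_option autoImplicit false

namespace Cfsg.Agent.Lib.H21.Cyc

open Cfsg.Agent.Lib.L0
open scoped Pointwise

universe u

namespace MC

variable {p : ℕ} [Fact p.Prime] {G : Type u} [Group G] [Finite G] {P : Sylow p G}

theorem card_N_eq (h : MC p G P) :
    Nat.card (NP P) = Nat.card (P : Subgroup G) *
      ((P : Subgroup G).relIndex (CP P) * (CP P).relIndex (NP P)) := by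
  rw [h.a0_mul_e]
  exact card_eq_card_mul_relIndex h.P_le_N

theorem card_N_eq' (h : MC p G P) :
    Nat.card (NP P) = Nat.card (CP P) * (CP P).relIndex (NP P) :=
  card_eq_card_mul_relIndex h.C_le_N

/-- L19 -/
theorem exists_sylow_le_N (h : MC p G P) {q : ℕ} (hq : q.Prime)
    (hqa : q ∣ (P : Subgroup G).relIndex (CP P)) :
    q ≠ p ∧ ∃ (Q : Sylow q G) (y : G), (Q : Subgroup G) ≤ NP P ∧ y ∈ (Q : Subgroup G) ∧
      y ∈ CP P ∧ orderOf y = q := by
  haveI : Fact q.Prime := ⟨hq⟩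
  have hqp : q ≠ p := by
    intro hqp
    rw [hqp] at hqa
    exact h.not_dvd_relIndex_P (CP P) h.P_le_C hqa
  refine ⟨hqp, ?_⟩
  have hqC : q ∣ Nat.card (CP P) := hqa.trans (Subgroup.relIndex_dvd_card _ _)
  obtain ⟨y', hy'⟩ := exists_prime_orderOf_dvd_card' (G := CP P) q hqC
  have hyo : orderOf (y' : G) = q := by rw [Subgroup.orderOf_coe]; exact hy'
  have hycop : (orderOf (y' : G)).Coprime p := by
    rw [hyo]; exact (Nat.coprime_primes hq Fact.out).mpr hqp
  have hy1 : (y' : G) ≠ 1 := by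
    intro h1; rw [h1, orderOf_one] at hyo; exact hq.one_lt.ne hyo
  have hcent := h.centralizer_eq_N y'.2 hycop hy1
  have hz : IsPGroup q (Subgroup.zpowers (y' : G)) := by
    apply IsPGroup.of_card (n := 1)
    rw [Nat.card_zpowers, hyo, pow_one]
  obtain ⟨Q, hQ⟩ := hz.exists_le_sylow
  have hyQ : (y' : G) ∈ (Q : Subgroup G) := hQ (Subgroup.mem_zpowers _)
  have hpQ : ¬ p ∣ Nat.card (Q : Subgroup G) := by
    obtain ⟨m, hm⟩ := IsPGroup.iff_card.mp Q.isPGroup'
    rw [hm]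
    intro hdvd
    have := (Nat.Prime.dvd_of_dvd_pow Fact.out hdvd)
    exact hqp ((Nat.prime_dvd_prime_iff_eq Fact.out hq).mp this).symm
  have hQab := h.ab (Q : Subgroup G) hpQ
  refine ⟨Q, y', ?_, hyQ, y'.2, hyo⟩
  rw [← hcent]
  intro x hx
  rw [Subgroup.mem_centralizer_iff]
  intro t ht
  rw [Set.mem_singleton_iff] at ht
  rw [ht]
  exact congrArg Subtype.val (hQab.is_comm.comm ⟨(y' : G), hyQ⟩ ⟨x, hx⟩)

/-- L21 -/
theorem exists_common_prime (h : MC p G P) :
    ∃ q : ℕ, q.Prime ∧ q ∣ (CP P).relIndex (NP P) ∧ q ∣ (P : Subgroup G).relIndex (CP P) := by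
  by_contra hno
  push Not at hno
  set a₀ := (P : Subgroup G).relIndex (CP P) with ha₀
  set e := (CP P).relIndex (NP P) with he
  have ha₀pos : a₀ ≠ 0 := by
    have : ((P : Subgroup G).subgroupOf (CP P)).index ≠ 0 := Subgroup.index_ne_zero_of_finite
    exact this
  have hG0 : Nat.card G ≠ 0 := Nat.card_pos.ne'
  have ha₀G : a₀ ∣ Nat.card G :=
    (Subgroup.relIndex_dvd_card _ _).trans (Subgroup.card_subgroup_dvd_card _)
  -- a₀ ≡ 1
  have ha₀1 : a₀ ≡ 1 [MOD p] := by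
    have hprod : ∏ q ∈ a₀.primeFactors, q ^ a₀.factorization q = a₀ :=
      Nat.prod_factorization_pow_eq_self ha₀pos
    rw [← hprod]
    apply prod_modEq_one
    intro q hq
    rw [Nat.mem_primeFactors] at hq
    obtain ⟨hqprime, hqa, _⟩ := hq
    haveI : Fact q.Prime := ⟨hqprime⟩
    obtain ⟨hqp, Q, y, hQN, _, _, _⟩ := h.exists_sylow_le_N hqprime hqa
    have hqe : ¬ q ∣ e := fun hqe => hno q hqprime hqe hqa
    have hcardQ : Nat.card (Q : Subgroup G) = q ^ (Nat.card G).factorization q :=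
      Q.card_eq_multiplicity
    -- |Q| ∣ a₀
    have h1 : Nat.card (Q : Subgroup G) ∣ Nat.card (NP P) := Subgroup.card_dvd_of_le hQN
    rw [h.card_N_eq, hcardQ] at h1
    obtain ⟨m, hm⟩ := IsPGroup.iff_card.mp P.isPGroup'
    rw [hm] at h1
    have hc1 : Nat.Coprime (q ^ (Nat.card G).factorization q) (p ^ m) :=
      Nat.Coprime.pow _ _ ((Nat.coprime_primes hqprime Fact.out).mpr hqp)
    have h2 : q ^ (Nat.card G).factorization q ∣ a₀ * e := hc1.dvd_of_dvd_mul_left h1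
    have hc2 : Nat.Coprime (q ^ (Nat.card G).factorization q) e :=
      Nat.Coprime.pow_left _ ((Nat.Prime.coprime_iff_not_dvd hqprime).mpr hqe)
    have h3 : q ^ (Nat.card G).factorization q ∣ a₀ := hc2.dvd_of_dvd_mul_right h2
    have h4 : (Nat.card G).factorization q ≤ a₀.factorization q :=
      (hqprime.pow_dvd_iff_le_factorization ha₀pos).mp h3
    have h5 : a₀.factorization q ≤ (Nat.card G).factorization q :=
      (Nat.factorization_le_iff_dvd ha₀pos hG0).mpr ha₀G q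
    have h6 : a₀.factorization q = (Nat.card G).factorization q := le_antisymm h5 h4
    rw [h6, ← hcardQ]
    exact h.card_sylow_modEq hqprime hqp Q
  have h1 := h.relIndex_P_N_modEq
  rw [← h.a0_mul_e] at h1
  have h2 : a₀ * e ≡ 1 * e [MOD p] := Nat.ModEq.mul_right _ ha₀1
  rw [one_mul] at h2
  have h3 : e ≡ 1 [MOD p] := h2.symm.trans h1
  have h4 := h.one_lt_e
  have h5 : e ≤ p - 1 := Nat.le_of_dvd (by have := h.three_le_p; omega) h.e_dvd
  have hp3 := h.three_le_p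
  unfold Nat.ModEq at h3
  rw [Nat.mod_eq_of_lt (by omega), Nat.mod_eq_of_lt (by omega)] at h3
  omega

/-- TI property of `C`. -/
theorem mem_N_of_conj_C (h : MC p G P) {x g : G} (hx : x ∈ CP P) (hx1 : x ≠ 1)
    (hgx : g * x * g⁻¹ ∈ CP P) : g ∈ NP P := by
  obtain ⟨b, c, hb, hc, hxbc, hpb, hpc⟩ := exists_pdecomp p x
  have hzle : Subgroup.zpowers x ≤ CP P := by rw [Subgroup.zpowers_le]; exact hx
  have hzle' : Subgroup.zpowers (g * x * g⁻¹) ≤ CP P := by rw [Subgroup.zpowers_le]; exact hgx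
  have hconj_mem : ∀ t ∈ Subgroup.zpowers x, g * t * g⁻¹ ∈ CP P := by
    intro t ht
    obtain ⟨i, rfl⟩ := Subgroup.mem_zpowers_iff.mp ht
    rw [← conj_zpow]
    exact hzle' (Subgroup.zpow_mem _ (Subgroup.mem_zpowers _) i)
  by_cases hb1 : b = 1
  · -- x = c is a p'-element
    rw [hb1, one_mul] at hxbc
    rw [← hxbc] at hpc
    have hcent := h.centralizer_eq_N hx hpc hx1
    have hpc' : (orderOf (g * x * g⁻¹)).Coprime p := by rw [orderOf_conj']; exact hpc
    have hgx1 : g * x * g⁻¹ ≠ 1 := by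
      intro h1
      apply hx1
      have : x = g⁻¹ * (g * x * g⁻¹) * g := by group
      rw [this, h1]; group
    have hcent' := h.centralizer_eq_N hgx hpc' hgx1
    apply mem_normalizer_of_conj_mem'
    intro t ht
    have htN : t ∈ Subgroup.centralizer {x} := by rw [hcent]; exact h.P_le_N ht
    have htx : x * t = t * x := (Subgroup.mem_centralizer_iff.mp htN) x rfl
    have hmem : g * t * g⁻¹ ∈ Subgroup.centralizer {g * x * g⁻¹} := by
      rw [Subgroup.mem_centralizer_iff]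
      intro s hs
      rw [Set.mem_singleton_iff] at hs
      rw [hs]
      calc g * x * g⁻¹ * (g * t * g⁻¹) = g * (x * t) * g⁻¹ := by group
        _ = g * (t * x) * g⁻¹ := by rw [htx]
        _ = g * t * g⁻¹ * (g * x * g⁻¹) := by group
    rw [hcent'] at hmem
    exact mem_sylow_of_pEl P hmem ((isPEl_of_mem_sylow P ht).conj g)
  · have hbP : b ∈ (P : Subgroup G) := mem_sylow_of_pEl P (h.C_le_N (hzle hb)) hpb
    have hgbP : g * b * g⁻¹ ∈ (P : Subgroup G) :=
      mem_sylow_of_pEl P (h.C_le_N (hconj_mem b hb)) (hpb.conj g)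
    exact h.mem_N_of_conj hbP hb1 hgbP

/-- an element of order `p` normalizing a nontrivial Sylow `q`-subgroup -/
theorem exists_z_normalizer (h : MC p G P) {q : ℕ} (hq : q.Prime) (hqp : q ≠ p) (Q : Sylow q G)
    (hQ : (Q : Subgroup G) ≠ ⊥) :
    ∃ z : G, orderOf z = p ∧ z ∈ Subgroup.normalizer ((Q : Subgroup G) : Set G) := by
  obtain ⟨g, hgN, hpg, hgC⟩ := h.exists_pEl_not_centralizing hq hqp Q hQ
  have hg1 : g ≠ 1 := by
    intro h1; apply hgC; rw [h1]; exact Subgroup.one_mem _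
  obtain ⟨k, hk⟩ := hpg
  have hk0 : k ≠ 0 := by
    intro h0
    rw [h0, pow_zero, orderOf_eq_one_iff] at hk
    exact hg1 hk
  have hpdvd : p ∣ orderOf g := by rw [hk]; exact dvd_pow_self p hk0
  exact ⟨g ^ (orderOf g / p), orderOf_pow_orderOf_div (orderOf_pos g).ne' hpdvd,
    Subgroup.pow_mem _ hgN _⟩

/-- (d): `Q ∩ C` and its `z`-conjugate meet trivially. -/
theorem eq_one_of_conj_mem_C (h : MC p G P) {q : ℕ} (hq : q.Prime) (hqp : q ≠ p) (Q : Sylow q G)
    (hQN : (Q : Subgroup G) ≤ NP P) {z : G} (hzo : orderOf z = p)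
    (hzN : z ∈ Subgroup.normalizer ((Q : Subgroup G) : Set G)) {y : G}
    (hyQ : y ∈ (Q : Subgroup G)) (hyC : y ∈ CP P) (hzy : z * y * z⁻¹ ∈ CP P) : y = 1 := by
  haveI : Fact q.Prime := ⟨hq⟩
  by_contra hy1
  have hQ : (Q : Subgroup G) ≠ ⊥ := by
    intro hbot; rw [hbot, Subgroup.mem_bot] at hyQ; exact hy1 hyQ
  have hzNP : z ∈ NP P := h.mem_N_of_conj_C hyC hy1 hzy
  have hzP : z ∈ (P : Subgroup G) := mem_sylow_of_pEl P hzNP ⟨1, by rw [hzo, pow_one]⟩
  have hpQ : ¬ p ∣ Nat.card (Q : Subgroup G) := by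
    obtain ⟨m, hm⟩ := IsPGroup.iff_card.mp Q.isPGroup'
    rw [hm]
    intro hdvd
    have := (Nat.Prime.dvd_of_dvd_pow Fact.out hdvd)
    exact hqp ((Nat.prime_dvd_prime_iff_eq Fact.out hq).mp this).symm
  have hdisj : (P : Subgroup G) ⊓ (Q : Subgroup G) = ⊥ := by
    apply Subgroup.inf_eq_bot_of_coprime
    obtain ⟨m, hm⟩ := IsPGroup.iff_card.mp P.isPGroup'
    rw [hm]
    exact Nat.Coprime.pow_left m ((Nat.Prime.coprime_iff_not_dvd Fact.out).mpr hpQ)
  have h1 : z * y * z⁻¹ * y⁻¹ ∈ (Q : Subgroup G) :=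
    Subgroup.mul_mem _ ((Subgroup.mem_set_normalizer_iff.mp hzN y).mp hyQ)
      (Subgroup.inv_mem _ hyQ)
  have h2 : z * y * z⁻¹ * y⁻¹ ∈ (P : Subgroup G) := by
    have e : z * y * z⁻¹ * y⁻¹ = z * (y * z⁻¹ * y⁻¹) := by group
    rw [e]
    exact Subgroup.mul_mem _ hzP (h.conj_mem_P (hQN hyQ) (Subgroup.inv_mem _ hzP))
  have h3 : z * y * z⁻¹ * y⁻¹ ∈ (P : Subgroup G) ⊓ (Q : Subgroup G) := ⟨h2, h1⟩
  rw [hdisj, Subgroup.mem_bot] at h3
  have h4 : z * y * z⁻¹ = y := mul_inv_eq_one.mp h3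
  exact hy1 (h.fpf hq hqp Q hQ hzo hzN y hyQ h4)

/-- (b): a Sylow `q`-subgroup inside `N` is not inside `C` when `q ∣ |N : C|`. -/
theorem exists_not_mem_C (h : MC p G P) {q : ℕ} (hq : q.Prime) (Q : Sylow q G)
    (hQN : (Q : Subgroup G) ≤ NP P) (hqe : q ∣ (CP P).relIndex (NP P)) :
    ∃ x ∈ (Q : Subgroup G), x ∉ CP P := by
  haveI : Fact q.Prime := ⟨hq⟩
  by_contra hno
  push Not at hno
  have hQC : (Q : Subgroup G) ≤ CP P := hno
  have hG0 : Nat.card G ≠ 0 := Nat.card_pos.ne'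
  have hcardQ : Nat.card (Q : Subgroup G) = q ^ (Nat.card G).factorization q :=
    Q.card_eq_multiplicity
  have h1 : q ^ (Nat.card G).factorization q ∣ Nat.card (CP P) := by
    rw [← hcardQ]; exact Subgroup.card_dvd_of_le hQC
  have h2 : q ^ ((Nat.card G).factorization q + 1) ∣ Nat.card (NP P) := by
    rw [h.card_N_eq', pow_succ]
    exact Nat.mul_dvd_mul h1 hqe
  have h3 : q ^ ((Nat.card G).factorization q + 1) ∣ Nat.card G :=
    h2.trans (Subgroup.card_subgroup_dvd_card _)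
  have := (hq.pow_dvd_iff_le_factorization hG0).mp h3
  omega

end MC

end Cfsg.Agent.Lib.H21.Cyc
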