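import Mathlib
import Cfsg.Agent.Lib.H21.CycG

/-!
# S4016: minimal counterexample analysis, part H (helper21)

The `Ω`-argument: `p = 3`, `|N : C| = 2`.
-/

set_option autoImplicit false

namespace Cfsg.Agent.Lib.H21.Cyc

open Cfsg.Agent.Lib.L0
open scoped Pointwise

universe u

section omega

variable {G : Type*} [Group G]

/-- the subgroup of elements of order dividing `q` in an abelian subgroup. -/
def omegaSub (Q : Subgroup G) (hQ : ∀ a ∈ Q, ∀ b ∈ Q, a * b = b * a) (q : ℕ) : Subgroup G where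
  carrier := {t | t ∈ Q ∧ t ^ q = 1}
  one_mem' := ⟨Q.one_mem, one_pow q⟩
  mul_mem' := by
    intro a b ha hb
    refine ⟨Q.mul_mem ha.1 hb.1, ?_⟩
    have hc : Commute a b := hQ a ha.1 b hb.1
    rw [hc.mul_pow, ha.2, hb.2, one_mul]
  inv_mem' := by
    intro a ha
    exact ⟨Q.inv_mem ha.1, by rw [inv_pow, ha.2, inv_one]⟩

theorem mem_omegaSub {Q : Subgroup G} {hQ : ∀ a ∈ Q, ∀ b ∈ Q, a * b = b * a} {q : ℕ} {t : G} :
    t ∈ omegaSub Q hQ q ↔ t ∈ Q ∧ t ^ q = 1 := Iff.rfl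

/-- A group `Ω` of exponent `q` acting on a group `Z` of prime order `p`, with the kernel `K`
of the action meeting a conjugate of itself (inside `Ω`) trivially, has order at most `q²`. -/
theorem card_le_sq_of_cyclic_action [Finite G] {p q : ℕ} [Fact p.Prime] (hq : q.Prime)
    {z₀ : G} (hz₀ : orderOf z₀ = p) (Ω : Subgroup G)
    (hΩN : Ω ≤ Subgroup.normalizer (Subgroup.zpowers z₀ : Set G))
    (hΩq : ∀ t ∈ Ω, t ^ q = 1)
    (z : G) (hzΩ : ∀ t ∈ Ω, z * t * z⁻¹ ∈ Ω)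
    (hd : ∀ t ∈ Ω, t ∈ Subgroup.centralizer (Subgroup.zpowers z₀ : Set G) →
      z * t * z⁻¹ ∈ Subgroup.centralizer (Subgroup.zpowers z₀ : Set G) → t = 1) :
    Nat.card Ω ≤ q * q := by
  set Z := Subgroup.zpowers z₀ with hZ
  let ψ : Ω →* MulAut Z := Z.normalizerMonoidHom.comp (Subgroup.inclusion hΩN)
  have hker : ∀ t : Ω, t ∈ ψ.ker ↔ (t : G) ∈ Subgroup.centralizer (Z : Set G) := by
    intro t
    have h1 : t ∈ ψ.ker ↔ Subgroup.inclusion hΩN t ∈ Z.normalizerMonoidHom.ker := by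
      rw [MonoidHom.mem_ker, MonoidHom.mem_ker]; rfl
    rw [h1, Subgroup.normalizerMonoidHom_ker, Subgroup.mem_subgroupOf]
    rfl
  have hcardZ : Nat.card Z = p := by rw [hZ, Nat.card_zpowers, hz₀]
  haveI : Fact (Nat.card Z).Prime := ⟨by rw [hcardZ]; exact Fact.out⟩
  haveI : IsCyclic Z := isCyclic_of_prime_card hcardZ
  haveI : IsCyclic (MulAut Z) := (IsCyclic.mulAutMulEquiv Z).isCyclic.mpr inferInstance
  have hR : Nat.card ψ.range ≤ q := by
    haveI : IsCyclic ψ.range := Subgroup.isCyclic _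
    obtain ⟨g, hg⟩ := IsCyclic.exists_generator (α := ψ.range)
    have hgo : orderOf g = Nat.card ψ.range := orderOf_eq_card_of_forall_mem_zpowers hg
    have hgq : g ^ q = 1 := by
      obtain ⟨t, ht⟩ := g.2
      apply Subtype.ext
      rw [Subgroup.coe_pow, ← ht, ← map_pow]
      have : t ^ q = 1 := Subtype.ext (by rw [Subgroup.coe_pow]; exact hΩq t t.2)
      rw [this, map_one]; rfl
    rw [← hgo]
    exact Nat.le_of_dvd hq.pos (orderOf_dvd_of_pow_eq_one hgq)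
  have hK : Nat.card ψ.ker ≤ Nat.card ψ.range := by
    apply Nat.card_le_card_of_injective
      (fun k : ψ.ker => (⟨ψ ⟨z * k.1.1 * z⁻¹, hzΩ _ k.1.2⟩, ⟨_, rfl⟩⟩ : ψ.range))
    intro k k' hkk
    have h1 : ψ ⟨z * k.1.1 * z⁻¹, hzΩ _ k.1.2⟩ = ψ ⟨z * k'.1.1 * z⁻¹, hzΩ _ k'.1.2⟩ :=
      congrArg Subtype.val hkk
    -- the quotient lies in the kernel
    have h2 : (⟨z * k.1.1 * z⁻¹, hzΩ _ k.1.2⟩ : Ω) * (⟨z * k'.1.1 * z⁻¹, hzΩ _ k'.1.2⟩ : Ω)⁻¹ ∈
        ψ.ker := by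
      rw [MonoidHom.mem_ker, map_mul, map_inv, h1, mul_inv_cancel]
    rw [hker] at h2
    have h3 : z * (k.1.1 * k'.1.1⁻¹) * z⁻¹ ∈ Subgroup.centralizer (Z : Set G) := by
      have e : z * (k.1.1 * k'.1.1⁻¹) * z⁻¹ = (z * k.1.1 * z⁻¹) * (z * k'.1.1 * z⁻¹)⁻¹ := by group
      rw [e]; exact h2
    have h4 : k.1.1 * k'.1.1⁻¹ ∈ Subgroup.centralizer (Z : Set G) :=
      Subgroup.mul_mem _ ((hker k.1).mp k.2) (Subgroup.inv_mem _ ((hker k'.1).mp k'.2))
    have h5 := hd _ (Ω.mul_mem k.1.2 (Ω.inv_mem k'.1.2)) h4 h3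
    apply Subtype.ext
    apply Subtype.ext
    exact mul_inv_eq_one.mp h5
  have hcard : Nat.card Ω = Nat.card ψ.ker * Nat.card ψ.range := by
    rw [← Subgroup.index_ker]
    exact (Subgroup.card_mul_index _).symm
  calc Nat.card Ω = Nat.card ψ.ker * Nat.card ψ.range := hcard
    _ ≤ Nat.card ψ.range * Nat.card ψ.range := Nat.mul_le_mul_right _ hK
    _ ≤ q * q := Nat.mul_le_mul hR hR

end omega

/-- number theory behind the `Ω`-argument -/
theorem three_of_arith {p q n : ℕ} (hp : p.Prime) (hq : q.Prime) (hqp : q ∣ p - 1) (hp3 : 3 ≤ p)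
    (hn1 : q ∣ n) (hn2 : n ≤ q * q) (hnpow : ∃ j, n = q ^ j) (hmod : n ≡ 1 [MOD p]) :
    p = 3 ∧ q = 2 := by
  obtain ⟨j, hj⟩ := hnpow
  have hq2 := hq.two_le
  have hqle : q ≤ p - 1 := Nat.le_of_dvd (by omega) hqp
  rcases Nat.lt_or_ge j 3 with hj3 | hj3
  · interval_cases j
    · exfalso
      rw [pow_zero] at hj
      rw [hj] at hn1
      have := Nat.le_of_dvd (by norm_num) hn1
      omega
    · exfalso
      rw [pow_one] at hj
      rw [hj] at hmod
      unfold Nat.ModEq at hmod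
      rw [Nat.mod_eq_of_lt (by omega), Nat.mod_eq_of_lt (by omega)] at hmod
      omega
    · rw [pow_two] at hj
      rw [hj] at hmod
      have h1 : p ∣ q * q - 1 := (Nat.modEq_iff_dvd' (by nlinarith)).mp hmod.symm
      obtain ⟨k, rfl⟩ : ∃ k, q = k + 1 := ⟨q - 1, by omega⟩
      have e : (k + 1) * (k + 1) - 1 = k * (k + 2) := by
        have : (k + 1) * (k + 1) = k * (k + 2) + 1 := by ring
        omega
      rw [e] at h1
      rcases hp.dvd_mul.mp h1 with h2 | h2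
      · exfalso
        have := Nat.le_of_dvd (by omega) h2
        omega
      · have h3 := Nat.le_of_dvd (by omega) h2
        have hpk : p = k + 2 := by omega
        rcases hq.eq_two_or_odd with h4 | h4
        · constructor <;> omega
        · exfalso
          rcases hp.eq_two_or_odd with h5 | h5
          · omega
          · omega
  · exfalso
    have h1 : q ^ 3 ≤ q ^ j := Nat.pow_le_pow_right (by omega) hj3
    have h2 : q ^ 3 = q * q * q := by ring
    have h3 : q * q * 2 ≤ q * q * q := Nat.mul_le_mul_left _ hq2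
    have h4 : 0 < q * q := Nat.mul_pos (by omega) (by omega)
    omega

namespace MC

variable {p : ℕ} [Fact p.Prime] {G : Type u} [Group G] [Finite G] {P : Sylow p G}

theorem not_dvd_card_sylow (_h : MC p G P) {q : ℕ} (hq : q.Prime) (hqp : q ≠ p) (Q : Sylow q G) :
    ¬ p ∣ Nat.card (Q : Subgroup G) := by
  haveI : Fact q.Prime := ⟨hq⟩
  obtain ⟨m, hm⟩ := IsPGroup.iff_card.mp Q.isPGroup'
  rw [hm]
  intro hdvd
  have := (Nat.Prime.dvd_of_dvd_pow Fact.out hdvd)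
  exact hqp ((Nat.prime_dvd_prime_iff_eq Fact.out hq).mp this).symm

theorem sylow_comm (h : MC p G P) {q : ℕ} (hq : q.Prime) (hqp : q ≠ p) (Q : Sylow q G) :
    ∀ a ∈ (Q : Subgroup G), ∀ b ∈ (Q : Subgroup G), a * b = b * a := by
  intro a ha b hb
  have hQab := h.ab (Q : Subgroup G) (h.not_dvd_card_sylow hq hqp Q)
  exact congrArg Subtype.val (hQab.is_comm.comm ⟨a, ha⟩ ⟨b, hb⟩)

/-- the `Ω`-argument: `p = 3`. -/
theorem p_eq_three (h : MC p G P) : p = 3 := by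
  obtain ⟨q, hq, hqe, hqa⟩ := h.exists_common_prime
  haveI : Fact q.Prime := ⟨hq⟩
  obtain ⟨hqp, Q, y, hQN, hyQ, hyC, hyo⟩ := h.exists_sylow_le_N hq hqa
  have hy1 : y ≠ 1 := by
    intro h1; rw [h1, orderOf_one] at hyo; exact hq.one_lt.ne hyo
  have hQ : (Q : Subgroup G) ≠ ⊥ := by
    intro hbot; rw [hbot, Subgroup.mem_bot] at hyQ; exact hy1 hyQ
  obtain ⟨z, hzo, hzN⟩ := h.exists_z_normalizer hq hqp Q hQ
  have hQc := h.sylow_comm hq hqp Q
  set Ω := omegaSub (Q : Subgroup G) hQc q with hΩ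
  obtain ⟨z₀, hz₀P, hz₀o⟩ := h.exists_z
  have hΩN : Ω ≤ Subgroup.normalizer (Subgroup.zpowers z₀ : Set G) := by
    rw [h.NZ_eq hz₀P hz₀o]
    intro t ht
    exact hQN ht.1
  have hzΩ : ∀ t ∈ Ω, z * t * z⁻¹ ∈ Ω := by
    intro t ht
    refine ⟨(Subgroup.mem_set_normalizer_iff.mp hzN t).mp ht.1, ?_⟩
    rw [conj_pow, ht.2]; group
  have hbound : Nat.card Ω ≤ q * q := by
    apply card_le_sq_of_cyclic_action hq hz₀o Ω hΩN (fun t ht => ht.2) z hzΩ
    rw [h.CZ_eq hz₀P hz₀o]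
    intro t ht htC hztC
    exact h.eq_one_of_conj_mem_C hq hqp Q hQN hzo hzN ht.1 htC hztC
  have hzNΩ : z ∈ Subgroup.normalizer (Ω : Set G) := mem_normalizer_of_conj_mem' Ω z hzΩ
  have hmod : Nat.card Ω ≡ 1 [MOD p] :=
    card_modEq_one_of_fpf hzo Ω hzNΩ (fun t ht hfix => h.fpf hq hqp Q hQ hzo hzN t ht.1 hfix)
  have hyΩ : y ∈ Ω := ⟨hyQ, by rw [← hyo]; exact pow_orderOf_eq_one y⟩
  have hqdvd : q ∣ Nat.card Ω := by
    have := Subgroup.orderOf_dvd_natCard _ hyΩ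
    rwa [hyo] at this
  have hle : Ω ≤ (Q : Subgroup G) := fun t ht => ht.1
  have hpow : ∃ j, Nat.card Ω = q ^ j := IsPGroup.iff_card.mp (Q.isPGroup'.to_le hle)
  exact (three_of_arith Fact.out hq (hqe.trans h.e_dvd) h.three_le_p hqdvd hbound hpow hmod).1

theorem e_eq_two (h : MC p G P) : (CP P).relIndex (NP P) = 2 := by
  have h1 := h.e_dvd
  have h2 := h.one_lt_e
  have h3 := h.p_eq_three
  generalize (CP P).relIndex (NP P) = e at h1 h2 ⊢
  have h4 : p - 1 = 2 := by omega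
  rw [h4] at h1
  have := Nat.le_of_dvd (by norm_num) h1
  omega

theorem two_dvd_a0 (h : MC p G P) : 2 ∣ (P : Subgroup G).relIndex (CP P) := by
  obtain ⟨q, hq, hqe, hqa⟩ := h.exists_common_prime
  rw [h.e_eq_two] at hqe
  have : q = 2 := (Nat.prime_dvd_prime_iff_eq hq Nat.prime_two).mp hqe
  rwa [this] at hqa

theorem two_ne_p (h : MC p G P) : 2 ≠ p := by rw [h.p_eq_three]; norm_num

end MC

end Cfsg.Agent.Lib.H21.Cyc
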