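import Mathlib
import Cfsg.Agent.Lib.H21.CycH

/-!
# S4016: minimal counterexample analysis, part I (helper21)

With `p = 3`, `|N : C| = 2`: involutions; final contradiction through the friendship theorem.
-/

set_option autoImplicit false

namespace Cfsg.Agent.Lib.H21.Cyc

open Cfsg.Agent.Lib.L0
open Cfsg.Agent.Lib.H21.InvFriend
open scoped Pointwise

universe u

section general

variable {G : Type*} [Group G] [Finite G]

theorem mem_zpowers_involution' {u x : G} (hu : orderOf u = 2)
    (hx : x ∈ Subgroup.zpowers u) : x = 1 ∨ x = u := by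
  obtain ⟨i, rfl⟩ := Subgroup.mem_zpowers_iff.mp hx
  rcases Int.even_or_odd' i with ⟨k, rfl | rfl⟩
  · left; rw [zpow_mul, zpow_two, inv_mul_self hu, one_zpow]
  · right; rw [zpow_add, zpow_mul, zpow_two, inv_mul_self hu, one_zpow, one_mul, zpow_one]

theorem isPGroup_zpowers_involution {u : G} (hu : orderOf u = 2) :
    IsPGroup 2 (Subgroup.zpowers u) := by
  apply IsPGroup.of_card (n := 1)
  rw [Nat.card_zpowers, hu, pow_one]

/-- three pairwise commuting distinct involutions in a group whose `2`-subgroups have order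
dividing `4`: the third is the product of the other two. -/
theorem c6_of_two_group_card (h2 : ∀ T : Subgroup G, IsPGroup 2 T → Nat.card T ∣ 4)
    (u u' t : G) (hu : orderOf u = 2) (hu' : orderOf u' = 2)
    (ht : orderOf t = 2) (huu' : Commute u u') (htu : Commute t u) (htu' : Commute t u')
    (hne : u ≠ u') (hne1 : t ≠ u) (hne2 : t ≠ u') : t = u * u' := by
  haveI : Fact (Nat.Prime 2) := ⟨Nat.prime_two⟩
  have hU := isPGroup_zpowers_involution hu
  have hU' := isPGroup_zpowers_involution hu'
  have hTt := isPGroup_zpowers_involution ht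
  -- centralizing implies normalizing
  have hle1 : Subgroup.zpowers u ≤ Subgroup.normalizer (Subgroup.zpowers u' : Set G) := by
    rw [Subgroup.zpowers_le]
    apply Subgroup.centralizer_le_normalizer
    rw [Subgroup.mem_centralizer_iff]
    intro y hy
    obtain ⟨i, rfl⟩ := Subgroup.mem_zpowers_iff.mp hy
    exact (huu'.zpow_right i).eq.symm
  set K := Subgroup.zpowers u ⊔ Subgroup.zpowers u' with hK
  have hKp : IsPGroup 2 K := IsPGroup.to_sup_of_normal_right' hU hU' hle1
  have hle2 : Subgroup.zpowers t ≤ Subgroup.normalizer (K : Set G) := by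
    rw [Subgroup.zpowers_le]
    apply Subgroup.centralizer_le_normalizer
    rw [Subgroup.mem_centralizer_iff]
    have hcl : K ≤ Subgroup.centralizer {t} := by
      rw [hK, sup_le_iff, Subgroup.zpowers_le, Subgroup.zpowers_le]
      constructor
      · rw [Subgroup.mem_centralizer_iff]
        intro y hy; rw [Set.mem_singleton_iff] at hy; rw [hy]; exact htu.eq
      · rw [Subgroup.mem_centralizer_iff]
        intro y hy; rw [Set.mem_singleton_iff] at hy; rw [hy]; exact htu'.eq
    intro y hy
    have := (Subgroup.mem_centralizer_iff.mp (hcl hy)) t rfl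
    exact this.symm
  have hTp : IsPGroup 2 (Subgroup.zpowers t ⊔ K : Subgroup G) :=
    IsPGroup.to_sup_of_normal_right' hTt hKp hle2
  have hcardT := h2 _ hTp
  have hcardK := h2 _ hKp
  -- K has order 4
  have hlt : Subgroup.zpowers u < K := by
    rw [lt_iff_le_and_ne]
    refine ⟨le_sup_left, ?_⟩
    intro heq
    have : u' ∈ Subgroup.zpowers u := by
      rw [heq]; exact (le_sup_right : Subgroup.zpowers u' ≤ K) (Subgroup.mem_zpowers u')
    rcases mem_zpowers_involution' hu this with h1 | h1
    · exact inv_ne_one hu' h1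
    · exact hne h1.symm
  have hK4 : Nat.card K = 4 := by
    have h1 : Nat.card (Subgroup.zpowers u) < Nat.card K := by
      have hle := Subgroup.card_le_of_le hlt.le
      rcases hle.lt_or_eq with h2 | h2
      · exact h2
      · exact absurd (Subgroup.eq_of_le_of_card_ge hlt.le h2.ge) hlt.ne
    rw [Nat.card_zpowers, hu] at h1
    have h2 : Nat.card K ≤ 4 := Nat.le_of_dvd (by norm_num) hcardK
    have h3 : Nat.card K ≠ 3 := by
      intro h3; rw [h3] at hcardK; omega
    omega
  have hKeq : K = Subgroup.zpowers t ⊔ K := by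
    apply Subgroup.eq_of_le_of_card_ge le_sup_right
    rw [hK4]
    exact Nat.le_of_dvd (by norm_num) hcardT
  have htK : t ∈ K := by
    rw [hKeq]; exact (le_sup_left : Subgroup.zpowers t ≤ _) (Subgroup.mem_zpowers t)
  -- elements of K
  have hKmem : ∀ x ∈ K, x = 1 ∨ x = u ∨ x = u' ∨ x = u * u' := by
    intro x hx
    -- use explicit 4-element subgroup
    let L : Subgroup G :=
      { carrier := {x | x = 1 ∨ x = u ∨ x = u' ∨ x = u * u'}
        one_mem' := Or.inl rfl
        mul_mem' := by
          have e1 := inv_mul_self hu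
          have e2 := inv_mul_self hu'
          have e3 := huu'.eq
          intro a b ha hb
          rcases ha with ha | ha | ha | ha <;> rcases hb with hb | hb | hb | hb <;> rw [ha, hb]
          · left; rw [one_mul]
          · right; left; rw [one_mul]
          · right; right; left; rw [one_mul]
          · right; right; right; rw [one_mul]
          · right; left; rw [mul_one]
          · left; exact e1
          · right; right; right; rfl
          · right; right; left; rw [← mul_assoc, e1, one_mul]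
          · right; right; left; rw [mul_one]
          · right; right; right; exact e3.symm
          · left; exact e2
          · right; left; rw [← mul_assoc, ← e3, mul_assoc, e2, mul_one]
          · right; right; right; rw [mul_one]
          · right; right; left
            calc u * u' * u = u * (u' * u) := by group
              _ = u * (u * u') := by rw [e3]
              _ = (u * u) * u' := by group
              _ = u' := by rw [e1, one_mul]
          · right; left; rw [mul_assoc, e2, mul_one]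
          · left
            calc u * u' * (u * u') = u * (u' * u) * u' := by group
              _ = u * (u * u') * u' := by rw [e3]
              _ = (u * u) * (u' * u') := by group
              _ = 1 := by rw [e1, e2, one_mul]
        inv_mem' := by
          intro a ha
          rcases ha with ha | ha | ha | ha <;> rw [ha]
          · left; exact inv_one
          · right; left; exact inv_inv_eq hu
          · right; right; left; exact inv_inv_eq hu'
          · right; right; right
            rw [mul_inv_rev, inv_inv_eq hu, inv_inv_eq hu', huu'.eq] }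
    have hKL : K ≤ L := by
      rw [hK, sup_le_iff, Subgroup.zpowers_le, Subgroup.zpowers_le]
      exact ⟨Or.inr (Or.inl rfl), Or.inr (Or.inr (Or.inl rfl))⟩
    exact hKL hx
  rcases hKmem t htK with h1 | h1 | h1 | h1
  · exact absurd h1 (inv_ne_one ht)
  · exact absurd h1 hne1
  · exact absurd h1 hne2
  · exact h1

theorem ncard_four_le (a b c d : G) : ({a, b, c, d} : Set G).ncard ≤ 4 := by
  have h1 := Set.ncard_insert_le a ({b, c, d} : Set G)
  have h2 := Set.ncard_insert_le b ({c, d} : Set G)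
  have h3 := Set.ncard_insert_le c ({d} : Set G)
  have h4 : ({d} : Set G).ncard = 1 := Set.ncard_singleton d
  omega

end general

namespace MC

variable {p : ℕ} [Fact p.Prime] {G : Type u} [Group G] [Finite G] {P : Sylow p G}

/-- index-two property -/
theorem mul_mem_C (h : MC p G P) {a b : G} (ha : a ∈ NP P) (hb : b ∈ NP P)
    (haC : a ∉ CP P) (hbC : b ∉ CP P) : a * b ∈ CP P := by
  have hidx : ((CP P).subgroupOf (NP P)).index = 2 := h.e_eq_two
  have hmem : (⟨a, ha⟩ * ⟨b, hb⟩ : NP P) ∈ (CP P).subgroupOf (NP P) := by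
    rw [Subgroup.mul_mem_iff_of_index_two hidx]
    constructor
    · intro h1; exact absurd (Subgroup.mem_subgroupOf.mp h1) haC
    · intro h1; exact absurd (Subgroup.mem_subgroupOf.mp h1) hbC
  exact Subgroup.mem_subgroupOf.mp hmem

/-- (g1): a Sylow `2`-subgroup inside `N` meets `C` in at most one nontrivial element. -/
theorem unique_in_sylow_two (h : MC p G P) (Q : Sylow 2 G) (hQN : (Q : Subgroup G) ≤ NP P)
    {s t : G} (hs : s ∈ (Q : Subgroup G)) (ht : t ∈ (Q : Subgroup G)) (hsC : s ∈ CP P)
    (htC : t ∈ CP P) (hs1 : s ≠ 1) (ht1 : t ≠ 1) : s = t := by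
  have hQ : (Q : Subgroup G) ≠ ⊥ := by
    intro hbot; rw [hbot, Subgroup.mem_bot] at hs; exact hs1 hs
  obtain ⟨z, hzo, hzN⟩ := h.exists_z_normalizer Nat.prime_two h.two_ne_p Q hQ
  have hconjQ : ∀ x ∈ (Q : Subgroup G), z * x * z⁻¹ ∈ (Q : Subgroup G) := fun x hx =>
    (Subgroup.mem_set_normalizer_iff.mp hzN x).mp hx
  have hsz : z * s * z⁻¹ ∉ CP P := fun hc =>
    hs1 (h.eq_one_of_conj_mem_C Nat.prime_two h.two_ne_p Q hQN hzo hzN hs hsC hc)
  have htz : z * t * z⁻¹ ∉ CP P := fun hc =>
    ht1 (h.eq_one_of_conj_mem_C Nat.prime_two h.two_ne_p Q hQN hzo hzN ht htC hc)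
  have htz' : (z * t * z⁻¹)⁻¹ ∉ CP P := fun hc => htz (by simpa using Subgroup.inv_mem _ hc)
  have h1 : (z * s * z⁻¹) * (z * t * z⁻¹)⁻¹ ∈ CP P :=
    h.mul_mem_C (hQN (hconjQ s hs)) (Subgroup.inv_mem _ (hQN (hconjQ t ht))) hsz htz'
  have e : (z * s * z⁻¹) * (z * t * z⁻¹)⁻¹ = z * (s * t⁻¹) * z⁻¹ := by group
  rw [e] at h1
  have h2 := h.eq_one_of_conj_mem_C Nat.prime_two h.two_ne_p Q hQN hzo hzN
    (Subgroup.mul_mem _ hs (Subgroup.inv_mem _ ht))
    (Subgroup.mul_mem _ hsC (Subgroup.inv_mem _ htC)) h1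
  exact mul_inv_eq_one.mp h2

theorem exists_involution (h : MC p G P) :
    ∃ (Q : Sylow 2 G) (v : G), (Q : Subgroup G) ≤ NP P ∧ v ∈ (Q : Subgroup G) ∧
      v ∈ CP P ∧ orderOf v = 2 := by
  obtain ⟨_, Q, y, hQN, hyQ, hyC, hyo⟩ := h.exists_sylow_le_N Nat.prime_two h.two_dvd_a0
  exact ⟨Q, y, hQN, hyQ, hyC, hyo⟩

theorem card_sylow_two_le (h : MC p G P) (Q : Sylow 2 G) (hQN : (Q : Subgroup G) ≤ NP P)
    {v : G} (hvQ : v ∈ (Q : Subgroup G)) (hvC : v ∈ CP P) (hv : orderOf v = 2) :
    Nat.card (Q : Subgroup G) ≤ 4 := by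
  have hv1 : v ≠ 1 := inv_ne_one hv
  have hC : ∀ x ∈ (Q : Subgroup G), x ∈ CP P → x = 1 ∨ x = v := by
    intro x hx hxC
    by_cases hx1 : x = 1
    · exact Or.inl hx1
    · exact Or.inr (h.unique_in_sylow_two Q hQN hx hvQ hxC hvC hx1 hv1)
  have hsub : ∃ a₁ : G, ((Q : Subgroup G) : Set G) ⊆ {1, v, a₁, v * a₁} := by
    by_cases hex : ∃ a₁ ∈ (Q : Subgroup G), a₁ ∉ CP P
    · obtain ⟨a₁, ha₁Q, ha₁C⟩ := hex
      refine ⟨a₁, ?_⟩
      intro x hx
      have hx : x ∈ (Q : Subgroup G) := hx
      by_cases hxC : x ∈ CP P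
      · rcases hC x hx hxC with h1 | h1
        · rw [h1]; simp
        · rw [h1]; simp
      · have ha₁C' : a₁⁻¹ ∉ CP P := fun hc => ha₁C (by simpa using Subgroup.inv_mem _ hc)
        have h1 : x * a₁⁻¹ ∈ CP P :=
          h.mul_mem_C (hQN hx) (Subgroup.inv_mem _ (hQN ha₁Q)) hxC ha₁C'
        rcases hC _ (Subgroup.mul_mem _ hx (Subgroup.inv_mem _ ha₁Q)) h1 with h2 | h2
        · have : x = a₁ := mul_inv_eq_one.mp h2
          rw [this]; simp
        · have : x = v * a₁ := by rw [← h2]; group
          rw [this]; simp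
    · push Not at hex
      refine ⟨1, ?_⟩
      intro x hx
      have hx : x ∈ (Q : Subgroup G) := hx
      rcases hC x hx (hex x hx) with h1 | h1
      · rw [h1]; simp
      · rw [h1]; simp
  obtain ⟨a₁, ha₁⟩ := hsub
  have h1 : Nat.card (Q : Subgroup G) = ((Q : Subgroup G) : Set G).ncard :=
    Nat.card_coe_set_eq _
  rw [h1]
  exact (Set.ncard_le_ncard ha₁ (Set.toFinite _)).trans (ncard_four_le _ _ _ _)

/-- every `2`-subgroup has order dividing `4`. -/
theorem two_group_card (h : MC p G P) (T : Subgroup G) (hT : IsPGroup 2 T) :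
    Nat.card T ∣ 4 := by
  obtain ⟨Q₀, v, hQN, hvQ, hvC, hv⟩ := h.exists_involution
  have h1 := h.card_sylow_two_le Q₀ hQN hvQ hvC hv
  obtain ⟨Q', hQ'⟩ := hT.exists_le_sylow
  have h2 : Nat.card (Q' : Subgroup G) = Nat.card (Q₀ : Subgroup G) := by
    rw [Q'.card_eq_multiplicity, Q₀.card_eq_multiplicity]
  have h3 : Nat.card T ∣ Nat.card (Q' : Subgroup G) := Subgroup.card_dvd_of_le hQ'
  rw [h2] at h3
  obtain ⟨k, hk⟩ := IsPGroup.iff_card.mp Q₀.isPGroup'
  rw [hk] at h1 h3
  have hk2 : k ≤ 2 := by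
    by_contra hc
    have : 2 ^ 3 ≤ 2 ^ k := Nat.pow_le_pow_right (by norm_num) (by omega)
    omega
  exact h3.trans (pow_dvd_pow 2 hk2)

theorem two_coprime (h : MC p G P) {v : G} (hv : orderOf v = 2) : (orderOf v).Coprime p := by
  rw [hv]
  exact (Nat.coprime_primes Nat.prime_two Fact.out).mpr h.two_ne_p

theorem centralizer_involution (h : MC p G P) {v : G} (hv : orderOf v = 2) (hvC : v ∈ CP P) :
    Subgroup.centralizer {v} = NP P :=
  h.centralizer_eq_N hvC (h.two_coprime hv) (inv_ne_one hv)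

/-- c1: uniqueness of the involution in `C`. -/
theorem involution_unique (h : MC p G P) {v c : G} (hv : orderOf v = 2) (hvC : v ∈ CP P)
    (hc : orderOf c = 2) (hcC : c ∈ CP P) : c = v := by
  have hcomm : Commute c v := h.commute_of_mem_C hvC (h.two_coprime hv) (h.C_le_N hcC)
  have hle1 : Subgroup.zpowers c ≤ Subgroup.normalizer (Subgroup.zpowers v : Set G) := by
    rw [Subgroup.zpowers_le]
    apply Subgroup.centralizer_le_normalizer
    rw [Subgroup.mem_centralizer_iff]
    intro y hy
    obtain ⟨i, rfl⟩ := Subgroup.mem_zpowers_iff.mp hy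
    exact (hcomm.zpow_right i).eq.symm
  have hT : IsPGroup 2 (Subgroup.zpowers c ⊔ Subgroup.zpowers v : Subgroup G) :=
    IsPGroup.to_sup_of_normal_right' (isPGroup_zpowers_involution hc)
      (isPGroup_zpowers_involution hv) hle1
  obtain ⟨Q, hQ⟩ := hT.exists_le_sylow
  have hcQ : c ∈ (Q : Subgroup G) :=
    hQ ((le_sup_left : Subgroup.zpowers c ≤ _) (Subgroup.mem_zpowers c))
  have hvQ : v ∈ (Q : Subgroup G) :=
    hQ ((le_sup_right : Subgroup.zpowers v ≤ _) (Subgroup.mem_zpowers v))
  have hQc := h.sylow_comm Nat.prime_two h.two_ne_p Q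
  have hQN : (Q : Subgroup G) ≤ NP P := by
    rw [← h.centralizer_involution hv hvC]
    intro x hx
    rw [Subgroup.mem_centralizer_iff]
    intro t ht
    rw [Set.mem_singleton_iff] at ht
    rw [ht]
    exact hQc v hvQ x hx
  exact h.unique_in_sylow_two Q hQN hcQ hvQ hcC hvC (inv_ne_one hc) (inv_ne_one hv)

theorem c2 (h : MC p G P) {v : G} (hv : orderOf v = 2) (hvC : v ∈ CP P) (g x : G)
    (hx : x ∈ CP P) (hx1 : x ≠ 1) (hgx : g * x * g⁻¹ ∈ CP P) : Commute g v :=
  h.commute_of_mem_C hvC (h.two_coprime hv) (h.mem_N_of_conj_C hx hx1 hgx)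

theorem mem_N_of_commute (h : MC p G P) {v : G} (hv : orderOf v = 2) (hvC : v ∈ CP P) {a : G}
    (ha : Commute a v) : a ∈ NP P := by
  rw [← h.centralizer_involution hv hvC, Subgroup.mem_centralizer_iff]
  intro y hy
  rw [Set.mem_singleton_iff] at hy
  rw [hy]; exact ha.eq.symm

theorem c3 (h : MC p G P) {v : G} (hv : orderOf v = 2) (hvC : v ∈ CP P) (a b : G)
    (ha : Commute a v) (hb : Commute b v) (haC : a ∉ CP P) (hbC : b ∉ CP P) : a * b ∈ CP P :=
  h.mul_mem_C (h.mem_N_of_commute hv hvC ha) (h.mem_N_of_commute hv hvC hb) haC hbC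

theorem c4 (h : MC p G P) (z : G) (hz : orderOf z = 3) : ∃ g : G, g * z * g⁻¹ ∈ CP P := by
  have hp : IsPEl p z := ⟨1, by rw [hz, pow_one, h.p_eq_three]⟩
  obtain ⟨g, hg⟩ := exists_conj_mem_sylow P hp
  exact ⟨g, h.P_le_C hg⟩

theorem c5 (h : MC p G P) (u u' : G) (hu : orderOf u = 2) (hu' : orderOf u' = 2)
    (hc : ¬ Commute u u') : 3 ∣ orderOf (u * u') := by
  have hp3 := h.p_eq_three
  have hdvd : p ∣ Nat.card (Subgroup.closure ({u, u'} : Set G)) := by
    by_contra hnd
    have hab := h.ab _ hnd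
    apply hc
    have hum : u ∈ Subgroup.closure ({u, u'} : Set G) := Subgroup.subset_closure (by simp)
    have hum' : u' ∈ Subgroup.closure ({u, u'} : Set G) := Subgroup.subset_closure (by simp)
    exact congrArg Subtype.val (hab.is_comm.comm ⟨u, hum⟩ ⟨u', hum'⟩)
  have := dvd_orderOf_mul_of_dvd_card_closure (q := p) (by omega) hu hu' hdvd
  rwa [hp3] at this

/-- the minimal counterexample does not exist. -/
theorem false (h : MC p G P) : False := by
  obtain ⟨Q₀, v, hQN, hvQ, hvC, hv⟩ := h.exists_involution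
  obtain ⟨w, hw, hwall⟩ := exists_central_involution (CP P) v hv
    (fun c hc hco => h.involution_unique hv hvC hco hc)
    (fun g x hx hx1 hgx => h.c2 hv hvC g x hx hx1 hgx)
    (fun a b ha hb haC hbC => h.c3 hv hvC a b ha hb haC hbC)
    h.c4 h.c5 (c6_of_two_group_card h.two_group_card)
  let W : Subgroup G :=
    { carrier := {x | x * x = 1 ∧ ∀ u : G, orderOf u = 2 → Commute x u}
      one_mem' := ⟨by rw [one_mul], fun u _ => Commute.one_left u⟩
      mul_mem' := by
        intro a b ha hb
        have hab : Commute a b := by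
          by_cases hb1 : b = 1
          · rw [hb1]; exact Commute.one_right a
          · exact ha.2 b (orderOf_eq_two_of hb.1 hb1)
        refine ⟨?_, fun u hu => (ha.2 u hu).mul_left (hb.2 u hu)⟩
        calc a * b * (a * b) = a * (b * a) * b := by group
          _ = a * (a * b) * b := by rw [hab.eq]
          _ = (a * a) * (b * b) := by group
          _ = 1 := by rw [ha.1, hb.1, one_mul]
      inv_mem' := by
        intro a ha
        have : a⁻¹ = a := inv_eq_of_mul_eq_one_left ha.1
        show a⁻¹ * a⁻¹ = 1 ∧ ∀ u : G, orderOf u = 2 → Commute a⁻¹ u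
        rw [this]; exact ha }
  haveI hWn : W.Normal := by
    constructor
    intro x hx g
    refine ⟨?_, ?_⟩
    · calc g * x * g⁻¹ * (g * x * g⁻¹) = g * (x * x) * g⁻¹ := by group
        _ = 1 := by rw [hx.1]; group
    · intro u hu
      have h1 : orderOf (g⁻¹ * u * g⁻¹⁻¹) = 2 := by rw [orderOf_conj', hu]
      have h2 : x * (g⁻¹ * u * g⁻¹⁻¹) = (g⁻¹ * u * g⁻¹⁻¹) * x := (hx.2 _ h1).eq
      rw [inv_inv] at h2
      show g * x * g⁻¹ * u = u * (g * x * g⁻¹)
      calc g * x * g⁻¹ * u = g * (x * (g⁻¹ * u * g)) * g⁻¹ := by group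
        _ = g * ((g⁻¹ * u * g) * x) * g⁻¹ := by rw [h2]
        _ = u * (g * x * g⁻¹) := by group
  have hW2 : IsPGroup 2 W := by
    intro x
    refine ⟨1, ?_⟩
    apply Subtype.ext
    rw [pow_one, pow_two]
    exact x.2.1
  have hpW : ¬ p ∣ Nat.card W := by
    obtain ⟨k, hk⟩ := IsPGroup.iff_card.mp hW2
    rw [hk]
    intro hdvd
    have := Nat.Prime.dvd_of_dvd_pow Fact.out hdvd
    exact h.two_ne_p ((Nat.prime_dvd_prime_iff_eq Fact.out Nat.prime_two).mp this).symm
  have hWbot := h.pprime_normal_eq_bot W hpW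
  have hwW : w ∈ W := ⟨inv_mul_self hw, fun u hu => hwall u hu⟩
  rw [hWbot, Subgroup.mem_bot] at hwW
  exact inv_ne_one hw hwW

end MC

end Cfsg.Agent.Lib.H21.Cyc
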