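import Mathlib
import Cfsg.Agent.Lib.H21.CycI

/-!
# S4016: inheritance of the hypotheses and the induction (helper21)
-/

set_option autoImplicit false

namespace Cfsg.Agent.Lib.H21.Cyc

open Cfsg.Agent.Lib.L0
open scoped Pointwise

universe u

namespace Hyp

variable {p : ℕ} [Fact p.Prime] {G : Type u} [Group G] [Finite G]

theorem subgroup (h : Hyp p G) (H : Subgroup G) : Hyp p H := by
  constructor
  · obtain ⟨P, hP⟩ := h.cyc
    obtain ⟨Q⟩ : Nonempty (Sylow p H) := inferInstance
    refine ⟨Q, ?_⟩
    have hQp : IsPGroup p ((Q : Subgroup H).map H.subtype) := Q.isPGroup'.map H.subtype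
    obtain ⟨P', hP'⟩ := hQp.exists_le_sylow
    haveI : IsCyclic P' := (Sylow.equiv P P').isCyclic.mp hP
    let f : (Q : Subgroup H) →* (P' : Subgroup G) :=
      { toFun := fun x => ⟨x.1.1, hP' (Subgroup.mem_map.mpr ⟨x.1, x.2, rfl⟩)⟩
        map_one' := rfl
        map_mul' := fun _ _ => rfl }
    have hf : Function.Injective f := by
      intro a b hab
      have h1 : ((f a : (P' : Subgroup G)) : G) = ((f b : (P' : Subgroup G)) : G) :=
        congrArg Subtype.val hab
      have : a.1.1 = b.1.1 := h1
      exact Subtype.ext (Subtype.ext this)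
    exact isCyclic_of_injective f hf
  · intro K hK
    have hK' : ¬ p ∣ Nat.card (K.map H.subtype) := by
      rw [Subgroup.card_map_of_injective H.subtype_injective]; exact hK
    have hab := h.ab _ hK'
    refine ⟨⟨fun a b => ?_⟩⟩
    have ha : a.1.1 ∈ K.map H.subtype := Subgroup.mem_map.mpr ⟨a.1, a.2, rfl⟩
    have hb : b.1.1 ∈ K.map H.subtype := Subgroup.mem_map.mpr ⟨b.1, b.2, rfl⟩
    have := congrArg Subtype.val (hab.is_comm.comm ⟨a.1.1, ha⟩ ⟨b.1.1, hb⟩)
    exact Subtype.ext (Subtype.ext this)

theorem card_comap_mk' (K : Subgroup G) [K.Normal] (H' : Subgroup (G ⧸ K)) :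
    Nat.card (H'.comap (QuotientGroup.mk' K)) = Nat.card H' * Nat.card K := by
  have hsurj := QuotientGroup.mk'_surjective K
  have h1 : (H'.comap (QuotientGroup.mk' K)).index = H'.index :=
    Subgroup.index_comap_of_surjective H' hsurj
  have h2 := Subgroup.card_mul_index (H'.comap (QuotientGroup.mk' K))
  have h3 := Subgroup.card_mul_index H'
  have h4 : Nat.card G = Nat.card (G ⧸ K) * Nat.card K :=
    Subgroup.card_eq_card_quotient_mul_card_subgroup K
  have hidx : H'.index ≠ 0 := Subgroup.index_ne_zero_of_finite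
  rw [h1] at h2
  have h5 : Nat.card (H'.comap (QuotientGroup.mk' K)) * H'.index =
      (Nat.card H' * Nat.card K) * H'.index := by
    rw [h2, h4, ← h3]; ring
  exact Nat.eq_of_mul_eq_mul_right (Nat.pos_of_ne_zero hidx) h5

theorem quotient (h : Hyp p G) (K : Subgroup G) [K.Normal] (hK : ¬ p ∣ Nat.card K) :
    Hyp p (G ⧸ K) := by
  have hsurj := QuotientGroup.mk'_surjective K
  constructor
  · obtain ⟨P, hP⟩ := h.cyc
    refine ⟨P.mapSurjective hsurj, ?_⟩
    have h1 : IsCyclic ((P : Subgroup G).map (QuotientGroup.mk' K)) :=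
      isCyclic_of_surjective ((QuotientGroup.mk' K).subgroupMap (P : Subgroup G))
        ((QuotientGroup.mk' K).subgroupMap_surjective (P : Subgroup G))
    exact h1
  · intro H' hH'
    have hcard := card_comap_mk' K H'
    have hnd : ¬ p ∣ Nat.card (H'.comap (QuotientGroup.mk' K)) := by
      rw [hcard]
      intro hdvd
      rcases (Nat.Prime.dvd_mul Fact.out).mp hdvd with h1 | h1
      · exact hH' h1
      · exact hK h1
    have hab := h.ab _ hnd
    refine ⟨⟨fun a b => ?_⟩⟩
    obtain ⟨a', ha'⟩ := hsurj a.1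
    obtain ⟨b', hb'⟩ := hsurj b.1
    have ham : a' ∈ H'.comap (QuotientGroup.mk' K) := by
      rw [Subgroup.mem_comap, ha']; exact a.2
    have hbm : b' ∈ H'.comap (QuotientGroup.mk' K) := by
      rw [Subgroup.mem_comap, hb']; exact b.2
    have hc : a' * b' = b' * a' :=
      congrArg Subtype.val (hab.is_comm.comm ⟨a', ham⟩ ⟨b', hbm⟩)
    apply Subtype.ext
    show a.1 * b.1 = b.1 * a.1
    rw [← ha', ← hb', ← map_mul, ← map_mul, hc]

end Hyp

/-- S4016, by induction on the order. -/
theorem main_aux (p : ℕ) [Fact p.Prime] : ∀ n : ℕ, ∀ (G : Type u) [Group G] [Finite G],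
    Nat.card G = n → Hyp p G → Concl p G := by
  intro n
  induction n using Nat.strong_induction_on with
  | _ n ih =>
    intro G _ _ hn hyp
    by_contra hcon
    obtain ⟨P, hP⟩ := hyp.cyc
    have hmc : MC p G P :=
      { ab := hyp.ab
        cyc := hP
        sub := by
          intro H hH
          have hlt : Nat.card H < n := by
            rw [← hn]
            rcases (Subgroup.card_le_card_group H).lt_or_eq with h1 | h1
            · exact h1
            · exact absurd (Subgroup.eq_top_of_card_eq H h1) hH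
          rcases ih (Nat.card H) hlt H rfl (hyp.subgroup H) with h1 | ⟨Q, hQ⟩
          · exact Or.inl (npcin_of_npc H h1)
          · exact Or.inr (pcin_of_normal_sylow H Q hQ)
        quot := by
          intro K _ hK hpK
          have hlt : Nat.card (G ⧸ K) < n := by
            rw [← hn, Subgroup.card_eq_card_quotient_mul_card_subgroup K]
            have h1 : 1 < Nat.card K := K.one_lt_card_iff_ne_bot.mpr hK
            have h2 : 0 < Nat.card (G ⧸ K) := Nat.card_pos
            nlinarith
          exact ih _ hlt (G ⧸ K) rfl (hyp.quotient K hpK)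
        not_npc := fun h => hcon (Or.inl h)
        not_normal := fun Q hQ => hcon (Or.inr ⟨Q, hQ⟩) }
    exact hmc.false

/-- S4016 -/
theorem main {p : ℕ} [Fact p.Prime] {G : Type u} [Group G] [Finite G] (P : Sylow p G)
    (hcyc : IsCyclic P) (hab : ∀ H : Subgroup G, ¬ p ∣ Nat.card H → IsMulCommutative H) :
    Cfsg.HasNormalPComplement p G ∨ (P : Subgroup G).Normal := by
  have hyp : Hyp p G := ⟨⟨P, hcyc⟩, hab⟩
  rcases main_aux p _ G rfl hyp with h | ⟨Q, hQ⟩
  · exact Or.inl h
  · right
    haveI := Sylow.unique_of_normal Q hQ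
    have : P = Q := Subsingleton.elim _ _
    rw [this]; exact hQ

end Cfsg.Agent.Lib.H21.Cyc
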