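import Mathlib

set_option autoImplicit false

/-!
# The centralizer in `A₆` of a product of two disjoint transpositions

Concrete computations in `Perm (Fin 6)`: the even permutations commuting with
`a0 = (0 1)(2 3)` form a group `D0` of order eight containing `r0 = (0 2 1 3)(4 5)` with
`r0² = a0`; the elements outside `⟨r0⟩` are involutions and the centre is `{1, a0}`.
-/

namespace Cfsg.Agent.Lib.H21.D8C

open Equiv

/-- `(0 1)(2 3)` -/
def a0 : Perm (Fin 6) := swap 0 1 * swap 2 3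

/-- `(0 2 1 3)(4 5)` -/
def r0 : Perm (Fin 6) := swap 0 2 * swap 2 1 * swap 1 3 * swap 4 5

/-- the even permutations commuting with `a0`. -/
def D0 : Subgroup (Perm (Fin 6)) where
  carrier := {g | Perm.sign g = 1 ∧ g * a0 = a0 * g}
  mul_mem' := by
    rintro a b ⟨ha1, ha2⟩ ⟨hb1, hb2⟩
    refine ⟨by rw [map_mul, ha1, hb1, mul_one], ?_⟩
    rw [mul_assoc, hb2, ← mul_assoc, ha2, mul_assoc]
  one_mem' := ⟨map_one _, by rw [one_mul, mul_one]⟩
  inv_mem' := by
    rintro a ⟨ha1, ha2⟩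
    refine ⟨by rw [map_inv, ha1, inv_one], ?_⟩
    calc a⁻¹ * a0 = a⁻¹ * (a0 * a) * a⁻¹ := by group
      _ = a⁻¹ * (a * a0) * a⁻¹ := by rw [ha2]
      _ = a0 * a⁻¹ := by group

theorem mem_D0 (g : Perm (Fin 6)) : g ∈ D0 ↔ Perm.sign g = 1 ∧ g * a0 = a0 * g := Iff.rfl

instance decMemD0 (g : Perm (Fin 6)) : Decidable (g ∈ D0) :=
  inferInstanceAs (Decidable (Perm.sign g = 1 ∧ g * a0 = a0 * g))

set_option maxRecDepth 100000 in
theorem card_D0 : Fintype.card D0 = 8 := by decide +kernel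

set_option maxRecDepth 100000 in
theorem r0_facts : r0 ∈ D0 ∧ r0 * r0 = a0 ∧ a0 ≠ 1 ∧ a0 * a0 = 1 := by decide +kernel

set_option maxRecDepth 100000 in
theorem D0_cases : ∀ g : Perm (Fin 6), g ∈ D0 →
    g = 1 ∨ g = r0 ∨ g = a0 ∨ g = r0 * a0 ∨ g * g = 1 := by
  decide +kernel

set_option maxRecDepth 100000 in
theorem D0_center : ∀ z : Perm (Fin 6), z ∈ D0 →
    (∀ y : Perm (Fin 6), y ∈ D0 → z * y = y * z) → z = 1 ∨ z = a0 := by
  decide +kernel

set_option maxRecDepth 100000 in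
theorem exists_conj_a0 : ∀ a : Perm (Fin 6), a * a = 1 → a.support.card = 4 →
    ∃ c : Perm (Fin 6), c * a0 * c⁻¹ = a := by
  decide +kernel

end Cfsg.Agent.Lib.H21.D8C
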