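import Mathlib
import Cfsg.Agent.Lib.H21.D8A
import Cfsg.Agent.Lib.H6.CIT

set_option autoImplicit false
set_option linter.unusedSectionVars false

/-!
# A subgroup isomorphic to the centralizer in `A₆` of `(0 1)(2 3)` is dihedral of order 8

`D8Data S α σ` records the facts about the dihedral group `S` of order eight that are used.
-/

namespace Cfsg.Agent.Lib.H21.D8C

open Equiv
open Cfsg.Agent.Lib.H6.CIT (mem_centralizer_singleton)

variable {G : Type*} [Group G]

/-- `S` is dihedral of order eight, `σ` of order four, `α = σ²` the central involution. -/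
structure D8Data (S : Subgroup G) (α σ : G) : Prop where
  card : Nat.card S = 8
  α_mem : α ∈ S
  σ_mem : σ ∈ S
  σσ : σ * σ = α
  α_ne : α ≠ 1
  αα : α * α = 1
  α_comm : ∀ y ∈ S, α * y = y * α
  sq : ∀ w ∈ S, w = 1 ∨ w = σ ∨ w = α ∨ w = σ * α ∨ w * w = 1
  center : ∀ z ∈ S, (∀ y ∈ S, z * y = y * z) → z = 1 ∨ z = α

/-- the centralizer of `α` is dihedral when it is isomorphic to the centralizer in `A₆` of a
product of two transpositions. -/
theorem exists_d8Data (α : G) (hα : orderOf α = 2)
    (αt : ↥(alternatingGroup (Fin 6))) (hαt : orderOf αt = 2)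
    (hsupp : (αt : Equiv.Perm (Fin 6)).support.card = 4)
    (e : ↥(Subgroup.centralizer ({α} : Set G)) ≃*
      ↥(Subgroup.centralizer ({αt} : Set ↥(alternatingGroup (Fin 6))))) :
    ∃ σ : G, D8Data (Subgroup.centralizer ({α} : Set G)) α σ := by
  classical
  have hαα : α * α = 1 := by rw [← pow_two, ← hα, pow_orderOf_eq_one]
  have hα1 : α ≠ 1 := by
    intro h; rw [h, orderOf_one] at hα; omega
  have hαC : α ∈ Subgroup.centralizer ({α} : Set G) := mem_centralizer_singleton.mpr rfl
  have hat : ((αt : Perm (Fin 6))) * (αt : Perm (Fin 6)) = 1 := by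
    have : αt * αt = 1 := by rw [← pow_two, ← hαt, pow_orderOf_eq_one]
    have := congrArg Subtype.val this
    simpa using this
  obtain ⟨c, hc⟩ := exists_conj_a0 (αt : Perm (Fin 6)) hat hsupp
  -- the embedding of `C(α)` into `Perm (Fin 6)`
  let f : ↥(Subgroup.centralizer ({α} : Set G)) →* Perm (Fin 6) :=
    ((MulAut.conj c⁻¹).toMonoidHom).comp ((alternatingGroup (Fin 6)).subtype.comp
      ((Subgroup.centralizer ({αt} : Set ↥(alternatingGroup (Fin 6)))).subtype.comp
        e.toMonoidHom))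
  have hf : ∀ x, f x = c⁻¹ * (((e x : ↥(alternatingGroup (Fin 6))) : Perm (Fin 6))) * c := by
    intro x
    simp [f, MulAut.conj_apply]
  have hinj : Function.Injective f := by
    intro x y hxy
    rw [hf, hf] at hxy
    have h1 : ((e x : ↥(alternatingGroup (Fin 6))) : Perm (Fin 6)) =
        ((e y : ↥(alternatingGroup (Fin 6))) : Perm (Fin 6)) := by
      have := congrArg (fun g => c * g * c⁻¹) hxy
      simpa [mul_assoc] using this
    exact e.injective (Subtype.ext (Subtype.ext h1))
  have hrange : f.range = D0 := by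
    ext g
    rw [MonoidHom.mem_range, mem_D0]
    constructor
    · rintro ⟨x, rfl⟩
      rw [hf]
      have hmem := (e x).2
      rw [mem_centralizer_singleton] at hmem
      have hmem' : (αt : Perm (Fin 6)) * ((e x : ↥(alternatingGroup (Fin 6))) : Perm (Fin 6)) =
          ((e x : ↥(alternatingGroup (Fin 6))) : Perm (Fin 6)) * (αt : Perm (Fin 6)) := by
        have := congrArg Subtype.val hmem
        simpa using this
      have hsign : Perm.sign ((e x : ↥(alternatingGroup (Fin 6))) : Perm (Fin 6)) = 1 :=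
        Equiv.Perm.mem_alternatingGroup.mp (e x : ↥(alternatingGroup (Fin 6))).2
      refine ⟨?_, ?_⟩
      · rw [map_mul, map_mul, hsign, map_inv, mul_one, inv_mul_cancel]
      · rw [← hc] at hmem'
        calc c⁻¹ * ((e x : ↥(alternatingGroup (Fin 6))) : Perm (Fin 6)) * c * a0
            = c⁻¹ * (((e x : ↥(alternatingGroup (Fin 6))) : Perm (Fin 6)) * (c * a0 * c⁻¹)) * c := by
              group
          _ = c⁻¹ * ((c * a0 * c⁻¹) * ((e x : ↥(alternatingGroup (Fin 6))) : Perm (Fin 6))) * c := by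
              rw [hmem']
          _ = a0 * (c⁻¹ * ((e x : ↥(alternatingGroup (Fin 6))) : Perm (Fin 6)) * c) := by group
    · rintro ⟨hs, hcomm⟩
      have hsign : Perm.sign (c * g * c⁻¹) = 1 := by
        rw [map_mul, map_mul, hs, map_inv, mul_one, mul_inv_cancel]
      let h : ↥(alternatingGroup (Fin 6)) := ⟨c * g * c⁻¹, Equiv.Perm.mem_alternatingGroup.mpr hsign⟩
      have hh : h ∈ Subgroup.centralizer ({αt} : Set ↥(alternatingGroup (Fin 6))) := by
        rw [mem_centralizer_singleton]
        apply Subtype.ext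
        simp only [Subgroup.coe_mul, h]
        rw [← hc]
        calc c * a0 * c⁻¹ * (c * g * c⁻¹) = c * (a0 * g) * c⁻¹ := by group
          _ = c * (g * a0) * c⁻¹ := by rw [hcomm]
          _ = c * g * c⁻¹ * (c * a0 * c⁻¹) := by group
      refine ⟨e.symm ⟨h, hh⟩, ?_⟩
      rw [hf, MulEquiv.apply_symm_apply]
      simp only [h]
      group
  let φ : ↥(Subgroup.centralizer ({α} : Set G)) ≃* D0 :=
    (MonoidHom.ofInjective hinj).trans (MulEquiv.subgroupCongr hrange)
  have hφ : ∀ x, ((φ x : D0) : Perm (Fin 6)) = f x := fun x => rfl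
  haveI : Finite ↥(Subgroup.centralizer ({α} : Set G)) := Finite.of_equiv _ φ.symm.toEquiv
  obtain ⟨hr0, hrr, ha01, haa⟩ := r0_facts
  -- `φ α = a0`
  have hφα : ((φ ⟨α, hαC⟩ : D0) : Perm (Fin 6)) = a0 := by
    have hcen : ∀ y : Perm (Fin 6), y ∈ D0 → ((φ ⟨α, hαC⟩ : D0) : Perm (Fin 6)) * y =
        y * ((φ ⟨α, hαC⟩ : D0) : Perm (Fin 6)) := by
      intro y hy
      obtain ⟨x, hx⟩ := φ.surjective ⟨y, hy⟩
      have hxα : (⟨α, hαC⟩ : ↥(Subgroup.centralizer ({α} : Set G))) * x = x * ⟨α, hαC⟩ := by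
        apply Subtype.ext
        exact mem_centralizer_singleton.mp x.2
      have := congrArg (fun z => ((φ z : D0) : Perm (Fin 6))) hxα
      simp only [map_mul, Subgroup.coe_mul, hx] at this
      exact this
    rcases D0_center _ (φ ⟨α, hαC⟩).2 hcen with h1 | h1
    · exfalso
      have : φ ⟨α, hαC⟩ = 1 := Subtype.ext h1
      rw [map_eq_one_iff φ φ.injective] at this
      exact hα1 (congrArg Subtype.val this)
    · exact h1
  refine ⟨((φ.symm ⟨r0, hr0⟩ : ↥(Subgroup.centralizer ({α} : Set G))) : G), ?_⟩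
  have hσφ : φ (φ.symm ⟨r0, hr0⟩) = ⟨r0, hr0⟩ := φ.apply_symm_apply _
  refine ⟨?_, hαC, (φ.symm ⟨r0, hr0⟩).2, ?_, hα1, hαα,
    fun y hy => mem_centralizer_singleton.mp hy, ?_, ?_⟩
  · rw [Nat.card_congr φ.toEquiv, Nat.card_eq_fintype_card, card_D0]
  · have : φ.symm ⟨r0, hr0⟩ * φ.symm ⟨r0, hr0⟩ = ⟨α, hαC⟩ := by
      apply φ.injective
      apply Subtype.ext
      rw [map_mul, hσφ, hφα]
      exact hrr
    exact congrArg Subtype.val this
  · intro w hw
    have hcase := D0_cases _ (φ ⟨w, hw⟩).2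
    have key : ∀ v : ↥(Subgroup.centralizer ({α} : Set G)),
        ((φ ⟨w, hw⟩ : D0) : Perm (Fin 6)) = ((φ v : D0) : Perm (Fin 6)) → w = (v : G) := by
      intro v hv
      have : (⟨w, hw⟩ : ↥(Subgroup.centralizer ({α} : Set G))) = v :=
        φ.injective (Subtype.ext hv)
      exact congrArg Subtype.val this
    rcases hcase with h1 | h1 | h1 | h1 | h1
    · left
      have := key 1 (by rw [h1, map_one]; rfl)
      simpa using this
    · right; left
      exact key (φ.symm ⟨r0, hr0⟩) (by rw [h1, hσφ])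
    · right; right; left
      exact key ⟨α, hαC⟩ (by rw [h1, hφα])
    · right; right; right; left
      have := key (φ.symm ⟨r0, hr0⟩ * ⟨α, hαC⟩) (by
        rw [h1, map_mul, Subgroup.coe_mul, hσφ, hφα])
      simpa using this
    · right; right; right; right
      have := key ((⟨w, hw⟩ : ↥(Subgroup.centralizer ({α} : Set G)))⁻¹) (by
        rw [map_inv, Subgroup.coe_inv]
        exact eq_inv_of_mul_eq_one_left h1)
      have h2 : w = w⁻¹ := by simpa using this
      calc w * w = w * w⁻¹ := by rw [← h2]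
        _ = 1 := mul_inv_cancel w
  · intro z hz hzc
    have hcen : ∀ y : Perm (Fin 6), y ∈ D0 → ((φ ⟨z, hz⟩ : D0) : Perm (Fin 6)) * y =
        y * ((φ ⟨z, hz⟩ : D0) : Perm (Fin 6)) := by
      intro y hy
      obtain ⟨x, hx⟩ := φ.surjective ⟨y, hy⟩
      have hxz : (⟨z, hz⟩ : ↥(Subgroup.centralizer ({α} : Set G))) * x = x * ⟨z, hz⟩ := by
        apply Subtype.ext
        exact hzc x x.2
      have := congrArg (fun z => ((φ z : D0) : Perm (Fin 6))) hxz
      simp only [map_mul, Subgroup.coe_mul, hx] at this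
      exact this
    rcases D0_center _ (φ ⟨z, hz⟩).2 hcen with h1 | h1
    · left
      have : φ ⟨z, hz⟩ = 1 := Subtype.ext h1
      rw [map_eq_one_iff φ φ.injective] at this
      exact congrArg Subtype.val this
    · right
      have : (⟨z, hz⟩ : ↥(Subgroup.centralizer ({α} : Set G))) = ⟨α, hαC⟩ :=
        φ.injective (Subtype.ext (by rw [h1, hφα]))
      exact congrArg Subtype.val this

end Cfsg.Agent.Lib.H21.D8C
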