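import Mathlib
import Cfsg.Agent.Lib.H21.D8B
import Cfsg.Agent.Lib.H20.PByCyclic6

set_option autoImplicit false
set_option linter.unusedSectionVars false

/-!
# Consequences of `D8Data`
-/

namespace Cfsg.Agent.Lib.H21.D8C

variable {G : Type*} [Group G] {S : Subgroup G} {α σ : G}

theorem D8Data.σ_pow_four (h : D8Data S α σ) : σ ^ 4 = 1 := by
  calc σ ^ 4 = (σ * σ) * (σ * σ) := by
        rw [show (4 : ℕ) = 2 + 2 from rfl, pow_add, pow_two]
    _ = 1 := by rw [h.σσ, h.αα]

theorem D8Data.orderOf_σ (h : D8Data S α σ) : orderOf σ = 4 := by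
  have h1 : ¬ σ ^ 2 ^ 1 = 1 := by
    rw [pow_one, pow_two, h.σσ]; exact h.α_ne
  have h2 : σ ^ 2 ^ (1 + 1) = 1 := by
    have : (2 : ℕ) ^ (1 + 1) = 4 := by norm_num
    rw [this]; exact h.σ_pow_four
  have := orderOf_eq_prime_pow h1 h2
  simpa using this

theorem D8Data.α_eq (h : D8Data S α σ) : α = σ ^ 2 := by rw [pow_two, h.σσ]

theorem D8Data.σα_eq (h : D8Data S α σ) : σ * α = σ ^ 3 := by
  rw [h.α_eq]; group

theorem D8Data.mem_Q_iff (h : D8Data S α σ) (w : G) :
    w ∈ Subgroup.zpowers σ ↔ w = 1 ∨ w = σ ∨ w = α ∨ w = σ * α := by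
  constructor
  · intro hw
    obtain ⟨k, rfl⟩ := Subgroup.mem_zpowers_iff.mp hw
    have h4 : σ ^ (4 : ℤ) = 1 := by
      have := h.σ_pow_four
      exact_mod_cast this
    have hk : σ ^ k = σ ^ (k % 4) := by
      have := zpow_mod_orderOf σ k
      rw [h.orderOf_σ] at this
      exact_mod_cast this.symm
    rw [hk]
    have h0 : 0 ≤ k % 4 := Int.emod_nonneg k (by norm_num)
    have h1 : k % 4 < 4 := Int.emod_lt_of_pos k (by norm_num)
    have hcases : k % 4 = 0 ∨ k % 4 = 1 ∨ k % 4 = 2 ∨ k % 4 = 3 := by omega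
    rcases hcases with e | e | e | e <;> rw [e]
    · left; simp
    · right; left; simp
    · right; right; left
      rw [h.α_eq]; exact_mod_cast rfl
    · right; right; right
      rw [h.σα_eq]; exact_mod_cast rfl
  · rintro (rfl | rfl | rfl | rfl)
    · exact Subgroup.one_mem _
    · exact Subgroup.mem_zpowers _
    · rw [h.α_eq]; exact Subgroup.pow_mem _ (Subgroup.mem_zpowers _) 2
    · rw [h.σα_eq]; exact Subgroup.pow_mem _ (Subgroup.mem_zpowers _) 3

theorem D8Data.Q_le (h : D8Data S α σ) : Subgroup.zpowers σ ≤ S := by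
  rw [Subgroup.zpowers_le]; exact h.σ_mem

theorem D8Data.card_Q (h : D8Data S α σ) : Nat.card (Subgroup.zpowers σ) = 4 := by
  rw [Nat.card_zpowers, h.orderOf_σ]

theorem D8Data.relIndex_Q (h : D8Data S α σ) : (Subgroup.zpowers σ).relIndex S = 2 := by
  have h1 := Subgroup.relIndex_mul_relIndex (⊥ : Subgroup G) (Subgroup.zpowers σ) S bot_le h.Q_le
  rw [Subgroup.relIndex_bot_left, Subgroup.relIndex_bot_left, h.card_Q, h.card] at h1
  omega

/-- elements of `S` outside `⟨σ⟩` are involutions. -/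
theorem D8Data.sq_of_not_mem (h : D8Data S α σ) {w : G} (hw : w ∈ S)
    (hwQ : w ∉ Subgroup.zpowers σ) : w * w = 1 := by
  rcases h.sq w hw with e | e | e | e | e
  · exact absurd ((h.mem_Q_iff w).mpr (Or.inl e)) hwQ
  · exact absurd ((h.mem_Q_iff w).mpr (Or.inr (Or.inl e))) hwQ
  · exact absurd ((h.mem_Q_iff w).mpr (Or.inr (Or.inr (Or.inl e)))) hwQ
  · exact absurd ((h.mem_Q_iff w).mpr (Or.inr (Or.inr (Or.inr e)))) hwQ
  · exact e

theorem D8Data.ne_one_of_not_mem (h : D8Data S α σ) {w : G}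
    (hwQ : w ∉ Subgroup.zpowers σ) : w ≠ 1 := by
  intro e
  exact hwQ (e ▸ Subgroup.one_mem _)

theorem D8Data.orderOf_of_not_mem (h : D8Data S α σ) {w : G} (hw : w ∈ S)
    (hwQ : w ∉ Subgroup.zpowers σ) : orderOf w = 2 :=
  orderOf_eq_prime (by rw [pow_two]; exact h.sq_of_not_mem hw hwQ) (h.ne_one_of_not_mem hwQ)

theorem D8Data.exists_not_mem [Finite G] (h : D8Data S α σ) :
    ∃ u ∈ S, u ∉ Subgroup.zpowers σ := by
  by_contra hcon
  push Not at hcon
  have hle : S ≤ Subgroup.zpowers σ := fun u hu => hcon u hu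
  have := Subgroup.card_le_of_le hle
  rw [h.card, h.card_Q] at this
  omega

/-- the only involution of `⟨σ⟩` is `α`. -/
theorem D8Data.eq_α_of_mem_Q (h : D8Data S α σ) {w : G} (hw : w ∈ Subgroup.zpowers σ)
    (hww : w * w = 1) (hw1 : w ≠ 1) : w = α := by
  have hασ : α * σ = σ * α := by rw [← h.σσ, mul_assoc]
  rcases (h.mem_Q_iff w).mp hw with e | e | e | e
  · exact absurd e hw1
  · rw [e, h.σσ] at hww
    exact absurd hww h.α_ne
  · exact e
  · exfalso
    rw [e] at hww
    have : σ * α * (σ * α) = α := by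
      calc σ * α * (σ * α) = σ * (α * σ) * α := by group
        _ = σ * (σ * α) * α := by rw [hασ]
        _ = (σ * σ) * (α * α) := by group
        _ = α := by rw [h.σσ, h.αα, mul_one]
    rw [this] at hww
    exact h.α_ne hww

/-- elements outside `⟨σ⟩` invert `σ`. -/
theorem D8Data.invert (h : D8Data S α σ) {u : G} (hu : u ∈ S)
    (huQ : u ∉ Subgroup.zpowers σ) : u * σ * u⁻¹ = σ⁻¹ := by
  have huu := h.sq_of_not_mem hu huQ
  have hui : u⁻¹ = u := inv_eq_of_mul_eq_one_right huu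
  have huσ : u * σ ∉ Subgroup.zpowers σ := by
    intro hmem
    apply huQ
    have := Subgroup.mul_mem _ hmem (Subgroup.inv_mem _ (Subgroup.mem_zpowers σ))
    simpa using this
  have h2 := h.sq_of_not_mem (S.mul_mem hu h.σ_mem) huσ
  rw [hui]
  apply eq_inv_of_mul_eq_one_left
  calc u * σ * u * σ = u * σ * (u * σ) := by group
    _ = 1 := h2

theorem D8Data.not_comm (h : D8Data S α σ) {u : G} (hu : u ∈ S)
    (huQ : u ∉ Subgroup.zpowers σ) : u * σ ≠ σ * u := by
  intro e
  have h1 := h.invert hu huQ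
  have h2 : u * σ * u⁻¹ = σ := by rw [e]; group
  rw [h2] at h1
  have : σ * σ = 1 := by
    nth_rewrite 2 [h1]
    exact mul_inv_cancel σ
  rw [h.σσ] at this
  exact h.α_ne this

/-- `S` is dihedral of order eight. -/
theorem D8Data.nonempty_mulEquiv [Finite G] (h : D8Data S α σ) :
    Nonempty (S ≃* DihedralGroup 4) := by
  obtain ⟨u, hu, huQ⟩ := h.exists_not_mem
  haveI : Finite S := inferInstance
  let T : Subgroup S := Subgroup.zpowers (⟨σ, h.σ_mem⟩ : S)
  have hTmem : ∀ y : S, y ∈ T ↔ (y : G) ∈ Subgroup.zpowers σ := by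
    intro y
    constructor
    · intro hy
      obtain ⟨k, hk⟩ := Subgroup.mem_zpowers_iff.mp hy
      rw [← hk]
      simp only [Subgroup.coe_zpow]
      exact Subgroup.zpow_mem _ (Subgroup.mem_zpowers σ) k
    · intro hy
      obtain ⟨k, hk⟩ := Subgroup.mem_zpowers_iff.mp hy
      refine Subgroup.mem_zpowers_iff.mpr ⟨k, ?_⟩
      apply Subtype.ext
      simp only [Subgroup.coe_zpow]
      exact hk
  have hTcard : Nat.card T = 4 := by
    rw [Nat.card_zpowers, Subgroup.orderOf_mk, h.orderOf_σ]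
  have := Cfsg.Agent.Lib.H20.PBC.dihedral_of_index_two' T (⟨u, hu⟩ : S)
    (fun hmem => huQ ((hTmem _).mp hmem))
    (Subtype.ext (h.sq_of_not_mem hu huQ))
    (by
      intro y hy
      obtain ⟨k, hk⟩ := Subgroup.mem_zpowers_iff.mp hy
      rw [← hk]
      apply Subtype.ext
      simp only [Subgroup.coe_mul, Subgroup.coe_inv, Subgroup.coe_zpow]
      have h1 := h.invert hu huQ
      calc u * σ ^ k * u⁻¹ = (u * σ * u⁻¹) ^ k := by rw [conj_zpow]
        _ = (σ⁻¹) ^ k := by rw [h1]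
        _ = (σ ^ k)⁻¹ := by rw [inv_zpow])
    (by rw [hTcard, h.card])
  rw [hTcard] at this
  exact this

end Cfsg.Agent.Lib.H21.D8C
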