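import Mathlib
import Cfsg.Agent.Lib.H21.D8C
import Cfsg.Agent.Lib.H23.InvolutionSylow
import Cfsg.Agent.S0111

set_option autoImplicit false
set_option linter.unusedSectionVars false

/-!
# Groups with a dihedral Sylow 2-subgroup `C_G(α)` of order eight and no subgroup of index two
-/

namespace Cfsg.Agent.Lib.H21.D8C

open Cfsg.Agent.Lib.H6.CIT (mem_centralizer_singleton)

variable {G : Type*} [Group G] [Finite G] {α σ : G}

/-- the Sylow subgroup is the centralizer. -/
theorem sylow_eq_centralizer (h : D8Data (Subgroup.centralizer ({α} : Set G)) α σ) (T : Sylow 2 G)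
    (hαc : ∀ s ∈ (T : Subgroup G), s * α = α * s) :
    (T : Subgroup G) = Subgroup.centralizer ({α} : Set G) := by
  have : Fact (Nat.Prime 2) := ⟨Nat.prime_two⟩
  have hp : IsPGroup 2 (Subgroup.centralizer ({α} : Set G)) :=
    IsPGroup.of_card (n := 3) (by rw [h.card]; norm_num)
  have hle : (T : Subgroup G) ≤ Subgroup.centralizer ({α} : Set G) := by
    intro s hs
    rw [mem_centralizer_singleton]
    exact (hαc s hs).symm
  exact (T.is_maximal' hp hle).symm

variable (h : D8Data (Subgroup.centralizer ({α} : Set G)) α σ) (T : Sylow 2 G)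
  (hT : (T : Subgroup G) = Subgroup.centralizer ({α} : Set G))
  (hG : ∀ H : Subgroup G, H.index ≠ 2)

include h T hT hG

/-- involutions of `C(α)` are conjugate to `α`. -/
theorem conj_α_of_mem {u : G} (hu : u ∈ Subgroup.centralizer ({α} : Set G)) (huu : u * u = 1)
    (hu1 : u ≠ 1) : ∃ g : G, g * u * g⁻¹ = α := by
  by_cases huQ : u ∈ Subgroup.zpowers σ
  · exact ⟨1, by rw [h.eq_α_of_mem_Q huQ huu hu1]; group⟩
  · have ho : orderOf u = 2 := orderOf_eq_prime (by rw [pow_two]; exact huu) hu1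
    have hQT : Subgroup.zpowers σ ≤ (T : Subgroup G) := by rw [hT]; exact h.Q_le
    have hrel : (Subgroup.zpowers σ).relIndex (T : Subgroup G) = 2 := by
      rw [hT]; exact h.relIndex_Q
    rcases Cfsg.Agent.S0111.result T (Subgroup.zpowers σ) hQT hrel u ho (by rw [hT]; exact hu) huQ
      with ⟨M, -, hM, -⟩ | ⟨g, hg⟩
    · exact absurd hM (hG M)
    · refine ⟨g, h.eq_α_of_mem_Q hg ?_ ?_⟩
      · calc g * u * g⁻¹ * (g * u * g⁻¹) = g * (u * u) * g⁻¹ := by group
          _ = 1 := by rw [huu]; group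
      · intro e
        apply hu1
        calc u = g⁻¹ * (g * u * g⁻¹) * g := by group
          _ = 1 := by rw [e]; group

/-- all involutions are conjugate to `α`. -/
theorem one_class {t : G} (ht : orderOf t = 2) : ∃ g : G, g * t * g⁻¹ = α := by
  have : Fact (Nat.Prime 2) := ⟨Nat.prime_two⟩
  have hp : IsPGroup 2 (Subgroup.zpowers t) := by
    apply IsPGroup.of_card (n := 1)
    rw [Nat.card_zpowers, ht, pow_one]
  obtain ⟨P', hP'⟩ := hp.exists_le_sylow
  obtain ⟨k, hk⟩ := MulAction.exists_smul_eq G T P'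
  have htP' : t ∈ (P' : Subgroup G) := hP' (Subgroup.mem_zpowers t)
  rw [← hk, Sylow.coe_subgroup_smul, Subgroup.mem_pointwise_smul_iff_inv_smul_mem] at htP'
  have e : (MulAut.conj k)⁻¹ • t = k⁻¹ * t * k := by
    rw [← map_inv]
    simp [MulAut.smul_def]
  rw [e, hT] at htP'
  have htt : t * t = 1 := by rw [← pow_two, ← ht, pow_orderOf_eq_one]
  have ht1 : t ≠ 1 := by
    intro e1; rw [e1, orderOf_one] at ht; omega
  have h1 : (k⁻¹ * t * k) * (k⁻¹ * t * k) = 1 := by
    calc (k⁻¹ * t * k) * (k⁻¹ * t * k) = k⁻¹ * (t * t) * k := by group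
      _ = 1 := by rw [htt]; group
  have h2 : k⁻¹ * t * k ≠ 1 := by
    intro e1
    apply ht1
    calc t = k * (k⁻¹ * t * k) * k⁻¹ := by group
      _ = 1 := by rw [e1]; group
  obtain ⟨g, hg⟩ := conj_α_of_mem h T hT hG htP' h1 h2
  refine ⟨g * k⁻¹, ?_⟩
  rw [← hg]; group

omit hG in
/-- `N_G(S) = S`. -/
theorem normalizer_le : Subgroup.normalizer ((T : Subgroup G) : Set G) ≤ (T : Subgroup G) := by
  intro g hg
  rw [hT] at hg ⊢
  have hnorm := Subgroup.mem_normalizer_iff.mp hg
  have hz : g * α * g⁻¹ ∈ Subgroup.centralizer ({α} : Set G) := (hnorm α).mp h.α_mem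
  have hcen : ∀ y ∈ Subgroup.centralizer ({α} : Set G), g * α * g⁻¹ * y = y * (g * α * g⁻¹) := by
    intro y hy
    have hy' : g⁻¹ * y * g ∈ Subgroup.centralizer ({α} : Set G) := by
      rw [hnorm]
      have : g * (g⁻¹ * y * g) * g⁻¹ = y := by group
      rw [this]; exact hy
    have := h.α_comm _ hy'
    calc g * α * g⁻¹ * y = g * (α * (g⁻¹ * y * g)) * g⁻¹ := by group
      _ = g * ((g⁻¹ * y * g) * α) * g⁻¹ := by rw [this]
      _ = y * (g * α * g⁻¹) := by group
  rcases h.center _ hz hcen with e | e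
  · exfalso
    apply h.α_ne
    calc α = g⁻¹ * (g * α * g⁻¹) * g := by group
      _ = 1 := by rw [e]; group
  · rw [mem_centralizer_singleton]
    calc α * g = (g * α * g⁻¹) * g := by rw [e]
      _ = g * α := by group

omit T hT hG in
/-- elements commuting with a conjugate of `α` have order dividing eight. -/
theorem pow_eight_of_comm {g n : G} (hn : (g * α * g⁻¹) * n = n * (g * α * g⁻¹)) :
    n ^ 8 = 1 := by
  have h1 : g⁻¹ * n * g ∈ Subgroup.centralizer ({α} : Set G) := by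
    rw [mem_centralizer_singleton]
    calc α * (g⁻¹ * n * g) = g⁻¹ * ((g * α * g⁻¹) * n) * g := by group
      _ = g⁻¹ * (n * (g * α * g⁻¹)) * g := by rw [hn]
      _ = g⁻¹ * n * g * α := by group
  have h2 : (⟨g⁻¹ * n * g, h1⟩ : Subgroup.centralizer ({α} : Set G)) ^ 8 = 1 := by
    rw [← h.card]; exact pow_card_eq_one'
  have h3 : (g⁻¹ * n * g) ^ 8 = 1 := by
    have := congrArg Subtype.val h2
    simpa using this
  have h4 : (g⁻¹ * n * g) ^ 8 = g⁻¹ * n ^ 8 * g := by
    have := conj_pow (a := g⁻¹) (b := n) (i := 8)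
    rw [inv_inv] at this
    exact this
  rw [h4] at h3
  calc n ^ 8 = g * (g⁻¹ * n ^ 8 * g) * g⁻¹ := by group
    _ = 1 := by rw [h3]; group

/-- a normal subgroup of odd order is trivial. -/
theorem odd_normal_eq_bot (N : Subgroup G) (hN : N.Normal) (hodd : Odd (Nat.card N)) :
    N = ⊥ := by
  obtain ⟨u, hu, huQ⟩ := h.exists_not_mem
  have huu := h.sq_of_not_mem hu huQ
  have hu1 := h.ne_one_of_not_mem huQ
  have hαu : α * u = u * α := h.α_comm u hu
  -- the three involutions `α`, `u`, `α u`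
  have hαuQ : α * u ∉ Subgroup.zpowers σ := by
    intro hmem
    apply huQ
    have hαQ : α ∈ Subgroup.zpowers σ := (h.mem_Q_iff α).mpr (Or.inr (Or.inr (Or.inl rfl)))
    have := Subgroup.mul_mem _ (Subgroup.inv_mem _ hαQ) hmem
    simpa using this
  have hαuS : α * u ∈ Subgroup.centralizer ({α} : Set G) := Subgroup.mul_mem _ h.α_mem hu
  have hαuαu := h.sq_of_not_mem hαuS hαuQ
  have hαu1 := h.ne_one_of_not_mem hαuQ
  -- each involution inverts `N`
  have hinv : ∀ t : G, orderOf t = 2 → ∀ n ∈ N, t * n * t⁻¹ = n⁻¹ := by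
    intro t ht
    obtain ⟨g, hg⟩ := one_class h T hT hG ht
    have ht' : t = g⁻¹ * α * g⁻¹⁻¹ := by rw [← hg]; group
    refine (Cfsg.Agent.Lib.H23.inverts_of_involution_fpf t ht N
      (fun r hr => hN.conj_mem r hr t) ?_).1
    intro r hr hcomm
    rw [ht'] at hcomm
    have h8 := pow_eight_of_comm h hcomm
    have hrN : r ^ Nat.card N = 1 := by
      apply orderOf_dvd_iff_pow_eq_one.mp
      have := orderOf_dvd_natCard (⟨r, hr⟩ : N)
      rwa [Subgroup.orderOf_mk] at this
    have hcop : Nat.Coprime (2 ^ 3) (Nat.card N) :=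
      Nat.Coprime.pow_left 3 (Nat.coprime_two_left.mpr hodd)
    have h8' : r ^ 2 ^ 3 = 1 := by
      have : (2 : ℕ) ^ 3 = 8 := by norm_num
      rw [this]; exact h8
    have := (pow_gcd_eq_one (a := r)).mpr ⟨h8', hrN⟩
    rw [hcop, pow_one] at this
    exact this
  have hoα : orderOf α = 2 := orderOf_eq_prime (by rw [pow_two]; exact h.αα) h.α_ne
  have hou : orderOf u = 2 := orderOf_eq_prime (by rw [pow_two]; exact huu) hu1
  have hoαu : orderOf (α * u) = 2 := orderOf_eq_prime (by rw [pow_two]; exact hαuαu) hαu1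
  rw [Subgroup.eq_bot_iff_forall]
  intro n hn
  have h1 := hinv α hoα n hn
  have h2 := hinv u hou n hn
  have h3 := hinv (α * u) hoαu n⁻¹ (N.inv_mem hn)
  rw [inv_inv] at h3
  -- `α = u⁻¹ ... `: conjugating by `α u` then by `u` is conjugating by `α`
  have h4 : n = n⁻¹ := by
    have e1 : u * (α * u * n⁻¹ * (α * u)⁻¹) * u⁻¹ = α * n⁻¹ * α⁻¹ := by
      have : u * (α * u) = α := by
        rw [← mul_assoc, ← hαu, mul_assoc, huu, mul_one]
      calc u * (α * u * n⁻¹ * (α * u)⁻¹) * u⁻¹ = (u * (α * u)) * n⁻¹ * (u * (α * u))⁻¹ := by group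
        _ = α * n⁻¹ * α⁻¹ := by rw [this]
    rw [h3, h2] at e1
    have e2 : α * n⁻¹ * α⁻¹ = n := by
      calc α * n⁻¹ * α⁻¹ = (α * n * α⁻¹)⁻¹ := by group
        _ = n := by rw [h1, inv_inv]
    rw [e2] at e1
    exact e1.symm
  have hnn : n ^ 2 = 1 := by
    rw [pow_two]
    nth_rewrite 2 [h4]
    exact mul_inv_cancel n
  have hrN : n ^ Nat.card N = 1 := by
    apply orderOf_dvd_iff_pow_eq_one.mp
    have := orderOf_dvd_natCard (⟨n, hn⟩ : N)
    rwa [Subgroup.orderOf_mk] at this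
  have hcop : Nat.Coprime 2 (Nat.card N) := Nat.coprime_two_left.mpr hodd
  have := (pow_gcd_eq_one (a := n)).mpr ⟨hnn, hrN⟩
  rw [hcop, pow_one] at this
  exact this

/-- a normal subgroup of even order contains `C(α)`. -/
theorem le_of_even_normal (N : Subgroup G) (hN : N.Normal) (heven : Even (Nat.card N)) :
    Subgroup.centralizer ({α} : Set G) ≤ N := by
  have : Fact (Nat.Prime 2) := ⟨Nat.prime_two⟩
  obtain ⟨⟨t, htN⟩, ht⟩ := exists_prime_orderOf_dvd_card' 2 (even_iff_two_dvd.mp heven)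
  rw [Subgroup.orderOf_mk] at ht
  -- all involutions lie in `N`
  have hinvN : ∀ w : G, orderOf w = 2 → w ∈ N := by
    intro w hw
    obtain ⟨g1, hg1⟩ := one_class h T hT hG ht
    obtain ⟨g2, hg2⟩ := one_class h T hT hG hw
    have : w = (g2⁻¹ * g1) * t * (g2⁻¹ * g1)⁻¹ := by
      calc w = g2⁻¹ * (g2 * w * g2⁻¹) * g2 := by group
        _ = g2⁻¹ * (g1 * t * g1⁻¹) * g2 := by rw [hg2, hg1]
        _ = (g2⁻¹ * g1) * t * (g2⁻¹ * g1)⁻¹ := by group
    rw [this]
    exact hN.conj_mem t htN _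
  obtain ⟨u, hu, huQ⟩ := h.exists_not_mem
  have huN : u ∈ N := hinvN u (h.orderOf_of_not_mem hu huQ)
  have huσQ : u * σ ∉ Subgroup.zpowers σ := by
    intro hmem
    apply huQ
    have := Subgroup.mul_mem _ hmem (Subgroup.inv_mem _ (Subgroup.mem_zpowers σ))
    simpa using this
  have huσN : u * σ ∈ N :=
    hinvN _ (h.orderOf_of_not_mem (Subgroup.mul_mem _ hu h.σ_mem) huσQ)
  have hσN : σ ∈ N := by
    have := N.mul_mem (N.inv_mem huN) huσN
    simpa using this
  intro w hw
  by_cases hwQ : w ∈ Subgroup.zpowers σ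
  · exact (Subgroup.zpowers_le.mpr hσN) hwQ
  · exact hinvN w (h.orderOf_of_not_mem hw hwQ)

/-- `G` is simple. -/
theorem isSimpleGroup : IsSimpleGroup G := by
  have : Fact (Nat.Prime 2) := ⟨Nat.prime_two⟩
  haveI : Nontrivial G := ⟨⟨α, 1, h.α_ne⟩⟩
  refine ⟨fun N hN => ?_⟩
  by_cases hbot : N = ⊥
  · exact Or.inl hbot
  · right
    rcases Nat.even_or_odd (Nat.card N) with he | ho
    · have hle := le_of_even_normal h T hT hG N hN he
      have hfr := Sylow.normalizer_sup_eq_top' T (hT ▸ hle : (T : Subgroup G) ≤ N)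
      have h1 : Subgroup.normalizer ((T : Subgroup G) : Set G) ≤ N :=
        (normalizer_le h T hT).trans (hT ▸ hle)
      rw [eq_top_iff, ← hfr]
      exact sup_le h1 le_rfl
    · exact absurd (odd_normal_eq_bot h T hT hG N hN ho) hbot

end Cfsg.Agent.Lib.H21.D8C
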