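import Mathlib

/-!
# S3670 piece ARITHA (helper21): the structure of the integer vectors `A`, `B`

`∑B² = 2`, `∑A² = 4`, `∑AB = 1`, `A i₀ = 1`, `B i₀ = 0`, `∑ d A = 0 = ∑ d B` force the five special indices.
-/

set_option autoImplicit false

namespace Cfsg.Agent.Lib.H21.DG

theorem aritha_pick {ι : Type*} [DecidableEq ι] (s : Finset ι) (f : ι → ℤ)
    (h : 0 < ∑ i ∈ s, f i ^ 2) :
    ∃ a ∈ s, f a ≠ 0 ∧ f a ^ 2 + ∑ i ∈ s.erase a, f i ^ 2 = ∑ i ∈ s, f i ^ 2 := by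
  by_contra hcon
  push Not at hcon
  have h0 : ∑ i ∈ s, f i ^ 2 = 0 := Finset.sum_eq_zero (fun i hi => by
    by_contra hne
    have h1 : f i ≠ 0 := fun h0 => hne (by rw [h0]; ring)
    exact hcon i hi h1 (Finset.add_sum_erase s (fun i => f i ^ 2) hi))
  omega

theorem aritha_pm (x : ℤ) (h0 : x ≠ 0) (h : x ^ 2 ≤ 2) : x = 1 ∨ x = -1 := by
  have h1 : x ≤ 1 := by nlinarith
  have h2 : -1 ≤ x := by nlinarith
  omega

theorem aritha_one {ι : Type*} [DecidableEq ι] (s : Finset ι) (f : ι → ℤ)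
    (h : ∑ i ∈ s, f i ^ 2 = 1) :
    ∃ a ∈ s, (f a = 1 ∨ f a = -1) ∧ ∀ i ∈ s, i ≠ a → f i = 0 := by
  obtain ⟨a, ha, hfa, hsa⟩ := aritha_pick s f (by omega)
  have hnn : 0 ≤ ∑ i ∈ s.erase a, f i ^ 2 := Finset.sum_nonneg (fun i _ => sq_nonneg _)
  have hfa' := aritha_pm (f a) hfa (by linarith)
  have hsq : f a ^ 2 = 1 := by rcases hfa' with h1 | h1 <;> rw [h1] <;> norm_num
  have hrest : ∑ i ∈ s.erase a, f i ^ 2 = 0 := by linarith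
  refine ⟨a, ha, hfa', fun i hi hia => ?_⟩
  have := (Finset.sum_eq_zero_iff_of_nonneg (fun i _ => sq_nonneg (f i))).1 hrest i
    (Finset.mem_erase.2 ⟨hia, hi⟩)
  exact pow_eq_zero_iff (two_ne_zero) |>.1 this

theorem aritha_two {ι : Type*} [DecidableEq ι] (s : Finset ι) (f : ι → ℤ)
    (h : ∑ i ∈ s, f i ^ 2 = 2) :
    ∃ a ∈ s, ∃ b ∈ s, a ≠ b ∧ (f a = 1 ∨ f a = -1) ∧ (f b = 1 ∨ f b = -1) ∧
      ∀ i ∈ s, i ≠ a → i ≠ b → f i = 0 := by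
  obtain ⟨a, ha, hfa, hsa⟩ := aritha_pick s f (by omega)
  have hnn : 0 ≤ ∑ i ∈ s.erase a, f i ^ 2 := Finset.sum_nonneg (fun i _ => sq_nonneg _)
  have hfa' := aritha_pm (f a) hfa (by linarith)
  have hsq : f a ^ 2 = 1 := by rcases hfa' with h1 | h1 <;> rw [h1] <;> norm_num
  have hrest : ∑ i ∈ s.erase a, f i ^ 2 = 1 := by linarith
  obtain ⟨b, hb, hfb, hz⟩ := aritha_one (s.erase a) f hrest
  have hb' := Finset.mem_erase.1 hb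
  exact ⟨a, ha, b, hb'.2, hb'.1.symm, hfa', hfb,
    fun i hi hia hib => hz i (Finset.mem_erase.2 ⟨hia, hi⟩) hib⟩

theorem aritha_aux {ι : Type*} [Fintype ι] [DecidableEq ι] (d : ι → ℕ) (A B : ι → ℤ) (i₀ : ι)
    (hd_pos : ∀ i, 0 < d i) (hd0 : d i₀ = 1) (hA0 : A i₀ = 1)
    (hAA : ∑ i, A i ^ 2 = 4)
    (hdA : ∑ i, (d i : ℤ) * A i = 0) (hdB : ∑ i, (d i : ℤ) * B i = 0)
    (p q : ι) (hpq : p ≠ q) (hp0 : p ≠ i₀) (hq0 : q ≠ i₀)
    (hBz : ∀ i, i ≠ p → i ≠ q → B i = 0) (hAp : A p = 0) (hBp : B p = 1 ∨ B p = -1)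
    (hBq : B q = 1 ∨ B q = -1) (hAq : A q = B q) :
    ∃ (r₁ r₂ p q : ι) (e₁ e₂ s : ℤ), [i₀, r₁, r₂, p, q].Nodup ∧
      (e₁ = 1 ∨ e₁ = -1) ∧ (e₂ = 1 ∨ e₂ = -1) ∧ (s = 1 ∨ s = -1) ∧
      A r₁ = e₁ ∧ B r₁ = 0 ∧ A r₂ = e₂ ∧ B r₂ = 0 ∧ A p = 0 ∧ B p = -s ∧ A q = s ∧ B q = s ∧ d p = d q ∧
      (∀ i, i ∉ [i₀, r₁, r₂, p, q] → A i = 0 ∧ B i = 0) ∧
      1 + e₁ * (d r₁ : ℤ) + e₂ * (d r₂ : ℤ) + s * (d q : ℤ) = 0 := by
  have hdB' : (d p : ℤ) * B p + (d q : ℤ) * B q = 0 := by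
    rw [← hdB]; symm
    exact Fintype.sum_eq_add p q hpq (fun i hi => by rw [hBz i hi.1 hi.2]; ring)
  have hdp := hd_pos p
  have hdq := hd_pos q
  have hBp' : B p = - B q ∧ d p = d q := by
    rcases hBp with h1 | h1 <;> rcases hBq with h2 | h2 <;> rw [h1, h2] at hdB' ⊢ <;>
      constructor <;> omega
  -- split ΣA²
  have hq_mem : q ∈ (Finset.univ.erase i₀).erase p := by simp [hpq.symm, hq0]
  have hp_mem : p ∈ Finset.univ.erase i₀ := by simp [hp0]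
  have hsplit : A i₀ ^ 2 + (A p ^ 2 + (A q ^ 2 +
      ∑ i ∈ ((Finset.univ.erase i₀).erase p).erase q, A i ^ 2)) = 4 := by
    rw [Finset.add_sum_erase _ (fun i => A i ^ 2) hq_mem,
      Finset.add_sum_erase _ (fun i => A i ^ 2) hp_mem,
      Finset.add_sum_erase _ (fun i => A i ^ 2) (Finset.mem_univ _)]
    exact hAA
  have hAq2 : A q ^ 2 = 1 := by rw [hAq]; rcases hBq with h | h <;> rw [h] <;> norm_num
  have hR2 : ∑ i ∈ ((Finset.univ.erase i₀).erase p).erase q, A i ^ 2 = 2 := by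
    rw [hA0, hAp, hAq2] at hsplit; linarith
  obtain ⟨r₁, hr₁, r₂, hr₂, hr12, hA1, hA2, hAz⟩ := aritha_two _ A hR2
  have m1 : r₁ ≠ q ∧ r₁ ≠ p ∧ r₁ ≠ i₀ := by
    simp only [Finset.mem_erase, Finset.mem_univ, and_true] at hr₁; exact hr₁
  have m2 : r₂ ≠ q ∧ r₂ ≠ p ∧ r₂ ≠ i₀ := by
    simp only [Finset.mem_erase, Finset.mem_univ, and_true] at hr₂; exact hr₂
  -- Σ d A
  have hr2_mem : r₂ ∈ (((Finset.univ.erase i₀).erase p).erase q).erase r₁ :=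
    Finset.mem_erase.2 ⟨hr12.symm, hr₂⟩
  have hzero : ∑ i ∈ ((((Finset.univ.erase i₀).erase p).erase q).erase r₁).erase r₂,
      (d i : ℤ) * A i = 0 := Finset.sum_eq_zero (fun i hi => by
    have h1 := Finset.mem_erase.1 hi
    have h2 := Finset.mem_erase.1 h1.2
    rw [hAz i h2.2 h2.1 h1.1]; ring)
  have hsum : (d i₀ : ℤ) * A i₀ + ((d p : ℤ) * A p + ((d q : ℤ) * A q + ((d r₁ : ℤ) * A r₁ +
      ((d r₂ : ℤ) * A r₂ + ∑ i ∈ ((((Finset.univ.erase i₀).erase p).erase q).erase r₁).erase r₂,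
      (d i : ℤ) * A i)))) = 0 := by
    rw [Finset.add_sum_erase _ (fun i => (d i : ℤ) * A i) hr2_mem,
      Finset.add_sum_erase _ (fun i => (d i : ℤ) * A i) hr₁,
      Finset.add_sum_erase _ (fun i => (d i : ℤ) * A i) hq_mem,
      Finset.add_sum_erase _ (fun i => (d i : ℤ) * A i) hp_mem,
      Finset.add_sum_erase _ (fun i => (d i : ℤ) * A i) (Finset.mem_univ _)]
    exact hdA
  have hd0' : (d i₀ : ℤ) = 1 := by exact_mod_cast hd0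
  refine ⟨r₁, r₂, p, q, A r₁, A r₂, B q, ?_, hA1, hA2, hBq, rfl, hBz r₁ m1.2.1 m1.1, rfl,
    hBz r₂ m2.2.1 m2.1, hAp, hBp'.1, hAq, rfl, hBp'.2, ?_, ?_⟩
  · simp only [List.nodup_cons, List.mem_cons, List.not_mem_nil, or_false, not_or,
      List.nodup_nil, and_true]
    exact ⟨⟨m1.2.2.symm, m2.2.2.symm, hp0.symm, hq0.symm⟩, ⟨hr12, m1.2.1, m1.1⟩,
      ⟨m2.2.1, m2.1⟩, hpq, not_false⟩
  · intro i hi
    simp only [List.mem_cons, List.not_mem_nil, or_false, not_or] at hi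
    obtain ⟨h0, h1, h2, h3, h4⟩ := hi
    refine ⟨hAz i ?_ h1 h2, hBz i h3 h4⟩
    simp only [Finset.mem_erase, Finset.mem_univ, and_true]
    exact ⟨h4, h3, h0⟩
  · rw [hzero, hd0', hA0, hAp, hAq] at hsum
    linear_combination hsum

/-- ARITHA (structure).  From `∑B² = 2`: exactly two indices `p, q` with `B = ±1`; `∑AB = 1`, `∑A² = 4`, `A i₀ = 1`
force (after naming) `A p = 0`, `A q = B q = s`; `∑ d·B = 0` gives `B p = -s`, `d p = d q`; the remaining `∑A² = 2`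
over `B = 0`, `i ≠ i₀` gives two more indices `r₁, r₂` with `A = ±1`; all other indices have `A = B = 0`. -/
theorem arith_structure {ι : Type*} [Fintype ι] [DecidableEq ι] (d : ι → ℕ) (A B : ι → ℤ) (i₀ : ι)
    (hd_pos : ∀ i, 0 < d i) (hd0 : d i₀ = 1) (hA0 : A i₀ = 1) (hB0 : B i₀ = 0)
    (hAA : ∑ i, A i ^ 2 = 4) (hBB : ∑ i, B i ^ 2 = 2) (hAB : ∑ i, A i * B i = 1)
    (hdA : ∑ i, (d i : ℤ) * A i = 0) (hdB : ∑ i, (d i : ℤ) * B i = 0) :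
    ∃ (r₁ r₂ p q : ι) (e₁ e₂ s : ℤ), [i₀, r₁, r₂, p, q].Nodup ∧
      (e₁ = 1 ∨ e₁ = -1) ∧ (e₂ = 1 ∨ e₂ = -1) ∧ (s = 1 ∨ s = -1) ∧
      A r₁ = e₁ ∧ B r₁ = 0 ∧ A r₂ = e₂ ∧ B r₂ = 0 ∧ A p = 0 ∧ B p = -s ∧ A q = s ∧ B q = s ∧ d p = d q ∧
      (∀ i, i ∉ [i₀, r₁, r₂, p, q] → A i = 0 ∧ B i = 0) ∧
      1 + e₁ * (d r₁ : ℤ) + e₂ * (d r₂ : ℤ) + s * (d q : ℤ) = 0 := by
  obtain ⟨a, -, b, -, hab, hBa, hBb, hBz⟩ := aritha_two Finset.univ B hBB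
  have hBz' : ∀ i, i ≠ a → i ≠ b → B i = 0 := fun i h1 h2 => hBz i (Finset.mem_univ i) h1 h2
  have ha0 : a ≠ i₀ := by rintro rfl; rcases hBa with h | h <;> omega
  have hb0 : b ≠ i₀ := by rintro rfl; rcases hBb with h | h <;> omega
  have hAB' : A a * B a + A b * B b = 1 := by
    rw [← hAB]; symm
    exact Fintype.sum_eq_add a b hab (fun i hi => by rw [hBz' i hi.1 hi.2]; ring)
  have hb_mem : b ∈ (Finset.univ.erase i₀).erase a := by simp [hab.symm, hb0]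
  have ha_mem : a ∈ Finset.univ.erase i₀ := by simp [ha0]
  have hsplit : A i₀ ^ 2 + (A a ^ 2 + (A b ^ 2 +
      ∑ i ∈ ((Finset.univ.erase i₀).erase a).erase b, A i ^ 2)) = 4 := by
    rw [Finset.add_sum_erase _ (fun i => A i ^ 2) hb_mem,
      Finset.add_sum_erase _ (fun i => A i ^ 2) ha_mem,
      Finset.add_sum_erase _ (fun i => A i ^ 2) (Finset.mem_univ _)]
    exact hAA
  have hnn : 0 ≤ ∑ i ∈ ((Finset.univ.erase i₀).erase a).erase b, A i ^ 2 :=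
    Finset.sum_nonneg (fun i _ => sq_nonneg _)
  rw [hA0] at hsplit
  have hxy : A a ^ 2 + A b ^ 2 ≤ 3 := by linarith
  have hx1 : A a ≤ 1 := by nlinarith [sq_nonneg (A b)]
  have hx2 : -1 ≤ A a := by nlinarith [sq_nonneg (A b)]
  have hy1 : A b ≤ 1 := by nlinarith [sq_nonneg (A a)]
  have hy2 : -1 ≤ A b := by nlinarith [sq_nonneg (A a)]
  have hcase : (A a = 0 ∧ A b = B b) ∨ (A b = 0 ∧ A a = B a) := by
    rcases hBa with h1 | h1 <;> rcases hBb with h2 | h2 <;> rw [h1, h2] at hAB' ⊢ <;> omega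
  rcases hcase with ⟨h1, h2⟩ | ⟨h1, h2⟩
  · exact aritha_aux d A B i₀ hd_pos hd0 hA0 hAA hdA hdB a b hab ha0 hb0 hBz' h1 hBa hBb h2
  · exact aritha_aux d A B i₀ hd_pos hd0 hA0 hAA hdA hdB b a hab.symm hb0 ha0
      (fun i hi1 hi2 => hBz' i hi2 hi1) h1 hBb hBa h2

end Cfsg.Agent.Lib.H21.DG
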