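import Mathlib

/-!
# S3670 piece ARITHB (helper21): the finite Diophantine search

`d₁, d₂, t ∣ 6048`, `d₁ ≡ e₁`, `d₂ ≡ e₂`, `t ≡ 4 s (mod 7)`, `1 + e₁ d₁ + e₂ d₂ + s t = 0`,
`1 + d₁² + d₂² + 2 t² ≤ 6048`  ⟹  `(d₁, d₂, t)` is one of six triples.
-/

set_option autoImplicit false

namespace Cfsg.Agent.Lib.H21.DG

/-- candidates for a degree `d ≡ ±1 (mod 7)`, `d ∣ 6048`, `2 ≤ d ≤ 77`. -/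
theorem arithb_deg (d : ℕ) (e : ℤ) (h : d ∣ 6048) (hd : 2 ≤ d) (hb : d ≤ 77) (he : e = 1 ∨ e = -1)
    (c : (d : ℤ) % 7 = e % 7) :
    (d = 6 ∧ e = -1) ∨ (d = 8 ∧ e = 1) ∨ (d = 27 ∧ e = -1) ∨ (d = 36 ∧ e = 1) ∨ (d = 48 ∧ e = -1) := by
  rcases he with rfl | rfl <;> interval_cases d <;> omega

/-- candidates for `t ≡ ±4 (mod 7)`, `t ∣ 6048`, `t ≤ 54`. -/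
theorem arithb_t (t : ℕ) (s : ℤ) (h : t ∣ 6048) (hb : t ≤ 54) (hs : s = 1 ∨ s = -1)
    (c : (t : ℤ) % 7 = (4 * s) % 7) :
    (t = 3 ∧ s = -1) ∨ (t = 4 ∧ s = 1) ∨ (t = 18 ∧ s = 1) ∨ (t = 24 ∧ s = -1) ∨ (t = 32 ∧ s = 1) := by
  rcases hs with rfl | rfl <;> interval_cases t <;> omega

/-- ARITHB (Diophantine; finite search: `d ∣ 6048`, `7 ∤ d` so `d ∣ 864`, 24 divisors each). -/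
theorem arith_triples (d₁ d₂ t : ℕ) (e₁ e₂ s : ℤ) (h₁ : d₁ ∣ 6048) (h₂ : d₂ ∣ 6048) (ht : t ∣ 6048)
    (hd₁ : 2 ≤ d₁) (hd₂ : 2 ≤ d₂) (he₁ : e₁ = 1 ∨ e₁ = -1) (he₂ : e₂ = 1 ∨ e₂ = -1) (hs : s = 1 ∨ s = -1)
    (c₁ : (d₁ : ℤ) ≡ e₁ [ZMOD 7]) (c₂ : (d₂ : ℤ) ≡ e₂ [ZMOD 7]) (ct : (t : ℤ) ≡ 4 * s [ZMOD 7])
    (hsum : 1 + e₁ * (d₁ : ℤ) + e₂ * (d₂ : ℤ) + s * (t : ℤ) = 0)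
    (hsq : 1 + d₁ ^ 2 + d₂ ^ 2 + 2 * t ^ 2 ≤ 6048) :
    (d₁ = 6 ∧ d₂ = 27 ∧ t = 32) ∨ (d₁ = 27 ∧ d₂ = 6 ∧ t = 32) ∨ (d₁ = 8 ∧ d₂ = 27 ∧ t = 18) ∨
      (d₁ = 27 ∧ d₂ = 8 ∧ t = 18) ∨ (d₁ = 6 ∧ d₂ = 8 ∧ t = 3) ∨ (d₁ = 8 ∧ d₂ = 6 ∧ t = 3) := by
  have hb1 : d₁ ≤ 77 := by nlinarith
  have hb2 : d₂ ≤ 77 := by nlinarith
  have hbt : t ≤ 54 := by nlinarith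
  have k1 := arithb_deg d₁ e₁ h₁ hd₁ hb1 he₁ c₁
  have k2 := arithb_deg d₂ e₂ h₂ hd₂ hb2 he₂ c₂
  have k3 := arithb_t t s ht hbt hs ct
  rcases k1 with ⟨rfl, rfl⟩ | ⟨rfl, rfl⟩ | ⟨rfl, rfl⟩ | ⟨rfl, rfl⟩ | ⟨rfl, rfl⟩ <;>
  rcases k2 with ⟨rfl, rfl⟩ | ⟨rfl, rfl⟩ | ⟨rfl, rfl⟩ | ⟨rfl, rfl⟩ | ⟨rfl, rfl⟩ <;>
  rcases k3 with ⟨rfl, rfl⟩ | ⟨rfl, rfl⟩ | ⟨rfl, rfl⟩ | ⟨rfl, rfl⟩ | ⟨rfl, rfl⟩ <;>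
  omega

end Cfsg.Agent.Lib.H21.DG
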