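import Mathlib
import Cfsg.Prelude.Def_DegreeGraph
import Cfsg.Agent.Lib.H12.McKayCount
import Cfsg.Agent.Lib.H24.CharInflEquiv

/-!
# Character degree sets: transport along isomorphisms and quotients
-/

set_option autoImplicit false

namespace Cfsg.Agent.Lib.H21.Deg

open Cfsg Cfsg.Agent.Lib.H12 Cfsg.Agent.Lib.H24

theorem charDegree_comp {A B : Type*} [Group A] [Group B] (f : A →* B) (χ : B → ℂ) :
    charDegree (χ ∘ f) = charDegree χ := by
  unfold charDegree
  rw [Function.comp_apply, map_one]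

theorem charDegrees_congr {A B : Type*} [Group A] [Group B] (e : A ≃* B) :
    charDegrees A = charDegrees B := by
  ext d
  constructor
  · rintro ⟨χ, rfl⟩
    refine ⟨(irrCongr e).symm χ, ?_⟩
    exact charDegree_comp e.symm.toMonoidHom (χ : A → ℂ)
  · rintro ⟨χ, rfl⟩
    refine ⟨irrCongr e χ, ?_⟩
    exact charDegree_comp e.toMonoidHom (χ : B → ℂ)

theorem degreePrimes_congr {A B : Type*} [Group A] [Group B] (e : A ≃* B) :
    degreePrimes A = degreePrimes B := by
  unfold degreePrimes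
  rw [charDegrees_congr e]

theorem degreeGraph_adj_congr {A B : Type*} [Group A] [Group B] (e : A ≃* B) (r s : ℕ) :
    (degreeGraph A).Adj r s ↔ (degreeGraph B).Adj r s := by
  show (r ≠ s ∧ r.Prime ∧ s.Prime ∧ ∃ d ∈ charDegrees A, r * s ∣ d) ↔
    (r ≠ s ∧ r.Prime ∧ s.Prime ∧ ∃ d ∈ charDegrees B, r * s ∣ d)
  rw [charDegrees_congr e]

variable {G : Type*} [Group G] [Finite G]

theorem charDegrees_quotient_subset (N : Subgroup G) [N.Normal] :
    charDegrees (G ⧸ N) ⊆ charDegrees G := by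
  rintro d ⟨ψ, rfl⟩
  exact ⟨inflIrr N ψ, charDegree_inflIrr N ψ⟩

theorem mem_charDegrees_quotient (N : Subgroup G) [N.Normal] (χ : IrrCharacter G)
    (h : ∀ n ∈ N, (χ : G → ℂ) n = (χ : G → ℂ) 1) :
    charDegree (χ : G → ℂ) ∈ charDegrees (G ⧸ N) := by
  obtain ⟨ψ, hψ⟩ := exists_deflation χ N h
  refine ⟨ψ, ?_⟩
  unfold charDegree
  have := hψ 1
  rw [QuotientGroup.mk_one] at this
  rw [this]

/-- description of the degree graph data from the degree set -/
theorem mem_degreePrimes_iff (A : Type*) [Group A] (r : ℕ) :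
    r ∈ degreePrimes A ↔ r.Prime ∧ ∃ d ∈ charDegrees A, r ∣ d := Iff.rfl

theorem degreeGraph_adj_iff (A : Type*) [Group A] (r s : ℕ) :
    (degreeGraph A).Adj r s ↔ (r ≠ s ∧ r.Prime ∧ s.Prime ∧ ∃ d ∈ charDegrees A, r * s ∣ d) :=
  Iff.rfl

end Cfsg.Agent.Lib.H21.Deg
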