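import Mathlib
import Cfsg.Prelude.Def_Perm

/-!
# S4025 piece SUB32 (architect helper19): `AGL(1,32)` is not transitive on the additive subgroups
of order `4` of the field with `32` elements.
-/

set_option autoImplicit false

namespace Cfsg.Agent.Lib.H21.EOC

/-- The additive subgroup `{0, 1, s, 1 + s}` of a ring in which `x + x = 0`. -/
def sub32Line {F : Type*} [Field F] (h2 : ∀ x : F, x + x = 0) (s : F) : AddSubgroup F where
  carrier := {x | x = 0 ∨ x = 1 ∨ x = s ∨ x = 1 + s}
  zero_mem' := Or.inl rfl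
  add_mem' := by
    have h1 : (1 : F) + 1 = 0 := h2 1
    have hs : s + s = 0 := h2 s
    rintro a b (rfl | rfl | rfl | rfl) (rfl | rfl | rfl | rfl)
    · left; simp
    · right; left; simp
    · right; right; left; simp
    · right; right; right; simp
    · right; left; simp
    · left; exact h1
    · right; right; right; rfl
    · right; right; left; rw [← add_assoc, h1, zero_add]
    · right; right; left; simp
    · right; right; right; exact add_comm _ _
    · left; exact hs
    · right; left; rw [add_left_comm, h2, add_zero]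
    · right; right; right; simp
    · right; right; left; rw [add_right_comm, h2, zero_add]
    · right; left; rw [add_assoc, hs, add_zero]
    · left; exact h2 _
  neg_mem' := by
    intro a ha
    have : -a = a := neg_eq_of_add_eq_zero_left (h2 a)
    rw [this]; exact ha

theorem sub32Line_mem {F : Type*} [Field F] (h2 : ∀ x : F, x + x = 0) (s x : F) :
    x ∈ sub32Line h2 s ↔ x = 0 ∨ x = 1 ∨ x = s ∨ x = 1 + s := Iff.rfl

theorem sub32Line_card {F : Type*} [Field F] (h2 : ∀ x : F, x + x = 0) (s : F)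
    (hs0 : s ≠ 0) (hs1 : s ≠ 1) : Nat.card (sub32Line h2 s) = 2 ^ 2 := by
  classical
  have h1s : (1 : F) + s ≠ 0 := by
    intro h
    apply hs1
    have : s = -1 := (neg_eq_of_add_eq_zero_right h).symm ▸ rfl
    rw [this]; exact neg_eq_of_add_eq_zero_left (h2 1)
  have hset : ((sub32Line h2 s : AddSubgroup F) : Set F) = ↑({0, 1, s, 1 + s} : Finset F) := by
    ext x
    simp only [SetLike.mem_coe, sub32Line_mem, Finset.coe_insert, Finset.coe_singleton,
      Set.mem_insert_iff, Set.mem_singleton_iff]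
  have hc : Nat.card (sub32Line h2 s) = Set.ncard ((sub32Line h2 s : AddSubgroup F) : Set F) :=
    (Nat.card_coe_set_eq _)
  rw [hc, hset, Set.ncard_coe_finset]
  rw [Finset.card_insert_of_notMem, Finset.card_insert_of_notMem, Finset.card_insert_of_notMem,
    Finset.card_singleton]
  · norm_num
  · simp only [Finset.mem_singleton]
    intro h
    have : (1 : F) = 0 := by
      have h' : s + s = 1 + s + s := by rw [← h]
      rw [h2, add_assoc, h2, add_zero] at h'
      exact h'.symm
    exact one_ne_zero this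
  · simp only [Finset.mem_insert, Finset.mem_singleton, not_or]
    refine ⟨fun h => hs1 h.symm, fun h => hs0 ?_⟩
    have h' : (1 : F) + 1 = 1 + (1 + s) := by rw [← h]
    rw [h2, ← add_assoc, h2, zero_add] at h'
    exact h'.symm
  · simp only [Finset.mem_insert, Finset.mem_singleton, not_or]
    exact ⟨zero_ne_one, fun h => hs0 h.symm, fun h => h1s h.symm⟩

/-- **SUB32**.  `AGL(1,32)` is not transitive on the additive subgroups of order `4`. -/
theorem sub32 {F : Type*} [Field F] [Finite F] (hF : Nat.card F = 32)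
    (htr2 : ∀ A B : AddSubgroup F, Nat.card A = 2 ^ 2 → Nat.card B = 2 ^ 2 →
      ∃ g ∈ Cfsg.affineGroup F, g 0 = 0 ∧ ∀ y, y ∈ B ↔ ∃ x ∈ A, g x = y) : False := by
  classical
  haveI : Fintype F := Fintype.ofFinite F
  have hcardF : Fintype.card F = 32 := by rw [← Nat.card_eq_fintype_card]; exact hF
  -- characteristic two
  have h2 : ∀ x : F, x + x = 0 := by
    obtain ⟨p, hp⟩ := CharP.exists F
    haveI := hp
    obtain ⟨n, hpp, hn⟩ := FiniteField.card F p
    rw [hcardF] at hn
    have hp2 : p = 2 := by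
      have hdvd : p ∣ 2 ^ 5 := by
        rw [show (2 : ℕ) ^ 5 = 32 by norm_num, hn]
        exact dvd_pow_self p n.ne_zero
      exact (Nat.prime_dvd_prime_iff_eq hpp Nat.prime_two).1 (hpp.dvd_of_dvd_pow hdvd)
    subst hp2
    intro x
    exact CharTwo.add_self_eq_zero x
  -- an element `s ∉ {0, 1}`
  have hex : ∀ C : Finset F, C.card < 32 → ∃ t, t ∉ C := by
    intro C hC
    by_contra h
    push Not at h
    have : C = Finset.univ := Finset.eq_univ_iff_forall.2 h
    rw [this, Finset.card_univ, hcardF] at hC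
    exact lt_irrefl _ hC
  obtain ⟨s, hs⟩ := hex {0, 1} (lt_of_le_of_lt (Finset.card_le_two) (by norm_num))
  have hs0 : s ≠ 0 := fun h => hs (by simp [h])
  have hs1 : s ≠ 1 := fun h => hs (by simp [h])
  -- the covered set
  set C : Finset F := ((({1, s⁻¹, (1 + s)⁻¹} : Finset F) ×ˢ ({0, 1, s, 1 + s} : Finset F)).image
    (fun q => q.1 * q.2)) with hCdef
  have hCcard : C.card < 32 := by
    refine lt_of_le_of_lt Finset.card_image_le ?_
    rw [Finset.card_product]
    have h3 : ({1, s⁻¹, (1 + s)⁻¹} : Finset F).card ≤ 3 := Finset.card_le_three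
    have h4 : ({0, 1, s, 1 + s} : Finset F).card ≤ 4 := Finset.card_le_four
    calc _ ≤ 3 * 4 := Nat.mul_le_mul h3 h4
      _ < 32 := by norm_num
  obtain ⟨t, ht⟩ := hex C hCcard
  have hmemC : ∀ a x : F, (a = 1 ∨ a = s⁻¹ ∨ a = (1 + s)⁻¹) →
      (x = 0 ∨ x = 1 ∨ x = s ∨ x = 1 + s) → a * x ∈ C := by
    intro a x ha hx
    rw [hCdef, Finset.mem_image]
    refine ⟨(a, x), ?_, rfl⟩
    rw [Finset.mem_product]
    constructor
    · simpa only [Finset.mem_insert, Finset.mem_singleton] using ha
    · simpa only [Finset.mem_insert, Finset.mem_singleton] using hx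
  have ht0 : t ≠ 0 := by
    intro h
    apply ht
    have := hmemC 1 0 (Or.inl rfl) (Or.inl rfl)
    rwa [mul_zero, ← h] at this
  have ht1 : t ≠ 1 := by
    intro h
    apply ht
    have := hmemC 1 1 (Or.inl rfl) (Or.inr (Or.inl rfl))
    rwa [mul_one, ← h] at this
  obtain ⟨g, hg, hg0, hgB⟩ := htr2 (sub32Line h2 s) (sub32Line h2 t)
    (sub32Line_card h2 s hs0 hs1) (sub32Line_card h2 t ht0 ht1)
  obtain ⟨a, b, hab⟩ := hg
  have hb : b = 0 := by
    have := hab 0
    rw [hg0, mul_zero, zero_add] at this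
    exact this.symm
  have hax : ∀ x, g x = (a : F) * x := by
    intro x; rw [hab x, hb, add_zero]
  -- `1 ∈ B`
  have h1B : (1 : F) ∈ sub32Line h2 t := (sub32Line_mem h2 t 1).2 (Or.inr (Or.inl rfl))
  obtain ⟨x, hxA, hx1⟩ := (hgB 1).1 h1B
  rw [hax] at hx1
  have ha : ((a : F) = 1 ∨ (a : F) = s⁻¹ ∨ (a : F) = (1 + s)⁻¹) := by
    rcases (sub32Line_mem h2 s x).1 hxA with rfl | rfl | rfl | rfl
    · rw [mul_zero] at hx1; exact absurd hx1 zero_ne_one
    · left; rwa [mul_one] at hx1
    · right; left; exact eq_inv_of_mul_eq_one_left hx1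
    · right; right; exact eq_inv_of_mul_eq_one_left hx1
  have htB : t ∈ sub32Line h2 t := (sub32Line_mem h2 t t).2 (Or.inr (Or.inr (Or.inl rfl)))
  obtain ⟨y, hyA, hyt⟩ := (hgB t).1 htB
  rw [hax] at hyt
  apply ht
  rw [← hyt]
  exact hmemC _ _ ha ((sub32Line_mem h2 s y).1 hyA)

end Cfsg.Agent.Lib.H21.EOC
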