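import Mathlib
import Cfsg.Agent.Lib.H9.ExtSpDefs
import Cfsg.Agent.Lib.H18.ExtSpTR

/-!
# S5664, piece P2a: the torus twist

Property (*) for one non-zero functional `θ` gives (*) for all functionals `θ'`.
-/

set_option autoImplicit false

namespace Cfsg.Agent.Lib.H21.ExtSp

open Module Cfsg.Agent.Lib.H9.ExtSp

variable {F K V : Type*} [Field F] [Field K] [Algebra F K] [AddCommGroup V] [Module F V]
  [Module K V] [IsScalarTower F K V]
  {B : LinearMap.BilinForm K V} {lam : K →ₗ[F] F} {M : Subgroup (V ≃ₗ[F] V)}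

/-- the twist `a ↦ θ (· * a)`, as an `F`-linear map `K → K^*` -/
def twistMap (θ : K →ₗ[F] F) : K →ₗ[F] (K →ₗ[F] F) where
  toFun a := θ ∘ₗ (LinearMap.mulRight F a)
  map_add' a b := by
    ext k
    simp only [LinearMap.coe_comp, Function.comp_apply, LinearMap.mulRight_apply, mul_add,
      map_add, LinearMap.add_apply]
  map_smul' s a := by
    ext k
    simp only [LinearMap.coe_comp, Function.comp_apply, LinearMap.mulRight_apply,
      mul_smul_comm, map_smul, RingHom.id_apply, LinearMap.smul_apply]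

theorem twistMap_apply (θ : K →ₗ[F] F) (a k : K) : twistMap θ a k = θ (k * a) := rfl

theorem twistMap_injective {θ : K →ₗ[F] F} (hθ : θ ≠ 0) : Function.Injective (twistMap θ) := by
  rw [← LinearMap.ker_eq_bot, Submodule.eq_bot_iff]
  intro a ha
  by_contra ha0
  apply hθ
  ext k
  have h1 : twistMap θ a (k * a⁻¹) = 0 := by
    rw [LinearMap.mem_ker] at ha
    rw [ha]; rfl
  rw [twistMap_apply, mul_assoc, inv_mul_cancel₀ ha0, mul_one] at h1
  rw [h1]; rfl

/-- every functional is a twist of a given non-zero one -/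
theorem exists_twist [FiniteDimensional F K] {θ : K →ₗ[F] F} (hθ : θ ≠ 0) (θ' : K →ₗ[F] F) :
    ∃ a : K, ∀ k, θ' k = θ (k * a) := by
  have hsurj : Function.Surjective (twistMap θ) := by
    have hfr : finrank F K = finrank F (K →ₗ[F] F) := (Subspace.dual_finrank_eq (K := F) (V := K)).symm
    exact (LinearMap.injective_iff_surjective_of_finrank_eq_finrank hfr).1 (twistMap_injective hθ)
  obtain ⟨a, ha⟩ := hsurj θ'
  exact ⟨a, fun k => by rw [← ha, twistMap_apply]⟩

/-- **P2a** (torus twist: (*) for one non-zero functional gives (*) for all functionals;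
blueprint §P2 (1)-(2); uses TR = `Cfsg.Agent.Lib.H18.ExtSp.exists_klin_map`). -/
theorem star_all [FiniteDimensional F K] (S : Setup B lam M) {w₀ : V} {θ : K →ₗ[F] F}
    (hw : w₀ ≠ 0) (hθ : θ ≠ 0) (hstar : Star M w₀ θ) (θ' : K →ₗ[F] F) : Star M w₀ θ' := by
  by_cases hθ' : θ' = 0
  · intro c _
    refine ⟨1, M.one_mem, fun k => ?_⟩
    simp [hθ']
  obtain ⟨a, ha⟩ := exists_twist hθ θ'
  have ha0 : a ≠ 0 := by
    rintro rfl
    apply hθ'
    ext k
    rw [ha k, mul_zero, map_zero]; rfl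
  have hw' : a⁻¹ • w₀ ≠ 0 := smul_ne_zero (inv_ne_zero ha0) hw
  obtain ⟨g, hgM, hgK, hgw⟩ := Cfsg.Agent.Lib.H18.ExtSp.exists_klin_map S hw hw'
  intro c hc
  have hc' : θ (c * a) = 0 := by rw [← ha c]; exact hc
  obtain ⟨u, huM, hu⟩ := hstar (c * a) hc'
  refine ⟨g * u * g⁻¹, M.mul_mem (M.mul_mem hgM huM) (M.inv_mem hgM), fun k => ?_⟩
  have h1 : g⁻¹ (k • w₀) = (k * a) • w₀ := by
    have : g ((k * a) • w₀) = k • w₀ := by
      rw [hgK, hgw, smul_smul, mul_assoc, mul_inv_cancel₀ ha0, mul_one]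
    rw [← this]
    exact g.symm_apply_apply _
  rw [LinearEquiv.mul_apply, LinearEquiv.mul_apply, h1, hu, hgK, hgw, smul_smul, ha k]
  congr 1
  rw [add_mul, smul_mul_assoc, mul_assoc, mul_assoc, mul_inv_cancel₀ ha0, mul_one, mul_one]

end Cfsg.Agent.Lib.H21.ExtSp
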