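import Mathlib
import Cfsg.Agent.Lib.H9.ExtSpDefs

/-!
# S5664-P3a (helper21): `q = r = 2`, two non-zero vectors of one `K`-point are related.
-/

set_option autoImplicit false
set_option linter.style.haveILetI false

namespace Cfsg.Agent.Lib.H21.ExtSp

open Module Cfsg.Agent.Lib.H9.ExtSp

variable {F K V : Type*} [Field F] [Field K] [Algebra F K] [AddCommGroup V] [Module F V]
  [Module K V] [IsScalarTower F K V]
  {B : LinearMap.BilinForm K V} {lam : K →ₗ[F] F} {M : Subgroup (V ≃ₗ[F] V)}

/-- an `F`-transvection preserves `lam ∘ B`. -/
theorem ftv_form (hB : ∀ x, B x x = 0) (c : V) (h : F) (x y : V) :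
    lam (B (ftv B lam hB c h x) (ftv B lam hB c h y)) = lam (B x y) := by
  simp only [ftv_apply, map_add, LinearMap.add_apply, B_smul_left_F, B_smul_right_F, hB, smul_zero,
    add_zero, map_smul, smul_eq_mul]
  rw [B_skew B hB c y, map_neg]
  ring

theorem two_eq_zero_of_card (hF : Nat.card F = 2) : (2 : F) = 0 := by
  haveI : Finite F := Nat.finite_of_card_ne_zero (by rw [hF]; norm_num)
  haveI : Fintype F := Fintype.ofFinite F
  have h := Nat.cast_card_eq_zero F
  rw [← Nat.card_eq_fintype_card, hF] at h
  exact_mod_cast h

/-- in a field with 4 elements `w ≠ 0, 1` satisfies `w * w = w + 1`. -/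
theorem sq_eq_add_one [FiniteDimensional F K] (hF : Nat.card F = 2) (hK : finrank F K = 2)
    (w : K) (h0 : w ≠ 0) (h1 : w ≠ 1) : w * w = w + 1 := by
  haveI : Finite F := Nat.finite_of_card_ne_zero (by rw [hF]; norm_num)
  haveI : Finite K := Module.finite_of_finite F
  haveI : Fintype K := Fintype.ofFinite K
  have hcard : Fintype.card K = 4 := by
    rw [← Nat.card_eq_fintype_card, Module.natCard_eq_pow_finrank (K := F), hF, hK]
    norm_num
  have h3 : w ^ 3 = 1 := by
    have := FiniteField.pow_card_sub_one_eq_one w h0
    rwa [hcard] at this
  have h2 : (2 : K) = 0 := by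
    have h2F := two_eq_zero_of_card (F := F) hF
    have e : (2 : K) = algebraMap F K 2 := (map_ofNat (algebraMap F K) 2).symm
    rw [e, h2F, map_zero]
  have hfac : (w - 1) * (w * w + w + 1) = 0 := by
    have : (w - 1) * (w * w + w + 1) = w ^ 3 - 1 := by ring
    rw [this, h3, sub_self]
  rcases mul_eq_zero.1 hfac with h | h
  · exact absurd (sub_eq_zero.1 h) h1
  · have : w * w = -(w + 1) := by linear_combination h
    rw [this]
    have hneg : ∀ x : K, -x = x := fun x => by
      have : x + x = 0 := by
        have : x + x = 2 * x := by ring
        rw [this, h2, zero_mul]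
      exact neg_eq_of_add_eq_zero_left this
    exact hneg _

/-- **P3a**. -/
theorem rel_of_same_kpt [FiniteDimensional F K] (S : Setup B lam M) (hF : Nat.card F = 2)
    (hK : finrank F K = 2) (v : V) (k₁ k₂ : K) (h₁ : k₁ ≠ 0) (h₂ : k₂ ≠ 0) :
    Rel B lam S.alt M (k₁ • v) (k₂ • v) := by
  classical
  have hB := S.alt
  have h2F : (2 : F) = 0 := two_eq_zero_of_card hF
  unfold Cfsg.Agent.Lib.H9.ExtSp.Rel
  set x : V := k₁ • v with hx
  set y : V := k₂ • v with hy
  have hform : ∀ a b, lam (B ((ftv B lam hB x 1 * ftv B lam hB y 1) a)
      ((ftv B lam hB x 1 * ftv B lam hB y 1) b)) = lam (B a b) := by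
    intro a b
    rw [LinearEquiv.mul_apply, LinearEquiv.mul_apply, ftv_form, ftv_form]
  have hBl : ∀ (k : K) (a b : V), B (k • a) b = k * B a b := fun k a b => by
    rw [map_smul, LinearMap.smul_apply, smul_eq_mul]
  have hBr : ∀ (k : K) (a b : V), B a (k • b) = k * B a b := fun k a b => by
    rw [map_smul, smul_eq_mul]
  have hBxy : B y x = 0 := by
    rw [hx, hy, hBl, hBr, hB, mul_zero, mul_zero]
  -- explicit formula
  have hT : ∀ z, (ftv B lam hB x 1 * ftv B lam hB y 1) z =
      z + lam (B z x) • x + lam (B z y) • y := by
    intro z
    rw [LinearEquiv.mul_apply, ftv_apply, ftv_apply]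
    simp only [one_mul, map_add, LinearMap.add_apply, B_smul_left_F, hBxy, smul_zero, add_zero]
    abel
  by_cases h12 : k₁ = k₂
  · -- the square of a transvection is trivial in characteristic 2
    have hxy : y = x := by rw [hx, hy, h12]
    have hone : ftv B lam hB x 1 * ftv B lam hB y 1 = 1 := by
      apply LinearEquiv.ext
      intro z
      rw [hT, hxy, LinearEquiv.coe_one, id_eq, add_assoc, ← add_smul]
      have : lam (B z x) + lam (B z x) = 0 := by
        have : lam (B z x) + lam (B z x) = 2 * lam (B z x) := by ring
        rw [this, h2F, zero_mul]
      rw [this, zero_smul, add_zero]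
    rw [hone]
    exact M.one_mem
  · -- `w = k₂ / k₁`
    set w : K := k₂ * k₁⁻¹ with hw
    have hw0 : w ≠ 0 := mul_ne_zero h₂ (inv_ne_zero h₁)
    have hw1 : w ≠ 1 := by
      intro h
      apply h12
      have : k₂ = w * k₁ := by rw [hw, mul_assoc, inv_mul_cancel₀ h₁, mul_one]
      rw [this, h, one_mul]
    have hww := sq_eq_add_one hF hK w hw0 hw1
    have hyx : y = w • x := by
      rw [hx, hy, smul_smul, hw, mul_assoc, inv_mul_cancel₀ h₁, mul_one]
    -- the nilpotent part
    set N : V → V := fun z => lam (B z x) • x + lam (B z y) • y with hN
    have hByx : ∀ z, B z y = w * B z x := fun z => by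
      rw [hyx, map_smul, smul_eq_mul]
    have hwx : w • x = y := hyx.symm
    have hwy : w • y = y + x := by
      rw [hyx, smul_smul, hww, add_smul, one_smul]
    have hNw : ∀ z, N (w • z) = w • N z := by
      intro z
      have e1 : B (w • z) x = w * B z x := hBl w z x
      have e2 : B (w • z) y = w * B z x + B z x := by
        rw [hBl, hByx z, ← mul_assoc, hww, add_mul, one_mul]
      have e3 : B z y = w * B z x := hByx z
      show lam (B (w • z) x) • x + lam (B (w • z) y) • y = w • (lam (B z x) • x + lam (B z y) • y)
      rw [e1, e2, e3, map_add, add_smul, smul_add, smul_comm w (lam (B z x)) x,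
        smul_comm w (lam (w * B z x)) y, hwx, hwy, smul_add]
      abel
    -- `K`-linearity of `N`
    have hNadd : ∀ a b, N (a + b) = N a + N b := by
      intro a b
      simp only [hN, map_add, LinearMap.add_apply, add_smul]
      abel
    have hNF : ∀ (c : F) z, N (c • z) = c • N z := by
      intro c z
      simp only [hN, B_smul_left_F, map_smul, smul_eq_mul, smul_add, smul_smul]
    -- the set of `k` commuting with `N` is everything
    let C : Submodule F K :=
      { carrier := {k | ∀ z, N (k • z) = k • N z}
        add_mem' := by
          intro a b ha hb z
          rw [add_smul, hNadd, ha z, hb z, add_smul]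
        zero_mem' := by
          intro z
          rw [zero_smul, zero_smul]
          simp only [hN, map_zero, LinearMap.zero_apply, zero_smul, add_zero]
        smul_mem' := by
          intro c a ha z
          rw [smul_assoc, hNF, ha z, smul_assoc] }
    have h1C : (1 : K) ∈ C := fun z => by rw [one_smul, one_smul]
    have hwC : w ∈ C := hNw
    have hCtop : C = ⊤ := by
      apply Submodule.eq_top_of_finrank_eq
      rw [hK]
      apply le_antisymm
      · rw [← hK]; exact Submodule.finrank_le C
      · -- `1, w` are independent
        have hli : LinearIndependent F ![(⟨1, h1C⟩ : C), ⟨w, hwC⟩] := by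
          rw [LinearIndependent.pair_iff]
          intro s t hst
          have hst' : s • (1 : K) + t • w = 0 := by
            have := congrArg (Subtype.val) hst
            simpa using this
          by_cases ht : t = 0
          · subst ht
            rw [zero_smul, add_zero] at hst'
            have : s = 0 := by
              by_contra hs
              have : (1 : K) = 0 := by
                have := congrArg (fun u => s⁻¹ • u) hst'
                simpa [smul_smul, inv_mul_cancel₀ hs] using this
              exact one_ne_zero this
            exact ⟨this, rfl⟩
          · exfalso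
            -- `F` has two elements: `t = 1` and `s ∈ {0, 1}`
            haveI : Finite F := Nat.finite_of_card_ne_zero (by rw [hF]; norm_num)
            haveI : Fintype F := Fintype.ofFinite F
            have hcF : Fintype.card F = 2 := by rw [← Nat.card_eq_fintype_card, hF]
            have hel : ∀ a : F, a = 0 ∨ a = 1 := by
              intro a
              by_contra hne
              rw [not_or] at hne
              have : 3 ≤ Fintype.card F := by
                have h3 : ({0, 1, a} : Finset F).card = 3 := by
                  rw [Finset.card_insert_of_notMem, Finset.card_insert_of_notMem,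
                    Finset.card_singleton]
                  · simpa using (fun h : (1 : F) = a => hne.2 h.symm)
                  · simp only [Finset.mem_insert, Finset.mem_singleton, not_or]
                    exact ⟨zero_ne_one, fun h => hne.1 h.symm⟩
                calc 3 = ({0, 1, a} : Finset F).card := h3.symm
                  _ ≤ Fintype.card F := Finset.card_le_univ _
              omega
            have ht1 : t = 1 := (hel t).resolve_left ht
            subst ht1
            rw [one_smul] at hst'
            rcases hel s with hs | hs
            · subst hs
              rw [zero_smul, zero_add] at hst'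
              exact hw0 hst'
            · subst hs
              rw [one_smul] at hst'
              -- `1 + w = 0` so `w = -1 = 1`
              have h2K : (2 : K) = 0 := by
                have e : (2 : K) = algebraMap F K 2 := (map_ofNat (algebraMap F K) 2).symm
                rw [e, h2F, map_zero]
              have : w = 1 := by
                have hw' : w = -1 := by linear_combination hst'
                rw [hw']
                have : (1 : K) + 1 = 0 := by
                  have : (1 : K) + 1 = 2 := by norm_num
                  rw [this, h2K]
                exact neg_eq_of_add_eq_zero_left this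
              exact hw1 this
        have := hli.fintype_card_le_finrank
        simpa using this
    have hNK : ∀ (k : K) z, N (k • z) = k • N z := by
      intro k z
      have : k ∈ C := by rw [hCtop]; exact Submodule.mem_top
      exact this z
    apply S.cent _ _ hform
    intro k z
    rw [hT, hT]
    have hk : lam (B (k • z) x) • x + lam (B (k • z) y) • y =
        k • (lam (B z x) • x + lam (B z y) • y) := hNK k z
    rw [add_assoc, hk, add_assoc]
    simp only [smul_add]

end Cfsg.Agent.Lib.H21.ExtSp
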