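import Mathlib

/-!
# S1542 piece EIG2 (`pow_index_le_card`), architect helper7

A group `U` acting without fixed points on a nontrivial finite abelian `p`-group `W`, with
`u ^ (p - 1) = 1` for all `u`; `F` a normal cyclic self-centralizing subgroup.  Then
`p ^ |U : F| ≤ |W|`.
-/

set_option autoImplicit false

namespace Cfsg.Agent.Lib.H21.FB

open Polynomial

section core

variable {p : ℕ} [Fact p.Prime]
variable {U V : Type*} [Group U] [Finite U] [AddCommGroup V] [Module (ZMod p) V] [Finite V]

/-- `X ^ (p - 1) - 1` splits over `ZMod p`. -/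
theorem eig2_splits : ((X : (ZMod p)[X]) ^ (p - 1) - 1).Splits := by
  have hp : p.Prime := Fact.out
  have h1 : ((X : (ZMod p)[X]) ^ p - X).Splits := by
    rw [splits_iff_card_roots]
    have := FiniteField.roots_X_pow_card_sub_X (ZMod p)
    rw [ZMod.card] at this
    rw [this, FiniteField.X_pow_card_sub_X_natDegree_eq (ZMod p) hp.one_lt]
    simp [ZMod.card]
  have h0 : ((X : (ZMod p)[X]) ^ p - X) ≠ 0 :=
    FiniteField.X_pow_card_sub_X_ne_zero (ZMod p) hp.one_lt
  refine h1.of_dvd h0 ⟨X, ?_⟩
  have h2 : (X : (ZMod p)[X]) ^ p = X ^ (p - 1) * X := by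
    rw [← pow_succ, Nat.sub_add_cancel hp.one_le]
  rw [h2]
  ring

/-- An operator with `T ^ (p - 1) = 1` on a nontrivial finite `ZMod p`-space has an eigenvector. -/
theorem eig2_exists_eigenvector [Nontrivial V] (T : Module.End (ZMod p) V)
    (hT : T ^ (p - 1) = 1) : ∃ (μ : ZMod p) (v : V), T.HasEigenvector μ v := by
  have hdvd : minpoly (ZMod p) T ∣ (X : (ZMod p)[X]) ^ (p - 1) - 1 := by
    apply minpoly.dvd
    simp [hT]
  have hp : p.Prime := Fact.out
  have hne : ((X : (ZMod p)[X]) ^ (p - 1) - 1) ≠ 0 := by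
    apply Polynomial.X_pow_sub_C_ne_zero (n := p - 1) (by have := hp.one_lt; omega) (1 : ZMod p)
  have hsp : (minpoly (ZMod p) T).Splits := eig2_splits.of_dvd hne hdvd
  have hdeg : (minpoly (ZMod p) T).degree ≠ 0 :=
    (minpoly.degree_pos (IsIntegral.of_finite (ZMod p) T)).ne'
  obtain ⟨μ, hμ⟩ := hsp.exists_eval_eq_zero hdeg
  obtain ⟨v, hv⟩ := (Module.End.hasEigenvalue_of_isRoot (f := T) hμ).exists_hasEigenvector
  exact ⟨μ, v, hv⟩

theorem eig2_core [Nontrivial V] (T : U →* Module.End (ZMod p) V)
    (hfpf : ∀ u : U, u ≠ 1 → ∀ v : V, T u v = v → v = 0)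
    (hexp : ∀ u : U, u ^ (p - 1) = 1)
    (F : Subgroup U) [F.Normal] (hF : IsCyclic F)
    (hCF : Subgroup.centralizer (F : Set U) ≤ F) : p ^ F.index ≤ Nat.card V := by
  classical
  have hp : p.Prime := Fact.out
  obtain ⟨g, hg⟩ := hF.exists_generator
  set a : U := (g : U) with ha
  have hFa : ∀ x : U, x ∈ F → ∃ k : ℕ, a ^ k = x := by
    intro x hx
    have h1 : (⟨x, hx⟩ : F) ∈ Subgroup.zpowers g := hg _
    rw [← mem_powers_iff_mem_zpowers] at h1
    obtain ⟨k, hk⟩ := h1
    refine ⟨k, ?_⟩
    have := congrArg (Subtype.val) hk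
    simpa using this
  -- an eigenvector of `T a`
  have hTa : (T a) ^ (p - 1) = 1 := by rw [← map_pow, hexp, map_one]
  obtain ⟨μ, v, hv⟩ := eig2_exists_eigenvector (T a) hTa
  have hv0 : v ≠ 0 := hv.2
  have hva : T a v = μ • v := hv.apply_eq_smul
  have hvk : ∀ k : ℕ, T (a ^ k) v = μ ^ k • v := by
    intro k
    induction k with
    | zero => simp
    | succ k ih =>
      rw [pow_succ, map_mul, Module.End.mul_apply, hva, map_smul, ih, smul_smul, pow_succ, mul_comm]
  -- conjugates
  have hconj : ∀ u : U, ∃ k : ℕ, a ^ k = u⁻¹ * a * u := by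
    intro u
    apply hFa
    have haF : a ∈ F := g.2
    have := (inferInstance : F.Normal).conj_mem a haF u⁻¹
    simpa using this
  choose k hk using hconj
  have hinj : ∀ u : U, Function.Injective (T u) := by
    intro u x y hxy
    have := congrArg (T u⁻¹) hxy
    simpa [← Module.End.mul_apply, ← map_mul] using this
  have heig : ∀ u : U, (T a).HasEigenvector (μ ^ k u) (T u v) := by
    intro u
    rw [Module.End.hasEigenvector_iff, Module.End.mem_eigenspace_iff]
    refine ⟨?_, ?_⟩
    · have h1 : a * u = u * a ^ k u := by rw [hk u]; group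
      rw [← Module.End.mul_apply, ← map_mul, h1, map_mul, Module.End.mul_apply, hvk, map_smul]
    · intro h0
      apply hv0
      apply hinj u
      rw [h0, map_zero]
  -- the eigenvalues on the cosets
  let μs : U ⧸ F → ZMod p := fun q => μ ^ k q.out
  let vs : U ⧸ F → V := fun q => T q.out v
  have hμinj : Function.Injective μs := by
    intro q q' hqq
    have h1 : T (a ^ k q.out) v = T (a ^ k q'.out) v := by
      rw [hvk, hvk]; exact congrArg (· • v) hqq
    have h2 : a ^ k q.out = a ^ k q'.out := by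
      by_contra hne
      have h3 : (a ^ k q'.out)⁻¹ * a ^ k q.out ≠ 1 := by
        intro h; apply hne
        have := congrArg (fun z => a ^ k q'.out * z) h
        simpa [mul_assoc] using this
      apply hv0
      apply hfpf _ h3 v
      rw [map_mul, Module.End.mul_apply, h1, ← Module.End.mul_apply, ← map_mul]
      simp
    rw [hk, hk] at h2
    -- `q'.out * q.out⁻¹` centralizes `a`
    have h4 : q'.out * (q.out)⁻¹ ∈ Subgroup.centralizer (F : Set U) := by
      rw [Subgroup.mem_centralizer_iff]
      intro h hh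
      obtain ⟨n, rfl⟩ := hFa h hh
      have hc : Commute a (q'.out * (q.out)⁻¹) := by
        show a * (q'.out * (q.out)⁻¹) = (q'.out * (q.out)⁻¹) * a
        have e1 : a * q'.out = q'.out * ((q.out)⁻¹ * a * q.out) := by rw [h2]; group
        calc a * (q'.out * (q.out)⁻¹) = (a * q'.out) * (q.out)⁻¹ := by group
          _ = q'.out * ((q.out)⁻¹ * a * q.out) * (q.out)⁻¹ := by rw [e1]
          _ = (q'.out * (q.out)⁻¹) * a := by group
      exact (hc.pow_left n).eq
    have h5 : q'.out * (q.out)⁻¹ ∈ F := hCF h4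
    have h6 : (q.out)⁻¹ * q'.out ∈ F := by
      have := (inferInstance : F.Normal).conj_mem _ h5 (q.out)⁻¹
      simpa [mul_assoc] using this
    have : (QuotientGroup.mk q.out : U ⧸ F) = QuotientGroup.mk q'.out :=
      QuotientGroup.eq.mpr h6
    simpa using this
  have hli : LinearIndependent (ZMod p) vs :=
    Module.End.eigenvectors_linearIndependent' (T a) μs hμinj vs (fun q => heig q.out)
  let _ : Fintype (U ⧸ F) := Fintype.ofFinite _
  have hcard := hli.fintype_card_le_finrank
  rw [Subgroup.index_eq_card, Nat.card_eq_fintype_card]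
  calc p ^ Fintype.card (U ⧸ F) ≤ p ^ Module.finrank (ZMod p) V :=
        Nat.pow_le_pow_right hp.pos hcard
    _ = Nat.card V := by
        rw [Module.natCard_eq_pow_finrank (K := ZMod p) (V := V), Nat.card_eq_fintype_card,
          ZMod.card]

end core

section main

variable {U W : Type*} [Group U] [Finite U] [CommGroup W] [Finite W]

/-- `Ω₁(W) = {w | w ^ p = 1}`. -/
def eig2Omega (p : ℕ) (W : Type*) [CommGroup W] : Subgroup W := (powMonoidHom p : W →* W).ker

omit [Finite W] in
theorem eig2_mem_omega {p : ℕ} {w : W} : w ∈ eig2Omega p W ↔ w ^ p = 1 := by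
  simp [eig2Omega, MonoidHom.mem_ker]

/-- The action restricted to `Ω₁(W)`. -/
def eig2Res (p : ℕ) (ρ : U →* MulAut W) (u : U) : eig2Omega p W →* eig2Omega p W :=
  ((ρ u).toMonoidHom.comp (eig2Omega p W).subtype).codRestrict (eig2Omega p W) (by
    intro x
    rw [eig2_mem_omega]
    have hx : (x : W) ^ p = 1 := eig2_mem_omega.mp x.2
    show (ρ u (x : W)) ^ p = 1
    rw [← map_pow, hx, map_one])

omit [Finite U] [Finite W] in
theorem eig2Res_apply (p : ℕ) (ρ : U →* MulAut W) (u : U) (x : eig2Omega p W) :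
    ((eig2Res p ρ u x : eig2Omega p W) : W) = ρ u (x : W) := rfl

/-- The `ZMod p`-module structure on `Ω₁(W)`. -/
@[reducible] def eig2Module (p : ℕ) (W : Type*) [CommGroup W] :
    Module (ZMod p) (Additive (eig2Omega p W)) :=
  AddCommGroup.zmodModule (n := p) (G := Additive (eig2Omega p W)) (by
    intro x
    induction x using Additive.rec with
    | ofMul w =>
      rw [← ofMul_pow]
      have : (w : W) ^ p = 1 := eig2_mem_omega.mp w.2
      have hw : w ^ p = 1 := Subtype.ext (by simpa using this)
      rw [hw, ofMul_one])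

attribute [local instance] eig2Module

/-- The linear action of `U` on `Ω₁(W)`. -/
def eig2T (p : ℕ) (ρ : U →* MulAut W) : U →* Module.End (ZMod p) (Additive (eig2Omega p W)) where
  toFun := fun u => (MonoidHom.toAdditive (eig2Res p ρ u)).toZModLinearMap p
  map_one' := by
    apply LinearMap.ext
    intro x
    induction x using Additive.rec with
    | ofMul w =>
      rw [Module.End.one_apply]
      show Additive.ofMul (eig2Res p ρ 1 w) = Additive.ofMul w
      congr 1
      apply Subtype.ext
      rw [eig2Res_apply, map_one]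
      rfl
  map_mul' := by
    intro u u'
    apply LinearMap.ext
    intro x
    induction x using Additive.rec with
    | ofMul w =>
      rw [Module.End.mul_apply]
      show Additive.ofMul (eig2Res p ρ (u * u') w)
        = Additive.ofMul (eig2Res p ρ u (eig2Res p ρ u' w))
      congr 1
      apply Subtype.ext
      rw [eig2Res_apply, eig2Res_apply, eig2Res_apply, map_mul]
      rfl

theorem eig2T_apply (p : ℕ) (ρ : U →* MulAut W) (u : U) (w : eig2Omega p W) :
    eig2T p ρ u (Additive.ofMul w) = Additive.ofMul (eig2Res p ρ u w) := rfl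

/-- EIG2. -/
theorem pow_index_le_card [Nontrivial W]
    (p : ℕ) [Fact p.Prime] (hW : IsPGroup p W) (ρ : U →* MulAut W)
    (hfpf : ∀ u : U, u ≠ 1 → ∀ w : W, ρ u w = w → w = 1)
    (hexp : ∀ u : U, u ^ (p - 1) = 1)
    (F : Subgroup U) [F.Normal] (hF : IsCyclic F)
    (hCF : Subgroup.centralizer (F : Set U) ≤ F) : p ^ F.index ≤ Nat.card W := by
  classical
  have hp : p.Prime := Fact.out
  -- nontriviality
  have hnt : Nontrivial (Additive (eig2Omega p W)) := by
    obtain ⟨n, hn0, hn⟩ := (hW.nontrivial_iff_card).mp inferInstance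
    have hdvd : p ∣ Nat.card W := by rw [hn]; exact dvd_pow_self p hn0.ne'
    let _ : Fintype W := Fintype.ofFinite W
    rw [Nat.card_eq_fintype_card] at hdvd
    obtain ⟨x, hx⟩ := exists_prime_orderOf_dvd_card p hdvd
    have hxp : x ^ p = 1 := by rw [← hx]; exact pow_orderOf_eq_one x
    have hx1 : x ≠ 1 := by
      intro h; rw [h, orderOf_one] at hx; exact hp.one_lt.ne hx
    refine ⟨⟨Additive.ofMul ⟨x, eig2_mem_omega.mpr hxp⟩, 0, ?_⟩⟩
    intro h
    apply hx1
    have h2 : (⟨x, eig2_mem_omega.mpr hxp⟩ : eig2Omega p W) = 1 := Additive.ofMul.injective h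
    exact congrArg Subtype.val h2
  have hfpf' : ∀ u : U, u ≠ 1 → ∀ v : Additive (eig2Omega p W), eig2T p ρ u v = v → v = 0 := by
    intro u hu v hv
    induction v using Additive.rec with
    | ofMul w =>
      rw [eig2T_apply] at hv
      have h1 : eig2Res p ρ u w = w := Additive.ofMul.injective hv
      have h2 : ρ u (w : W) = (w : W) := by rw [← eig2Res_apply, h1]
      have h3 : (w : W) = 1 := hfpf u hu _ h2
      have h4 : w = 1 := Subtype.ext h3
      rw [h4]; rfl
  have key := eig2_core (p := p) (eig2T p ρ) hfpf' hexp F hF hCF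
  calc p ^ F.index ≤ Nat.card (Additive (eig2Omega p W)) := key
    _ = Nat.card (eig2Omega p W) := rfl
    _ ≤ Nat.card W := Subgroup.card_le_card_group _

end main

end Cfsg.Agent.Lib.H21.FB
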