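import Mathlib
import Cfsg.Agent.Lib.H21.FBEIG2

/-!
# S1542 piece EIG1 (`isCyclic_of_fpf`), architect helper7

A group acting without fixed points on a nontrivial finite abelian `p`-group, all of whose elements
satisfy `u ^ (p - 1) = 1`: every abelian subgroup is cyclic of order dividing `p - 1`.
Route: common eigenvector on `Ω₁(W)` (a `ZMod p`-space), giving an injective hom `A →* ZMod p`.
-/

set_option autoImplicit false

namespace Cfsg.Agent.Lib.H21.FB

open Module

section common

variable {p : ℕ} [Fact p.Prime]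
variable {V : Type*} [AddCommGroup V] [Module (ZMod p) V] [Finite V]

theorem eig1_common_aux {ι : Type*} (f : ι → End (ZMod p) V)
    (hc : ∀ i j, f i * f j = f j * f i) (hpow : ∀ i, f i ^ (p - 1) = 1) :
    ∀ (n : ℕ) (W : Submodule (ZMod p) V), finrank (ZMod p) W ≤ n → W ≠ ⊥ →
      (∀ i, ∀ w ∈ W, f i w ∈ W) →
      ∃ v ∈ W, v ≠ 0 ∧ ∀ i, ∃ μ : ZMod p, f i v = μ • v := by
  intro n
  induction n with
  | zero =>
    intro W hW hne _
    exact absurd (Submodule.finrank_eq_zero.mp (Nat.le_zero.mp hW)) hne
  | succ n ih =>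
    intro W hW hne hinv
    by_cases hs : ∀ i, ∃ μ : ZMod p, ∀ w ∈ W, f i w = μ • w
    · obtain ⟨v, hvW, hv0⟩ := Submodule.exists_mem_ne_zero_of_ne_bot hne
      exact ⟨v, hvW, hv0, fun i => (hs i).imp (fun μ hμ => hμ v hvW)⟩
    · push Not at hs
      obtain ⟨i, hi⟩ := hs
      have hnt : Nontrivial W := Submodule.nontrivial_iff_ne_bot.mpr hne
      have hres : ((f i).restrict (hinv i)) ^ (p - 1) = 1 := by
        apply LinearMap.ext
        intro w
        apply Subtype.ext
        rw [Module.End.pow_restrict (p - 1) (hinv i)]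
        rw [LinearMap.coe_restrict_apply, hpow i]
        rfl
      obtain ⟨μ, u, hu⟩ := eig2_exists_eigenvector ((f i).restrict (hinv i)) hres
      have hu0 : (u : V) ≠ 0 := fun h0 => hu.2 (Subtype.ext h0)
      have hfu : f i (u : V) = μ • (u : V) := by
        have := congrArg Subtype.val hu.apply_eq_smul
        simpa using this
      set W' : Submodule (ZMod p) V := W ⊓ Module.End.eigenspace (f i) μ with hW'
      have hW'ne : W' ≠ ⊥ := by
        intro hb
        have : (u : V) ∈ W' := ⟨u.2, Module.End.mem_eigenspace_iff.mpr hfu⟩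
        rw [hb, Submodule.mem_bot] at this
        exact hu0 this
      have hW'inv : ∀ j, ∀ w ∈ W', f j w ∈ W' := by
        intro j w hw
        refine ⟨hinv j w hw.1, ?_⟩
        apply Module.End.mem_eigenspace_iff.mpr
        have h1 : f i w = μ • w := Module.End.mem_eigenspace_iff.mp hw.2
        have h2 := congrArg (fun g : End (ZMod p) V => g w) (hc i j)
        simp only [Module.End.mul_apply] at h2
        rw [h2, h1, map_smul]
      have hlt : W' < W := by
        refine lt_of_le_of_ne inf_le_left ?_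
        intro heq
        obtain ⟨w, hwW, hw⟩ := hi μ
        have : w ∈ W' := heq ▸ hwW
        exact hw (Module.End.mem_eigenspace_iff.mp this.2)
      have hrk : finrank (ZMod p) W' ≤ n := by
        have := Submodule.finrank_lt_finrank_of_lt hlt
        omega
      obtain ⟨v, hvW', hv0, hv⟩ := ih W' hrk hW'ne hW'inv
      exact ⟨v, hvW'.1, hv0, hv⟩

theorem eig1_common [Nontrivial V] {ι : Type*} (f : ι → End (ZMod p) V)
    (hc : ∀ i j, f i * f j = f j * f i) (hpow : ∀ i, f i ^ (p - 1) = 1) :
    ∃ v : V, v ≠ 0 ∧ ∀ i, ∃ μ : ZMod p, f i v = μ • v := by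
  obtain ⟨v, _, hv0, hv⟩ := eig1_common_aux f hc hpow (finrank (ZMod p) (⊤ : Submodule (ZMod p) V)) ⊤
    le_rfl top_ne_bot (fun _ _ _ => Submodule.mem_top)
  exact ⟨v, hv0, hv⟩

/-- linear form of EIG1 -/
theorem eig1_core [Nontrivial V] {U : Type*} [Group U] [Finite U]
    (T : U →* End (ZMod p) V)
    (hfpf : ∀ u : U, u ≠ 1 → ∀ v : V, T u v = v → v = 0)
    (hexp : ∀ u : U, u ^ (p - 1) = 1)
    (A : Subgroup U) (hA : IsMulCommutative A) : IsCyclic A ∧ Nat.card A ∣ p - 1 := by
  classical
  have hcomm : ∀ a b : A, a * b = b * a := fun a b => hA.is_comm.comm a b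
  obtain ⟨v, hv0, hv⟩ := eig1_common (fun a : A => T (a : U))
    (fun a b => by
      show T (a : U) * T (b : U) = T (b : U) * T (a : U)
      rw [← map_mul, ← map_mul]
      congr 1
      exact congrArg Subtype.val (hcomm a b))
    (fun a => by
      show T (a : U) ^ (p - 1) = 1
      rw [← map_pow, hexp, map_one])
  choose μ hμ using hv
  have hμ1 : μ 1 = 1 := by
    have := hμ 1
    simp only [Subgroup.coe_one, map_one, Module.End.one_apply] at this
    have h2 : ((1 : ZMod p) - μ 1) • v = 0 := by rw [sub_smul, one_smul, ← this, sub_self]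
    rcases smul_eq_zero.mp h2 with h3 | h3
    · linear_combination -h3
    · exact absurd h3 hv0
  have hμmul : ∀ a b, μ (a * b) = μ a * μ b := by
    intro a b
    have h1 := hμ (a * b)
    simp only [Subgroup.coe_mul, map_mul, Module.End.mul_apply] at h1
    rw [hμ b, map_smul, hμ a, smul_smul] at h1
    have h2 : (μ (a * b) - μ b * μ a) • v = 0 := by rw [sub_smul, ← h1, sub_self]
    rcases smul_eq_zero.mp h2 with h3 | h3
    · linear_combination h3
    · exact absurd h3 hv0
  let φ : A →* ZMod p := { toFun := μ, map_one' := hμ1, map_mul' := hμmul }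
  have hinj : Function.Injective φ := by
    rw [injective_iff_map_eq_one]
    intro a ha
    by_contra hne
    apply hv0
    have hne' : (a : U) ≠ 1 := fun h => hne (Subtype.ext h)
    apply hfpf (a : U) hne'
    have : μ a = 1 := ha
    rw [hμ a, this, one_smul]
  have hcyc : IsCyclic A := isCyclic_of_injective_ringHom φ hinj
  refine ⟨hcyc, ?_⟩
  obtain ⟨g, hg⟩ := hcyc.exists_generator
  rw [← orderOf_eq_card_of_forall_mem_zpowers hg]
  apply orderOf_dvd_of_pow_eq_one
  apply Subtype.ext
  simpa using hexp (g : U)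

end common

section main

variable {U W : Type*} [Group U] [Finite U] [CommGroup W] [Finite W]

attribute [local instance] eig2Module

/-- EIG1. -/
theorem isCyclic_of_fpf [Nontrivial W]
    (p : ℕ) [Fact p.Prime] (hW : IsPGroup p W) (ρ : U →* MulAut W)
    (hfpf : ∀ u : U, u ≠ 1 → ∀ w : W, ρ u w = w → w = 1)
    (hexp : ∀ u : U, u ^ (p - 1) = 1)
    (A : Subgroup U) (hA : IsMulCommutative A) : IsCyclic A ∧ Nat.card A ∣ p - 1 := by
  classical
  have hp : p.Prime := Fact.out
  have hnt : Nontrivial (Additive (eig2Omega p W)) := by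
    obtain ⟨n, hn0, hn⟩ := (hW.nontrivial_iff_card).mp inferInstance
    have hdvd : p ∣ Nat.card W := by rw [hn]; exact dvd_pow_self p hn0.ne'
    let _ : Fintype W := Fintype.ofFinite W
    rw [Nat.card_eq_fintype_card] at hdvd
    obtain ⟨x, hx⟩ := exists_prime_orderOf_dvd_card p hdvd
    have hxp : x ^ p = 1 := by rw [← hx]; exact pow_orderOf_eq_one x
    have hx1 : x ≠ 1 := by
      intro h; rw [h, orderOf_one] at hx; exact hp.one_lt.ne hx
    refine ⟨⟨Additive.ofMul ⟨x, eig2_mem_omega.mpr hxp⟩, 0, ?_⟩⟩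
    intro h
    apply hx1
    have h2 : (⟨x, eig2_mem_omega.mpr hxp⟩ : eig2Omega p W) = 1 := Additive.ofMul.injective h
    exact congrArg Subtype.val h2
  have hfpf' : ∀ u : U, u ≠ 1 → ∀ v : Additive (eig2Omega p W), eig2T p ρ u v = v → v = 0 := by
    intro u hu v hv
    induction v using Additive.rec with
    | ofMul w =>
      rw [eig2T_apply] at hv
      have h1 : eig2Res p ρ u w = w := Additive.ofMul.injective hv
      have h2 : ρ u (w : W) = (w : W) := by rw [← eig2Res_apply, h1]
      have h3 : (w : W) = 1 := hfpf u hu _ h2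
      have h4 : w = 1 := Subtype.ext h3
      rw [h4]; rfl
  exact eig1_core (p := p) (eig2T p ρ) hfpf' hexp A hA

end main

end Cfsg.Agent.Lib.H21.FB
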