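import Mathlib
import Cfsg.Agent.Lib.H3.OffenderE10
import Cfsg.Agent.Lib.H3.OffenderE11
import Cfsg.Agent.S0598

/-!
# Abelian offenders in a faithful group with self-centralizing `2'`-core (helper21)

In the setting `FFS 2 V H Q` of helper3's failure-of-factorization library, every abelian
`2`-subgroup `A ≤ H` with `|A| |C_V(A)| ≥ |V|` satisfies `|A| |C_V(A)| = |V|` and is generated by the
best offenders (in the sense of `Cfsg.IsBestOffenderOn`, i.e. elementary abelian ones) it contains.
-/

set_option autoImplicit false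
open scoped commutatorElement

namespace Cfsg.Agent.Lib.H21.FFAb

open Cfsg.Agent.Lib.H3

variable {G : Type*} [Group G]

/-- the offender value `|A| |C_V(A)|` -/
noncomputable abbrev fv (V A : Subgroup G) : ℕ :=
  Nat.card A * Nat.card ↥(V ⊓ Subgroup.centralizer (A : Set G))

/-- an element acting quadratically on an elementary abelian `2`-group has its square acting
trivially -/
theorem sq_mem_centralizer {V : Subgroup G} (hV : Cfsg.IsElementaryAbelian 2 V) {b : G}
    (hbV : b ∈ Subgroup.normalizer (V : Set G))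
    (hq : ∀ v ∈ V, Commute b (v * b * v⁻¹ * b⁻¹)) : b ^ 2 ∈ Subgroup.centralizer (V : Set G) := by
  rw [Subgroup.mem_centralizer_iff]
  intro v hv
  set c := b * v * b⁻¹ * v⁻¹ with hc
  have hcV : c ∈ V := by
    have h1 : b * v * b⁻¹ ∈ V := (Subgroup.mem_normalizer_iff.1 hbV v).1 hv
    exact V.mul_mem h1 (V.inv_mem hv)
  have hcb : Commute b c := by
    have h1 := (hq v hv).inv_right
    have e : (v * b * v⁻¹ * b⁻¹)⁻¹ = c := by rw [hc]; group
    rwa [e] at h1
  have hcc : c * c = 1 := by
    have := hV.2 c hcV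
    rwa [pow_two] at this
  have h1 : b * v = c * v * b := by rw [hc]; group
  calc v * b ^ 2 = (c * c) * v * b ^ 2 := by rw [hcc, one_mul]
    _ = c * (c * v * b) * b := by rw [pow_two]; group
    _ = c * (b * v) * b := by rw [h1]
    _ = (c * b) * v * b := by group
    _ = (b * c) * v * b := by rw [hcb.eq]
    _ = b * (c * v * b) := by group
    _ = b * (b * v) := by rw [h1]
    _ = b ^ 2 * v := by rw [pow_two]; group

/-- if `V = [V, P] C_V(P)` for `p`-groups `V` (abelian) and `P`, then `[V, P] = 1` -/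
theorem commutator_eq_bot_of_eq_sup [Finite G] {p : ℕ} [Fact p.Prime] {V P : Subgroup G}
    (hVc : ∀ x ∈ V, ∀ y ∈ V, x * y = y * x) (hVp : IsPGroup p V) (hP : IsPGroup p P)
    (hPV : P ≤ Subgroup.normalizer (V : Set G))
    (h : V = ⁅V, P⁆ ⊔ (V ⊓ Subgroup.centralizer (P : Set G))) : ⁅V, P⁆ = ⊥ := by
  set U := ⁅V, P⁆ with hU
  have hUV : U ≤ V := (Subgroup.le_normalizer_iff_commutator_le_left).mp hPV
  have hPU : P ≤ Subgroup.normalizer (U : Set G) :=
    le_normalizer_commutator' hPV Subgroup.le_normalizer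
  by_contra hU1
  apply Cfsg.Agent.Lib.H7.commutator_ne_self_of_isPGroup p (hVp.to_le hUV) hP hPU hU1
  apply le_antisymm ((Subgroup.le_normalizer_iff_commutator_le_left).mp hPU)
  rw [hU, Subgroup.commutator_le]
  intro v hv x hx
  rw [h] at hv
  obtain ⟨u, hu, c, hc, rfl⟩ := mem_sup_of_abelian hVc hUV inf_le_left hv
  have hcx : c * x = x * c := by
    have := Subgroup.mem_centralizer_iff.1 hc.2 x hx
    exact this.symm
  have e : ⁅u * c, x⁆ = ⁅u, x⁆ := by
    rw [commutatorElement_def, commutatorElement_def]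
    calc u * c * x * (u * c)⁻¹ * x⁻¹ = u * (c * x) * c⁻¹ * u⁻¹ * x⁻¹ := by group
      _ = u * (x * c) * c⁻¹ * u⁻¹ * x⁻¹ := by rw [hcx]
      _ = u * x * u⁻¹ * x⁻¹ := by group
  rw [e]
  exact Subgroup.commutator_mem_commutator hu hx

theorem mem_zpowers_two {z x : G} (hz : z * z = 1) (hx : x ∈ Subgroup.zpowers z) :
    x = 1 ∨ x = z := by
  obtain ⟨i, rfl⟩ := Subgroup.mem_zpowers_iff.1 hx
  have h2 : z ^ (2 : ℤ) = 1 := by rw [zpow_two]; exact hz
  rcases Int.even_or_odd' i with ⟨k, rfl | rfl⟩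
  · left; rw [zpow_mul, h2, one_zpow]
  · right; rw [zpow_add, zpow_mul, h2, one_zpow, one_mul, zpow_one]

theorem card_lt_of_lt' [Finite G] {H K : Subgroup G} (h : H < K) : Nat.card H < Nat.card K := by
  by_contra hcon
  push Not at hcon
  exact h.ne (Subgroup.eq_of_le_of_card_ge h.le hcon)

theorem two_mul_card_le_of_lt [Finite G] {H K : Subgroup G} (h : H < K) :
    2 * Nat.card H ≤ Nat.card K := by
  have h1 := Cfsg.Agent.Lib.H7.card_mul_relIndex_of_le h.le
  have h2 : H.relIndex K ≠ 1 := by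
    intro h3
    rw [Subgroup.relIndex_eq_one] at h3
    exact absurd h3 (not_le_of_gt h)
  have h3 : H.relIndex K ≠ 0 := by
    intro h0
    rw [h0, mul_zero] at h1
    have : 0 < Nat.card K := Nat.card_pos
    omega
  have h4 : 2 ≤ H.relIndex K := by omega
  calc 2 * Nat.card H = Nat.card H * 2 := by ring
    _ ≤ Nat.card H * H.relIndex K := Nat.mul_le_mul_left _ h4
    _ = Nat.card K := h1

/-- index two dichotomy -/
theorem idx_two [Finite G] {W Z0 : Subgroup G} (hZW : Z0 ≤ W)
    (hc : Nat.card W = 2 * Nat.card Z0) {w u : G} (hw : w ∈ W) (hwZ : w ∉ Z0) (hu : u ∈ W) :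
    u ∈ Z0 ∨ w⁻¹ * u ∈ Z0 := by
  have h1 := Cfsg.Agent.Lib.H7.card_mul_relIndex_of_le hZW
  have hpos : 0 < Nat.card Z0 := Nat.card_pos
  have h2 : Z0.relIndex W = 2 := by
    rw [hc, mul_comm 2] at h1
    exact Nat.eq_of_mul_eq_mul_left hpos h1
  by_cases huZ : u ∈ Z0
  · exact Or.inl huZ
  right
  have h3 : (Z0.subgroupOf W).index = 2 := h2
  have h4 := Subgroup.mul_mem_iff_of_index_two h3 (a := (⟨w, hw⟩ : W)⁻¹) (b := (⟨u, hu⟩ : W))
  have h5 : ((⟨w, hw⟩ : W)⁻¹ * ⟨u, hu⟩ : W) ∈ Z0.subgroupOf W := by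
    rw [h4]
    constructor
    · intro h6
      exfalso
      apply hwZ
      have : ((⟨w, hw⟩ : W)⁻¹ : W) ∈ Z0.subgroupOf W := h6
      rw [Subgroup.inv_mem_iff, Subgroup.mem_subgroupOf] at this
      exact this
    · intro h6
      exfalso
      apply huZ
      rw [Subgroup.mem_subgroupOf] at h6
      exact h6
  rw [Subgroup.mem_subgroupOf] at h5
  simpa using h5

theorem le_normalizer_sup {K X Y : Subgroup G}
    (hX : K ≤ Subgroup.normalizer (X : Set G)) (hY : K ≤ Subgroup.normalizer (Y : Set G)) :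
    K ≤ Subgroup.normalizer ((X ⊔ Y : Subgroup G) : Set G) := by
  intro k hk
  rw [Subgroup.mem_normalizer_iff_map_conj_eq, Subgroup.map_sup,
    Subgroup.mem_normalizer_iff_map_conj_eq.1 (hX hk),
    Subgroup.mem_normalizer_iff_map_conj_eq.1 (hY hk)]

namespace Main
variable {V H Q : Subgroup G}

/-- In `FFS 2 V H Q`, an abelian `2`-subgroup `A ≤ H` containing a minimal offender `B` splits as
`B × C_A(W)` where `W = [V, [Q,B]B]`, and `C_A(W)` has at least the offender value of `A`. -/
theorem split (h : FFS 2 V H Q) [Finite G] {A B : Subgroup G} (hAH : A ≤ H)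
    (hAc : ∀ a ∈ A, ∀ b ∈ A, a * b = b * a) (m : MO 2 V H B) (hBA : B ≤ A) :
    A = B ⊔ (A ⊓ Subgroup.centralizer ((⁅V, ⁅Q, B⁆ ⊔ B⁆ : Subgroup G) : Set G)) ∧
    Nat.card A = 2 * Nat.card ↥(A ⊓ Subgroup.centralizer ((⁅V, ⁅Q, B⁆ ⊔ B⁆ : Subgroup G) : Set G)) ∧
    fv V A ≤ fv V (A ⊓ Subgroup.centralizer ((⁅V, ⁅Q, B⁆ ⊔ B⁆ : Subgroup G) : Set G)) := by
  set E := ⁅Q, B⁆ ⊔ B with hE
  set W := ⁅V, E⁆ with hW
  set A1 := A ⊓ Subgroup.centralizer (W : Set G) with hA1
  have hAV : A ≤ Subgroup.normalizer (V : Set G) := hAH.trans h.hHV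
  have hWcard : Nat.card W = 2 ^ 2 := h.card_W m
  have hEf : E ⊓ Subgroup.centralizer (W : Set G) = ⊥ := h.E_faithful m
  have hWV : W ≤ V := h.W_le_V m.le
  obtain ⟨t, htB, ht1, hto, htz⟩ := exists_zpowers_eq_of_card_prime m.card
  obtain ⟨z, hzc, hz1, hzo, hzz⟩ := exists_zpowers_eq_of_card_prime (h.card_comm m)
  have hAB : A ≤ Subgroup.normalizer (B : Set G) := by
    refine le_trans ?_ (Subgroup.centralizer_le_normalizer _)
    intro a ha
    rw [Subgroup.mem_centralizer_iff]
    intro b hb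
    exact hAc b (hBA hb) a ha
  have hAQ : A ≤ Subgroup.normalizer (Q : Set G) := hAH.trans h.hQn
  have hAE : A ≤ Subgroup.normalizer (E : Set G) :=
    le_normalizer_sup (le_normalizer_commutator' hAQ hAB) hAB
  have hAW : A ≤ Subgroup.normalizer (W : Set G) := le_normalizer_commutator' hAV hAE
  have hzW : z ∈ W := (Subgroup.commutator_mono le_rfl le_sup_right) hzc
  have hzV : z ∈ V := hWV hzW
  have hzz2 : z * z = 1 := by
    have := h.hV.2 z hzV
    rwa [pow_two] at this
  -- `A` centralizes `z`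
  have hAz : ∀ a ∈ A, a * z * a⁻¹ = z := by
    intro a ha
    have hn : a ∈ Subgroup.normalizer ((⁅V, B⁆ : Subgroup G) : Set G) :=
      le_normalizer_commutator' hAV hAB ha
    have h1 : a * z * a⁻¹ ∈ ⁅V, B⁆ := (Subgroup.mem_normalizer_iff.1 hn z).1 hzc
    rw [← hzz] at h1
    rcases mem_zpowers_two hzz2 h1 with h2 | h2
    · exfalso
      apply hz1
      have : z = a⁻¹ * (a * z * a⁻¹) * a := by group
      rw [this, h2]; group
    · exact h2
  have htA : t ∈ A := hBA htB
  have htE : t ∈ E := (le_sup_right : B ≤ E) htB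
  have htW : t ∉ Subgroup.centralizer (W : Set G) := by
    intro hc
    apply ht1
    have : t ∈ E ⊓ Subgroup.centralizer (W : Set G) := ⟨htE, hc⟩
    rw [hEf] at this
    exact Subgroup.mem_bot.1 this
  obtain ⟨w, hwW, hwt⟩ : ∃ w ∈ W, w * t ≠ t * w := by
    by_contra hcon
    push Not at hcon
    exact htW (Subgroup.mem_centralizer_iff.2 hcon)
  have hwz : w ∉ Subgroup.zpowers z := by
    intro hw
    rcases mem_zpowers_two hzz2 hw with h2 | h2
    · apply hwt; rw [h2]; simp
    · apply hwt; rw [h2]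
      have := hAz t htA
      calc z * t = (t * z * t⁻¹) * t := by rw [this]
        _ = t * z := by group
  have hzle : Subgroup.zpowers z ≤ W := by
    rw [Subgroup.zpowers_le]; exact hzW
  have hcard2 : Nat.card W = 2 * Nat.card (Subgroup.zpowers z) := by
    rw [hWcard, Nat.card_zpowers, hzo]; norm_num
  -- the conjugates of `w`
  have hconj : ∀ a ∈ A, a * w * a⁻¹ = w ∨ a * w * a⁻¹ = w * z := by
    intro a ha
    have hu : a * w * a⁻¹ ∈ W := (Subgroup.mem_normalizer_iff.1 (hAW ha) w).1 hwW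
    rcases idx_two hzle hcard2 hwW hwz hu with h1 | h1
    · exfalso
      rcases mem_zpowers_two hzz2 h1 with h2 | h2
      · apply hwz
        have : w = a⁻¹ * (a * w * a⁻¹) * a := by group
        rw [this, h2]
        simp
      · apply hwz
        have h3 : a * w * a⁻¹ = a * z * a⁻¹ := by rw [h2, hAz a ha]
        have : w = z := by
          have := congrArg (fun x => a⁻¹ * x * a) h3
          simpa [mul_assoc] using this
        rw [this]; exact Subgroup.mem_zpowers z
    · rcases mem_zpowers_two hzz2 h1 with h2 | h2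
      · left
        calc a * w * a⁻¹ = w * (w⁻¹ * (a * w * a⁻¹)) := by group
          _ = w := by rw [h2, mul_one]
      · right
        calc a * w * a⁻¹ = w * (w⁻¹ * (a * w * a⁻¹)) := by group
          _ = w * z := by rw [h2]
  -- membership in `C(W)`
  have hcent : ∀ x : G, x * z * x⁻¹ = z → x * w * x⁻¹ = w →
      x ∈ Subgroup.centralizer (W : Set G) := by
    intro x hxz hxw
    have cz : z * x = x * z := by
      calc z * x = (x * z * x⁻¹) * x := by rw [hxz]
        _ = x * z := by group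
    have cw : w * x = x * w := by
      calc w * x = (x * w * x⁻¹) * x := by rw [hxw]
        _ = x * w := by group
    rw [Subgroup.mem_centralizer_iff]
    intro u hu
    rcases idx_two hzle hcard2 hwW hwz hu with h1 | h1
    · rcases mem_zpowers_two hzz2 h1 with h2 | h2
      · rw [h2]; simp
      · rw [h2]; exact cz
    · rcases mem_zpowers_two hzz2 h1 with h2 | h2
      · have : u = w := by
          calc u = w * (w⁻¹ * u) := by group
            _ = w := by rw [h2, mul_one]
        rw [this]; exact cw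
      · have : u = w * z := by
          calc u = w * (w⁻¹ * u) := by group
            _ = w * z := by rw [h2]
        rw [this]
        calc w * z * x = w * (z * x) := by group
          _ = w * (x * z) := by rw [cz]
          _ = (w * x) * z := by group
          _ = (x * w) * z := by rw [cw]
          _ = x * (w * z) := by group
  have htw : t * w * t⁻¹ = w * z := by
    rcases hconj t htA with h1 | h1
    · exfalso
      apply hwt
      calc w * t = (t * w * t⁻¹) * t := by rw [h1]
        _ = t * w := by group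
    · exact h1
  have hAle : A ≤ B ⊔ A1 := by
    intro a ha
    rcases hconj a ha with h1 | h1
    · exact Subgroup.mem_sup_right ⟨ha, hcent a (hAz a ha) h1⟩
    · have hx : a * t ∈ A1 := by
        refine ⟨A.mul_mem ha htA, hcent _ ?_ ?_⟩
        · calc a * t * z * (a * t)⁻¹ = a * (t * z * t⁻¹) * a⁻¹ := by group
            _ = z := by rw [hAz t htA, hAz a ha]
        · calc a * t * w * (a * t)⁻¹ = a * (t * w * t⁻¹) * a⁻¹ := by group
            _ = a * (w * z) * a⁻¹ := by rw [htw]
            _ = (a * w * a⁻¹) * (a * z * a⁻¹) := by group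
            _ = w * z * z := by rw [h1, hAz a ha]
            _ = w := by rw [mul_assoc, hzz2, mul_one]
      have : a = (a * t) * t⁻¹ := by group
      rw [this]
      exact Subgroup.mul_mem _ (Subgroup.mem_sup_right hx)
        (Subgroup.mem_sup_left (B.inv_mem htB))
  have hAeq : A = B ⊔ A1 := le_antisymm hAle (sup_le hBA inf_le_left)
  have hBA1 : B ⊓ A1 = ⊥ := by
    rw [eq_bot_iff, ← hEf]
    exact le_inf (inf_le_left.trans le_sup_right) (inf_le_right.trans inf_le_right)
  have hcardA : Nat.card A = 2 * Nat.card A1 := by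
    have := card_sup_of_inf_eq_bot' (X := B) (Y := A1) (inf_le_left.trans hAB) hBA1
    rw [← hAeq, m.card] at this
    exact this
  refine ⟨hAeq, hcardA, ?_⟩
  -- fixed points
  have hlt : V ⊓ Subgroup.centralizer (A : Set G) < V ⊓ Subgroup.centralizer (A1 : Set G) := by
    refine lt_of_le_of_ne (inf_le_inf_left _ (Subgroup.centralizer_le inf_le_left)) ?_
    intro heq
    have hw1 : w ∈ V ⊓ Subgroup.centralizer (A1 : Set G) := by
      refine ⟨hWV hwW, ?_⟩
      show w ∈ Subgroup.centralizer (A1 : Set G)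
      rw [Subgroup.mem_centralizer_iff]
      intro x hx
      exact (Subgroup.mem_centralizer_iff.1 hx.2 w hwW).symm
    rw [← heq] at hw1
    apply hwt
    exact (Subgroup.mem_centralizer_iff.1 hw1.2 t htA).symm
  have h2 := two_mul_card_le_of_lt hlt
  show Nat.card A * Nat.card ↥(V ⊓ Subgroup.centralizer (A : Set G)) ≤
    Nat.card A1 * Nat.card ↥(V ⊓ Subgroup.centralizer (A1 : Set G))
  rw [hcardA]
  calc 2 * Nat.card A1 * Nat.card ↥(V ⊓ Subgroup.centralizer (A : Set G))
      = Nat.card A1 * (2 * Nat.card ↥(V ⊓ Subgroup.centralizer (A : Set G))) := by ring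
    _ ≤ Nat.card A1 * Nat.card ↥(V ⊓ Subgroup.centralizer (A1 : Set G)) :=
      Nat.mul_le_mul_left _ h2

/-- **Abelian offenders**: in `FFS 2 V H Q`, an abelian `2`-subgroup `A ≤ H` with
`|V| ≤ |A| |C_V(A)|` has `|A| |C_V(A)| = |V|` and is generated by the best offenders it contains. -/
theorem abelian_offender (h : FFS 2 V H Q) [Finite G] : ∀ (n : ℕ) (A : Subgroup G),
    Nat.card A = n → A ≤ H → (∀ a ∈ A, ∀ b ∈ A, a * b = b * a) → IsPGroup 2 A →
    Nat.card V ≤ fv V A →
    fv V A = Nat.card V ∧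
      A ≤ ⨆ B : {B : Subgroup G // B ≤ A ∧ Cfsg.IsBestOffenderOn 2 V B}, (B : Subgroup G) := by
  intro n
  induction n using Nat.strong_induction_on with
  | _ n ih =>
    intro A hn hAH hAc hA2 hoff
    by_cases hA1 : A = ⊥
    · subst hA1
      refine ⟨?_, bot_le⟩
      show Nat.card (⊥ : Subgroup G) * Nat.card ↥(V ⊓ Subgroup.centralizer ((⊥ : Subgroup G) : Set G))
        = Nat.card V
      rw [inf_centralizer_bot, Subgroup.card_bot, one_mul]
    have hsmall : ∀ D : Subgroup G, D ≤ A → D ≠ A → fv V D ≤ Nat.card V := by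
      intro D hDA hne
      by_contra hcon
      push Not at hcon
      have hlt : Nat.card D < n := by
        rw [← hn]; exact card_lt_of_lt' (lt_of_le_of_ne hDA hne)
      have := (ih _ hlt D rfl (hDA.trans hAH) (fun a ha b hb => hAc a (hDA ha) b (hDA hb))
        (hA2.to_le hDA) hcon.le).1
      omega
    have hweak : ∀ D : Subgroup G, D ≤ A → fv V D ≤ fv V A := by
      intro D hDA
      by_cases hne : D = A
      · rw [hne]
      · exact (hsmall D hDA hne).trans hoff
    have hAV : A ≤ Subgroup.normalizer (V : Set G) := hAH.trans h.hHV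
    have hAA : ⁅A, A⁆ = ⊥ := by
      rw [Subgroup.commutator_eq_bot_iff_le_centralizer]
      intro a ha
      rw [Subgroup.mem_centralizer_iff]
      intro b hb
      exact hAc b hb a ha
    obtain ⟨B0, hB0A, hor⟩ := Cfsg.Agent.S0598.result V A h.hV hAV
      (by rw [hAA]; exact bot_le) V le_rfl
    rcases hor with hlt | ⟨hB0eq, hfix, hfeq⟩
    · exact absurd (hweak B0 hB0A) (not_le.2 hlt)
    have hB01 : B0 ≠ ⊥ := by
      intro h0
      rw [h0, inf_centralizer_bot] at hfix
      exact h.commutator_ne_bot hAH hA1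
        (commutator_eq_bot_of_eq_sup h.comm_V h.isPGroup_V hA2 hAV hfix)
    have hB0bo : Cfsg.IsBestOffenderOn 2 V B0 := by
      refine ⟨?_, ?_, ?_⟩
      · intro D hD
        calc Nat.card D * Nat.card ↥(V ⊓ Subgroup.centralizer (D : Set G))
            ≤ fv V A := hweak D (hD.trans hB0A)
          _ = _ := hfeq
      · have h1 : ⁅B0, B0⁆ ≤ ⁅A, A⁆ := Subgroup.commutator_mono hB0A hB0A
        rw [hAA] at h1
        exact h1.trans bot_le
      · intro b hb
        have hbA : b ∈ A := hB0A hb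
        rw [hB0eq] at hb
        have hbc := hb.2
        apply sq_mem_centralizer h.hV (hAV hbA)
        intro v hv
        have hmem : v * b * v⁻¹ * b⁻¹ ∈ ⁅V, A⁆ := Subgroup.commutator_mem_commutator hv hbA
        exact (Subgroup.mem_centralizer_iff.1 hbc _ hmem).symm
    have hfA : fv V A = Nat.card V := by
      rw [show fv V A = fv V B0 from hfeq]
      exact h.offVal_eq _ B0 rfl (hB0A.trans hAH) hB0bo hB01
    refine ⟨hfA, ?_⟩
    obtain ⟨k, Bf, hBf, hsup, hck⟩ := h.exists_decomp _ B0 rfl (hB0A.trans hAH) hB0bo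
    have hk : 0 < k := by
      rcases Nat.eq_zero_or_pos k with hk0 | hk
      · subst hk0
        rw [pow_zero] at hck
        exact absurd (Subgroup.card_eq_one.1 hck) hB01
      · exact hk
    obtain ⟨hBB0, hBbo, hBcard⟩ := hBf ⟨0, hk⟩
    set B := Bf ⟨0, hk⟩ with hBdef
    have hBA : B ≤ A := hBB0.trans hB0A
    have m : MO 2 V H B := ⟨hBA.trans hAH, hBbo, hBcard⟩
    obtain ⟨hAeq, hcardA, hfv⟩ := split h hAH hAc m hBA
    set A1 := A ⊓ Subgroup.centralizer ((⁅V, ⁅Q, B⁆ ⊔ B⁆ : Subgroup G) : Set G) with hA1def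
    have hlt : Nat.card A1 < n := by
      rw [← hn, hcardA]
      have : 0 < Nat.card A1 := Nat.card_pos
      omega
    have hA1A : A1 ≤ A := inf_le_left
    obtain ⟨-, hgen⟩ := ih _ hlt A1 rfl (hA1A.trans hAH)
      (fun a ha b hb => hAc a (hA1A ha) b (hA1A hb)) (hA2.to_le hA1A) (hoff.trans hfv)
    refine hAeq.le.trans (sup_le ?_ (hgen.trans ?_))
    · exact le_iSup (fun B : {B : Subgroup G // B ≤ A ∧ Cfsg.IsBestOffenderOn 2 V B} =>
        (B : Subgroup G)) ⟨B, hBA, hBbo⟩
    · apply iSup_le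
      rintro ⟨B', hB'A1, hB'bo⟩
      exact le_iSup (fun B : {B : Subgroup G // B ≤ A ∧ Cfsg.IsBestOffenderOn 2 V B} =>
        (B : Subgroup G)) ⟨B', hB'A1.trans hA1A, hB'bo⟩

end Main

end Cfsg.Agent.Lib.H21.FFAb
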