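import Mathlib
import Cfsg.Prelude.Def_PLocal
import Cfsg.Agent.Lib.H21.FFAb
import Cfsg.Agent.Lib.H21.FFGlauB
import Cfsg.Agent.Lib.H3.QT4
import Cfsg.Agent.Lib.H3.Diag3
import Cfsg.Agent.S0617
import Cfsg.Agent.S0250

/-!
# `⟨J(T)^X⟩` acting on `V`: the `S₃`-product (helper21)
-/

set_option autoImplicit false

namespace Cfsg.Agent.Lib.H21.FFGlau

open Cfsg.Agent.Lib.H3 Cfsg.Agent.Lib.H3.QT

/-- an internal direct product of finitely many pairwise isomorphic subgroups -/
theorem nonempty_mulEquiv_pi {G : Type*} [Group G] {ι : Type*} [Fintype ι] {M : Type*} [Group M]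
    (E : ι → Subgroup G) {H : Subgroup G} (hsup : (⨆ i, E i) = H)
    (hnorm : ∀ i, H ≤ Subgroup.normalizer ((E i : Subgroup G) : Set G))
    (hind : iSupIndep E) (e : ∀ i, Nonempty (↥(E i) ≃* M)) :
    Nonempty (↥H ≃* (ι → M)) := by
  have hle : ∀ i, E i ≤ H := fun i => hsup ▸ le_iSup E i
  have hcomm : Pairwise fun i j => ∀ x y : G, x ∈ E i → y ∈ E j → Commute x y := by
    intro i j hij x y hx hy
    have hdisj : Disjoint (E i) (E j) := hind.pairwiseDisjoint hij
    have h1 : x * y * x⁻¹ * y⁻¹ ∈ E i := by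
      have := (Subgroup.mem_normalizer_iff.1 (hnorm i (hle j hy)) x⁻¹).1 (Subgroup.inv_mem _ hx)
      have h2 := Subgroup.mul_mem _ hx this
      have e : x * y * x⁻¹ * y⁻¹ = x * (y * x⁻¹ * y⁻¹) := by group
      rw [e]; exact h2
    have h2 : x * y * x⁻¹ * y⁻¹ ∈ E j := by
      have := (Subgroup.mem_normalizer_iff.1 (hnorm j (hle i hx)) y).1 hy
      exact Subgroup.mul_mem _ this (Subgroup.inv_mem _ hy)
    have h3 : x * y * x⁻¹ * y⁻¹ = 1 := Subgroup.disjoint_def.1 hdisj h1 h2
    show x * y = y * x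
    calc x * y = (x * y * x⁻¹ * y⁻¹) * (y * x) := by group
      _ = y * x := by rw [h3, one_mul]
  let f := Subgroup.noncommPiCoprod hcomm
  have hinj : Function.Injective f := Subgroup.injective_noncommPiCoprod_of_iSupIndep hind
  have hrange : f.range = H := by rw [Subgroup.noncommPiCoprod_range]; exact hsup
  let e1 : (∀ i, ↥(E i)) ≃* ↥f.range := MonoidHom.ofInjective hinj
  let e2 : ↥f.range ≃* ↥H := MulEquiv.subgroupCongr hrange
  let e3 : (∀ i, ↥(E i)) ≃* (ι → M) := MulEquiv.piCongrRight (fun i => (e i).some)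
  exact ⟨(e2.symm.trans e1.symm).trans e3⟩

variable {X : Type*} [Group X] [Finite X] (V : Subgroup X) [hVn : V.Normal]

theorem hat_Y_eq_iSup (hV : Cfsg.IsElementaryAbelian 2 V) (hsep : Cfsg.IsPSolvable 2 X)
    (hO : Cfsg.pCore 2 (X ⧸ Subgroup.centralizer (V : Set X)) = ⊥) (T : Sylow 2 X)
    (hVT : V ≤ T) :
    hat V (Subgroup.normalClosure (Cfsg.thompsonSubgroupAOf (T : Subgroup X) : Set X)) =
      ⨆ A : {A : Subgroup (Gam V) //
        A ≤ hat V (Subgroup.normalClosure (Cfsg.thompsonSubgroupAOf (T : Subgroup X) : Set X)) ∧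
        Cfsg.IsBestOffenderOn 2 (Vh V) A}, (A : Subgroup (Gam V)) := by
  haveI : Fact (Nat.Prime 2) := ⟨Nat.prime_two⟩
  set J := Cfsg.thompsonSubgroupAOf (T : Subgroup X) with hJ
  set Y := Subgroup.normalClosure (J : Set X) with hY
  haveI hYn : Y.Normal := Subgroup.normalClosure_normal
  have h := ffs_hat V hV hsep hO Y
  have hVc : ∀ a ∈ V, ∀ b ∈ V, a * b = b * a := (comm_iff_isMulCommutative V).2 hV.1
  set S := ⨆ A : {A : Subgroup (Gam V) // A ≤ hat V Y ∧ Cfsg.IsBestOffenderOn 2 (Vh V) A},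
    (A : Subgroup (Gam V)) with hS
  apply le_antisymm
  · rw [hat_eq_map, Subgroup.map_le_iff_le_comap]
    have hconj : ∀ g : X, S.map (MulAut.conj (toGam V g)).toMonoidHom ≤ S := by
      intro g
      rw [hS, Subgroup.map_iSup]
      apply iSup_le
      rintro ⟨B, hBH, hB⟩
      have h1 : B.map (MulAut.conj (toGam V g)).toMonoidHom ≤ hat V Y := by
        rintro _ ⟨b, hb, rfl⟩
        have hb' := hBH hb
        rw [hat_eq_map] at hb' ⊢
        obtain ⟨y, hy, hyb⟩ := hb'
        refine ⟨g * y * g⁻¹, hYn.conj_mem y hy g, ?_⟩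
        simp [hyb]
      have hzV : toGam V g ∈ Subgroup.normalizer ((Vh V : Subgroup (Gam V)) : Set (Gam V)) := by
        rw [Subgroup.normalizer_eq_top]; exact Subgroup.mem_top _
      have h2 := h.conj_isBestOffender' hBH hB hzV
      exact le_iSup (fun A : {A : Subgroup (Gam V) //
        A ≤ hat V Y ∧ Cfsg.IsBestOffenderOn 2 (Vh V) A} => (A : Subgroup (Gam V))) ⟨_, h1, h2⟩
    haveI hSn : (S.comap (toGam V)).Normal := by
      constructor
      intro n hn g
      rw [Subgroup.mem_comap] at hn ⊢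
      rw [map_mul, map_mul, map_inv]
      apply hconj g
      exact ⟨_, hn, by simp⟩
    apply Subgroup.normalClosure_le_normal
    show (J : Set X) ⊆ (S.comap (toGam V) : Subgroup X)
    rw [SetLike.coe_subset_coe, hJ, thompsonAOf_eq]
    apply sSup_le
    intro A hA
    rw [← Subgroup.map_le_iff_le_comap, ← hat_eq_map]
    have hAJ : A ≤ J := hA.le_thompson
    have hAY : A ≤ Y := hAJ.trans Subgroup.le_normalClosure
    have hhatAH : hat V A ≤ hat V Y := hat_mono V hAY
    have hcomm : ∀ a ∈ hat V A, ∀ b ∈ hat V A, a * b = b * a := by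
      intro a ha b hb
      obtain ⟨a', ha', rfl⟩ := (mem_hat V).1 ha
      obtain ⟨b', hb', rfl⟩ := (mem_hat V).1 hb
      rw [← map_mul, ← map_mul, ← QuotientGroup.mk_mul, ← QuotientGroup.mk_mul,
        hA.2.1 a' ha' b' hb']
    have hpg : IsPGroup 2 ↥(hat V A) := by
      rw [hat_eq_map]; exact (T.isPGroup'.to_le hA.1).map _
    have hineq : Nat.card (Vh V) ≤ FFAb.fv (Vh V) (hat V A) := by
      show Nat.card (Vh V) ≤ Nat.card (hat V A) *
        Nat.card ↥(Vh V ⊓ Subgroup.centralizer ((hat V A : Subgroup (Gam V)) : Set (Gam V)))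
      rw [card_Vh_inf_centralizer_hat, card_Vh]
      have h1 := offender_ineq hA hVT hVc
      have h2 := card_hat V A
      rw [← h2] at h1
      have hpos : 0 < Nat.card ↥(Subgroup.centralizer (V : Set X) ⊓ A) := Nat.card_pos
      apply Nat.le_of_mul_le_mul_right _ hpos
      calc Nat.card V * Nat.card ↥(Subgroup.centralizer (V : Set X) ⊓ A)
          ≤ Nat.card (hat V A) * Nat.card ↥(Subgroup.centralizer (V : Set X) ⊓ A) *
            Nat.card ↥(V ⊓ Subgroup.centralizer (A : Set X)) := h1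
        _ = _ := by ring
    obtain ⟨-, h3⟩ := FFAb.Main.abelian_offender h _ (hat V A) rfl hhatAH hcomm hpg hineq
    refine h3.trans ?_
    apply iSup_le
    rintro ⟨B, hBA, hB⟩
    exact le_iSup (fun A : {A : Subgroup (Gam V) //
      A ≤ hat V Y ∧ Cfsg.IsBestOffenderOn 2 (Vh V) A} => (A : Subgroup (Gam V)))
      ⟨B, hBA.trans hhatAH, hB⟩
  · apply iSup_le
    intro A
    exact A.2.1

theorem hat_Y_cases (hV : Cfsg.IsElementaryAbelian 2 V) (hsep : Cfsg.IsPSolvable 2 X)
    (hO : Cfsg.pCore 2 (X ⧸ Subgroup.centralizer (V : Set X)) = ⊥) (T : Sylow 2 X)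
    (hVT : V ≤ T) :
    Subgroup.normalClosure (Cfsg.thompsonSubgroupAOf (T : Subgroup X) : Set X) ≤
        Subgroup.centralizer (V : Set X) ∨
      ∃ n : ℕ, 1 ≤ n ∧ Nonempty (↥(hat V (Subgroup.normalClosure
        (Cfsg.thompsonSubgroupAOf (T : Subgroup X) : Set X))) ≃* (Fin n → Equiv.Perm (Fin 3))) := by
  haveI : Fact (Nat.Prime 2) := ⟨Nat.prime_two⟩
  set Y := Subgroup.normalClosure (Cfsg.thompsonSubgroupAOf (T : Subgroup X) : Set X) with hY
  haveI hYn : Y.Normal := Subgroup.normalClosure_normal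
  by_cases hH1 : hat V Y = ⊥
  · left; exact (hat_eq_bot_iff V Y).1 hH1
  · right
    have h := ffs_hat V hV hsep hO Y
    have hS3 := hat_Y_eq_iSup V hV hsep hO T hVT
    obtain ⟨-, hE, hind, hsup, -, -⟩ := Cfsg.Agent.S0617.main h hS3 hH1
    haveI : Finite (Subgroup (Gam V)) := inferInstance
    haveI hfin : Finite (Cfsg.Agent.S0617.Idx 2 (Vh V) (hat V Y)
      ((Cfsg.pPrimeCore 2 (X ⧸ Subgroup.centralizer (V : Set X)) ⊓
        Y.map (QuotientGroup.mk' (Subgroup.centralizer (V : Set X)))).map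
          (SemidirectProduct.inr : _ →* Gam V))) := inferInstance
    haveI := Fintype.ofFinite (Cfsg.Agent.S0617.Idx 2 (Vh V) (hat V Y)
      ((Cfsg.pPrimeCore 2 (X ⧸ Subgroup.centralizer (V : Set X)) ⊓
        Y.map (QuotientGroup.mk' (Subgroup.centralizer (V : Set X)))).map
          (SemidirectProduct.inr : _ →* Gam V)))
    obtain ⟨e250⟩ := Cfsg.Agent.S0250.result (F := ZMod 2) (by simp)
    obtain ⟨e1⟩ := nonempty_mulEquiv_pi _ hsup (fun E => (hE E).1) hind (fun E => (hE E).2.1)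
    refine ⟨Fintype.card _, ?_, ⟨e1.trans (MulEquiv.arrowCongr (Fintype.equivFin _) e250)⟩⟩
    rw [Nat.succ_le_iff, Fintype.card_pos_iff]
    by_contra hne
    rw [not_nonempty_iff] at hne
    apply hH1
    rw [← hsup, iSup_of_empty]

theorem quot_iso (Y N : Subgroup X) [hNn : N.Normal] (hN : N = Subgroup.centralizer (V : Set X)) :
    Nonempty (↥Y ⧸ N.subgroupOf Y ≃* ↥(hat V Y)) := by
  subst hN
  set f := (toGam V).subgroupMap Y with hf
  have hs : Function.Surjective f := (toGam V).subgroupMap_surjective Y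
  have hk : f.ker = (Subgroup.centralizer (V : Set X)).subgroupOf Y := by
    ext y
    have hmem : (y : X) ∈ Subgroup.centralizer (V : Set X) ↔ toGam V (y : X) = 1 := by
      rw [← MonoidHom.mem_ker, toGam_ker]
    rw [MonoidHom.mem_ker, Subgroup.mem_subgroupOf, hmem]
    constructor
    · intro h; exact congrArg Subtype.val h
    · intro h; exact Subtype.ext h
  have e1 := QuotientGroup.quotientKerEquivOfSurjective f hs
  have e2 := QuotientGroup.quotientMulEquivOfEq hk.symm
  have e3 : ↥(Y.map (toGam V)) ≃* ↥(hat V Y) := MulEquiv.subgroupCongr (hat_eq_map V Y).symm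
  exact ⟨(e2.trans e1).trans e3⟩

end Cfsg.Agent.Lib.H21.FFGlau
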