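import Mathlib

/-!
# A trace identity for Frobenius groups acting on abelian groups (helper21)

`B = F ⋊ ⟨x⟩` with `C_F(x^i) = 1` for `0 < i < m`, acting on a commutative group `M` through
`c : B →* MulAut M`.  If the norm `∏_{i<m} (f x f⁻¹)^{i+1} • v` is trivial for all `f ∈ F`, `v ∈ M`,
then `v ^ |F| = ∏_{f ∈ F} f • v`, hence (when `|F|`-th powers are injective on `M`) `F` acts
trivially on `M`.
-/

set_option autoImplicit false

namespace Cfsg.Agent.Lib.H21.FrobTrace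

open Finset

variable {B M : Type*} [Group B] [CommGroup M]

theorem pow_conj_mem {F : Subgroup B} {x : B} (hx : ∀ f ∈ F, x * f * x⁻¹ ∈ F) (k : ℕ) :
    ∀ f ∈ F, x ^ k * f * (x ^ k)⁻¹ ∈ F := by
  induction k with
  | zero => intro f hf; simpa using hf
  | succ k ih =>
    intro f hf
    have h1 := ih _ (hx f hf)
    have : x ^ (k + 1) * f * (x ^ (k + 1))⁻¹ = x ^ k * (x * f * x⁻¹) * (x ^ k)⁻¹ := by
      rw [pow_succ]; group
    rw [this]; exact h1

/-- reindexing: `∏_f c (f y f⁻¹) v = ∏_f c (f y) v` when `C_F(y) = 1` and `y` normalizes `F`. -/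
theorem prod_conj_eq (c : B →* MulAut M) (F : Subgroup B) [Fintype F] (y : B)
    (hy : ∀ f ∈ F, y * f * y⁻¹ ∈ F)
    (hfrob : ∀ f ∈ F, f * y = y * f → f = 1) (v : M) :
    ∏ f : F, c ((f : B) * y * (f : B)⁻¹) v = ∏ f : F, c ((f : B) * y) v := by
  let φ : F → F := fun f => ⟨(f : B) * (y * (f : B)⁻¹ * y⁻¹),
    F.mul_mem f.2 (hy _ (F.inv_mem f.2))⟩
  have hφinj : Function.Injective φ := by
    intro f g hfg
    have h1 : (f : B) * (y * (f : B)⁻¹ * y⁻¹) = (g : B) * (y * (g : B)⁻¹ * y⁻¹) :=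
      congrArg Subtype.val hfg
    have h2 : ((g : B)⁻¹ * (f : B)) * y = y * ((g : B)⁻¹ * (f : B)) := by
      have h3 : (f : B) * y * (f : B)⁻¹ = (g : B) * y * (g : B)⁻¹ := by
        have : (f : B) * y * (f : B)⁻¹ = (f : B) * (y * (f : B)⁻¹ * y⁻¹) * y := by group
        rw [this, h1]; group
      calc ((g : B)⁻¹ * (f : B)) * y = (g : B)⁻¹ * ((f : B) * y * (f : B)⁻¹) * (f : B) := by group
        _ = (g : B)⁻¹ * ((g : B) * y * (g : B)⁻¹) * (f : B) := by rw [h3]
        _ = y * ((g : B)⁻¹ * (f : B)) := by group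
    have h4 := hfrob _ (F.mul_mem (F.inv_mem g.2) f.2) h2
    apply Subtype.ext
    have : (f : B) = (g : B) * ((g : B)⁻¹ * (f : B)) := by group
    rw [this, h4, mul_one]
  have hφbij : Function.Bijective φ := Finite.injective_iff_bijective.mp hφinj
  rw [← Fintype.prod_bijective φ hφbij (fun f => c ((f : B) * y * (f : B)⁻¹) v)
    (fun g => c ((g : B) * y) v)]
  intro f
  have : ((φ f : F) : B) * y = (f : B) * y * (f : B)⁻¹ := by
    show (f : B) * (y * (f : B)⁻¹ * y⁻¹) * y = _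
    group
  rw [this]

theorem pow_card_eq_prod (c : B →* MulAut M) (F : Subgroup B) [Fintype F] (x : B)
    (hx : ∀ f ∈ F, x * f * x⁻¹ ∈ F) (m' : ℕ) (hxm : x ^ (m' + 1) = 1)
    (hfrob : ∀ f ∈ F, ∀ i, i < m' → f * x ^ (i + 1) = x ^ (i + 1) * f → f = 1)
    (hnorm : ∀ f ∈ F, ∀ v : M, ∏ i ∈ range (m' + 1), c (f * x ^ (i + 1) * f⁻¹) v = 1) (v : M) :
    v ^ Fintype.card F = ∏ f : F, c (f : B) v := by
  -- first identity
  have h1 : (∏ i ∈ range m', ∏ f : F, c ((f : B) * x ^ (i + 1) * (f : B)⁻¹) v) *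
      v ^ Fintype.card F = 1 := by
    have h0 : ∏ f : F, ∏ i ∈ range (m' + 1), c ((f : B) * x ^ (i + 1) * (f : B)⁻¹) v = 1 :=
      Finset.prod_eq_one (fun f _ => hnorm f f.2 v)
    have h0' : ∀ f : F, ∏ i ∈ range (m' + 1), c ((f : B) * x ^ (i + 1) * (f : B)⁻¹) v =
        (∏ i ∈ range m', c ((f : B) * x ^ (i + 1) * (f : B)⁻¹) v) * v := by
      intro f
      rw [Finset.prod_range_succ, hxm]
      simp
    simp_rw [h0'] at h0
    rw [Finset.prod_mul_distrib, Finset.prod_const, Finset.card_univ, Finset.prod_comm] at h0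
    exact h0
  -- second identity
  have h2 : (∏ i ∈ range m', ∏ f : F, c ((f : B) * x ^ (i + 1)) v) *
      ∏ f : F, c (f : B) v = 1 := by
    have hn1 : ∏ i ∈ range (m' + 1), c (x ^ (i + 1)) v = 1 := by
      have := hnorm 1 F.one_mem v
      simpa using this
    have h0 : ∏ f : F, c (f : B) (∏ i ∈ range (m' + 1), c (x ^ (i + 1)) v) = 1 := by
      rw [hn1]; simp
    have h0' : ∀ f : F, c (f : B) (∏ i ∈ range (m' + 1), c (x ^ (i + 1)) v) =
        (∏ i ∈ range m', c ((f : B) * x ^ (i + 1)) v) * c (f : B) v := by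
      intro f
      rw [map_prod, Finset.prod_range_succ, hxm]
      simp [map_mul, MulAut.mul_apply]
    simp_rw [h0'] at h0
    rw [Finset.prod_mul_distrib, Finset.prod_comm] at h0
    exact h0
  have key : ∀ i ∈ range m', ∏ f : F, c ((f : B) * x ^ (i + 1) * (f : B)⁻¹) v =
      ∏ f : F, c ((f : B) * x ^ (i + 1)) v := by
    intro i hi
    exact prod_conj_eq c F (x ^ (i + 1)) (pow_conj_mem hx (i + 1))
      (fun f hf hc => hfrob f hf i (Finset.mem_range.mp hi) hc) v
  rw [Finset.prod_congr rfl key] at h1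
  have := h1.trans h2.symm
  exact mul_left_cancel this

/-- If moreover `|F|`-th powers are injective on `M`, then `F` acts trivially. -/
theorem act_trivial (c : B →* MulAut M) (F : Subgroup B) [Fintype F] (x : B)
    (hx : ∀ f ∈ F, x * f * x⁻¹ ∈ F) (m' : ℕ) (hxm : x ^ (m' + 1) = 1)
    (hfrob : ∀ f ∈ F, ∀ i, i < m' → f * x ^ (i + 1) = x ^ (i + 1) * f → f = 1)
    (hnorm : ∀ f ∈ F, ∀ v : M, ∏ i ∈ range (m' + 1), c (f * x ^ (i + 1) * f⁻¹) v = 1)
    (hcop : ∀ w : M, w ^ Fintype.card F = 1 → w = 1) :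
    ∀ g ∈ F, ∀ v : M, c g v = v := by
  intro g hg v
  have hT := pow_card_eq_prod c F x hx m' hxm hfrob hnorm v
  have hfix : c g (∏ f : F, c (f : B) v) = ∏ f : F, c (f : B) v := by
    rw [map_prod]
    have : ∀ f : F, c g (c (f : B) v) = c (((⟨g, hg⟩ : F) * f : F) : B) v := by
      intro f
      simp [map_mul, MulAut.mul_apply]
    simp_rw [this]
    exact Fintype.prod_bijective (fun f : F => (⟨g, hg⟩ : F) * f)
      (Group.mulLeft_bijective _) _ _ (fun _ => rfl)
  rw [← hT, map_pow] at hfix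
  have hw : (c g v * v⁻¹) ^ Fintype.card F = 1 := by
    rw [mul_pow, hfix, inv_pow, mul_inv_cancel]
  have := hcop _ hw
  exact mul_inv_eq_one.mp this

end Cfsg.Agent.Lib.H21.FrobTrace
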