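import Mathlib
import Cfsg.Agent.Lib.H21.FrobTraceA

/-!
# Frobenius group acting on a `p`-group with trivial norms (helper21)

`P ⊴ G` a `p`-group, `F ≤ G` of order coprime to `|P|`, `x` normalizing `F`, `C_F(x^i) = 1` modulo
`P` for `0 < i < m`, and `((f x f⁻¹) u)^m = 1` for all `f ∈ F`, `u ∈ P`.  Then `F` centralizes `P`.
-/

set_option autoImplicit false
open scoped commutatorElement
open scoped IsMulCommutative

namespace Cfsg.Agent.Lib.H21.FrobTrace

open Finset

universe u

theorem mul_pow_eq {G : Type*} [Group G] (Z : Subgroup G) [Z.Normal] [IsMulCommutative Z]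
    (y : G) (v : Z) (k : ℕ) :
    (y * (v : G)) ^ k =
      ((∏ i ∈ range k, MulAut.conjNormal (y ^ (i + 1)) v : Z) : G) * y ^ k := by
  induction k with
  | zero => simp
  | succ k ih =>
    rw [pow_succ, ih, Finset.prod_range_succ, Subgroup.coe_mul, MulAut.conjNormal_apply]
    group

theorem pgroup_aux (p : ℕ) [hp : Fact p.Prime] : ∀ (n : ℕ) (G : Type u) [Group G] [Finite G],
    Nat.card G = n → ∀ (P : Subgroup G), P.Normal → IsPGroup p P → ∀ (F : Subgroup G),
    (Nat.card F).Coprime (Nat.card P) → ∀ (x : G), x ∈ Subgroup.normalizer (F : Set G) →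
    ∀ (m : ℕ), 0 < m →
    (∀ f ∈ F, ∀ i, 0 < i → i < m → ⁅f, x ^ i⁆ ∈ P → f = 1) →
    (∀ f ∈ F, ∀ u ∈ P, ((f * x * f⁻¹) * u) ^ m = 1) →
    F ≤ Subgroup.centralizer (P : Set G) := by
  intro n
  induction n using Nat.strong_induction_on with
  | _ n ih =>
    intro G _ _ hn P hPn hP F hcop x hx m hm hc hd
    haveI := hPn
    by_cases hPbot : P = ⊥
    · intro f _
      rw [Subgroup.mem_centralizer_iff]
      intro u hu
      rw [hPbot] at hu
      have : u = 1 := by simpa using hu
      rw [this]; simp
    -- the centre of `P`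
    let Z : Subgroup G := (Subgroup.center P).map P.subtype
    haveI hZn : Z.Normal := ConjAct.normal_of_characteristic_of_normal
    have hZP : Z ≤ P := Subgroup.map_subtype_le _
    have hZc : ∀ z ∈ Z, ∀ u ∈ P, z * u = u * z := by
      rintro z ⟨z', hz', rfl⟩ u hu
      have := Subgroup.mem_center_iff.mp hz' ⟨u, hu⟩
      exact (congrArg Subtype.val this).symm
    haveI : IsMulCommutative Z := ⟨⟨fun a b => Subtype.ext (hZc a a.2 b (hZP b.2))⟩⟩
    have hZbot : Z ≠ ⊥ := by
      haveI : Nontrivial P := (Subgroup.nontrivial_iff_ne_bot P).mpr hPbot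
      have h1 := hP.center_nontrivial
      rw [Ne, Subgroup.map_eq_bot_iff_of_injective _ P.subtype_injective]
      exact (Subgroup.nontrivial_iff_ne_bot _).mp h1
    have hxm : x ^ m = 1 := by
      have := hd 1 F.one_mem 1 P.one_mem
      simpa using this
    have hcopw : ∀ w ∈ P, w ^ Nat.card F = 1 → w = 1 := by
      intro w hw hwF
      have h1 : orderOf w ∣ Nat.card F := orderOf_dvd_of_pow_eq_one hwF
      have h2 : orderOf w ∣ Nat.card P := by
        have := orderOf_dvd_natCard (⟨w, hw⟩ : P)
        rwa [Subgroup.orderOf_mk] at this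
      have h3 : orderOf w ∣ 1 := by
        rw [← Nat.Coprime.gcd_eq_one hcop]
        exact Nat.dvd_gcd h1 h2
      exact orderOf_eq_one_iff.mp (Nat.dvd_one.mp h3)
    -- `F` centralizes `Z`
    have hFZ : ∀ g ∈ F, ∀ v ∈ Z, g * v * g⁻¹ = v := by
      obtain ⟨m', rfl⟩ : ∃ m', m = m' + 1 := ⟨m - 1, by omega⟩
      haveI : Fintype F := Fintype.ofFinite F
      have hxF : ∀ f ∈ F, x * f * x⁻¹ ∈ F :=
        fun f hf => (Subgroup.mem_normalizer_iff.mp hx f).mp hf
      have key := act_trivial (MulAut.conjNormal : G →* MulAut Z) F x hxF m' hxm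
        (by
          intro f hf i hi hcomm
          apply hc f hf (i + 1) (by omega) (by omega)
          have : ⁅f, x ^ (i + 1)⁆ = 1 := by
            rw [commutatorElement_eq_one_iff_mul_comm]; exact hcomm
          rw [this]; exact P.one_mem)
        (by
          intro f hf v
          have h1 := mul_pow_eq Z (f * x * f⁻¹) v (m' + 1)
          have h2 := hd f hf v (hZP v.2)
          have h3 : (f * x * f⁻¹) ^ (m' + 1) = 1 := by
            have := hd f hf 1 P.one_mem
            simpa using this
          rw [h2, h3, mul_one] at h1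
          simp only [conj_pow] at h1
          apply Subtype.ext
          rw [← h1]; rfl)
        (by
          intro w hw
          have h1 : ((w : G)) ^ Nat.card F = 1 := by
            rw [Nat.card_eq_fintype_card]
            have := congrArg Subtype.val hw
            simpa using this
          have := hcopw w (hZP w.2) h1
          exact Subtype.ext this)
      intro g hg v hv
      have := key g hg ⟨v, hv⟩
      have h2 := congrArg Subtype.val this
      rw [MulAut.conjNormal_apply] at h2
      exact h2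
    -- the quotient
    have hlt : Nat.card (G ⧸ Z) < n := by
      rw [← hn, Subgroup.card_eq_card_quotient_mul_card_subgroup Z]
      have h1 : 1 < Nat.card Z := by
        rw [Subgroup.one_lt_card_iff_ne_bot]; exact hZbot
      have h2 : 0 < Nat.card (G ⧸ Z) := Nat.card_pos
      nlinarith
    let φ := QuotientGroup.mk' Z
    have hφs : Function.Surjective φ := QuotientGroup.mk'_surjective Z
    have IH := ih _ hlt (G ⧸ Z) rfl (P.map φ) (Subgroup.Normal.map hPn φ hφs) (hP.map φ)
      (F.map φ)
      (Nat.Coprime.coprime_dvd_left (Subgroup.card_map_dvd F φ)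
        (Nat.Coprime.coprime_dvd_right (Subgroup.card_map_dvd P φ) hcop))
      (φ x)
      (by
        rw [Subgroup.mem_normalizer_iff]
        intro h
        constructor
        · rintro ⟨f, hf, rfl⟩
          refine ⟨x * f * x⁻¹, (Subgroup.mem_normalizer_iff.mp hx f).mp hf, ?_⟩
          simp
        · rintro ⟨f, hf, hfe⟩
          refine ⟨x⁻¹ * f * x, ?_, ?_⟩
          · have := (Subgroup.mem_normalizer_iff.mp hx (x⁻¹ * f * x)).mpr
            apply this
            have e : x * (x⁻¹ * f * x) * x⁻¹ = f := by group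
            rw [e]; exact hf
          · rw [map_mul, map_mul, hfe]
            simp [mul_assoc])
      m hm
      (by
        rintro _ ⟨f, hf, rfl⟩ i hi0 him hcomm
        have h1 : ⁅f, x ^ i⁆ ∈ P := by
          have h2 : φ ⁅f, x ^ i⁆ ∈ P.map φ := by
            rw [map_commutatorElement, map_pow]; exact hcomm
          obtain ⟨u, hu, hue⟩ := h2
          have h3 : u⁻¹ * ⁅f, x ^ i⁆ ∈ Z := QuotientGroup.eq.mp hue
          have : ⁅f, x ^ i⁆ = u * (u⁻¹ * ⁅f, x ^ i⁆) := by group
          rw [this]
          exact P.mul_mem hu (hZP h3)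
        rw [hc f hf i hi0 him h1, map_one])
      (by
        rintro _ ⟨f, hf, rfl⟩ _ ⟨u, hu, rfl⟩
        rw [← map_inv, ← map_mul, ← map_mul, ← map_mul, ← map_pow, hd f hf u hu, map_one])
    -- conclusion
    intro f hf
    rw [Subgroup.mem_centralizer_iff]
    intro u hu
    have hz : f * u * f⁻¹ * u⁻¹ ∈ Z := by
      have h1 := IH (Subgroup.mem_map_of_mem φ hf)
      rw [Subgroup.mem_centralizer_iff] at h1
      have h2 := h1 (φ u) (Subgroup.mem_map_of_mem φ hu)
      have h3 : φ (f * u * f⁻¹ * u⁻¹) = 1 := by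
        rw [map_mul, map_mul, map_mul, map_inv, map_inv, ← h2]
        group
      exact (QuotientGroup.eq_one_iff _).mp h3
    set z := f * u * f⁻¹ * u⁻¹ with hzdef
    have hfz : f * z * f⁻¹ = z := hFZ f hf z hz
    have hfu : f * u * f⁻¹ = z * u := by rw [hzdef]; group
    have hpow : ∀ k : ℕ, f ^ k * u * (f ^ k)⁻¹ = z ^ k * u := by
      intro k
      induction k with
      | zero => simp
      | succ k ihk =>
        have e1 : f ^ (k + 1) * u * (f ^ (k + 1))⁻¹ = f * (f ^ k * u * (f ^ k)⁻¹) * f⁻¹ := by
          rw [pow_succ']; group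
        rw [e1, ihk]
        have e2 : f * (z ^ k * u) * f⁻¹ = (f * z * f⁻¹) ^ k * (f * u * f⁻¹) := by
          rw [conj_pow]; group
        rw [e2, hfz, hfu, pow_succ, mul_assoc (z ^ k) z u]
    have hzk : z ^ orderOf f = 1 := by
      have := hpow (orderOf f)
      rw [pow_orderOf_eq_one] at this
      simp at this
      exact this
    have hzF : z ^ Nat.card F = 1 := by
      have h1 : orderOf f ∣ Nat.card F := by
        have := orderOf_dvd_natCard (⟨f, hf⟩ : F)
        rwa [Subgroup.orderOf_mk] at this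
      obtain ⟨c, hc'⟩ := h1
      rw [hc', pow_mul, hzk, one_pow]
    have hz1 : z = 1 := hcopw z (hZP hz) hzF
    have : f * u * f⁻¹ = u := by rw [hfu, hz1, one_mul]
    calc u * f = (f * u * f⁻¹) * f := by rw [this]
      _ = f * u := by group

/-- `p`-group case. -/
theorem pgroup_case {G : Type u} [Group G] [Finite G] (p : ℕ) [Fact p.Prime] (P : Subgroup G)
    [hPn : P.Normal] (hP : IsPGroup p P) (F : Subgroup G)
    (hcop : (Nat.card F).Coprime (Nat.card P)) (x : G)
    (hx : x ∈ Subgroup.normalizer (F : Set G)) (m : ℕ) (hm : 0 < m)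
    (hc : ∀ f ∈ F, ∀ i, 0 < i → i < m → ⁅f, x ^ i⁆ ∈ P → f = 1)
    (hd : ∀ f ∈ F, ∀ u ∈ P, ((f * x * f⁻¹) * u) ^ m = 1) :
    F ≤ Subgroup.centralizer (P : Set G) :=
  pgroup_aux p _ G rfl P hPn hP F hcop x hx m hm hc hd

end Cfsg.Agent.Lib.H21.FrobTrace
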