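import Mathlib
import Cfsg.Agent.Lib.H21.FrobTraceB
import Cfsg.Agent.Lib.H1.CoprimeSylow

/-!
# Frobenius group acting coprimely with trivial norms: reduction to Sylow subgroups (helper21)
-/

set_option autoImplicit false
open scoped commutatorElement
open Pointwise

namespace Cfsg.Agent.Lib.H21.FrobTrace

open Cfsg.Agent.Lib.H1

universe u

variable {G : Type u} [Group G]

/-- If `F` acts coprimely on `N` and centralizes every `F`-invariant Sylow subgroup of `N`, then
`F` centralizes `N`. -/
theorem exists_sylow_not_centralized [Finite G] {F N : Subgroup G} (hA : CoprimeAction F N)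
    (hnot : ¬ F ≤ Subgroup.centralizer (N : Set G)) :
    ∃ p : ℕ, ∃ _ : Fact p.Prime, ∃ P : Subgroup G, IsSylowOf p N P ∧
      F ≤ Subgroup.normalizer (P : Set G) ∧ ¬ F ≤ Subgroup.centralizer (P : Set G) := by
  by_contra hall
  push Not at hall
  apply hnot
  set C := N ⊓ Subgroup.centralizer (F : Set G) with hC
  have hCN : C ≤ N := inf_le_left
  have hdvd : Nat.card N ∣ Nat.card C := by
    rw [← Nat.factorization_prime_le_iff_dvd Nat.card_pos.ne' Nat.card_pos.ne']
    intro p hp
    haveI : Fact p.Prime := ⟨hp⟩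
    obtain ⟨P, hP, hPF⟩ := coprime_exists_invariant_sylow hA p
    have hcent := hall p ⟨hp⟩ P hP hPF
    have hPC : P ≤ C := le_inf hP.le (Subgroup.le_centralizer_iff.mp hcent)
    have h1 : p ^ (Nat.card N).factorization p ∣ Nat.card C := by
      rw [← hP.card_eq]; exact Subgroup.card_dvd_of_le hPC
    exact (hp.pow_dvd_iff_le_factorization Nat.card_pos.ne').mp h1
  have hCeq : C = N := Subgroup.eq_of_le_of_card_ge hCN (Nat.le_of_dvd Nat.card_pos hdvd)
  have : N ≤ Subgroup.centralizer (F : Set G) := by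
    rw [← hCeq]; exact inf_le_right
  exact Subgroup.le_centralizer_iff.mp this

theorem core [Finite G] (N : Subgroup G) [hNn : N.Normal] (F : Subgroup G)
    (hsol : Group.IsSolvable F) (hcop : (Nat.card F).Coprime (Nat.card N)) (x : G)
    (hx : x ∈ Subgroup.normalizer (F : Set G)) (m : ℕ) (hm : 0 < m)
    (hc : ∀ f ∈ F, ∀ i, 0 < i → i < m →
      Commute (QuotientGroup.mk' N f) ((QuotientGroup.mk' N x) ^ i) → f = 1)
    (hd : ∀ y : G, (∃ f ∈ F, QuotientGroup.mk' N y = QuotientGroup.mk' N (f * x * f⁻¹)) →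
      y ^ m = 1) :
    F ≤ Subgroup.centralizer (N : Set G) := by
  by_contra hnot
  have hNtop : Subgroup.normalizer (N : Set G) = ⊤ := Subgroup.normalizer_eq_top N
  have hmk1 : ∀ g ∈ N, QuotientGroup.mk' N g = 1 :=
    fun g hg => (QuotientGroup.eq_one_iff g).mpr hg
  have hA : CoprimeAction F N := ⟨by rw [hNtop]; exact le_top, hcop, Or.inl hsol⟩
  obtain ⟨p, hpf, P, hP, hPF, hPnc⟩ := exists_sylow_not_centralized hA hnot
  haveI := hpf
  -- adjust `x`
  have hxN : x ∈ Subgroup.normalizer (N : Set G) := by rw [hNtop]; exact Subgroup.mem_top x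
  have hP' : IsSylowOf p N (MulAut.conj x • P) := hP.conj hxN
  have hP'F : F ≤ Subgroup.normalizer ((MulAut.conj x • P : Subgroup G) : Set G) := by
    intro f hf
    rw [← conj_smul_eq_self_iff_mem_normalizer]
    have h1 : x⁻¹ * f * x ∈ F := by
      have hx' : x⁻¹ ∈ Subgroup.normalizer (F : Set G) := Subgroup.inv_mem _ hx
      have := (Subgroup.mem_normalizer_iff.mp hx' f).mp hf
      simpa using this
    have h2 : MulAut.conj (x⁻¹ * f * x) • P = P :=
      conj_smul_eq_self_iff_mem_normalizer.mpr (hPF h1)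
    calc MulAut.conj f • MulAut.conj x • P = MulAut.conj (x * (x⁻¹ * f * x)) • P := by
          rw [← mul_smul, ← map_mul]; congr 2; group
      _ = MulAut.conj x • MulAut.conj (x⁻¹ * f * x) • P := by
          rw [map_mul, mul_smul]
      _ = MulAut.conj x • P := by rw [h2]
  obtain ⟨c, hc0, hcP⟩ := coprime_invariant_sylow_conj hA hP' hP hP'F hPF
  have hcN : c ∈ N := hc0.1
  have hcF : c ∈ Subgroup.centralizer (F : Set G) := hc0.2
  set x' := c * x with hx'def
  have hx'P : x' ∈ Subgroup.normalizer (P : Set G) := by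
    rw [← conj_smul_eq_self_iff_mem_normalizer, hx'def, map_mul, mul_smul]
    exact hcP
  have hx'F : x' ∈ Subgroup.normalizer (F : Set G) :=
    Subgroup.mul_mem _ (Subgroup.centralizer_le_normalizer _ hcF) hx
  have hmk : QuotientGroup.mk' N x' = QuotientGroup.mk' N x := by
    rw [hx'def, map_mul, hmk1 c hcN, one_mul]
  -- pass to the normalizer of `P`
  set NP := Subgroup.normalizer (P : Set G) with hNP
  have hPNP : P ≤ NP := Subgroup.le_normalizer
  haveI hP'n : (P.subgroupOf NP).Normal := Subgroup.normal_in_normalizer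
  have hPpg : IsPGroup p (P.subgroupOf NP) := hP.isPGroup.comap_subtype
  have hcop' : (Nat.card (F.subgroupOf NP)).Coprime (Nat.card (P.subgroupOf NP)) := by
    rw [card_subgroupOf_of_le hPF, card_subgroupOf_of_le hPNP]
    exact Nat.Coprime.coprime_dvd_right (Subgroup.card_dvd_of_le hP.le) hcop
  have hx'' : (⟨x', hx'P⟩ : NP) ∈ Subgroup.normalizer ((F.subgroupOf NP : Subgroup NP) : Set NP) := by
    rw [Subgroup.mem_normalizer_iff]
    intro h
    rw [Subgroup.mem_subgroupOf, Subgroup.mem_subgroupOf]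
    have := Subgroup.mem_normalizer_iff.mp hx'F (h : G)
    simpa using this
  have key := pgroup_case p (P.subgroupOf NP) hPpg (F.subgroupOf NP) hcop' ⟨x', hx'P⟩ hx'' m hm
    (by
      intro f hf i hi0 him hcomm
      rw [Subgroup.mem_subgroupOf] at hf hcomm
      have h1 : ⁅(f : G), x' ^ i⁆ ∈ N := by
        have := hP.le hcomm
        simpa [commutatorElement_def] using this
      have h2 : Commute (QuotientGroup.mk' N (f : G)) ((QuotientGroup.mk' N x) ^ i) := by
        rw [← hmk, ← map_pow]
        have h3 : QuotientGroup.mk' N ⁅(f : G), x' ^ i⁆ = 1 := hmk1 _ h1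
        rw [map_commutatorElement, commutatorElement_eq_one_iff_mul_comm] at h3
        exact h3
      have := hc (f : G) hf i hi0 him h2
      exact Subtype.ext this)
    (by
      intro f hf u hu
      rw [Subgroup.mem_subgroupOf] at hf hu
      apply Subtype.ext
      have h1 : ((f : G) * x' * (f : G)⁻¹ * (u : G)) ^ m = 1 := by
        apply hd
        refine ⟨(f : G), hf, ?_⟩
        rw [map_mul, hmk1 (u : G) (hP.le hu), mul_one, map_mul, map_mul,
          hmk, map_mul, map_mul]
      simpa using h1)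
  apply hPnc
  intro f hf
  rw [Subgroup.mem_centralizer_iff]
  intro u hu
  have h1 := key (show (⟨f, hPF hf⟩ : NP) ∈ F.subgroupOf NP from by
    rw [Subgroup.mem_subgroupOf]; exact hf)
  rw [Subgroup.mem_centralizer_iff] at h1
  have h2 := h1 ⟨u, hPNP hu⟩ (by
    show (⟨u, hPNP hu⟩ : NP) ∈ P.subgroupOf NP
    rw [Subgroup.mem_subgroupOf]; exact hu)
  exact congrArg Subtype.val h2

end Cfsg.Agent.Lib.H21.FrobTrace
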