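import Mathlib
import Cfsg.Prelude.Def_Solvable
import Cfsg.Agent.Lib.H21.FrobTraceC
import Cfsg.Agent.Lib.H1.Frobenius
import Cfsg.Agent.Lib.H1.SchurZassenhaus
import Cfsg.Agent.Lib.H8.FrobKernelNil

/-!
# Frobenius groups whose kernel is given as a subgroup; internal Schur–Zassenhaus (helper21)
-/

set_option autoImplicit false
open Pointwise

namespace Cfsg.Agent.Lib.H21.FrobTrace

open Cfsg.Agent.Lib.H1

universe u

section Frob

variable {Q : Type u} [Group Q] {Hb Fb : Subgroup Q}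

theorem ker_conj_eq_one (hker : Cfsg.frobeniusKernel Hb = (Fb : Set Q)) {k g : Q} (hk : k ∈ Fb)
    (hkg : k ∈ MulAut.conj g • Hb) : k = 1 := by
  have h1 : k ∈ Cfsg.frobeniusKernel Hb := by rw [hker]; exact hk
  rcases h1 with h1 | h1
  · exact h1
  · exact absurd hkg (h1 g)

theorem ker_inf_eq_one (hker : Cfsg.frobeniusKernel Hb = (Fb : Set Q)) {k : Q} (hk : k ∈ Fb)
    (hkH : k ∈ Hb) : k = 1 := by
  apply ker_conj_eq_one hker hk (g := 1)
  rw [map_one, one_smul]; exact hkH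

theorem ker_commute_eq_one (hHb : Cfsg.IsFrobeniusComplement Hb)
    (hker : Cfsg.frobeniusKernel Hb = (Fb : Set Q)) {k t : Q} (hk : k ∈ Fb) (ht : t ∈ Hb)
    (ht1 : t ≠ 1) (hc : Commute k t) : k = 1 := by
  have h1 : k * t * k⁻¹ ∈ Hb := by
    have : k * t * k⁻¹ = t := by rw [hc.eq]; group
    rw [this]; exact ht
  exact ker_inf_eq_one hker hk (frob_mem_of_conj_mem hHb ht ht1 h1)

theorem ker_centralizer_le (hHb : Cfsg.IsFrobeniusComplement Hb)
    (hker : Cfsg.frobeniusKernel Hb = (Fb : Set Q)) :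
    ∀ a ∈ Fb, a ≠ 1 → Subgroup.centralizer ({a} : Set Q) ≤ Fb := by
  intro a ha ha1 y hy
  by_contra hyF
  have hyk : y ∉ Cfsg.frobeniusKernel Hb := by rw [hker]; exact hyF
  obtain ⟨hy1, g, hg⟩ := not_mem_frobeniusKernel_iff.mp hyk
  rw [mem_conj_smul_iff] at hg
  rw [Subgroup.mem_centralizer_singleton_iff] at hy
  -- t = g⁻¹ y g ∈ Hb, t ≠ 1, commutes with g⁻¹ a g
  have ht1 : g⁻¹ * y * g ≠ 1 := by
    intro h
    apply hy1
    have : y = g * (g⁻¹ * y * g) * g⁻¹ := by group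
    rw [this, h]; group
  have h1 : (g⁻¹ * a * g) * (g⁻¹ * y * g) * (g⁻¹ * a * g)⁻¹ ∈ Hb := by
    have : (g⁻¹ * a * g) * (g⁻¹ * y * g) * (g⁻¹ * a * g)⁻¹ = g⁻¹ * (a * y * a⁻¹) * g := by group
    rw [this]
    have h2 : a * y * a⁻¹ = y := by rw [← hy]; group
    rw [h2]; exact hg
  have h3 : g⁻¹ * a * g ∈ Hb := frob_mem_of_conj_mem hHb hg ht1 h1
  have h4 : a ∈ MulAut.conj g • Hb := by rw [mem_conj_smul_iff]; exact h3
  exact ha1 (ker_conj_eq_one hker ha h4)

theorem ker_ne_top (hHb : Cfsg.IsFrobeniusComplement Hb)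
    (hker : Cfsg.frobeniusKernel Hb = (Fb : Set Q)) : Fb ≠ ⊤ := by
  intro h
  obtain ⟨t, ht1⟩ := (Subgroup.ne_bot_iff_exists_ne_one.mp hHb.1)
  apply ht1
  have : (t : Q) = 1 := ker_inf_eq_one hker (by rw [h]; exact Subgroup.mem_top _) t.2
  exact Subtype.ext this

theorem ker_isNilpotent [Finite Q] [Fb.Normal] (hHb : Cfsg.IsFrobeniusComplement Hb)
    (hker : Cfsg.frobeniusKernel Hb = (Fb : Set Q)) : Group.IsNilpotent Fb :=
  Cfsg.Agent.Lib.H8.nilpotent_of_kernel_type Fb (ker_ne_top hHb hker)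
    (ker_centralizer_le hHb hker)

end Frob

section SZ

variable {G : Type u} [Group G]

/-- internal Schur–Zassenhaus existence -/
theorem exists_internal_complement [Finite G] (N K : Subgroup G) [N.Normal] (hNK : N ≤ K)
    (hcop : (Nat.card N).Coprime (N.relIndex K)) :
    ∃ F₀ : Subgroup G, F₀ ≤ K ∧ Disjoint N F₀ ∧ N ⊔ F₀ = K ∧ Nat.card F₀ = N.relIndex K := by
  have hcop' : (Nat.card (N.subgroupOf K)).Coprime (N.subgroupOf K).index := by
    rw [card_subgroupOf_of_le hNK]; exact hcop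
  obtain ⟨H, hH⟩ := Subgroup.exists_right_complement'_of_coprime hcop'
  refine ⟨H.map K.subtype, Subgroup.map_subtype_le _, ?_, ?_, ?_⟩
  · rw [Subgroup.disjoint_def]
    rintro g hgN ⟨h, hh, rfl⟩
    have h1 : h ∈ N.subgroupOf K := by rw [Subgroup.mem_subgroupOf]; exact hgN
    have h2 := Subgroup.disjoint_def.mp hH.disjoint h1 hh
    rw [h2]; rfl
  · apply le_antisymm
    · exact sup_le hNK (Subgroup.map_subtype_le _)
    · intro k hk
      obtain ⟨n, hn, h, hh, hnh⟩ := isComplement'_exists_mul hH (⟨k, hk⟩ : K)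
      have h2 : k = (n : G) * (h : G) := by
        have := congrArg Subtype.val hnh
        simpa using this
      rw [h2]
      exact Subgroup.mul_mem_sup (Subgroup.mem_subgroupOf.mp hn) (Subgroup.mem_map_of_mem _ hh)
  · rw [Subgroup.card_map_of_injective K.subtype_injective]
    exact (hH.symm.index_eq_card).symm

/-- Frattini argument for complements of a normal Hall subgroup. -/
theorem exists_mul_mem_normalizer [Finite G] (N : Subgroup G) [hN : N.Normal] (F₀ : Subgroup G)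
    (hcop : (Nat.card N).Coprime (Nat.card F₀)) (hsol : Group.IsSolvable F₀)
    (hK : (N ⊔ F₀).Normal) (g : G) :
    ∃ n ∈ N, n * g ∈ Subgroup.normalizer (F₀ : Set G) := by
  have hNtop : Subgroup.normalizer (N : Set G) = ⊤ := Subgroup.normalizer_eq_top N
  have hd : Disjoint N F₀ := by
    exact Subgroup.disjoint_of_coprime_natCard hcop
  have hd' : Disjoint N (MulAut.conj g • F₀) := by
    apply Subgroup.disjoint_of_coprime_natCard
    rw [card_conj_smul]; exact hcop
  have hsup : N ⊔ F₀ = N ⊔ MulAut.conj g • F₀ := by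
    have h1 : MulAut.conj g • (N ⊔ F₀) = N ⊔ F₀ := Subgroup.Normal.conj_smul_eq_self g _
    have h2 : MulAut.conj g • N = N := Subgroup.Normal.conj_smul_eq_self g N
    rw [Subgroup.smul_sup, h2] at h1
    exact h1.symm
  obtain ⟨n, hn, hconj⟩ := sz_conj_internal (N := N) (H := F₀) (K := MulAut.conj g • F₀)
    (by rw [hNtop]; exact le_top) (by rw [hNtop]; exact le_top) hcop hd hd' hsup (Or.inr hsol)
  refine ⟨n⁻¹, N.inv_mem hn, ?_⟩
  rw [← conj_smul_eq_self_iff_mem_normalizer, map_mul, mul_smul, ← hconj, ← mul_smul, ← map_mul]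
  simp

end SZ

end Cfsg.Agent.Lib.H21.FrobTrace
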