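import Mathlib
import Cfsg.Prelude.Def_KGroupFacts
import Cfsg.Agent.Lib.H17.G2Main
import Cfsg.Agent.Lib.H17.ChevBC
import Cfsg.Agent.Lib.H18.SchurTransport

set_option autoImplicit false

/-!
# S2102 piece TR (helper21): transport of the Schur multiplier from helper17's permutation group `P2` on 1782 points
to the Chevalley group `G₂(F)` of the definitions, for any field `F` with four elements
-/

namespace Cfsg.Agent.Lib.H21.G24TR

/-- **TR**: the multiplier of `G₂(4)`, from the permutation group `P2` to `chevG2.group F`, `|F| = 4` -/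
theorem transport {F : Type*} [Field F] [Fintype F] (hF : Fintype.card F = 4)
    (h : Cfsg.HasCyclicSchurMultiplier ↥Cfsg.Agent.Lib.H17.G2Chain.P2 2) :
    Cfsg.HasCyclicSchurMultiplier ↥(Cfsg.Lie.chevG2.group F) 2 := by
  have hfin : Finite ↥Cfsg.Agent.Lib.H17.G2Chain.P2 := Cfsg.Agent.Lib.H17.G2Chain.finite_P2
  let e : Cfsg.Agent.Lib.H17.F4 ≃+* F := FiniteField.ringEquivOfCardEq
    (by rw [hF, Cfsg.Agent.Lib.H17.F4.card_eq])
  have e1 : ↥Cfsg.Agent.Lib.H17.G2Chain.P2 ≃* ↥(Cfsg.Lie.chevG2.group Cfsg.Agent.Lib.H17.F4) :=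
    Cfsg.Agent.Lib.H17.G2Main.isoX.symm
  have e2 : ↥(Cfsg.Lie.chevG2.group Cfsg.Agent.Lib.H17.F4) ≃* ↥(Cfsg.Lie.chevG2.group F) :=
    Cfsg.Agent.Lib.H17.ChevBC.groupEquiv Cfsg.Lie.chevG2 e
  exact Cfsg.Agent.Lib.H18.SchurTransport.hasSchurMultiplier_of_group_mulEquiv (e1.trans e2) h

end Cfsg.Agent.Lib.H21.G24TR
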