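import Mathlib
import Cfsg.Prelude.Def_CaseTheorems
import Cfsg.Agent.Lib.H5.Glaub.OddCore
import Cfsg.Agent.Lib.H24.G85NC
import Cfsg.Agent.Lib.H25.G85IDX6

/-!
# S4385, wave 2, piece (A34): the abstract group `K = ⟨Q, a, b⟩` with `K / O(K) ≅ S₄ × Z₂`
-/

set_option autoImplicit false
set_option linter.unusedSimpArgs false
set_option linter.style.haveILetI false

namespace Cfsg.Agent.Lib.H21.G85

/-- the four-group spanned by two commuting involutions -/
theorem a34_four_group {K : Type*} [Group K] (x y : K) (hx : x * x = 1) (hy : y * y = 1)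
    (hxy : x * y = y * x) :
    ∃ W : Subgroup K, ∀ g : K, g ∈ W ↔ g = 1 ∨ g = x ∨ g = y ∨ g = x * y := by
  have hx' : ∀ t : K, x * (x * t) = t := fun t => by rw [← mul_assoc, hx, one_mul]
  have hy' : ∀ t : K, y * (y * t) = t := fun t => by rw [← mul_assoc, hy, one_mul]
  have hyx : y * x = x * y := hxy.symm
  have hyx' : ∀ t : K, y * (x * t) = x * (y * t) := fun t => by
    rw [← mul_assoc, ← hxy, mul_assoc]
  have hxi : x⁻¹ = x := inv_eq_of_mul_eq_one_right hx
  have hyi : y⁻¹ = y := inv_eq_of_mul_eq_one_right hy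
  refine ⟨Subgroup.closure {x, y}, fun g => ⟨fun hg => ?_, ?_⟩⟩
  · induction hg using Subgroup.closure_induction with
    | mem g hg =>
      rcases hg with h | h
      · exact Or.inr (Or.inl h)
      · exact Or.inr (Or.inr (Or.inl h))
    | one => exact Or.inl rfl
    | mul g h _ _ ihg ihh =>
      rcases ihg with h1 | h1 | h1 | h1 <;> rcases ihh with h2 | h2 | h2 | h2 <;> rw [h1, h2] <;>
        simp only [mul_assoc, hx, hy, hx', hyx, hyx', mul_one, one_mul, true_or, or_true]
    | inv g _ ihg =>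
      rcases ihg with h1 | h1 | h1 | h1 <;> rw [h1] <;>
        simp only [mul_inv_rev, hxi, hyi, hyx, inv_one, true_or, or_true]
  · have hxm : x ∈ Subgroup.closure ({x, y} : Set K) := Subgroup.subset_closure (by simp)
    have hym : y ∈ Subgroup.closure ({x, y} : Set K) := Subgroup.subset_closure (by simp)
    rintro (h | h | h | h) <;> rw [h]
    · exact Subgroup.one_mem _
    · exact hxm
    · exact hym
    · exact Subgroup.mul_mem _ hxm hym

/-- normal form of the elements of `⟨u, z, v⟩`, three commuting involutions -/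
theorem a34_pow_form {K : Type*} [Group K] (u z v : K) (hu2 : u * u = 1) (hz2 : z * z = 1)
    (hv2 : v * v = 1) (huz : u * z = z * u) (huv : u * v = v * u) (hzv : z * v = v * z) (g : K)
    (hg : g ∈ Subgroup.closure ({u, z, v} : Set K)) :
    ∃ i j k : Fin 2, g = u ^ (i : ℕ) * z ^ (j : ℕ) * v ^ (k : ℕ) := by
  have cuz : Commute u z := huz
  have cuv : Commute u v := huv
  have czv : Commute z v := hzv
  have hui : u⁻¹ = u := inv_eq_of_mul_eq_one_right hu2
  have hzi : z⁻¹ = z := inv_eq_of_mul_eq_one_right hz2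
  have hvi : v⁻¹ = v := inv_eq_of_mul_eq_one_right hv2
  have key : ∃ i j k : ℕ, g = u ^ i * z ^ j * v ^ k := by
    induction hg using Subgroup.closure_induction with
    | mem g hg =>
      rcases hg with h | h | h
      · exact ⟨1, 0, 0, by rw [h]; simp⟩
      · exact ⟨0, 1, 0, by rw [h]; simp⟩
      · exact ⟨0, 0, 1, by rw [Set.mem_singleton_iff.1 h]; simp⟩
    | one => exact ⟨0, 0, 0, by simp⟩
    | mul g h _ _ ihg ihh =>
      obtain ⟨i, j, k, rfl⟩ := ihg
      obtain ⟨i', j', k', rfl⟩ := ihh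
      refine ⟨i + i', j + j', k + k', ?_⟩
      rw [pow_add, pow_add, pow_add]
      have c1 : Commute (v ^ k) (u ^ i' * z ^ j') :=
        ((cuv.pow_pow i' k).symm).mul_right ((czv.pow_pow j' k).symm)
      rw [c1.mul_mul_mul_comm]
      have c2 : Commute (z ^ j) (u ^ i') := (cuz.pow_pow i' j).symm
      rw [c2.mul_mul_mul_comm]
    | inv g _ ihg =>
      obtain ⟨i, j, k, rfl⟩ := ihg
      refine ⟨i, j, k, ?_⟩
      rw [mul_inv_rev, mul_inv_rev, ← inv_pow, ← inv_pow, ← inv_pow, hui, hzi, hvi]
      have c3 : Commute (v ^ k) (z ^ j * u ^ i) :=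
        ((czv.pow_pow j k).symm).mul_right ((cuv.pow_pow i k).symm)
      rw [c3.eq, ← (cuz.pow_pow i j).eq]
  obtain ⟨i, j, k, rfl⟩ := key
  refine ⟨⟨i % 2, Nat.mod_lt _ two_pos⟩, ⟨j % 2, Nat.mod_lt _ two_pos⟩, ⟨k % 2, Nat.mod_lt _ two_pos⟩, ?_⟩
  show u ^ i * z ^ j * v ^ k = u ^ (i % 2) * z ^ (j % 2) * v ^ (k % 2)
  rw [pow_eq_pow_mod i (show u ^ 2 = 1 by rw [pow_two]; exact hu2),
    pow_eq_pow_mod j (show z ^ 2 = 1 by rw [pow_two]; exact hz2),
    pow_eq_pow_mod k (show v ^ 2 = 1 by rw [pow_two]; exact hv2)]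

/-- an element `s` with `s w s⁻¹ = w z`, `z ≠ 1` an involution fixed by `s`, cannot have an odd power in the
abelian group `Q ∋ w` -/
theorem a34_no_order4 {K : Type*} [Group K] (Q : Subgroup K) (w z s : K) (m : ℕ)
    (hQab : ∀ x ∈ Q, ∀ y ∈ Q, x * y = y * x) (hw : w ∈ Q)
    (hsw : s * w * s⁻¹ = w * z) (hsz : s * z * s⁻¹ = z) (hz2 : z * z = 1) (hz1 : z ≠ 1)
    (hm : ¬ 2 ∣ m) (hsm : s ^ m ∈ Q) : False := by
  have h1 : s ^ 2 ∈ Subgroup.centralizer ({w} : Set K) := by
    rw [Subgroup.mem_centralizer_singleton_iff]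
    have e : s ^ 2 * w * (s ^ 2)⁻¹ = w := by
      calc s ^ 2 * w * (s ^ 2)⁻¹ = s * (s * w * s⁻¹) * s⁻¹ := by rw [pow_two]; group
        _ = s * (w * z) * s⁻¹ := by rw [hsw]
        _ = (s * w * s⁻¹) * (s * z * s⁻¹) := by group
        _ = w * z * z := by rw [hsw, hsz]
        _ = w := by rw [mul_assoc, hz2, mul_one]
    calc s ^ 2 * w = (s ^ 2 * w * (s ^ 2)⁻¹) * s ^ 2 := by group
      _ = w * s ^ 2 := by rw [e]
  have h2 : s ^ m ∈ Subgroup.centralizer ({w} : Set K) := by
    rw [Subgroup.mem_centralizer_singleton_iff]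
    exact hQab _ hsm _ hw
  obtain ⟨k, hk⟩ : ∃ k, m = 2 * k + 1 := ⟨m / 2, by omega⟩
  have h3 : s ∈ Subgroup.centralizer ({w} : Set K) := by
    have e : s = s ^ m * ((s ^ 2) ^ k)⁻¹ := by
      rw [hk, pow_succ, pow_mul]; group
    rw [e]
    exact Subgroup.mul_mem _ h2 (Subgroup.inv_mem _ (Subgroup.pow_mem _ h1 k))
  rw [Subgroup.mem_centralizer_singleton_iff] at h3
  apply hz1
  have e2 : w * z = w := by rw [← hsw, h3]; group
  calc z = w⁻¹ * (w * z) := by group
    _ = 1 := by rw [e2]; group

/-- an involution that conjugates `W` into itself normalises `W` -/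
theorem a34_mem_normalizer {K : Type*} [Group K] (W : Subgroup K) (g : K) (hg2 : g * g = 1)
    (h : ∀ w ∈ W, g * w * g⁻¹ ∈ W) : g ∈ Subgroup.normalizer (W : Set K) := by
  rw [Subgroup.mem_normalizer_iff]
  intro w
  refine ⟨h w, fun hw => ?_⟩
  have hgi : g⁻¹ = g := inv_eq_of_mul_eq_one_right hg2
  have h1 := h _ hw
  have e : g * (g * w * g⁻¹) * g⁻¹ = w := by
    rw [hgi, mul_assoc, mul_assoc, mul_assoc, hg2, mul_one, ← mul_assoc, hg2, one_mul]
  rwa [e] at h1

/-- conjugation preserves a four-group as soon as it maps the two generators into it -/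
theorem a34_conj_mem {K : Type*} [Group K] (W : Subgroup K) (x y g : K)
    (hW : ∀ t : K, t ∈ W ↔ t = 1 ∨ t = x ∨ t = y ∨ t = x * y)
    (hx : g * x * g⁻¹ ∈ W) (hy : g * y * g⁻¹ ∈ W) : ∀ w ∈ W, g * w * g⁻¹ ∈ W := by
  intro w hw
  rcases (hW w).1 hw with h | h | h | h <;> rw [h]
  · rw [mul_one, mul_inv_cancel]; exact W.one_mem
  · exact hx
  · exact hy
  · have e : g * (x * y) * g⁻¹ = (g * x * g⁻¹) * (g * y * g⁻¹) := by group
    rw [e]; exact W.mul_mem hx hy

/-- (A34) `Q = ⟨u, z, v⟩` normal elementary abelian of order 8, `K = ⟨Q, a, b⟩`, `|K| = 16 * odd`. -/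
theorem abs_s4z2 {K : Type*} [Group K] [Finite K] (Q : Subgroup K) [Q.Normal] (u z v a b c c' : K)
    (huQ : u ∈ Q) (hzQ : z ∈ Q) (hvQ : v ∈ Q)
    (hQle : ∀ N : Subgroup K, u ∈ N → z ∈ N → v ∈ N → Q ≤ N) (hQcard : Nat.card Q = 8)
    (hu2 : u * u = 1) (hz2 : z * z = 1) (hv2 : v * v = 1) (ha2 : a * a = 1) (hb2 : b * b = 1)
    (huz : u * z = z * u) (huv : u * v = v * u) (hzv : z * v = v * z)
    (haz : a * z = z * a) (hav : a * v = v * a) (hbz : b * z = z * b) (hbu : b * u = u * b)
    (hau : a * u * a⁻¹ = u * c) (hbv : b * v * b⁻¹ = v * c')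
    (hcc : (c = v ∧ c' = z) ∨ (c = z ∧ c' = u) ∨ (c = v * z ∧ c' = z * u))
    (hgen : ∀ N : Subgroup K, a ∈ N → b ∈ N → Q ≤ N → N = ⊤)
    (hcard : ∃ m : ℕ, ¬ 2 ∣ m ∧ Nat.card K = 16 * m) :
    Nonempty (K ⧸ Cfsg.oddCore K ≃* Equiv.Perm (Fin 4) × Multiplicative (ZMod 2)) := by
  obtain ⟨m, hm, hK⟩ := hcard
  -- `Q` is abelian
  have hQab : ∀ x ∈ Q, ∀ y ∈ Q, x * y = y * x := by
    have h1 : ∀ x ∈ Q, x * u = u * x ∧ x * z = z * x ∧ x * v = v * x := by
      intro x hx
      have hle : Q ≤ Subgroup.centralizer ({u, z, v} : Set K) := by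
        apply hQle <;> rw [Subgroup.mem_centralizer_iff] <;> intro h hh <;>
          rcases hh with rfl | rfl | rfl
        · rfl
        · exact huz.symm
        · exact huv.symm
        · exact huz
        · rfl
        · exact hzv.symm
        · exact huv
        · exact hzv
        · rfl
      have hx' := Subgroup.mem_centralizer_iff.1 (hle hx)
      exact ⟨(hx' u (by simp)).symm, (hx' z (by simp)).symm, (hx' v (by simp)).symm⟩
    intro x hx y hy
    have hle : Q ≤ Subgroup.centralizer ({x} : Set K) := by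
      apply hQle <;> rw [Subgroup.mem_centralizer_singleton_iff]
      · exact ((h1 x hx).1).symm
      · exact ((h1 x hx).2.1).symm
      · exact ((h1 x hx).2.2).symm
    exact (Subgroup.mem_centralizer_singleton_iff.1 (hle hy)).symm
  -- `z` is central
  have hzc : ∀ g : K, g * z = z * g := by
    have htop : Subgroup.centralizer ({z} : Set K) = ⊤ := by
      apply hgen
      · rw [Subgroup.mem_centralizer_singleton_iff]; exact haz
      · rw [Subgroup.mem_centralizer_singleton_iff]; exact hbz
      · intro x hx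
        rw [Subgroup.mem_centralizer_singleton_iff]
        exact hQab x hx z hzQ
    intro g
    have : g ∈ Subgroup.centralizer ({z} : Set K) := by rw [htop]; exact Subgroup.mem_top g
    exact Subgroup.mem_centralizer_singleton_iff.1 this
  -- the 8 products are distinct
  have hQcl : Q ≤ Subgroup.closure ({u, z, v} : Set K) :=
    hQle _ (Subgroup.subset_closure (by simp)) (Subgroup.subset_closure (by simp))
      (Subgroup.subset_closure (by simp))
  have hne : ∀ i j k : Fin 2, (i, j, k) ≠ ((0 : Fin 2), (0 : Fin 2), (0 : Fin 2)) →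
      u ^ (i : ℕ) * z ^ (j : ℕ) * v ^ (k : ℕ) ≠ 1 := by
    let f : Fin 2 × Fin 2 × Fin 2 → Q := fun t =>
      ⟨u ^ (t.1 : ℕ) * z ^ (t.2.1 : ℕ) * v ^ (t.2.2 : ℕ),
        Q.mul_mem (Q.mul_mem (Q.pow_mem huQ _) (Q.pow_mem hzQ _)) (Q.pow_mem hvQ _)⟩
    have fsurj : Function.Surjective f := by
      rintro ⟨g, hg⟩
      obtain ⟨i, j, k, rfl⟩ := a34_pow_form u z v hu2 hz2 hv2 huz huv hzv g (hQcl hg)
      exact ⟨(i, j, k), rfl⟩
    have finj : Function.Injective f :=
      (fsurj.bijective_of_nat_card_le (by rw [hQcard]; simp)).1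
    intro i j k hijk h
    apply hijk
    apply finj
    apply Subtype.ext
    show u ^ (i : ℕ) * z ^ (j : ℕ) * v ^ (k : ℕ) = u ^ ((0 : Fin 2) : ℕ) * z ^ ((0 : Fin 2) : ℕ) * v ^ ((0 : Fin 2) : ℕ)
    rw [h]; simp
  have n_u : u ≠ 1 := by simpa using hne 1 0 0 (by decide)
  have n_z : z ≠ 1 := by simpa using hne 0 1 0 (by decide)
  have n_v : v ≠ 1 := by simpa using hne 0 0 1 (by decide)
  have n_uz : u * z ≠ 1 := by simpa using hne 1 1 0 (by decide)
  have n_uv : u * v ≠ 1 := by simpa using hne 1 0 1 (by decide)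
  have n_zv : z * v ≠ 1 := by simpa using hne 0 1 1 (by decide)
  have n_uzv : u * z * v ≠ 1 := by simpa using hne 1 1 1 (by decide)
  -- powers
  have hQidx : Q.index = 2 * m := by
    have := Q.card_mul_index
    rw [hQcard, hK] at this
    omega
  have hpowQ : ∀ g : K, g ^ (2 * m) ∈ Q := fun g => hQidx ▸ Q.pow_index_mem g
  have hai : a⁻¹ = a := inv_eq_of_mul_eq_one_right ha2
  have hbi : b⁻¹ = b := inv_eq_of_mul_eq_one_right hb2
  -- conjugation
  have cz : ∀ g : K, g * z * g⁻¹ = z := fun g => by rw [hzc g, mul_inv_cancel_right]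
  have cav : a * v * a⁻¹ = v := by rw [hav, mul_inv_cancel_right]
  have cbu : b * u * b⁻¹ = u := by rw [hbu, mul_inv_cancel_right]
  have cmul : ∀ g x y : K, g * (x * y) * g⁻¹ = (g * x * g⁻¹) * (g * y * g⁻¹) := fun g x y => by group
  have cc : ∀ g h x : K, (g * h) * x * (g * h)⁻¹ = g * (h * x * h⁻¹) * g⁻¹ := fun g h x => by group
  rcases hcc with ⟨rfl, rfl⟩ | ⟨rfl, rfl⟩ | ⟨rfl, rfl⟩
  · -- case 1: impossible
    exfalso
    have r_u : (a * b) * u * (a * b)⁻¹ = u * c := by rw [cc, cbu, hau]
    have r_v : (a * b) * c * (a * b)⁻¹ = c * c' := by rw [cc, hbv, cmul, cav, cz]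
    have s_u : (a * b * (a * b)) * u * (a * b * (a * b))⁻¹ = u * c' := by
      rw [cc (a * b) (a * b) u, r_u, cmul, r_u, r_v, mul_assoc, ← mul_assoc c c c', hv2, one_mul]
    refine a34_no_order4 Q u c' (a * b * (a * b)) m hQab huQ s_u (cz _) hz2 n_z hm ?_
    have := hpowQ (a * b)
    rwa [pow_mul, pow_two] at this
  · -- case 2: impossible
    exfalso
    have r_u : (a * b) * c' * (a * b)⁻¹ = c' * c := by rw [cc, cbu, hau]
    have r_v : (a * b) * v * (a * b)⁻¹ = v * (c' * c) := by rw [cc, hbv, cmul, cav, hau]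
    have s_v : (a * b * (a * b)) * v * (a * b * (a * b))⁻¹ = v * c := by
      rw [cc (a * b) (a * b) v, r_v, cmul, r_v, cmul, r_u, cz, mul_assoc, mul_assoc, mul_assoc,
        hz2, mul_one, ← huz, ← mul_assoc c' c' c, hu2, one_mul]
    refine a34_no_order4 Q v c (a * b * (a * b)) m hQab hvQ s_v (cz _) hz2 n_z hm ?_
    have := hpowQ (a * b)
    rwa [pow_mul, pow_two] at this
  · -- case 3
    have hzu : z * u = u * z := huz.symm
    have hvu : v * u = u * v := huv.symm
    have hvz : v * z = z * v := hzv.symm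
    have hzu' : ∀ t : K, z * (u * t) = u * (z * t) := fun t => by rw [← mul_assoc, hzu, mul_assoc]
    have hvu' : ∀ t : K, v * (u * t) = u * (v * t) := fun t => by rw [← mul_assoc, hvu, mul_assoc]
    have hvz' : ∀ t : K, v * (z * t) = z * (v * t) := fun t => by rw [← mul_assoc, hvz, mul_assoc]
    have hu2' : ∀ t : K, u * (u * t) = t := fun t => by rw [← mul_assoc, hu2, one_mul]
    have hz2' : ∀ t : K, z * (z * t) = t := fun t => by rw [← mul_assoc, hz2, one_mul]
    have hv2' : ∀ t : K, v * (v * t) = t := fun t => by rw [← mul_assoc, hv2, one_mul]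
    have i1 : (z * u) * (z * u) = 1 := by
      simp only [mul_assoc, hzu, hzu', hvu, hvu', hvz, hvz', hu2, hu2', hz2, hz2', hv2, hv2', mul_one, one_mul]
    have i2 : (v * z) * (v * z) = 1 := by
      simp only [mul_assoc, hzu, hzu', hvu, hvu', hvz, hvz', hu2, hu2', hz2, hz2', hv2, hv2', mul_one, one_mul]
    have i3 : (z * u) * (v * z) = (v * z) * (z * u) := by
      simp only [mul_assoc, hzu, hzu', hvu, hvu', hvz, hvz', hu2, hu2', hz2, hz2', hv2, hv2', mul_one, one_mul]
    have i4 : (z * u) * (v * z) = u * v := by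
      simp only [mul_assoc, hzu, hzu', hvu, hvu', hvz, hvz', hu2, hu2', hz2, hz2', hv2, hv2', mul_one, one_mul]
    have n_u' : z * u ≠ 1 := fun h => n_uz (huz.trans h)
    have n_v' : v * z ≠ 1 := fun h => n_zv (hzv.trans h)
    have n_u'v' : z * u ≠ v * z := fun h => n_uv (by
      have : u = v := mul_left_cancel (h.trans hzv.symm)
      rw [this, hv2])
    have n_p : z * u * (v * z) ≠ 1 := by rw [i4]; exact n_uv
    obtain ⟨W, hW⟩ := a34_four_group (z * u) (v * z) i1 i2 i3
    have hu'W : z * u ∈ W := (hW _).2 (Or.inr (Or.inl rfl))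
    have hv'W : v * z ∈ W := (hW _).2 (Or.inr (Or.inr (Or.inl rfl)))
    have hWQ : W ≤ Q := by
      intro g hg
      rcases (hW g).1 hg with h | h | h | h <;> rw [h]
      · exact Q.one_mem
      · exact Q.mul_mem hzQ huQ
      · exact Q.mul_mem hvQ hzQ
      · exact Q.mul_mem (Q.mul_mem hzQ huQ) (Q.mul_mem hvQ hzQ)
    -- conjugation on the generators of `W`
    have hav' : a * (v * z) * a⁻¹ = v * z := by rw [cmul, cav, cz]
    have hau' : a * (z * u) * a⁻¹ = z * u * (v * z) := by rw [cmul, cz, hau, mul_assoc]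
    have hbu' : b * (z * u) * b⁻¹ = z * u := by rw [cmul, cz, cbu]
    have hbv' : b * (v * z) * b⁻¹ = v * z * (z * u) := by
      rw [cmul, hbv, cz]
      simp only [mul_assoc, hzu, hzu', hvu, hvu', hvz, hvz', hu2, hu2', hz2, hz2', hv2, hv2', mul_one, one_mul]
    -- `W` is normal
    haveI hWn : W.Normal := by
      rw [← Subgroup.normalizer_eq_top_iff]
      apply hgen
      · apply a34_mem_normalizer W a ha2
        apply a34_conj_mem W (z * u) (v * z) a hW
        · rw [hau']; exact W.mul_mem hu'W hv'W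
        · rw [hav']; exact hv'W
      · apply a34_mem_normalizer W b hb2
        apply a34_conj_mem W (z * u) (v * z) b hW
        · rw [hbu']; exact hu'W
        · rw [hbv']; exact W.mul_mem hv'W hu'W
      · intro g hg
        rw [Subgroup.mem_normalizer_iff]
        intro h
        have hc : ∀ t ∈ Q, g * t * g⁻¹ = t := fun t ht => by
          rw [hQab g hg t ht, mul_inv_cancel_right]
        constructor
        · intro hh
          rw [hc h (hWQ hh)]; exact hh
        · intro hh
          have hhQ : h ∈ Q := by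
            have e : h = g⁻¹ * (g * h * g⁻¹) * g := by group
            rw [e]
            exact Q.mul_mem (Q.mul_mem (Q.inv_mem hg) (hWQ hh)) hg
          rw [hc h hhQ] at hh; exact hh
    -- index of the centralizer
    have h6 : (Subgroup.centralizer (W : Set K)).index = 6 :=
      Cfsg.Agent.Lib.H25.G85.index_centralizer_eq_six W (z * u) (v * z) a b hW n_u' n_v' n_u'v' i1 i2 i3
        hav' hau' hbu' hbv'
    have hCeq : Subgroup.centralizer (W : Set K) = Subgroup.centralizer (Q : Set K) := by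
      apply le_antisymm
      · intro g hg
        rw [Subgroup.mem_centralizer_iff] at hg
        have h1 := hg (z * u) hu'W
        have h2 := hg (v * z) hv'W
        have gu : u * g = g * u := by
          have e : u = z * (z * u) := (hz2' u).symm
          calc u * g = z * ((z * u) * g) := by rw [← mul_assoc, ← e]
            _ = z * (g * (z * u)) := by rw [h1]
            _ = g * (z * (z * u)) := by rw [← mul_assoc, ← hzc g, mul_assoc]
            _ = g * u := by rw [← e]
        have gv : v * g = g * v := by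
          have e : v = (v * z) * z := by rw [mul_assoc, hz2, mul_one]
          calc v * g = (v * z) * (z * g) := by rw [← mul_assoc, ← e]
            _ = (v * z) * (g * z) := by rw [hzc g]
            _ = g * ((v * z) * z) := by rw [← mul_assoc, h2, mul_assoc]
            _ = g * v := by rw [← e]
        have hle : Q ≤ Subgroup.centralizer ({g} : Set K) := by
          apply hQle <;> rw [Subgroup.mem_centralizer_singleton_iff]
          · exact gu
          · exact (hzc g).symm
          · exact gv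
        rw [Subgroup.mem_centralizer_iff]
        intro h hh
        exact Subgroup.mem_centralizer_singleton_iff.1 (hle hh)
      · exact Subgroup.centralizer_le hWQ
    have h6' : (Subgroup.centralizer (Q : Set K)).index = 6 := hCeq ▸ h6
    have hQC : Q ≤ Subgroup.centralizer (Q : Set K) := fun x hx =>
      Subgroup.mem_centralizer_iff.2 (fun y hy => hQab y hy x hx)
    have hodd : ¬ 2 ∣ Q.relIndex (Subgroup.centralizer (Q : Set K)) := by
      have h1 := Subgroup.relIndex_mul_index hQC
      rw [h6', hQidx] at h1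
      omega
    obtain ⟨O, hOn, hOc, hOle, hCle, hOidx⟩ := Cfsg.Agent.Lib.H24.G85.exists_odd_complement Q
      (IsPGroup.of_card (n := 3) (by rw [hQcard]; norm_num)) hQab hodd
    haveI := hOn
    have hO48 : O.index = 48 := by rw [hOidx, h6', hQcard]
    have hWC : W ⊔ Subgroup.zpowers z = Q := by
      apply le_antisymm
      · exact sup_le hWQ (Subgroup.zpowers_le.2 hzQ)
      · have hzS : z ∈ W ⊔ Subgroup.zpowers z :=
          Subgroup.mem_sup_right (Subgroup.mem_zpowers z)
        apply hQle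
        · have e : u = z * (z * u) := (hz2' u).symm
          rw [e]; exact Subgroup.mul_mem _ hzS (Subgroup.mem_sup_left hu'W)
        · exact hzS
        · have e : v = (v * z) * z := by rw [mul_assoc, hz2, mul_one]
          rw [e]; exact Subgroup.mul_mem _ (Subgroup.mem_sup_left hv'W) hzS
    have hW4 : Nat.card W = 4 := by
      have hset : (W : Set K) = {1, z * u, v * z, z * u * (v * z)} := by
        ext g
        simp only [SetLike.mem_coe, hW g, Set.mem_insert_iff, Set.mem_singleton_iff]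
      have e : Nat.card W = (W : Set K).ncard := Nat.card_coe_set_eq (W : Set K)
      rw [e, hset]
      have h1 : (1 : K) ∉ ({z * u, v * z, z * u * (v * z)} : Set K) := by
        simp only [Set.mem_insert_iff, Set.mem_singleton_iff, not_or]
        exact ⟨fun h => n_u' h.symm, fun h => n_v' h.symm, fun h => n_p h.symm⟩
      have h2 : z * u ∉ ({v * z, z * u * (v * z)} : Set K) := by
        simp only [Set.mem_insert_iff, Set.mem_singleton_iff, not_or]
        refine ⟨n_u'v', fun h => n_v' ?_⟩
        exact (left_eq_mul.1 h)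
      have h3 : v * z ∉ ({z * u * (v * z)} : Set K) := by
        simp only [Set.mem_singleton_iff]
        exact fun h => n_u' (right_eq_mul.1 h)
      rw [Set.ncard_insert_of_notMem h1, Set.ncard_insert_of_notMem h2, Set.ncard_insert_of_notMem h3,
        Set.ncard_singleton]
    have hWexp : ∀ x ∈ W, x ^ 2 = 1 := by
      intro x hx
      rw [pow_two]
      rcases (hW x).1 hx with h | h | h | h <;> rw [h]
      · exact one_mul 1
      · exact i1
      · exact i2
      · simp only [mul_assoc, hzu, hzu', hvu, hvu', hvz, hvz', hu2, hu2', hz2, hz2', hv2, hv2', mul_one, one_mul]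
    have hC2 : Nat.card (Subgroup.zpowers z) = 2 := by
      rw [Nat.card_zpowers]
      exact orderOf_eq_prime (by rw [pow_two]; exact hz2) n_z
    have hCc : Subgroup.zpowers z ≤ Subgroup.center K :=
      Subgroup.zpowers_le.2 (Subgroup.mem_center_iff.2 hzc)
    have hCW : Subgroup.zpowers z ⊓ W = ⊥ := by
      rw [eq_bot_iff]
      rintro g ⟨hg1, hg2⟩
      rw [Subgroup.mem_bot]
      have hgz : g = 1 ∨ g = z := by
        obtain ⟨k, rfl⟩ := Subgroup.mem_zpowers_iff.1 hg1
        rcases Int.even_or_odd k with ⟨j, rfl⟩ | ⟨j, rfl⟩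
        · left; rw [← two_mul, zpow_mul, zpow_two, hz2, one_zpow]
        · right; rw [zpow_add, zpow_one, zpow_mul, zpow_two, hz2, one_zpow, one_mul]
      rcases hgz with h | h
      · exact h
      · exfalso
        rw [h] at hg2
        rcases (hW z).1 hg2 with h' | h' | h' | h'
        · exact n_z h'
        · exact n_u (left_eq_mul.1 h')
        · exact n_v (right_eq_mul.1 h')
        · rw [i4] at h'
          apply n_uzv
          rw [h']
          simp only [mul_assoc, hzu, hzu', hvu, hvu', hvz, hvz', hu2, hu2', hz2, hz2', hv2, hv2', mul_one, one_mul]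
    have hcent : Subgroup.centralizer ((W ⊔ Subgroup.zpowers z : Subgroup K) : Set K) ≤
        W ⊔ Subgroup.zpowers z ⊔ O := by
      rw [hWC]; exact hCle
    have ha2O : a ^ 2 ∈ O := by rw [pow_two, ha2]; exact O.one_mem
    have haNot : a ∉ W ⊔ Subgroup.zpowers z ⊔ O := by
      rw [hWC]
      intro h
      have h1 : a ∈ Subgroup.centralizer (Q : Set K) := (sup_le hQC hOle) h
      have h2 := Subgroup.mem_centralizer_iff.1 h1 u huQ
      have h3 : u * (v * z) = u := by rw [← hau, ← h2, mul_inv_cancel_right]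
      exact n_v' (mul_left_cancel (h3.trans (mul_one u).symm))
    exact Cfsg.Agent.Lib.H5.Glaub.quot_oddCore_s4z2 O hOc hO48 W (Subgroup.zpowers z) hW4 hWexp hC2 hCc hCW
      hcent a ha2O haNot

end Cfsg.Agent.Lib.H21.G85
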