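import Mathlib
import Cfsg.Agent.Lib.H17.GHDefs
import Cfsg.Agent.Lib.H21.GHKE
/-!
S4402 piece K5 `Asc_facts` (helper21), exact sig of tools/blueprints/S4402_sigs.lean.
`Asc = closure Omc` is the set `{enc n | n ∈ asL}` (32 explicit indices).  Reusable: `omL`, `asL`, `om_iff`,
`mem_Asc_iff : σ ∈ Asc ↔ ∃ n ∈ asL, enc n = σ`, `enc_mem_Asc_iff : enc n ∈ Asc ↔ n ∈ asL`.
-/
set_option autoImplicit false
set_option linter.dupNamespace false
namespace Cfsg.Agent.Lib.H21.GH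
open Subgroup Cfsg.Agent.Lib.H17.GH Cfsg.Agent.Lib.H14.A8Sylow

/-- the indices of the 8 elements of `Omc` -/
def omL : List (Fin 128) := [64, 69, 74, 79, 112, 118, 121, 127]

/-- the indices of the 32 elements of `Asc` -/
def asL : List (Fin 128) := [0, 3, 5, 6, 9, 10, 12, 15, 48, 51, 53, 54, 57, 58, 60, 63, 64, 67, 69, 70, 73,
  74, 76, 79, 112, 115, 117, 118, 121, 122, 124, 127]

/-- every element of `asL` as a product of at most four elements of `omL` -/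
def witL : List (Fin 128 × List (Fin 128)) :=
  [(0, []), (3, [64, 69, 112, 118]), (5, [64, 69]), (6, [112, 118]), (9, [112, 121]), (10, [64, 74]),
   (12, [64, 69, 112, 121]), (15, [64, 79]), (48, [64, 112]), (51, [69, 121]), (53, [69, 112]),
   (54, [64, 121]), (57, [64, 118]), (58, [69, 127]), (60, [69, 118]), (63, [64, 127]), (64, [64]),
   (67, [69, 112, 121]), (69, [69]), (70, [64, 112, 121]), (73, [64, 112, 118]), (74, [74]),
   (76, [69, 112, 118]), (79, [79]), (112, [112]), (115, [64, 69, 118]), (117, [64, 69, 112]),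
   (118, [118]), (121, [121]), (122, [64, 69, 127]), (124, [64, 69, 121]), (127, [127])]

set_option maxRecDepth 1000000 in
theorem om_iff : ∀ m : Fin 128, (enc m * enc m = 1 ∧ ∀ i, blk4 (enc m i) ≠ blk4 i) ↔ m ∈ omL := by
  decide +kernel

set_option maxRecDepth 1000000 in
theorem wit_ok : ∀ p ∈ witL, (∀ a ∈ p.2, a ∈ omL) ∧ enc p.1 = (p.2.map enc).prod := by decide +kernel

set_option maxRecDepth 1000000 in
theorem wit_cover : ∀ n ∈ asL, ∃ p ∈ witL, p.1 = n := by decide +kernel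

set_option maxRecDepth 1000000 in
theorem as_mul : ∀ a ∈ asL, ∀ b ∈ asL, ∃ c ∈ asL, enc a * enc b = enc c := by decide +kernel

set_option maxRecDepth 1000000 in
theorem as_inv : ∀ a ∈ asL, ∃ c ∈ asL, (enc a)⁻¹ = enc c := by decide +kernel

theorem om_sub : ∀ m ∈ omL, m ∈ asL := by decide

set_option maxRecDepth 1000000 in
theorem as_sq : ∀ a ∈ asL, enc a * enc a = 1 ∨ enc a * enc a = zc := by decide +kernel

set_option maxRecDepth 1000000 in
theorem as_comm : ∀ a ∈ asL, ∀ b ∈ asL,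
    enc a * enc b = enc b * enc a ∨ enc a * enc b = enc b * enc a * zc := by decide +kernel

theorem enc_zero : enc 0 = 1 := by decide

theorem enc_mem_Omc {m : Fin 128} (hm : m ∈ omL) : enc m ∈ Omc := by
  have h := (om_iff m).mpr hm
  exact ⟨enc_mem_T m, h.1, h.2⟩

/-- the subgroup `{enc n | n ∈ asL}` -/
def Bs : Subgroup (Equiv.Perm (Fin 8)) where
  carrier := {σ | ∃ n ∈ asL, enc n = σ}
  mul_mem' := by
    rintro _ _ ⟨a, ha, rfl⟩ ⟨b, hb, rfl⟩
    obtain ⟨c, hc, h⟩ := as_mul a ha b hb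
    exact ⟨c, hc, h.symm⟩
  one_mem' := ⟨0, by decide, enc_zero⟩
  inv_mem' := by
    rintro _ ⟨a, ha, rfl⟩
    obtain ⟨c, hc, h⟩ := as_inv a ha
    exact ⟨c, hc, h.symm⟩

theorem mem_Bs {σ : Equiv.Perm (Fin 8)} : σ ∈ Bs ↔ ∃ n ∈ asL, enc n = σ := Iff.rfl

theorem Asc_eq_Bs : Asc = Bs := by
  apply le_antisymm
  · rw [Asc, closure_le]
    rintro x ⟨hxT, hx2, hx4⟩
    obtain ⟨m, rfl⟩ := (mem_T_iff_enc x).mp hxT
    exact ⟨m, om_sub m ((om_iff m).mp ⟨hx2, hx4⟩), rfl⟩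
  · rintro _ ⟨n, hn, rfl⟩
    obtain ⟨p, hp, rfl⟩ := wit_cover n hn
    obtain ⟨h1, h2⟩ := wit_ok p hp
    rw [h2, Asc]
    apply Subgroup.list_prod_mem
    intro x hx
    rw [List.mem_map] at hx
    obtain ⟨a, ha, rfl⟩ := hx
    exact subset_closure (enc_mem_Omc (h1 a ha))

theorem mem_Asc_iff {σ : Equiv.Perm (Fin 8)} : σ ∈ Asc ↔ ∃ n ∈ asL, enc n = σ := by
  rw [Asc_eq_Bs]; exact mem_Bs

theorem enc_mem_Asc_iff {n : Fin 128} : enc n ∈ Asc ↔ n ∈ asL := by
  rw [mem_Asc_iff]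
  constructor
  · rintro ⟨m, hm, h⟩
    rw [← enc_injective h]; exact hm
  · intro h
    exact ⟨n, h, rfl⟩

theorem card_Asc : Nat.card Asc = 32 := by
  rw [Asc_eq_Bs]
  have h1 : ((Bs : Subgroup (Equiv.Perm (Fin 8))) : Set (Equiv.Perm (Fin 8))) =
      enc '' (↑asL.toFinset : Set (Fin 128)) := by
    ext σ
    simp only [SetLike.mem_coe, mem_Bs, Set.mem_image, List.coe_toFinset, Set.mem_ofPred_eq]
  have h2 : Nat.card ↥Bs = Set.ncard ((Bs : Subgroup (Equiv.Perm (Fin 8))) : Set (Equiv.Perm (Fin 8))) :=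
    Nat.card_coe_set_eq _
  rw [h2, h1, Set.ncard_image_of_injective _ enc_injective, Set.ncard_coe_finset]
  decide

/-- K5. `Asc = closure Omc` has order 32 and is elementary abelian modulo `zc`. -/
theorem Asc_facts : Nat.card Asc = 32 ∧ (∀ a ∈ Asc, a * a = 1 ∨ a * a = zc) ∧
    (∀ a ∈ Asc, ∀ b ∈ Asc, a * b = b * a ∨ a * b = b * a * zc) := by
  refine ⟨card_Asc, ?_, ?_⟩
  · intro a ha
    obtain ⟨n, hn, rfl⟩ := mem_Asc_iff.mp ha
    exact as_sq n hn
  · intro a ha b hb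
    obtain ⟨n, hn, rfl⟩ := mem_Asc_iff.mp ha
    obtain ⟨m, hm, rfl⟩ := mem_Asc_iff.mp hb
    exact as_comm n hn m hm

end Cfsg.Agent.Lib.H21.GH
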