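import Mathlib
import Cfsg.Agent.Lib.H1.TwoInvolutions
import Cfsg.Agent.Lib.H22.DihQuatRecog

/-!
# A presentation-style recognition of `GL(2,3)` (helper21)

`Data i j c t` lists relations between four elements of a group; any group of order `48` carrying
such elements with `i ^ 2 ≠ 1` is isomorphic to the model `Q₈ ⋊ S₃`, and `GL(2,3)` is such a group.
-/

set_option autoImplicit false

namespace Cfsg.Agent.Lib.H21.GL23

open Cfsg.Agent.Lib.H1 Cfsg.Agent.Lib.H22 QuaternionGroup

abbrev Q8 := QuaternionGroup 2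
abbrev D6 := DihedralGroup 3

/-- the relations of `GL(2,3) = Q₈ ⋊ S₃` -/
structure Data {X : Type*} [Group X] (i j c t : X) : Prop where
  i4 : i ^ (2 * 2) = 1
  j2 : j * j = i ^ 2
  ji : j * i * j⁻¹ = i⁻¹
  c3 : c ^ 3 = 1
  t2 : t * t = 1
  tc : t * c * t⁻¹ = c⁻¹
  ci : c * i * c⁻¹ = j
  cj : c * j * c⁻¹ = i * j
  ti : t * i * t⁻¹ = i⁻¹
  tj : t * j * t⁻¹ = (i * j)⁻¹
  nd : i ^ 2 ≠ 1

/-- `i ↦ j ↦ ij ↦ i` -/
noncomputable def acHom : Q8 →* Q8 :=
  quaternionLift 2 (xa 0) (xa 3) (by decide) (by decide) (by decide)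

/-- inverse of `acHom`: `i ↦ ij`, `j ↦ i` -/
noncomputable def acInvHom : Q8 →* Q8 :=
  quaternionLift 2 (xa 3) (a 1) (by decide) (by decide) (by decide)

/-- `i ↦ i⁻¹`, `j ↦ (ij)⁻¹` -/
noncomputable def atHom : Q8 →* Q8 :=
  quaternionLift 2 (a 3) (xa 1) (by decide) (by decide) (by decide)

theorem acHom_left : ∀ q : Q8, acInvHom (acHom q) = q := by decide
theorem acHom_right : ∀ q : Q8, acHom (acInvHom q) = q := by decide
theorem atHom_invol : ∀ q : Q8, atHom (atHom q) = q := by decide

/-- the automorphism `i ↦ j ↦ ij ↦ i` of `Q₈` -/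
noncomputable def ac : MulAut Q8 :=
  { toFun := acHom
    invFun := acInvHom
    left_inv := acHom_left
    right_inv := acHom_right
    map_mul' := acHom.map_mul }

/-- the automorphism `i ↦ i⁻¹`, `j ↦ (ij)⁻¹` of `Q₈` -/
noncomputable def at' : MulAut Q8 :=
  { toFun := atHom
    invFun := atHom
    left_inv := atHom_invol
    right_inv := atHom_invol
    map_mul' := atHom.map_mul }

theorem ac_apply (q : Q8) : ac q = acHom q := rfl
theorem at_apply (q : Q8) : at' q = atHom q := rfl

theorem ac_pow_three : ac ^ 3 = 1 := by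
  ext q
  rw [pow_succ, pow_two, MulAut.mul_apply, MulAut.mul_apply, MulAut.one_apply, ac_apply, ac_apply,
    ac_apply]
  revert q
  decide

theorem at_mul_self : at' * at' = 1 := by
  ext q
  rw [MulAut.mul_apply, MulAut.one_apply, at_apply, at_apply]
  exact atHom_invol q

theorem at_inv : at'⁻¹ = at' := inv_eq_of_mul_eq_one_right at_mul_self

theorem ac_inv : ac⁻¹ = ac * ac := by
  apply inv_eq_of_mul_eq_one_right
  rw [← ac_pow_three, pow_succ, pow_two, mul_assoc]

theorem at_ac_at : at' * ac * at'⁻¹ = ac⁻¹ := by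
  rw [at_inv, ac_inv]
  ext q
  rw [MulAut.mul_apply, MulAut.mul_apply, MulAut.mul_apply, at_apply, at_apply, ac_apply, ac_apply,
    ac_apply]
  revert q
  decide

/-- the action of `S₃` on `Q₈` -/
noncomputable def theta : D6 →* MulAut Q8 :=
  dihedralLift 3 ac at' ac_pow_three at_mul_self at_ac_at

/-- the model group `Q₈ ⋊ S₃` of order `48` -/
abbrev Model := Q8 ⋊[theta] D6

theorem card_model : Nat.card Model = 48 := by
  rw [SemidirectProduct.card, Nat.card_eq_fintype_card, QuaternionGroup.card,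
    DihedralGroup.nat_card]

theorem theta_r (k : ZMod 3) : theta (DihedralGroup.r k) = ac ^ k.val := rfl
theorem theta_sr (k : ZMod 3) : theta (DihedralGroup.sr k) = at' * ac ^ k.val := rfl

theorem ac_pow_apply (n : ℕ) (q : Q8) : (ac ^ n) q = acHom^[n] q := by
  induction n generalizing q with
  | zero => rfl
  | succ n ih =>
    rw [pow_succ, MulAut.mul_apply, ih, ac_apply, Function.iterate_succ_apply]

/-- an inner `theta g` forces `g = 1` -/
theorem theta_inner : ∀ g : D6, ∀ q : Q8,
    (∀ q' : Q8, theta g q' = q⁻¹ * q' * q) → g = 1 := by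
  rintro (k | k) q h
  · have h' : ∀ q' : Q8, acHom^[k.val] q' = q⁻¹ * q' * q := by
      intro q'; rw [← ac_pow_apply, ← theta_r]; exact h q'
    revert h'
    revert q
    revert k
    decide
  · have h' : ∀ q' : Q8, atHom (acHom^[k.val] q') = q⁻¹ * q' * q := by
      intro q'; rw [← ac_pow_apply, ← at_apply, ← MulAut.mul_apply, ← theta_sr]; exact h q'
    exfalso
    revert h'
    revert q
    revert k
    decide

theorem q8_sq : ∀ q : Q8, q ≠ 1 → q = a 2 ∨ q * q = a 2 := by decide

theorem q8_gen : ∀ q : Q8, ∃ m n : Fin 4, q = (xa 0) ^ (m : ℕ) * (a 1) ^ (n : ℕ) := by decide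

/-- two homomorphisms out of `Q₈` agreeing on the two generators are equal -/
theorem q8_hom_ext {X : Type*} [Group X] (f g : Q8 →* X) (h1 : f (a 1) = g (a 1))
    (h2 : f (xa 0) = g (xa 0)) (q : Q8) : f q = g q := by
  obtain ⟨m, n, rfl⟩ := q8_gen q
  rw [map_mul, map_mul, map_pow, map_pow, map_pow, map_pow, h1, h2]

section lift

variable {X : Type*} [Group X] {i j c t : X}

/-- the map `Q₈ → X` -/
noncomputable def fR (d : Data i j c t) : Q8 →* X := quaternionLift 2 i j d.i4 d.j2 d.ji

/-- the map `S₃ → X` -/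
noncomputable def fK (d : Data i j c t) : D6 →* X := dihedralLift 3 c t d.c3 d.t2 d.tc

theorem fR_a (d : Data i j c t) (k : ZMod (2 * 2)) : fR d (a k) = i ^ k.val := rfl
theorem fR_xa (d : Data i j c t) (k : ZMod (2 * 2)) : fR d (xa k) = j * i ^ k.val := rfl
theorem fK_r (d : Data i j c t) (k : ZMod 3) : fK d (DihedralGroup.r k) = c ^ k.val := rfl
theorem fK_sr (d : Data i j c t) (k : ZMod 3) : fK d (DihedralGroup.sr k) = t * c ^ k.val := rfl

theorem fR_a1 (d : Data i j c t) : fR d (a 1) = i := by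
  rw [fR_a]; show i ^ 1 = i; rw [pow_one]

theorem fR_xa0 (d : Data i j c t) : fR d (xa 0) = j := by
  rw [fR_xa]; show j * i ^ 0 = j; rw [pow_zero, mul_one]

theorem fR_a2 (d : Data i j c t) : fR d (a 2) = i ^ 2 := by
  rw [fR_a]; rfl

theorem Data.i_inv (d : Data i j c t) : i⁻¹ = i ^ 3 := by
  apply inv_eq_of_mul_eq_one_right
  rw [← pow_succ']; exact d.i4

theorem Data.j_mul_i (d : Data i j c t) : j * i = i⁻¹ * j := by
  have := d.ji
  calc j * i = (j * i * j⁻¹) * j := by group
    _ = i⁻¹ * j := by rw [this]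

theorem Data.j_mul_i_pow (d : Data i j c t) (n : ℕ) : j * i ^ n = (i⁻¹) ^ n * j := by
  induction n with
  | zero => simp
  | succ n ih =>
    rw [pow_succ, ← mul_assoc, ih, mul_assoc, d.j_mul_i, ← mul_assoc, ← pow_succ]

theorem fR_injective (d : Data i j c t) : Function.Injective (fR d) := by
  rw [injective_iff_map_eq_one]
  intro q hq
  by_contra hne
  apply d.nd
  rw [← fR_a2 d]
  rcases q8_sq q hne with h | h
  · rw [← h]; exact hq
  · rw [← h, map_mul, hq, one_mul]

theorem fR_ac (d : Data i j c t) (q : Q8) : fR d (ac q) = c * fR d q * c⁻¹ := by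
  have := q8_hom_ext ((fR d).comp ac.toMonoidHom) ((MulAut.conj c).toMonoidHom.comp (fR d)) ?_ ?_ q
  · simpa using this
  · show fR d (ac (a 1)) = c * fR d (a 1) * c⁻¹
    have h1 : ac (a 1) = xa 0 := by decide
    rw [h1, fR_xa0, fR_a1, d.ci]
  · show fR d (ac (xa 0)) = c * fR d (xa 0) * c⁻¹
    have h1 : ac (xa 0) = xa 3 := by decide
    rw [h1, fR_xa0, d.cj, fR_xa]
    show j * i ^ 3 = i * j
    rw [d.j_mul_i_pow, inv_pow, ← d.i_inv, inv_inv]

theorem fR_at (d : Data i j c t) (q : Q8) : fR d (at' q) = t * fR d q * t⁻¹ := by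
  have := q8_hom_ext ((fR d).comp at'.toMonoidHom) ((MulAut.conj t).toMonoidHom.comp (fR d)) ?_ ?_ q
  · simpa using this
  · show fR d (at' (a 1)) = t * fR d (a 1) * t⁻¹
    have h1 : at' (a 1) = a 3 := by decide
    rw [h1, fR_a1, d.ti, fR_a, d.i_inv]
    rfl
  · show fR d (at' (xa 0)) = t * fR d (xa 0) * t⁻¹
    have h1 : at' (xa 0) = xa 1 := by decide
    rw [h1, fR_xa0, d.tj, fR_xa]
    show j * i ^ 1 = (i * j)⁻¹
    rw [pow_one]
    symm
    apply inv_eq_of_mul_eq_one_right
    calc i * j * (j * i) = i * (j * j) * i := by group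
      _ = i ^ (2 * 2) := by rw [d.j2]; group
      _ = 1 := d.i4

theorem fR_ac_pow (d : Data i j c t) (n : ℕ) (q : Q8) :
    fR d ((ac ^ n) q) = c ^ n * fR d q * (c ^ n)⁻¹ := by
  induction n generalizing q with
  | zero => simp
  | succ n ih =>
    rw [pow_succ, MulAut.mul_apply, ih, fR_ac, pow_succ]
    group

theorem compat (d : Data i j c t) (g : D6) :
    (fR d).comp (theta g).toMonoidHom = (MulAut.conj (fK d g)).toMonoidHom.comp (fR d) := by
  ext q
  show fR d (theta g q) = fK d g * fR d q * (fK d g)⁻¹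
  rcases g with k | k
  · rw [theta_r, fK_r, fR_ac_pow]
  · rw [theta_sr, fK_sr, MulAut.mul_apply, fR_at, fR_ac_pow]
    group

/-- the homomorphism from the model -/
noncomputable def Phi (d : Data i j c t) : Model →* X :=
  SemidirectProduct.lift (fR d) (fK d) (compat d)

theorem Phi_apply (d : Data i j c t) (m : Model) : Phi d m = fR d m.left * fK d m.right := rfl

theorem Phi_injective (d : Data i j c t) : Function.Injective (Phi d) := by
  rw [injective_iff_map_eq_one]
  intro m hm
  rw [Phi_apply] at hm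
  have hK : fK d m.right = fR d m.left⁻¹ := by
    rw [map_inv]; exact (inv_eq_of_mul_eq_one_right hm).symm
  have hg : m.right = 1 := by
    apply theta_inner m.right m.left
    intro q'
    apply fR_injective d
    have := DFunLike.congr_fun (compat d m.right) q'
    simp only [MonoidHom.comp_apply, MulEquiv.coe_toMonoidHom, MulAut.conj_apply] at this
    rw [this, hK, map_mul, map_mul, map_inv, inv_inv]
  rw [hg, map_one, mul_one] at hm
  have hq : m.left = 1 := by
    apply fR_injective d
    rw [hm, map_one]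
  ext
  · exact hq
  · exact hg

theorem nonempty_model_equiv [Finite X] (d : Data i j c t) (hX : Nat.card X = 48) :
    Nonempty (Model ≃* X) := by
  have hb : Function.Bijective (Phi d) := by
    apply (Phi_injective d).bijective_of_nat_card_le
    rw [hX, card_model]
  exact ⟨MulEquiv.ofBijective (Phi d) hb⟩

end lift

section Linear

abbrev GLtt := GL (Fin 2) (ZMod 3)

def gi : GLtt := ⟨!![0, 1; 2, 0], !![0, 2; 1, 0], by decide, by decide⟩
def gj : GLtt := ⟨!![1, 2; 2, 2], !![2, 1; 1, 1], by decide, by decide⟩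
def gc : GLtt := ⟨!![1, 2; 0, 1], !![1, 1; 0, 1], by decide, by decide⟩
def gt : GLtt := ⟨!![1, 0; 0, 2], !![1, 0; 0, 2], by decide, by decide⟩

theorem data_gl : Data gi gj gc gt where
  i4 := by decide
  j2 := by decide
  ji := by decide
  c3 := by decide
  t2 := by decide
  tc := by decide
  ci := by decide
  cj := by decide
  ti := by decide
  tj := by decide
  nd := by decide

theorem card_gl23 : Nat.card GLtt = 48 := by
  rw [Matrix.card_GL_field]
  simp [Fin.prod_univ_two, ZMod.card]

/-- **Recognition of `GL(2,3)`** by generators and relations. -/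
theorem nonempty_equiv_gl {X : Type*} [Group X] [Finite X] {i j c t : X} (d : Data i j c t)
    (hX : Nat.card X = 48) : Nonempty (X ≃* GLtt) := by
  obtain ⟨e1⟩ := nonempty_model_equiv d hX
  obtain ⟨e2⟩ := nonempty_model_equiv data_gl card_gl23
  exact ⟨e1.symm.trans e2⟩

end Linear

end Cfsg.Agent.Lib.H21.GL23
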