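import Cfsg.Agent.Lib.H23.AbSylA
import Cfsg.Prelude.Def_Transfer

/-!
# S1951, piece C (`gamma_eq`, helper12's signatures)

`Σ_{χ ∈ B₀} conj (χ z) * χ z = |P|` for `z ∈ P#`, `P` an elementary abelian Sylow `p`-subgroup and `C_G(z)` with a
normal `p`-complement: second and third main theorems for the principal block
(`L0.PrincipalSection.sum_principal_section`) plus `H23.sum_principal_sq` in `C_G(z)`.
-/

set_option autoImplicit false

namespace Cfsg.Agent.Lib.H21.GR

open Cfsg Cfsg.Agent.Lib.H23 Cfsg.Agent.Lib.H24 Cfsg.Agent.Lib.L0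
open scoped ComplexConjugate

variable {G : Type*} [Group G] [Finite G] {p : ℕ} [Fact p.Prime]

/-- The normal `p`-complement of `C_G(z)` in the shape used by `H23.sum_principal_sq`. -/
theorem npc_of_hasNormalPComplement (P : Sylow p G)
    (hcomm : ∀ a ∈ (P : Subgroup G), ∀ b ∈ (P : Subgroup G), a * b = b * a)
    (z : G) (hz : z ∈ (P : Subgroup G))
    (h : Cfsg.HasNormalPComplement p ↥(Subgroup.centralizer ({z} : Set G))) :
    ∃ K : Subgroup ↥(Subgroup.centralizer ({z} : Set G)), K.Normal ∧ ¬ p ∣ Nat.card K ∧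
      ∃ k : ℕ, K.index = p ^ k ∧ p ^ k = Nat.card (P : Subgroup G) := by
  set H := Subgroup.centralizer ({z} : Set G) with hH
  obtain ⟨Q, N, hN, hNQ⟩ := h
  have hPH : (P : Subgroup G) ≤ H := by
    intro w hw
    rw [hH, Subgroup.mem_centralizer_singleton_iff]
    exact hcomm w hw z hz
  set Q' : Sylow p H := P.subtype hPH with hQ'
  have hQco : ((Q' : Subgroup H)) = (P : Subgroup G).subgroupOf H := rfl
  have hcardQ' : Nat.card (Q' : Subgroup H) = Nat.card (P : Subgroup G) := by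
    rw [hQco]
    exact Nat.card_congr (Subgroup.subgroupOfEquivOfLe hPH).toEquiv
  have hcardQ : Nat.card (Q : Subgroup H) = Nat.card (P : Subgroup G) := by
    rw [← hcardQ', Sylow.card_eq_multiplicity Q, Sylow.card_eq_multiplicity Q']
  refine ⟨N, hN, ?_, ?_⟩
  · have h1 : (Q : Subgroup H).index = Nat.card N := hNQ.index_eq_card
    rw [← h1]
    exact Sylow.not_dvd_index Q
  · obtain ⟨k, hk⟩ := P.2.exists_card_eq
    refine ⟨k, ?_, hk.symm⟩
    rw [hNQ.symm.index_eq_card, hcardQ, hk]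

variable {M : Ideal AlgInt}

/-- C. `Γ = |P|`. -/
theorem gamma_eq (P : Sylow p G) (hPe : Cfsg.IsElementaryAbelian p (P : Subgroup G))
    (hb : ∀ x ∈ (P : Subgroup G), orderOf x = p → Cfsg.HasNormalPComplement p ↥(Subgroup.centralizer ({x} : Set G)))
    (M : Ideal Cfsg.AlgInt) (hM : Cfsg.IsPModular p M) {z : G} (hz : z ∈ (P : Subgroup G)) (hz1 : z ≠ 1) :
    ∑ᶠ χ ∈ Cfsg.principalBlock M G, (starRingEnd ℂ) ((χ : G → ℂ) z) * (χ : G → ℂ) z = (Nat.card (P : Subgroup G) : ℂ) := by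
  classical
  have := Fintype.ofFinite G
  have := Fintype.ofFinite (IrrCharacter G)
  have := Fintype.ofFinite ↥(Subgroup.centralizer ({z} : Set G))
  have := Fintype.ofFinite (IrrCharacter ↥(Subgroup.centralizer ({z} : Set G)))
  have hp : p.Prime := Fact.out
  have hcomm : ∀ a ∈ (P : Subgroup G), ∀ b ∈ (P : Subgroup G), a * b = b * a := by
    intro a ha b hb'
    have := hPe.1.is_comm.comm (⟨a, ha⟩ : (P : Subgroup G)) ⟨b, hb'⟩
    exact congrArg Subtype.val this
  have hzo : orderOf z = p := orderOf_eq_prime (hPe.2 z hz) hz1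
  obtain ⟨K, hKn, hKp, k, hidx, hk⟩ := npc_of_hasNormalPComplement P hcomm z hz (hb z hz hzo)
  have hx : ∃ k : ℕ, orderOf z = p ^ k := ⟨1, by rw [pow_one, hzo]⟩
  have hone : ¬ p ∣ orderOf (1 : ↥(Subgroup.centralizer ({z} : Set G))) := by
    rw [orderOf_one]
    exact hp.one_lt.ne' ∘ Nat.dvd_one.mp
  have h1 := Cfsg.Agent.Lib.L0.PrincipalSection.sum_principal_section (M := M) hx
    (C := Subgroup.centralizer ({z} : Set G)) rfl hM hone hone
  simp only [Subgroup.coe_one, mul_one] at h1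
  rw [finsum_mem_eq_sum_ite, h1]
  have h2 := sum_principal_sq hM K hKp hidx hone
  rw [← hk]
  rw [← h2]
  refine Finset.sum_congr rfl (fun ξ _ => ?_)
  by_cases hξ : ξ ∈ principalBlock M ↥(Subgroup.centralizer ({z} : Set G))
  · rw [if_pos hξ, if_pos hξ]
    ring
  · rw [if_neg hξ, if_neg hξ]

end Cfsg.Agent.Lib.H21.GR
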