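import Cfsg.Agent.Lib.H21.GRC

/-!
# `Σ_{χ ∈ B₀} conj (χ z) * χ z = |P|` for a commutative Sylow `p`-subgroup (S1950)

Variant of `H21.GR.gamma_eq` with `P` only commutative (e.g. cyclic), `z ∈ P` of order `p ^ k`, `z ≠ 1`
and `C_G(z)` with a normal `p`-complement.
-/

set_option autoImplicit false

namespace Cfsg.Agent.Lib.H21.GR

open Cfsg Cfsg.Agent.Lib.H23 Cfsg.Agent.Lib.H24 Cfsg.Agent.Lib.L0
open scoped ComplexConjugate

variable {G : Type*} [Group G] [Finite G] {p : ℕ} [Fact p.Prime]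

/-- `Γ = |P|` for a commutative Sylow `p`-subgroup. -/
theorem gamma_eq_of_comm (P : Sylow p G)
    (hcomm : ∀ a ∈ (P : Subgroup G), ∀ b ∈ (P : Subgroup G), a * b = b * a)
    (M : Ideal Cfsg.AlgInt) (hM : Cfsg.IsPModular p M) {z : G} (hz : z ∈ (P : Subgroup G))
    (h : Cfsg.HasNormalPComplement p ↥(Subgroup.centralizer ({z} : Set G))) :
    ∑ᶠ χ ∈ Cfsg.principalBlock M G, (starRingEnd ℂ) ((χ : G → ℂ) z) * (χ : G → ℂ) z =
      (Nat.card (P : Subgroup G) : ℂ) := by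
  classical
  have := Fintype.ofFinite G
  have := Fintype.ofFinite (IrrCharacter G)
  have := Fintype.ofFinite ↥(Subgroup.centralizer ({z} : Set G))
  have := Fintype.ofFinite (IrrCharacter ↥(Subgroup.centralizer ({z} : Set G)))
  have hp : p.Prime := Fact.out
  obtain ⟨K, hKn, hKp, k, hidx, hk⟩ := npc_of_hasNormalPComplement P hcomm z hz h
  have hx : ∃ k : ℕ, orderOf z = p ^ k := Cfsg.Agent.Lib.H23.AbSyl.pElement_of_mem P hz
  have hone : ¬ p ∣ orderOf (1 : ↥(Subgroup.centralizer ({z} : Set G))) := by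
    rw [orderOf_one]
    exact hp.one_lt.ne' ∘ Nat.dvd_one.mp
  have h1 := Cfsg.Agent.Lib.L0.PrincipalSection.sum_principal_section (M := M) hx
    (C := Subgroup.centralizer ({z} : Set G)) rfl hM hone hone
  simp only [Subgroup.coe_one, mul_one] at h1
  rw [finsum_mem_eq_sum_ite, h1]
  have h2 := sum_principal_sq hM K hKp hidx hone
  rw [← hk]
  rw [← h2]
  refine Finset.sum_congr rfl (fun ξ _ => ?_)
  by_cases hξ : ξ ∈ principalBlock M ↥(Subgroup.centralizer ({z} : Set G))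
  · rw [if_pos hξ, if_pos hξ]
    ring
  · rw [if_neg hξ, if_neg hξ]

/-- Same with two conjugate elements: the value is a class function. Stated for `χ z'` with
`z' = g * z * g⁻¹`. -/
theorem gamma_eq_of_comm_conj (P : Sylow p G)
    (hcomm : ∀ a ∈ (P : Subgroup G), ∀ b ∈ (P : Subgroup G), a * b = b * a)
    (M : Ideal Cfsg.AlgInt) (hM : Cfsg.IsPModular p M) {z : G} (hz : z ∈ (P : Subgroup G))
    (h : Cfsg.HasNormalPComplement p ↥(Subgroup.centralizer ({z} : Set G))) (g : G) :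
    ∑ᶠ χ ∈ Cfsg.principalBlock M G,
      (starRingEnd ℂ) ((χ : G → ℂ) (g * z * g⁻¹)) * (χ : G → ℂ) (g * z * g⁻¹) =
      (Nat.card (P : Subgroup G) : ℂ) := by
  rw [← gamma_eq_of_comm P hcomm M hM hz h]
  apply finsum_mem_congr rfl
  intro χ _
  rw [Cfsg.Agent.Lib.H24.irr_conj χ z g]

end Cfsg.Agent.Lib.H21.GR
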