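import Mathlib

set_option autoImplicit false

namespace Cfsg.Agent.Lib.H21

open Module

/-- In a `ZMod p`-module, the span of a set is its additive closure. -/
theorem span_zmod_eq_closure {p : ℕ} {V : Type*} [AddCommGroup V] [Module (ZMod p) V] (s : Set V) :
    Submodule.span (ZMod p) s = AddSubgroup.toZModSubmodule p (AddSubgroup.closure s) := by
  apply le_antisymm
  · exact Submodule.span_le.2 (fun x hx => AddSubgroup.subset_closure hx)
  · intro x hx
    have : AddSubgroup.closure s ≤ (Submodule.span (ZMod p) s).toAddSubgroup :=
      (AddSubgroup.closure_le _).2 Submodule.subset_span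
    exact this hx

/-- number of generating `r`-tuples of an elementary abelian group of order `p^r` (additive) -/
theorem card_generating_tuples_add {p r : ℕ} [Fact p.Prime] {V : Type*} [AddCommGroup V] [Finite V]
    [Module (ZMod p) V] (hV : Nat.card V = p ^ r) :
    Nat.card {z : Fin r → V // AddSubgroup.closure (Set.range z) = ⊤}
      = ∏ i ∈ Finset.range r, (p ^ r - p ^ i) := by
  have hp := (Fact.out : p.Prime)
  haveI : Fintype V := Fintype.ofFinite V
  have hrank : finrank (ZMod p) V = r := by
    have h1 : Fintype.card V = Fintype.card (ZMod p) ^ finrank (ZMod p) V := Module.card_eq_pow_finrank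
    rw [ZMod.card, ← Nat.card_eq_fintype_card, hV] at h1
    exact (Nat.pow_right_injective hp.two_le h1).symm
  have key : ∀ z : Fin r → V, AddSubgroup.closure (Set.range z) = ⊤ ↔ LinearIndependent (ZMod p) z := by
    intro z
    have h1 : AddSubgroup.closure (Set.range z) = ⊤ ↔ Submodule.span (ZMod p) (Set.range z) = ⊤ := by
      rw [span_zmod_eq_closure]
      constructor
      · intro h; rw [h]; rfl
      · intro h
        have := congrArg Submodule.toAddSubgroup h
        simpa using this
    rw [h1]
    constructor
    · intro h
      exact linearIndependent_of_top_le_span_of_card_eq_finrank h.ge (by simp [hrank])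
    · intro h
      exact h.span_eq_top_of_card_eq_finrank' (by simp [hrank])
  rw [Nat.card_congr (Equiv.subtypeEquivRight key), card_linearIndependent (by rw [hrank]),
    ZMod.card, hrank, Fin.prod_univ_eq_prod_range (fun i => p ^ r - p ^ i) r]

/-- number of generating `r`-tuples of an elementary abelian group of order `p^r` -/
theorem card_generating_tuples {p r : ℕ} [Fact p.Prime] {Q : Type*} [Group Q] [Finite Q]
    (hcomm : ∀ a b : Q, a * b = b * a) (hexp : ∀ a : Q, a ^ p = 1) (hQ : Nat.card Q = p ^ r) :
    Nat.card {z : Fin r → Q // Subgroup.closure (Set.range z) = ⊤}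
      = ∏ i ∈ Finset.range r, (p ^ r - p ^ i) := by
  letI : CommGroup Q := { (inferInstance : Group Q) with mul_comm := hcomm }
  letI : Module (ZMod p) (Additive Q) := AddCommGroup.zmodModule (n := p) (by
    intro x
    show Additive.ofMul ((Additive.toMul x) ^ p) = 0
    rw [hexp]; rfl)
  have hV : Nat.card (Additive Q) = p ^ r := hQ
  rw [← card_generating_tuples_add (V := Additive Q) hV]
  refine Nat.card_congr (Equiv.subtypeEquiv (Equiv.refl _) ?_)
  intro z
  show Subgroup.closure (Set.range z) = ⊤ ↔
    AddSubgroup.closure (Set.range (fun i => Additive.ofMul (z i))) = (⊤ : AddSubgroup (Additive Q))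
  constructor
  · intro h
    have := Subgroup.toAddSubgroup_closure (Set.range z)
    rw [h] at this
    exact this.symm
  · intro h
    apply Subgroup.toAddSubgroup.injective
    rw [Subgroup.toAddSubgroup_closure]
    exact h

end Cfsg.Agent.Lib.H21
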