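import Cfsg.Agent.Lib.H13.HSDefs2

/-!
# S2535/S2534 pieces D1-D3 (architect helper13): generalities on `Cfsg.IsDPiGroup`.
-/

set_option autoImplicit false

namespace Cfsg.Agent.Lib.H21.HS
open Equiv MulAction Cfsg.Agent.Lib.H13.HS
open scoped Pointwise

theorem d_map_conj_one {G : Type*} [Group G] (H : Subgroup G) :
    H.map (MulAut.conj (1 : G)).toMonoidHom = H := by
  ext x
  simp

theorem d_sylow_smul_eq_map {G : Type*} [Group G] {p : ℕ} (g : G) (P : Sylow p G) :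
    ((g • P : Sylow p G) : Subgroup G) = (P : Subgroup G).map (MulAut.conj g).toMonoidHom := by
  rfl

/-- A maximal `π`-subgroup is a Sylow `r`-subgroup when `r` is the only prime of `π` dividing `|G|`. -/
theorem d_maximal_eq_sylow {G : Type*} [Group G] [Finite G] {π : Set ℕ} {r : ℕ} [Fact r.Prime]
    (hrπ : r ∈ π)
    (huniq : ∀ s : ℕ, s.Prime → s ∈ π → s ∣ Nat.card G → s = r)
    {H : Subgroup G} (hH : Maximal (Cfsg.IsPiSubgroup π) H) :
    ∃ P : Sylow r G, (P : Subgroup G) = H := by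
  have hr : r.Prime := Fact.out
  have hcard : ∃ k, Nat.card H = r ^ k := by
    refine ⟨(Nat.card H).primeFactorsList.length, ?_⟩
    apply Nat.eq_prime_pow_of_unique_prime_dvd (Nat.card_pos.ne')
    intro d hd hdH
    exact huniq d hd (hH.prop d hd hdH) (hdH.trans (Subgroup.card_subgroup_dvd_card H))
  obtain ⟨k, hk⟩ := hcard
  have hp : IsPGroup r H := IsPGroup.of_card hk
  obtain ⟨P, hP⟩ := hp.exists_le_sylow
  refine ⟨P, ?_⟩
  have hPpi : Cfsg.IsPiSubgroup π (P : Subgroup G) := by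
    intro p hpp hpd
    obtain ⟨n, hn⟩ := IsPGroup.iff_card.1 P.isPGroup'
    rw [hn] at hpd
    have := (Nat.prime_dvd_prime_iff_eq hpp hr).1 (hpp.dvd_of_dvd_pow hpd)
    rw [this]; exact hrπ
  exact le_antisymm (hH.le_of_ge hPpi hP) hP

theorem dpi_of_few {G : Type*} [Group G] [Finite G] {π : Set ℕ}
    (hfew : ∀ r s : ℕ, r.Prime → s.Prime → r ∈ π → s ∈ π → r ∣ Nat.card G → s ∣ Nat.card G → r = s) :
    Cfsg.IsDPiGroup π G := by
  intro H K hH hK
  by_cases hex : ∃ r : ℕ, r.Prime ∧ r ∈ π ∧ r ∣ Nat.card G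
  · obtain ⟨r, hr, hrπ, hrG⟩ := hex
    haveI : Fact r.Prime := ⟨hr⟩
    have huniq : ∀ s : ℕ, s.Prime → s ∈ π → s ∣ Nat.card G → s = r :=
      fun s hs hsπ hsG => hfew s r hs hr hsπ hrπ hsG hrG
    obtain ⟨P, hP⟩ := d_maximal_eq_sylow hrπ huniq hH
    obtain ⟨Q, hQ⟩ := d_maximal_eq_sylow hrπ huniq hK
    obtain ⟨g, hg⟩ := MulAction.exists_smul_eq G P Q
    refine ⟨g, ?_⟩
    rw [← hQ, ← hP, ← hg, d_sylow_smul_eq_map]
  · -- every π-subgroup is trivial
    have htriv : ∀ X : Subgroup G, Cfsg.IsPiSubgroup π X → X = ⊥ := by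
      intro X hX
      apply Subgroup.eq_bot_of_card_eq
      by_contra hne
      obtain ⟨p, hp, hpX⟩ := Nat.exists_prime_and_dvd hne
      exact hex ⟨p, hp, hX p hp hpX, hpX.trans (Subgroup.card_subgroup_dvd_card X)⟩
    refine ⟨1, ?_⟩
    rw [htriv H hH.prop, htriv K hK.prop, Subgroup.map_bot]

theorem dpi_of_full {G : Type*} [Group G] [Finite G] {π : Set ℕ}
    (h : ∀ r : ℕ, r.Prime → r ∣ Nat.card G → r ∈ π) : Cfsg.IsDPiGroup π G := by
  have htop : Cfsg.IsPiSubgroup π (⊤ : Subgroup G) := by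
    intro p hp hpd
    rw [Subgroup.card_top] at hpd
    exact h p hp hpd
  have hmax : ∀ X : Subgroup G, Maximal (Cfsg.IsPiSubgroup π) X → X = ⊤ :=
    fun X hX => top_le_iff.1 (hX.le_of_ge htop le_top)
  intro H K hH hK
  refine ⟨1, ?_⟩
  rw [hmax H hH, hmax K hK, d_map_conj_one]

theorem hall_of_dpi {G : Type*} [Group G] [Finite G] {π : Set ℕ} (h : Cfsg.IsDPiGroup π G) :
    ∃ H : Subgroup G, Cfsg.IsPiHall π H ∧
      ∀ X : Subgroup G, Cfsg.IsPiSubgroup π X → ∃ g : G, X.map (MulAut.conj g).toMonoidHom ≤ H := by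
  have hbot : Cfsg.IsPiSubgroup π (⊥ : Subgroup G) := by
    intro p hp hpd
    rw [Subgroup.card_bot] at hpd
    exact absurd (Nat.dvd_one.1 hpd) hp.one_lt.ne'
  obtain ⟨H, -, hH⟩ := Finite.exists_le_maximal (p := Cfsg.IsPiSubgroup π) hbot
  -- every π-subgroup is conjugate into H
  have hconj : ∀ X : Subgroup G, Cfsg.IsPiSubgroup π X →
      ∃ g : G, X.map (MulAut.conj g).toMonoidHom ≤ H := by
    intro X hX
    obtain ⟨K, hXK, hK⟩ := Finite.exists_le_maximal (p := Cfsg.IsPiSubgroup π) hX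
    obtain ⟨g, hg⟩ := h H K hH hK
    refine ⟨g⁻¹, ?_⟩
    rintro _ ⟨x, hx, rfl⟩
    have hxK : x ∈ K := hXK hx
    rw [hg] at hxK
    obtain ⟨y, hy, hyx⟩ := hxK
    have : (MulAut.conj g⁻¹).toMonoidHom x = y := by
      rw [← hyx]
      simp [MulAut.conj_apply, mul_assoc]
    rw [this]; exact hy
  refine ⟨H, ⟨hH.prop, ?_⟩, hconj⟩
  intro p hp hpπ hpd
  haveI : Fact p.Prime := ⟨hp⟩
  obtain ⟨P⟩ : Nonempty (Sylow p G) := inferInstance
  have hPpi : Cfsg.IsPiSubgroup π (P : Subgroup G) := by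
    intro q hq hqd
    obtain ⟨n, hn⟩ := IsPGroup.iff_card.1 P.isPGroup'
    rw [hn] at hqd
    have := (Nat.prime_dvd_prime_iff_eq hq hp).1 (hq.dvd_of_dvd_pow hqd)
    rw [this]; exact hpπ
  obtain ⟨g, hg⟩ := hconj P hPpi
  have hle : ((g • P : Sylow p G) : Subgroup G) ≤ H := by
    rw [d_sylow_smul_eq_map]; exact hg
  have hdvd : H.index ∣ ((g • P : Sylow p G) : Subgroup G).index := Subgroup.index_dvd_of_le hle
  exact (g • P : Sylow p G).not_dvd_index (hpd.trans hdvd)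

end Cfsg.Agent.Lib.H21.HS
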