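import Cfsg.Agent.Lib.H21.HSD4a

/-!
# S2534 piece D4 (architect helper13): π-subgroups of `A_n` with no fixed point, no invariant
3-set (degree 7) and no invariant (4,4)-partition (degree 8).
-/

set_option autoImplicit false

namespace Cfsg.Agent.Lib.H21.HS
open Equiv MulAction Cfsg.Agent.Lib.H13.HS
open scoped Pointwise

/-- `PiNum` of the order of a permutation group from its elements of prime order. -/
theorem d4_piNum_of {α : Type*} [Finite α] (X : Subgroup (Perm α)) (π : Set ℕ)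
    (h : ∀ g ∈ X, ∀ p : ℕ, p.Prime → g ^ p = 1 → g ≠ 1 → p ∈ π) : PiNum π (Nat.card X) := by
  intro p hp hdvd
  haveI := Fact.mk hp
  obtain ⟨x, hx⟩ := exists_prime_orderOf_dvd_card' p hdvd
  refine h x.1 x.2 p hp ?_ ?_
  · have h1 := pow_orderOf_eq_one x
    rw [hx] at h1
    have h2 := congrArg Subtype.val h1
    simpa using h2
  · intro h1
    have h2 : x = 1 := Subtype.ext h1
    rw [h2, orderOf_one] at hx
    exact hp.one_lt.ne hx

theorem d4_eq_one_of_fix {α : Type*} (g : Perm α) (t : Set α) (h1 : ∀ x ∈ t, g x = x)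
    (h2 : ∀ x ∈ tᶜ, g x = x) : g = 1 := by
  ext x
  by_cases hx : x ∈ t
  · simpa using h1 x hx
  · simpa using h2 x hx

theorem d4_mem_stab_pair {α : Type*} (g : Perm α) (B B' : Set α)
    (h : (g • B = B ∧ g • B' = B') ∨ (g • B = B' ∧ g • B' = B)) :
    g ∈ stabilizer (Perm α) ({B, B'} : Set (Set α)) := by
  rw [mem_stabilizer_iff, Set.smul_set_insert, Set.smul_set_singleton]
  rcases h with ⟨h1, h2⟩ | ⟨h1, h2⟩
  · rw [h1, h2]
  · rw [h1, h2, Set.pair_comm]

theorem d4_of_mem_stab_pair {α : Type*} (g : Perm α) (B B' : Set α)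
    (h : g ∈ stabilizer (Perm α) ({B, B'} : Set (Set α))) :
    (g • B = B ∨ g • B = B') ∧ (g • B' = B ∨ g • B' = B') := by
  rw [mem_stabilizer_iff] at h
  constructor
  · have h1 : g • B ∈ g • ({B, B'} : Set (Set α)) := Set.smul_mem_smul_set (by simp)
    rw [h] at h1
    simpa using h1
  · have h1 : g • B' ∈ g • ({B, B'} : Set (Set α)) := Set.smul_mem_smul_set (by simp)
    rw [h] at h1
    simpa using h1

theorem d4_stab_of_odd_order {α : Type*} (g : Perm α) (B B' : Set α)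
    (hg : g ∈ stabilizer (Perm α) ({B, B'} : Set (Set α))) (hne : B ≠ B') {k : ℕ}
    (hk : g ^ (2 * k + 1) = 1) : g ∈ stabilizer (Perm α) B := by
  obtain ⟨h1, h2⟩ := d4_of_mem_stab_pair g B B' hg
  have hsq : g ^ 2 ∈ stabilizer (Perm α) B := by
    rw [mem_stabilizer_iff, sq, mul_smul]
    rcases h1 with h1 | h1
    · rw [h1, h1]
    · rw [h1]
      rcases h2 with h2 | h2
      · exact h2
      · exfalso
        apply hne
        have h3 : g • B = g • B' := by rw [h1, h2]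
        exact smul_left_cancel g h3
  have h4 : g = (g ^ 2) ^ (k + 1) := by
    rw [← pow_mul, show 2 * (k + 1) = (2 * k + 1) + 1 by ring, pow_succ, hk, one_mul]
  rw [h4]
  exact Subgroup.pow_mem _ hsq _

theorem d4_stab_of_fixed {α : Type*} (g : Perm α) (s : Set α) (z : α) (hz : g z = z)
    (h : g ∈ partStab s) : g ∈ stabilizer (Perm α) s := by
  unfold partStab at h
  obtain ⟨h1, -⟩ := d4_of_mem_stab_pair g s sᶜ h
  rcases h1 with h1 | h1
  · exact mem_stabilizer_iff.2 h1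
  · exfalso
    rw [d4_smul_eq_iff] at h1
    have h2 := h1 z
    rw [hz] at h2
    by_cases hzs : z ∈ s
    · exact (h2.2 hzs) hzs
    · exact hzs (h2.1 hzs)

/-- the subset of `α` cut out by a predicate on `Fin n`. -/
def d4S {α : Type*} {n : ℕ} (e : α ≃ Fin n) (P : Fin n → Prop) : Set α := {x | P (e x)}

theorem d4S_mem {α : Type*} {n : ℕ} (e : α ≃ Fin n) (P : Fin n → Prop) (x : α) :
    x ∈ d4S e P ↔ P (e x) := Iff.rfl

/-- the permutation of `α` induced by a permutation of `Fin n`. -/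
def d4E {α : Type*} {n : ℕ} (e : α ≃ Fin n) (σ : Perm (Fin n)) : Perm α := e.symm.permCongr σ

theorem d4E_apply {α : Type*} {n : ℕ} (e : α ≃ Fin n) (σ : Perm (Fin n)) (x : α) :
    d4E e σ x = e.symm (σ (e x)) := by
  simp [d4E, Equiv.permCongr_apply]

theorem d4E_mem_altSub {α : Type*} [Finite α] {n : ℕ} (e : α ≃ Fin n) (σ : Perm (Fin n))
    (h : Perm.sign σ = 1) : d4E e σ ∈ altSub α := by
  classical
  letI := Fintype.ofFinite α
  rw [altSub_eq, Perm.mem_alternatingGroup, d4E, Perm.sign_permCongr]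
  exact h

theorem d4E_smul {α : Type*} {n : ℕ} (e : α ≃ Fin n) (σ : Perm (Fin n)) (P Q : Fin n → Prop)
    (h : ∀ i, Q (σ i) ↔ P i) : d4E e σ • d4S e P = d4S e Q := by
  rw [d4_smul_eq_iff]
  intro x
  rw [d4S_mem, d4S_mem, d4E_apply, Equiv.apply_symm_apply]
  exact h (e x)

theorem d4E_mem_stab {α : Type*} {n : ℕ} (e : α ≃ Fin n) (σ : Perm (Fin n)) (P : Fin n → Prop)
    (h : ∀ i, P (σ i) ↔ P i) : d4E e σ ∈ stabilizer (Perm α) (d4S e P) :=
  mem_stabilizer_iff.2 (d4E_smul e σ P P h)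

theorem d4E_of_mem_stab {α : Type*} {n : ℕ} (e : α ≃ Fin n) (σ : Perm (Fin n)) (s : Set α)
    (s' : Finset (Fin n)) (hs' : ∀ i, i ∈ s' ↔ e.symm i ∈ s)
    (h : d4E e σ ∈ stabilizer (Perm α) s) : ∀ i, σ i ∈ s' ↔ i ∈ s' := by
  intro i
  rw [Cfsg.Agent.Lib.H20.HS.p9_mem_stabilizer_set] at h
  have h1 := h (e.symm i)
  rw [d4E_apply, Equiv.apply_symm_apply] at h1
  rw [hs', hs']
  exact h1

theorem d4S_ncard {α : Type*} {n : ℕ} (e : α ≃ Fin n) (P : Fin n → Prop) [DecidablePred P] :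
    (d4S e P).ncard = (Finset.univ.filter P).card := by
  have h2 : d4S e P = e.symm '' ((Finset.univ.filter P : Finset (Fin n)) : Set (Fin n)) := by
    ext x
    rw [d4S_mem]
    simp only [Set.mem_image, Finset.coe_filter, Finset.mem_univ, true_and]
    constructor
    · intro h
      exact ⟨e x, h, e.symm_apply_apply x⟩
    · rintro ⟨i, hi, rfl⟩
      rw [Equiv.apply_symm_apply]
      exact hi
  rw [h2, Set.ncard_image_of_injective _ e.symm.injective, Set.ncard_coe_finset]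

/-! ## D4.1 -/

theorem exists_no_fixed_point {α : Type*} [Finite α] (h5 : 5 ≤ Nat.card α) {π : Set ℕ}
    (hπ : ∀ r : ℕ, r.Prime → r + 2 ≤ Nat.card α → r ∈ π) :
    ∃ X : Subgroup (Perm α), X ≤ altSub α ∧ PiNum π (Nat.card X) ∧
      ∀ x : α, ¬ X ≤ stabilizer (Perm α) x := by
  classical
  obtain ⟨n, hn⟩ : ∃ n, Nat.card α = n := ⟨_, rfl⟩
  have e : α ≃ Fin n := Finite.equivFinOfCardEq hn
  rw [hn] at h5
  have hne : ∀ i j : ℕ, ∀ (hi : i < n) (hj : j < n), i ≠ j →
      e.symm ⟨i, hi⟩ ≠ e.symm ⟨j, hj⟩ := by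
    intro i j hi hj hij h
    exact hij (Fin.mk.inj_iff.1 (e.symm.injective h))
  obtain ⟨u, hu⟩ : ∃ u, u = e.symm ⟨0, by omega⟩ := ⟨_, rfl⟩
  obtain ⟨v, hv⟩ : ∃ v, v = e.symm ⟨1, by omega⟩ := ⟨_, rfl⟩
  obtain ⟨a, ha⟩ : ∃ a, a = e.symm ⟨2, by omega⟩ := ⟨_, rfl⟩
  obtain ⟨b, hb⟩ : ∃ b, b = e.symm ⟨3, by omega⟩ := ⟨_, rfl⟩
  have huv : u ≠ v := by rw [hu, hv]; exact hne 0 1 _ _ (by omega)
  have hua : u ≠ a := by rw [hu, ha]; exact hne 0 2 _ _ (by omega)
  have hub : u ≠ b := by rw [hu, hb]; exact hne 0 3 _ _ (by omega)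
  have hva : v ≠ a := by rw [hv, ha]; exact hne 1 2 _ _ (by omega)
  have hvb : v ≠ b := by rw [hv, hb]; exact hne 1 3 _ _ (by omega)
  have hab : a ≠ b := by rw [ha, hb]; exact hne 2 3 _ _ (by omega)
  refine ⟨stabilizer (Perm α) ({u, v} : Set α) ⊓ altSub α, inf_le_right, ?_, ?_⟩
  · apply d4_piNum_of
    intro g hg p hp hgp hg1
    apply hπ p hp
    by_contra hlt
    have hlt' : n < p + 2 := by rw [hn] at hlt; omega
    have hT : ({u, v} : Set α).ncard = 2 := Set.ncard_pair huv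
    have hTc : ({u, v} : Set α)ᶜ.ncard = n - 2 := by
      have h1 := Set.ncard_add_ncard_compl ({u, v} : Set α)
      rw [hT, hn] at h1
      omega
    have hst := (Cfsg.Agent.Lib.H20.HS.p9_mem_stabilizer_set _ g).1 hg.1
    have hfix1 := d4_fix_of_prime_order g hp hgp _ (Set.toFinite _) hst (by rw [hT]; omega)
    have hfix2 := d4_fix_of_prime_order g hp hgp ({u, v} : Set α)ᶜ (Set.toFinite _)
      (fun x => not_congr (hst x)) (by rw [hTc]; omega)
    exact hg1 (d4_eq_one_of_fix g _ hfix1 hfix2)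
  · intro x hX
    have key : ∀ g : Perm α, g ∈ stabilizer (Perm α) ({u, v} : Set α) → g ∈ altSub α →
        g x = x := by
      intro g h1 h2
      have h3 := hX (Subgroup.mem_inf.2 ⟨h1, h2⟩)
      exact mem_stabilizer_iff.1 h3
    by_cases hx : x = u ∨ x = v
    · have h1 := key (swap u v * swap a b)
        (Subgroup.mul_mem _ (d4_swap_mem_stab _ (by simp))
          (d4_swap_mem_stab _ (by simp [hua.symm, hva.symm, hub.symm, hvb.symm])))
        (d4_two_swaps_mem huv hab)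
      rcases hx with hx | hx
      · rw [hx, Perm.mul_apply, swap_apply_of_ne_of_ne hua hub, swap_apply_left] at h1
        exact huv h1.symm
      · rw [hx, Perm.mul_apply, swap_apply_of_ne_of_ne hva hvb, swap_apply_right] at h1
        exact huv h1
    · push Not at hx
      obtain ⟨hxu, hxv⟩ := hx
      obtain ⟨c, hcu, hcv, hcx⟩ : ∃ c, c ≠ u ∧ c ≠ v ∧ c ≠ x := by
        by_cases hxa : x = a
        · exact ⟨b, hub.symm, hvb.symm, by rw [hxa]; exact hab.symm⟩
        · exact ⟨a, hua.symm, hva.symm, fun h => hxa h.symm⟩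
      have h1 := key (swap u v * swap x c)
        (Subgroup.mul_mem _ (d4_swap_mem_stab _ (by simp))
          (d4_swap_mem_stab _ (by simp [hxu, hxv, hcu, hcv])))
        (d4_two_swaps_mem huv hcx.symm)
      rw [Perm.mul_apply, swap_apply_left, swap_apply_of_ne_of_ne hcu hcv] at h1
      exact hcx h1

/-! ## D4.2 -/

set_option maxRecDepth 100000 in
theorem d4_dec7 : ∀ s' : Finset (Fin 7), s'.card = 3 → (1 ∈ s' ↔ 0 ∈ s') → (2 ∈ s' ↔ 1 ∈ s') →
    (4 ∈ s' ↔ 3 ∈ s') → (5 ∈ s' ↔ 4 ∈ s') → (4 ∈ s' ↔ 0 ∈ s') → False := by decide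

set_option maxRecDepth 100000 in
theorem d4_dec8 : ∀ s' : Finset (Fin 8), s'.card = 4 → (1 ∈ s' ↔ 0 ∈ s') → (2 ∈ s' ↔ 1 ∈ s') →
    (4 ∈ s' ↔ 3 ∈ s') → (5 ∈ s' ↔ 4 ∈ s') → (7 ∈ s' ↔ 6 ∈ s') → False := by decide

theorem exists_no_three_set {α : Type*} [Finite α] (h7 : Nat.card α = 7) {π : Set ℕ}
    (h2 : 2 ∈ π) (h3 : 3 ∈ π) :
    ∃ X : Subgroup (Perm α), X ≤ altSub α ∧ PiNum π (Nat.card X) ∧
      ∀ s : Set α, s.ncard = 3 → ¬ X ≤ stabilizer (Perm α) s := by
  classical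
  have e : α ≃ Fin 7 := Finite.equivFinOfCardEq h7
  obtain ⟨B, hB⟩ : ∃ B, B = d4S e (fun i => i.val < 3) := ⟨_, rfl⟩
  obtain ⟨B', hB'⟩ : ∃ B', B' = d4S e (fun i => 3 ≤ i.val ∧ i.val < 6) := ⟨_, rfl⟩
  have hBc : B.ncard = 3 := by rw [hB, d4S_ncard]; decide
  have hBcc : Bᶜ.ncard = 4 := by
    have h1 := Set.ncard_add_ncard_compl B
    rw [hBc, h7] at h1
    omega
  have hBne : B ≠ B' := by
    intro h
    have h1 : e.symm 0 ∈ B := by rw [hB, d4S_mem, Equiv.apply_symm_apply]; decide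
    rw [h, hB', d4S_mem, Equiv.apply_symm_apply] at h1
    revert h1
    decide
  refine ⟨stabilizer (Perm α) ({B, B'} : Set (Set α)) ⊓ altSub α, inf_le_right, ?_, ?_⟩
  · apply d4_piNum_of
    intro g hg p hp hgp hg1
    by_contra hpπ
    have hp5 : 5 ≤ p := by
      by_contra hlt
      have hlt' : p < 5 := by omega
      interval_cases p
      · exact absurd hp (by decide)
      · exact absurd hp (by decide)
      · exact hpπ h2
      · exact hpπ h3
      · exact absurd hp (by decide)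
    obtain ⟨k, hk⟩ : ∃ k, p = 2 * k + 1 := by
      rcases hp.eq_two_or_odd' with h | h
      · omega
      · exact h
    have hgB : g ∈ stabilizer (Perm α) B :=
      d4_stab_of_odd_order g B B' hg.1 hBne (k := k) (by rw [← hk]; exact hgp)
    have hst := (Cfsg.Agent.Lib.H20.HS.p9_mem_stabilizer_set _ g).1 hgB
    have hfix1 := d4_fix_of_prime_order g hp hgp _ (Set.toFinite _) hst (by rw [hBc]; omega)
    have hfix2 := d4_fix_of_prime_order g hp hgp Bᶜ (Set.toFinite _)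
      (fun x => not_congr (hst x)) (by rw [hBcc]; omega)
    exact hg1 (d4_eq_one_of_fix g _ hfix1 hfix2)
  · intro s hs hX
    obtain ⟨s', hcard, hs'⟩ := d4_transport e s
    rw [hs] at hcard
    have m1 : d4E e (swap 0 1 * swap 1 2) ∈
        stabilizer (Perm α) ({B, B'} : Set (Set α)) ⊓ altSub α := by
      refine Subgroup.mem_inf.2 ⟨d4_mem_stab_pair _ _ _ (Or.inl ⟨?_, ?_⟩),
        d4E_mem_altSub e _ (by decide)⟩
      · rw [hB]; exact d4E_smul e _ _ _ (by decide)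
      · rw [hB']; exact d4E_smul e _ _ _ (by decide)
    have m2 : d4E e (swap 3 4 * swap 4 5) ∈
        stabilizer (Perm α) ({B, B'} : Set (Set α)) ⊓ altSub α := by
      refine Subgroup.mem_inf.2 ⟨d4_mem_stab_pair _ _ _ (Or.inl ⟨?_, ?_⟩),
        d4E_mem_altSub e _ (by decide)⟩
      · rw [hB]; exact d4E_smul e _ _ _ (by decide)
      · rw [hB']; exact d4E_smul e _ _ _ (by decide)
    have m3 : d4E e (swap 0 3 * swap 1 4 * swap 2 5 * swap 0 1) ∈
        stabilizer (Perm α) ({B, B'} : Set (Set α)) ⊓ altSub α := by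
      refine Subgroup.mem_inf.2 ⟨d4_mem_stab_pair _ _ _ (Or.inr ⟨?_, ?_⟩),
        d4E_mem_altSub e _ (by decide)⟩
      · rw [hB, hB']; exact d4E_smul e _ _ _ (by decide)
      · rw [hB, hB']; exact d4E_smul e _ _ _ (by decide)
    have c1 := d4E_of_mem_stab e _ s s' hs' (hX m1)
    have c2 := d4E_of_mem_stab e _ s s' hs' (hX m2)
    have c3 := d4E_of_mem_stab e _ s s' hs' (hX m3)
    have e10 : (swap 0 1 * swap 1 2 : Perm (Fin 7)) 0 = 1 := by decide
    have e11 : (swap 0 1 * swap 1 2 : Perm (Fin 7)) 1 = 2 := by decide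
    have e23 : (swap 3 4 * swap 4 5 : Perm (Fin 7)) 3 = 4 := by decide
    have e24 : (swap 3 4 * swap 4 5 : Perm (Fin 7)) 4 = 5 := by decide
    have e30 : (swap 0 3 * swap 1 4 * swap 2 5 * swap 0 1 : Perm (Fin 7)) 0 = 4 := by decide
    have a1 := c1 0
    have a2 := c1 1
    have a3 := c2 3
    have a4 := c2 4
    have a5 := c3 0
    rw [e10] at a1
    rw [e11] at a2
    rw [e23] at a3
    rw [e24] at a4
    rw [e30] at a5
    exact d4_dec7 s' hcard a1 a2 a3 a4 a5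

/-! ## D4.3 -/

theorem exists_no_partition {α : Type*} [Finite α] (h8 : Nat.card α = 8) {π : Set ℕ}
    (h2 : 2 ∈ π) (h3 : 3 ∈ π) :
    ∃ X : Subgroup (Perm α), X ≤ altSub α ∧ PiNum π (Nat.card X) ∧
      ∀ s : Set α, s.ncard = 4 → ¬ X ≤ partStab s := by
  classical
  have e : α ≃ Fin 8 := Finite.equivFinOfCardEq h8
  obtain ⟨s1, hs1⟩ : ∃ s1, s1 = d4S e (fun i => i.val < 3) := ⟨_, rfl⟩
  obtain ⟨s2, hs2⟩ : ∃ s2, s2 = d4S e (fun i => 3 ≤ i.val ∧ i.val < 6) := ⟨_, rfl⟩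
  obtain ⟨s3, hs3⟩ : ∃ s3, s3 = d4S e (fun i => 6 ≤ i.val) := ⟨_, rfl⟩
  have hc1 : s1.ncard = 3 := by rw [hs1, d4S_ncard]; decide
  have hc2 : s2.ncard = 3 := by rw [hs2, d4S_ncard]; decide
  have hc3 : s3.ncard = 2 := by rw [hs3, d4S_ncard]; decide
  have hcover : ∀ x : α, x ∈ s3 ↔ (x ∉ s1 ∧ x ∉ s2) := by
    intro x
    rw [hs1, hs2, hs3, d4S_mem, d4S_mem, d4S_mem]
    omega
  refine ⟨stabilizer (Perm α) s1 ⊓ stabilizer (Perm α) s2 ⊓ altSub α, inf_le_right, ?_, ?_⟩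
  · apply d4_piNum_of
    intro g hg p hp hgp hg1
    by_contra hpπ
    have hp5 : 5 ≤ p := by
      by_contra hlt
      have hlt' : p < 5 := by omega
      interval_cases p
      · exact absurd hp (by decide)
      · exact absurd hp (by decide)
      · exact hpπ h2
      · exact hpπ h3
      · exact absurd hp (by decide)
    have hst1 := (Cfsg.Agent.Lib.H20.HS.p9_mem_stabilizer_set _ g).1 hg.1.1
    have hst2 := (Cfsg.Agent.Lib.H20.HS.p9_mem_stabilizer_set _ g).1 hg.1.2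
    have hst3 : ∀ x, g x ∈ s3 ↔ x ∈ s3 := by
      intro x
      rw [hcover, hcover, hst1, hst2]
    have hfix1 := d4_fix_of_prime_order g hp hgp _ (Set.toFinite _) hst1 (by rw [hc1]; omega)
    have hfix2 := d4_fix_of_prime_order g hp hgp _ (Set.toFinite _) hst2 (by rw [hc2]; omega)
    have hfix3 := d4_fix_of_prime_order g hp hgp _ (Set.toFinite _) hst3 (by rw [hc3]; omega)
    apply hg1
    ext x
    by_cases hx1 : x ∈ s1
    · simpa using hfix1 x hx1
    · by_cases hx2 : x ∈ s2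
      · simpa using hfix2 x hx2
      · simpa using hfix3 x ((hcover x).2 ⟨hx1, hx2⟩)
  · intro s hs hX
    obtain ⟨s', hcard, hs'⟩ := d4_transport e s
    rw [hs] at hcard
    have m1 : d4E e (swap 0 1 * swap 1 2) ∈
        stabilizer (Perm α) s1 ⊓ stabilizer (Perm α) s2 ⊓ altSub α := by
      refine Subgroup.mem_inf.2 ⟨Subgroup.mem_inf.2 ⟨?_, ?_⟩, d4E_mem_altSub e _ (by decide)⟩
      · rw [hs1]; exact d4E_mem_stab e _ _ (by decide)
      · rw [hs2]; exact d4E_mem_stab e _ _ (by decide)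
    have m2 : d4E e (swap 3 4 * swap 4 5) ∈
        stabilizer (Perm α) s1 ⊓ stabilizer (Perm α) s2 ⊓ altSub α := by
      refine Subgroup.mem_inf.2 ⟨Subgroup.mem_inf.2 ⟨?_, ?_⟩, d4E_mem_altSub e _ (by decide)⟩
      · rw [hs1]; exact d4E_mem_stab e _ _ (by decide)
      · rw [hs2]; exact d4E_mem_stab e _ _ (by decide)
    have m3 : d4E e (swap 6 7 * swap 0 1) ∈
        stabilizer (Perm α) s1 ⊓ stabilizer (Perm α) s2 ⊓ altSub α := by
      refine Subgroup.mem_inf.2 ⟨Subgroup.mem_inf.2 ⟨?_, ?_⟩, d4E_mem_altSub e _ (by decide)⟩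
      · rw [hs1]; exact d4E_mem_stab e _ _ (by decide)
      · rw [hs2]; exact d4E_mem_stab e _ _ (by decide)
    have f1 : d4E e (swap 0 1 * swap 1 2) (e.symm 6) = e.symm 6 := by
      rw [d4E_apply, Equiv.apply_symm_apply]
      exact congrArg e.symm (by decide)
    have f2 : d4E e (swap 3 4 * swap 4 5) (e.symm 6) = e.symm 6 := by
      rw [d4E_apply, Equiv.apply_symm_apply]
      exact congrArg e.symm (by decide)
    have f3 : d4E e (swap 6 7 * swap 0 1) (e.symm 2) = e.symm 2 := by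
      rw [d4E_apply, Equiv.apply_symm_apply]
      exact congrArg e.symm (by decide)
    have c1 := d4E_of_mem_stab e _ s s' hs' (d4_stab_of_fixed _ s _ f1 (hX m1))
    have c2 := d4E_of_mem_stab e _ s s' hs' (d4_stab_of_fixed _ s _ f2 (hX m2))
    have c3 := d4E_of_mem_stab e _ s s' hs' (d4_stab_of_fixed _ s _ f3 (hX m3))
    have e10 : (swap 0 1 * swap 1 2 : Perm (Fin 8)) 0 = 1 := by decide
    have e11 : (swap 0 1 * swap 1 2 : Perm (Fin 8)) 1 = 2 := by decide
    have e23 : (swap 3 4 * swap 4 5 : Perm (Fin 8)) 3 = 4 := by decide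
    have e24 : (swap 3 4 * swap 4 5 : Perm (Fin 8)) 4 = 5 := by decide
    have e36 : (swap 6 7 * swap 0 1 : Perm (Fin 8)) 6 = 7 := by decide
    have a1 := c1 0
    have a2 := c1 1
    have a3 := c2 3
    have a4 := c2 4
    have a5 := c3 6
    rw [e10] at a1
    rw [e11] at a2
    rw [e23] at a3
    rw [e24] at a4
    rw [e36] at a5
    exact d4_dec8 s' hcard a1 a2 a3 a4 a5

end Cfsg.Agent.Lib.H21.HS
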