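import Cfsg.Agent.Lib.H13.HSDefs2
import Cfsg.Agent.Lib.H20.HSP9

/-!
# S2534 piece D4 (architect helper13), tools: products of two transpositions, set stabilizers,
elements of prime order on small invariant sets, transport of subsets to `Fin n`.
-/

set_option autoImplicit false

namespace Cfsg.Agent.Lib.H21.HS
open Equiv MulAction Cfsg.Agent.Lib.H13.HS
open scoped Pointwise

theorem d4_two_swaps_mem {α : Type*} [Finite α] [DecidableEq α] {a b c d : α}
    (hab : a ≠ b) (hcd : c ≠ d) : swap a b * swap c d ∈ altSub α := by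
  letI := Fintype.ofFinite α
  rw [altSub_eq, Equiv.Perm.mem_alternatingGroup, map_mul, Equiv.Perm.sign_swap hab,
    Equiv.Perm.sign_swap hcd]
  rfl

theorem d4_four_swaps_mem {α : Type*} [Finite α] [DecidableEq α] {a b c d a' b' c' d' : α}
    (hab : a ≠ b) (hcd : c ≠ d) (hab' : a' ≠ b') (hcd' : c' ≠ d') :
    swap a b * swap c d * swap a' b' * swap c' d' ∈ altSub α := by
  rw [mul_assoc]
  exact (altSub α).mul_mem (d4_two_swaps_mem hab hcd) (d4_two_swaps_mem hab' hcd')

theorem d4_swap_mem_stab {α : Type*} [DecidableEq α] (s : Set α) {a b : α} (h : a ∈ s ↔ b ∈ s) :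
    swap a b ∈ stabilizer (Perm α) s := by
  rw [Cfsg.Agent.Lib.H20.HS.p9_mem_stabilizer_set]
  intro x
  by_cases hxa : x = a
  · subst hxa; rw [swap_apply_left]; exact h.symm
  · by_cases hxb : x = b
    · subst hxb; rw [swap_apply_right]; exact h
    · rw [swap_apply_of_ne_of_ne hxa hxb]

/-- `g • A = C` in pointwise form. -/
theorem d4_smul_eq_iff {α : Type*} (g : Perm α) (A C : Set α) :
    g • A = C ↔ ∀ x, g x ∈ C ↔ x ∈ A := by
  constructor
  · intro h x
    rw [← h]
    rw [show g x = g • x from rfl]
    exact Set.smul_mem_smul_set_iff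
  · intro h
    ext x
    rw [Set.mem_smul_set_iff_inv_smul_mem]
    have := h (g⁻¹ • x)
    rw [show g (g⁻¹ • x) = x by simp [Perm.smul_def]] at this
    exact this.symm

/-- An element of prime order `p` fixes pointwise every invariant set with fewer than `p` points. -/
theorem d4_fix_of_prime_order {α : Type*} (g : Perm α) {p : ℕ} (hp : p.Prime) (hg : g ^ p = 1)
    (t : Set α) (ht : t.Finite) (hinv : ∀ x, g x ∈ t ↔ x ∈ t) (hlt : t.ncard < p) :
    ∀ x ∈ t, g x = x := by
  intro x hx
  have hpow : ∀ i : ℕ, (g ^ i) x ∈ t := by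
    intro i
    induction i with
    | zero => simpa using hx
    | succ k ih =>
      rw [pow_succ', Perm.mul_apply]
      exact (hinv _).2 ih
  have hc : t.ncard < ((Finset.range p : Finset ℕ) : Set ℕ).ncard := by
    rw [Set.ncard_coe_finset, Finset.card_range]; exact hlt
  obtain ⟨i, hi, j, hj, hij, hfij⟩ :=
    Set.exists_ne_map_eq_of_ncard_lt_of_maps_to hc (f := fun i => (g ^ i) x)
      (fun i _ => hpow i) ht
  simp only [Finset.coe_range, Set.mem_Iio] at hi hj
  -- wlog i < j
  have key : ∀ i j : ℕ, i < j → j < p → (g ^ i) x = (g ^ j) x → g x = x := by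
    intro i j hij hj hf
    obtain ⟨d, rfl⟩ : ∃ d, j = i + d := ⟨j - i, by omega⟩
    have hd0 : 0 < d := by omega
    have hdp : d < p := by omega
    rw [pow_add, Perm.mul_apply] at hf
    have hdx : (g ^ d) x = x := ((g ^ i).injective hf).symm
    have hcop : Nat.Coprime d p := by
      rw [Nat.coprime_comm, Nat.Prime.coprime_iff_not_dvd hp]
      intro hdvd
      exact absurd (Nat.le_of_dvd hd0 hdvd) (by omega)
    obtain ⟨m, -, hm⟩ := Nat.exists_mul_mod_eq_one_of_coprime hcop hp.one_lt
    have hdm : d * m = p * (d * m / p) + 1 := by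
      have := Nat.div_add_mod (d * m) p
      rw [hm] at this
      exact this.symm
    have hgm : g ^ (d * m) = g := by
      rw [hdm, pow_add, pow_mul, hg, one_pow, one_mul, pow_one]
    have hfix : ∀ k : ℕ, ((g ^ d) ^ k) x = x := by
      intro k
      induction k with
      | zero => simp
      | succ k ih => rw [pow_succ', Perm.mul_apply, ih, hdx]
    have := hfix m
    rwa [← pow_mul, hgm] at this
  rcases Nat.lt_or_gt_of_ne hij with h | h
  · exact key i j h hj hfij
  · exact key j i h hi hfij.symm

/-- Transport of a subset along `e : α ≃ Fin n`. -/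
theorem d4_transport {α : Type*} [Finite α] {n : ℕ} (e : α ≃ Fin n) (s : Set α) :
    ∃ s' : Finset (Fin n), s'.card = s.ncard ∧ ∀ i, i ∈ s' ↔ e.symm i ∈ s := by
  classical
  refine ⟨Finset.univ.filter (fun i => e.symm i ∈ s), ?_, fun i => by simp⟩
  have h1 : (e '' s).ncard = s.ncard := Set.ncard_image_of_injective s e.injective
  have h2 : e '' s = ((Finset.univ.filter (fun i => e.symm i ∈ s) : Finset (Fin n)) : Set (Fin n)) := by
    ext i
    simp only [Set.mem_image, Finset.coe_filter, Finset.mem_univ, true_and, Set.mem_setOf]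
    constructor
    · rintro ⟨x, hx, rfl⟩
      rwa [e.symm_apply_apply]
    · intro h
      exact ⟨e.symm i, h, e.apply_symm_apply i⟩
  rw [← h1, h2, Set.ncard_coe_finset]

theorem d4_exists_not_mem {α : Type*} [Finite α] [DecidableEq α] (F : Finset α)
    (h : F.card < Nat.card α) : ∃ a, a ∉ F := by
  letI := Fintype.ofFinite α
  by_contra hno
  push Not at hno
  have : F = Finset.univ := Finset.eq_univ_iff_forall.2 hno
  rw [this, Finset.card_univ, Nat.card_eq_fintype_card] at h
  exact lt_irrefl _ h

end Cfsg.Agent.Lib.H21.HS
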