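import Cfsg.Agent.Lib.H13.HSDefs

/-!
# S2536 piece P10 (architect helper13), arithmetic core: the three Hall subgroups from their orders.
-/

set_option autoImplicit false

namespace Cfsg.Agent.Lib.H21.HS
open Equiv MulAction Cfsg.Agent.Lib.H13.HS
open scoped Pointwise

theorem p10_card_perm {α : Type*} [Finite α] : Nat.card (Perm α) = (Nat.card α).factorial := by
  classical
  haveI := Fintype.ofFinite α
  rw [Nat.card_eq_fintype_card, Fintype.card_perm, Nat.card_eq_fintype_card]

/-- A subgroup of `Perm α` is Hall as soon as its order is a `π`-number `c` and `n! = c * i` with `i`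
a `π'`-number. -/
theorem p10_hall_of_card {α : Type*} [Finite α] {π : Set ℕ} (K : Subgroup (Perm α)) (c i : ℕ)
    (hc : Nat.card K = c) (hci : (Nat.card α).factorial = c * i) (hc0 : 0 < c)
    (h1 : PiNum π c) (h2 : PiFree π i) : Cfsg.IsPiHall π K := by
  rw [isPiHall_iff]
  refine ⟨by rw [hc]; exact h1, ?_⟩
  have h := K.card_mul_index
  rw [p10_card_perm, hc, hci] at h
  have : K.index = i := Nat.eq_of_mul_eq_mul_left hc0 h
  rw [this]; exact h2

theorem p10_point_of {α : Type*} [Finite α] {π : Set ℕ} (h : Below π (Nat.card α)) (x : α)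
    (hcard : Nat.card (stabilizer (Perm α) x) = (Nat.card α - 1).factorial) :
    Cfsg.IsPiHall π (stabilizer (Perm α) x) := by
  obtain ⟨hp, hb⟩ := h
  have hn1 : 1 ≤ Nat.card α := hp.one_lt.le
  refine p10_hall_of_card _ _ (Nat.card α) hcard ?_ (Nat.factorial_pos _) ?_ ?_
  · obtain ⟨k, hk⟩ : ∃ k, Nat.card α = k + 1 := ⟨Nat.card α - 1, by omega⟩
    rw [hk, Nat.add_sub_cancel, Nat.factorial_succ, mul_comm]
  · intro p hpp hpd
    have hle : p ≤ Nat.card α - 1 := (Nat.Prime.dvd_factorial hpp).1 hpd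
    exact (hb p hpp (by omega)).2 (by omega)
  · intro p hpp hpπ hpd
    have : p = Nat.card α := (Nat.prime_dvd_prime_iff_eq hpp hp).1 hpd
    have := (hb p hpp (by omega)).1 hpπ
    omega

theorem p10_piNum_23 {π : Set ℕ} {n : ℕ} (hn : 3 ≤ n) (h : TwoThree π n) (a b : ℕ) :
    PiNum π (2 ^ a * 3 ^ b) := by
  intro p hp hpd
  rcases (Nat.Prime.dvd_mul hp).1 hpd with h' | h'
  · have := (Nat.prime_dvd_prime_iff_eq hp Nat.prime_two).1 (hp.dvd_of_dvd_pow h')
    rw [this]; exact (h 2 Nat.prime_two (by omega)).2 (Or.inl rfl)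
  · have := (Nat.prime_dvd_prime_iff_eq hp Nat.prime_three).1 (hp.dvd_of_dvd_pow h')
    rw [this]; exact (h 3 Nat.prime_three hn).2 (Or.inr rfl)

theorem p10_piFree_35 {π : Set ℕ} {n : ℕ} (hn : 7 ≤ n) (h : TwoThree π n) : PiFree π 35 := by
  intro p hp hpπ hpd
  have h35 : (35 : ℕ) = 5 * 7 := by norm_num
  rw [h35] at hpd
  rcases (Nat.Prime.dvd_mul hp).1 hpd with h' | h'
  · have h5 := (Nat.prime_dvd_prime_iff_eq hp (by norm_num : Nat.Prime 5)).1 h'
    subst h5
    rcases (h 5 hp (by omega)).1 hpπ with h'' | h'' <;> omega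
  · have h7 := (Nat.prime_dvd_prime_iff_eq hp (by norm_num : Nat.Prime 7)).1 h'
    subst h7
    rcases (h 7 hp hn).1 hpπ with h'' | h'' <;> omega

theorem p10_three_of {α : Type*} [Finite α] {π : Set ℕ} (h7 : Nat.card α = 7)
    (h : TwoThree π 7) (s : Set α) (hs : s.ncard = 3)
    (hcard : Nat.card (stabilizer (Perm α) s) = (s.ncard).factorial * (sᶜ.ncard).factorial) :
    Cfsg.IsPiHall π (stabilizer (Perm α) s) := by
  have hsc : sᶜ.ncard = 4 := by
    have := Set.ncard_add_ncard_compl s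
    rw [h7, hs] at this
    omega
  rw [hs, hsc] at hcard
  refine p10_hall_of_card _ (2 ^ 4 * 3 ^ 2) 35 (by rw [hcard]; decide) (by rw [h7]; decide)
    (by norm_num) (p10_piNum_23 (by norm_num) h 4 2) (p10_piFree_35 le_rfl h)

theorem p10_part_of {α : Type*} [Finite α] {π : Set ℕ} (h8 : Nat.card α = 8)
    (h : TwoThree π 8) (s : Set α) (hs : s.ncard = 4)
    (hcard : Nat.card (partStab s) = 2 * ((s.ncard).factorial * (s.ncard).factorial)) :
    Cfsg.IsPiHall π (partStab s) := by
  rw [hs] at hcard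
  refine p10_hall_of_card _ (2 ^ 7 * 3 ^ 2) 35 (by rw [hcard]; decide) (by rw [h8]; decide)
    (by norm_num) (p10_piNum_23 (by norm_num) h 7 2) (p10_piFree_35 (by norm_num) h)

end Cfsg.Agent.Lib.H21.HS
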