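import Cfsg.Agent.Lib.H13.HSDefs
import Cfsg.Agent.Lib.H20.HSP9
import Cfsg.Agent.Lib.H21.HSP10a

/-!
# S2536 piece P10 EXISTENCE (architect helper13): the three families of Hall subgroups of `S_n`.
Counts: `Cfsg.Agent.Lib.H20.HS.p9_card_stabilizer_set`, `card_partStab` (helper20); the point stabilizer
is counted here by orbit–stabilizer.
-/

set_option autoImplicit false

namespace Cfsg.Agent.Lib.H21.HS
open Equiv MulAction Cfsg.Agent.Lib.H13.HS
open scoped Pointwise

theorem p10_card_stabilizer_point {α : Type*} [Finite α] (a : α) :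
    Nat.card (stabilizer (Perm α) a) = (Nat.card α - 1).factorial := by
  have hidx : (stabilizer (Perm α) a).index = Nat.card α :=
    MulAction.index_stabilizer_of_transitive (Perm α) a
  have h := (stabilizer (Perm α) a).card_mul_index
  rw [hidx, p10_card_perm] at h
  haveI : Nonempty α := ⟨a⟩
  have hpos : 0 < Nat.card α := Nat.card_pos
  obtain ⟨k, hk⟩ : ∃ k, Nat.card α = k + 1 := ⟨Nat.card α - 1, by omega⟩
  rw [hk] at h ⊢
  rw [Nat.add_sub_cancel]
  rw [Nat.factorial_succ, mul_comm] at h
  exact Nat.eq_of_mul_eq_mul_left (Nat.succ_pos k) h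

theorem hall_stabilizer_point {α : Type*} [Finite α] {π : Set ℕ} (h : Below π (Nat.card α)) (x : α) :
    Cfsg.IsPiHall π (stabilizer (Perm α) x) :=
  p10_point_of h x (p10_card_stabilizer_point x)

theorem hall_stabilizer_three {α : Type*} [Finite α] {π : Set ℕ} (h7 : Nat.card α = 7)
    (h : TwoThree π 7) (s : Set α) (hs : s.ncard = 3) :
    Cfsg.IsPiHall π (stabilizer (Perm α) s) :=
  p10_three_of h7 h s hs (Cfsg.Agent.Lib.H20.HS.p9_card_stabilizer_set s)

theorem hall_partStab {α : Type*} [Finite α] {π : Set ℕ} (h8 : Nat.card α = 8)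
    (h : TwoThree π 8) (s : Set α) (hs : s.ncard = 4) :
    Cfsg.IsPiHall π (partStab s) := by
  have hsc : sᶜ.ncard = 4 := by
    have := Set.ncard_add_ncard_compl s
    rw [h8, hs] at this
    omega
  exact p10_part_of h8 h s hs
    (Cfsg.Agent.Lib.H20.HS.card_partStab s (by rw [hs, hsc]) (by rw [hs]; norm_num))

end Cfsg.Agent.Lib.H21.HS
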