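import Mathlib
import Cfsg.Agent.Lib.H15.Conj

/-! H-subgroups (`g E g⁻¹ ∩ N_G(E) ≤ E`): basic facts (helper21). -/

set_option autoImplicit false

namespace Cfsg.Agent.Lib.H21.HSub

open Cfsg.Agent.Lib.H15

variable {G : Type*} [Group G]

/-- `E` is an H-subgroup: `g E g⁻¹ ∩ N_G(E) ≤ E` for all `g`. -/
def HS (E : Subgroup G) : Prop :=
  ∀ g : G, E.map (MulAut.conj g).toMonoidHom ⊓ Subgroup.normalizer (E : Set G) ≤ E

/-- normalizers grow in finite `p`-groups -/
theorem exists_mem_normalizer_not_mem {p : ℕ} [Fact p.Prime] {S T : Subgroup G} [Finite S]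
    (hS : IsPGroup p S) (hTS : T < S) :
    ∃ u ∈ S, u ∈ Subgroup.normalizer (T : Set G) ∧ u ∉ T := by
  haveI : Group.IsNilpotent S := hS.isNilpotent
  have hlt : T.subgroupOf S < ⊤ := by
    rw [lt_top_iff_ne_top, Ne, Subgroup.subgroupOf_eq_top]
    exact not_le_of_gt hTS
  have h2 := Group.normalizerCondition_of_isNilpotent (G := S) (T.subgroupOf S) hlt
  obtain ⟨u, hu1, hu2⟩ := SetLike.exists_of_lt h2
  refine ⟨u, u.2, ?_, fun h => hu2 (Subgroup.mem_subgroupOf.mpr h)⟩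
  rw [Subgroup.mem_normalizer_iff] at hu1 ⊢
  intro x
  constructor
  · intro hx
    have := (hu1 ⟨x, hTS.le hx⟩).mp (Subgroup.mem_subgroupOf.mpr hx)
    exact Subgroup.mem_subgroupOf.mp this
  · intro hx
    have hxS : x ∈ S := by
      have h3 : x = (u : G)⁻¹ * ((u : G) * x * (u : G)⁻¹) * (u : G) := by group
      rw [h3]
      exact S.mul_mem (S.mul_mem (S.inv_mem u.2) (hTS.le hx)) u.2
    have := (hu1 ⟨x, hxS⟩).mpr (Subgroup.mem_subgroupOf.mpr hx)
    exact Subgroup.mem_subgroupOf.mp this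

/-- An H-subgroup is normal in every `p`-subgroup containing it. -/
theorem HS.le_normalizer [Finite G] {p : ℕ} [Fact p.Prime] {E S : Subgroup G} (hE : HS E)
    (hES : E ≤ S) (hS : IsPGroup p S) : S ≤ Subgroup.normalizer (E : Set G) := by
  by_contra hcon
  set N := S ⊓ Subgroup.normalizer (E : Set G) with hN
  have hNS : N < S := by
    refine lt_of_le_of_ne inf_le_left ?_
    intro h
    exact hcon (h ▸ inf_le_right)
  obtain ⟨u, huS, huN, hu⟩ := exists_mem_normalizer_not_mem hS hNS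
  apply hu
  refine Subgroup.mem_inf.mpr ⟨huS, ?_⟩
  apply mem_normalizer_of_cj_le
  have hEN : E ≤ N := le_inf hES Subgroup.le_normalizer
  have h1 : cj u E ≤ N := by
    have := cj_mono u hEN
    rwa [cj_le_of_mem_normalizer huN] at this
  exact (le_inf le_rfl (h1.trans inf_le_right)).trans (hE u)

/-- An H-subgroup contained in a `p`-subgroup `S` is strongly closed in `S`. -/
theorem HS.inf_le [Finite G] {p : ℕ} [Fact p.Prime] {E S : Subgroup G} (hE : HS E)
    (hES : E ≤ S) (hS : IsPGroup p S) (g : G) : cj g E ⊓ S ≤ E :=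
  (inf_le_inf_left _ (hE.le_normalizer hES hS)).trans (hE g)

/-- The trace of an H-subgroup on `T ≤ S` is invariant under `N_G(T)`. -/
theorem HS.mem_normalizer_inf [Finite G] {p : ℕ} [Fact p.Prime] {E S T : Subgroup G} (hE : HS E)
    (hES : E ≤ S) (hS : IsPGroup p S) (hTS : T ≤ S) {n : G}
    (hn : n ∈ Subgroup.normalizer (T : Set G)) :
    n ∈ Subgroup.normalizer ((E ⊓ T : Subgroup G) : Set G) := by
  apply mem_normalizer_of_cj_le
  intro x hx
  rw [mem_cj_iff] at hx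
  have hxT : x ∈ T := by
    have h1 : n * (n⁻¹ * x * n) * n⁻¹ ∈ T :=
      (Subgroup.mem_normalizer_iff.mp hn _).mp hx.2
    simpa [mul_assoc] using h1
  refine Subgroup.mem_inf.mpr ⟨?_, hxT⟩
  apply hE.inf_le hES hS n
  exact Subgroup.mem_inf.mpr ⟨mem_cj_iff.mpr hx.1, hTS hxT⟩

/-- The H-property is invariant under conjugation. -/
theorem HS.cj {E : Subgroup G} (hE : HS E) (a : G) : HS (cj a E) := by
  intro g x hx
  obtain ⟨hx1, hx2⟩ := Subgroup.mem_inf.mp hx
  rw [mem_cj_iff]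
  apply hE (a⁻¹ * g * a)
  refine Subgroup.mem_inf.mpr ⟨?_, ?_⟩
  · have h1 : x ∈ H15.cj g (H15.cj a E) := hx1
    rw [cj_cj, mem_cj_iff] at h1
    rw [mem_cj_iff]
    have : (a⁻¹ * g * a)⁻¹ * (a⁻¹ * x * a) * (a⁻¹ * g * a) = (g * a)⁻¹ * x * (g * a) := by group
    rw [this]
    exact h1
  · rw [normalizer_cj, mem_cj_iff] at hx2
    exact hx2

end Cfsg.Agent.Lib.H21.HSub
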