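import Mathlib
import Cfsg.Agent.Lib.H15.Conj

/-! Automorphisms of "large prime" order act trivially on a quotient of prime order (helper21). -/

set_option autoImplicit false

namespace Cfsg.Agent.Lib.H21.HSub

open Cfsg.Agent.Lib.H15

/-- abstract form: `T₀` normal of index `p` in `T`, `α` an automorphism preserving `T₀` with
`α ^ k = 1` where every prime divisor of `k` is at least `p`.  Then `α` acts trivially on `T/T₀`. -/
theorem scalar_trivial {T : Type*} [Group T] [Finite T] {p : ℕ} [hp : Fact p.Prime]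
    (T₀ : Subgroup T) [T₀.Normal] (hidx : T₀.index = p) (α : MulAut T)
    (hα : T₀.map (α : T →* T) = T₀) (k : ℕ) (hk : α ^ k = 1)
    (hkp : ∀ q : ℕ, q.Prime → q ∣ k → p ≤ q) (t : T) : t⁻¹ * α t ∈ T₀ := by
  set β : MulAut (T ⧸ T₀) := QuotientGroup.congr T₀ T₀ α hα with hβ
  have hcard : Nat.card (T ⧸ T₀) = p := by rw [← Subgroup.index_eq_card, hidx]
  haveI : IsCyclic (T ⧸ T₀) := isCyclic_of_prime_card hcard
  have hβpow : ∀ j : ℕ, ∀ x : T, (β ^ j) (QuotientGroup.mk x) = QuotientGroup.mk ((α ^ j) x) := by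
    intro j
    induction j with
    | zero => intro x; simp
    | succ j ih =>
      intro x
      rw [pow_succ, pow_succ, MulAut.mul_apply, MulAut.mul_apply]
      have : β (QuotientGroup.mk x) = QuotientGroup.mk (α x) := rfl
      rw [this, ih]
  have hβk : β ^ k = 1 := by
    ext x
    obtain ⟨x, rfl⟩ := QuotientGroup.mk_surjective x
    rw [hβpow, hk]
    simp
  have h1 : orderOf β ∣ k := orderOf_dvd_of_pow_eq_one hβk
  have h2 : orderOf β ∣ p - 1 := by
    have h3 : orderOf β ∣ Nat.card (MulAut (T ⧸ T₀)) := orderOf_dvd_natCard β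
    rwa [IsCyclic.card_mulAut, hcard, Nat.totient_prime hp.out] at h3
  have h3 : orderOf β = 1 := by
    by_contra hne
    have hq := Nat.minFac_prime hne
    have h4 := hkp _ hq ((Nat.minFac_dvd _).trans h1)
    have h5 : (orderOf β).minFac ≤ p - 1 :=
      Nat.le_of_dvd (Nat.sub_pos_of_lt hp.out.one_lt) ((Nat.minFac_dvd _).trans h2)
    have := hp.out.one_lt
    omega
  have h4 : β = 1 := orderOf_eq_one_iff.mp h3
  have h5 : β (QuotientGroup.mk t) = QuotientGroup.mk (α t) := rfl
  rw [h4, MulAut.one_apply] at h5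
  exact QuotientGroup.eq.mp h5

variable {G : Type*} [Group G]

/-- concrete form inside a group `G`. -/
theorem comm_mem_of_relIndex_prime [Finite G] {p : ℕ} [hp : Fact p.Prime] {T T₀ : Subgroup G}
    (h0 : T₀ ≤ T) (hidx : T₀.relIndex T = p) (hnorm : T ≤ Subgroup.normalizer (T₀ : Set G))
    {n : G} (hnT : n ∈ Subgroup.normalizer (T : Set G))
    (hnT₀ : n ∈ Subgroup.normalizer (T₀ : Set G))
    (hkp : ∀ q : ℕ, q.Prime → q ∣ orderOf n → p ≤ q) {t : G} (ht : t ∈ T) :
    t⁻¹ * (n * t * n⁻¹) ∈ T₀ := by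
  haveI : (T₀.subgroupOf T).Normal := by
    exact (Subgroup.normal_subgroupOf_iff_le_normalizer h0).mpr hnorm
  set α : MulAut T := T.normalizerMonoidHom ⟨n, hnT⟩ with hα
  have hαapp : ∀ x : T, ((α x : T) : G) = n * x * n⁻¹ := fun x => rfl
  have hmap : (T₀.subgroupOf T).map (α : T →* T) = T₀.subgroupOf T := by
    apply le_antisymm
    · rintro _ ⟨x, hx, rfl⟩
      rw [SetLike.mem_coe, Subgroup.mem_subgroupOf] at hx
      rw [Subgroup.mem_subgroupOf]
      show ((α x : T) : G) ∈ T₀
      rw [hαapp]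
      exact (Subgroup.mem_normalizer_iff.mp hnT₀ _).mp hx
    · intro x hx
      rw [Subgroup.mem_subgroupOf] at hx
      have hxT : n⁻¹ * (x : G) * n ∈ T := by
        have := (Subgroup.mem_normalizer_iff.mp (inv_mem hnT) (x : G)).mp x.2
        simpa using this
      refine ⟨⟨n⁻¹ * (x : G) * n, hxT⟩, ?_, ?_⟩
      · rw [SetLike.mem_coe, Subgroup.mem_subgroupOf]
        have := (Subgroup.mem_normalizer_iff.mp (inv_mem hnT₀) (x : G)).mp hx
        simpa using this
      · apply Subtype.ext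
        show ((α ⟨n⁻¹ * (x : G) * n, hxT⟩ : T) : G) = x
        rw [hαapp]
        simp [mul_assoc]
  have hk : α ^ orderOf n = 1 := by
    rw [hα, ← map_pow]
    have : (⟨n, hnT⟩ : Subgroup.normalizer (T : Set G)) ^ orderOf n = 1 := by
      apply Subtype.ext
      simp [pow_orderOf_eq_one]
    rw [this, map_one]
  have key := scalar_trivial (T₀.subgroupOf T) hidx α hmap (orderOf n) hk hkp ⟨t, ht⟩
  rw [Subgroup.mem_subgroupOf] at key
  simpa [hαapp] using key

end Cfsg.Agent.Lib.H21.HSub
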