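import Mathlib
import Cfsg.Agent.Lib.H15.Conj

/-! Auxiliary `p`-group lemmas for the H-subgroup theorem (helper21). -/

set_option autoImplicit false

namespace Cfsg.Agent.Lib.H21.HSub

open Cfsg.Agent.Lib.H15

variable {G : Type*} [Group G]

/-- In a finite `p`-subgroup `S`, any subgroup `C` of order at most `p ^ m ≤ |S|` lies in a subgroup
of `S` of order exactly `p ^ m`. -/
theorem exists_between [Finite G] {p : ℕ} [hp : Fact p.Prime] {C S : Subgroup G}
    (hS : IsPGroup p S) (hCS : C ≤ S) {m : ℕ} (hC : Nat.card C ≤ p ^ m)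
    (hSm : p ^ m ≤ Nat.card S) : ∃ E : Subgroup G, C ≤ E ∧ E ≤ S ∧ Nat.card E = p ^ m := by
  obtain ⟨k, hk⟩ := hS.exists_card_eq
  have hmk : m ≤ k := by
    rw [hk] at hSm
    exact (Nat.pow_le_pow_iff_right hp.out.one_lt).mp hSm
  have hCp : IsPGroup p C := hS.to_le hCS
  obtain ⟨n, hn⟩ := hCp.exists_card_eq
  have hnm : n ≤ m := by
    rw [hn] at hC
    exact (Nat.pow_le_pow_iff_right hp.out.one_lt).mp hC
  have hcard : Nat.card (C.subgroupOf S) = p ^ n := by
    rw [← hn]
    exact Nat.card_congr (Subgroup.subgroupOfEquivOfLe hCS).toEquiv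
  have hdvd : p ^ m ∣ Nat.card S := by
    rw [hk]
    exact pow_dvd_pow p hmk
  obtain ⟨K, hK1, hK2⟩ := Sylow.exists_subgroup_card_pow_prime_le p hdvd (C.subgroupOf S) hcard hnm
  refine ⟨K.map S.subtype, ?_, ?_, ?_⟩
  · intro x hx
    exact ⟨⟨x, hCS hx⟩, hK2 (Subgroup.mem_subgroupOf.mpr hx), rfl⟩
  · rintro _ ⟨x, -, rfl⟩
    exact x.2
  · rw [Subgroup.card_map_of_injective S.subtype_injective, hK1]

/-- If `y` (of order prime to `p`) centralizes `X ≤ Q` and acts trivially on the cosets of `X` in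
the `p`-group `Q`, then `y` centralizes `Q`. -/
theorem commute_of_commute_sub [Finite G] {p : ℕ} [hp : Fact p.Prime] {Q X : Subgroup G}
    (hQ : IsPGroup p Q) (hXQ : X ≤ Q) {y : G} (hy : Nat.Coprime (orderOf y) p)
    (hyX : ∀ x ∈ X, y * x = x * y) (hq : ∀ q ∈ Q, q⁻¹ * (y * q * y⁻¹) ∈ X) :
    ∀ q ∈ Q, y * q = q * y := by
  intro q hqQ
  set c := q⁻¹ * (y * q * y⁻¹) with hc
  have hcX : c ∈ X := hq q hqQ
  have hyc : y * c = c * y := hyX c hcX
  have hpow : ∀ k : ℕ, y ^ k * q * (y ^ k)⁻¹ = q * c ^ k := by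
    intro k
    induction k with
    | zero => simp
    | succ k ih =>
      have h1 : y ^ (k + 1) * q * (y ^ (k + 1))⁻¹ = y * (y ^ k * q * (y ^ k)⁻¹) * y⁻¹ := by
        rw [pow_succ']
        group
      rw [h1, ih]
      have h2 : y * (q * c ^ k) * y⁻¹ = (y * q * y⁻¹) * (y * c ^ k * y⁻¹) := by group
      have h3 : y * c ^ k * y⁻¹ = c ^ k := by
        have : Commute y (c ^ k) := (show Commute y c from hyc).pow_right k
        rw [this.eq, mul_inv_cancel_right]
      have h4 : y * q * y⁻¹ = q * c := by rw [hc]; group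
      rw [h2, h3, h4, pow_succ', mul_assoc]
  have h5 := hpow (orderOf y)
  rw [pow_orderOf_eq_one] at h5
  have h6 : c ^ orderOf y = 1 := by
    have : q * c ^ orderOf y = q * 1 := by rw [← h5]; simp
    exact mul_left_cancel this
  have h7 : c = 1 := by
    obtain ⟨a, ha⟩ := (hQ.to_le hXQ) ⟨c, hcX⟩
    have ha' : c ^ p ^ a = 1 := by
      have := congrArg Subtype.val ha
      simpa using this
    have h8 : orderOf c ∣ p ^ a := orderOf_dvd_of_pow_eq_one ha'
    have h9 : orderOf c ∣ orderOf y := orderOf_dvd_of_pow_eq_one h6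
    have h10 : Nat.Coprime (orderOf y) (p ^ a) := Nat.Coprime.pow_right a hy
    have h11 : orderOf c = 1 := Nat.eq_one_of_dvd_coprimes h10 h9 h8
    exact orderOf_eq_one_iff.mp h11
  have h8 : y * q * y⁻¹ = q := by
    have h4 : y * q * y⁻¹ = q * c := by rw [hc]; group
    rw [h4, h7, mul_one]
  calc y * q = y * q * y⁻¹ * y := by group
    _ = q * y := by rw [h8]

/-- A `p'`-element all of whose prime divisors exceed `p` centralizes every cyclic `p`-subgroup
that it normalizes. -/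
theorem mem_centralizer_of_isCyclic [Finite G] {p : ℕ} [hp : Fact p.Prime] {Q : Subgroup G}
    (hQ : IsPGroup p Q) (hcyc : IsCyclic Q) {y : G}
    (hyN : y ∈ Subgroup.normalizer (Q : Set G)) (hy : Nat.Coprime (orderOf y) p)
    (hkp : ∀ q : ℕ, q.Prime → q ∣ orderOf y → p ≤ q) :
    y ∈ Subgroup.centralizer (Q : Set G) := by
  set φ : MulAut Q := Q.normalizerMonoidHom ⟨y, hyN⟩ with hφ
  have h1 : orderOf φ ∣ orderOf y := by
    have := orderOf_map_dvd Q.normalizerMonoidHom (⟨y, hyN⟩ : Subgroup.normalizer (Q : Set G))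
    rwa [Subgroup.orderOf_mk] at this
  have h2 : orderOf φ ∣ Nat.card (MulAut Q) := orderOf_dvd_natCard φ
  rw [hcyc.card_mulAut] at h2
  obtain ⟨k, hk⟩ := hQ.exists_card_eq
  have h3 : orderOf φ = 1 := by
    by_contra hne
    have hq := Nat.minFac_prime hne
    set q := (orderOf φ).minFac with hqdef
    have hq1 : q ∣ orderOf y := (Nat.minFac_dvd _).trans h1
    have hpq : p ≤ q := hkp q hq hq1
    have hqp : q ≠ p := by
      intro h
      have : p ∣ Nat.gcd (orderOf y) p := Nat.dvd_gcd (h ▸ hq1) dvd_rfl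
      rw [hy] at this
      exact hp.out.one_lt.ne' (Nat.dvd_one.mp this)
    have hq2 : q ∣ Nat.totient (p ^ k) := by
      rw [← hk]
      exact (Nat.minFac_dvd _).trans h2
    rcases Nat.eq_zero_or_pos k with h0 | h0
    · rw [h0, pow_zero, Nat.totient_one] at hq2
      exact hq.one_lt.ne' (Nat.dvd_one.mp hq2)
    · rw [Nat.totient_prime_pow hp.out h0] at hq2
      rcases (Nat.Prime.dvd_mul hq).mp hq2 with h4 | h4
      · exact hqp ((Nat.prime_dvd_prime_iff_eq hq hp.out).mp (hq.dvd_of_dvd_pow h4))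
      · have := Nat.le_of_dvd (Nat.sub_pos_of_lt hp.out.one_lt) h4
        have := hp.out.one_lt
        omega
  have h4 : φ = 1 := orderOf_eq_one_iff.mp h3
  have h5 : (⟨y, hyN⟩ : Subgroup.normalizer (Q : Set G)) ∈ Q.normalizerMonoidHom.ker := h4
  rw [Subgroup.normalizerMonoidHom_ker, Subgroup.mem_subgroupOf] at h5
  exact h5

/-- A maximal subgroup of a finite `p`-group has index `p`. -/
theorem card_mul_of_isCoatom {P : Type*} [Group P] [Finite P] {p : ℕ} [hp : Fact p.Prime]
    (hP : IsPGroup p P) {M : Subgroup P} (hM : IsCoatom M) : Nat.card M * p = Nat.card P := by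
  obtain ⟨k, hk⟩ := hP.exists_card_eq
  obtain ⟨n, hn⟩ := (hP.to_subgroup M).exists_card_eq
  have hlt : n < k := by
    by_contra hcon
    push Not at hcon
    have h1 : Nat.card P ≤ Nat.card M := by
      rw [hk, hn]
      exact Nat.pow_le_pow_right hp.out.pos hcon
    have h2 : M = ⊤ := Subgroup.eq_top_of_le_card M h1
    exact hM.1 h2
  have hdvd : p ^ (n + 1) ∣ Nat.card P := by
    rw [hk]
    exact pow_dvd_pow p hlt
  obtain ⟨K, hK1, hK2⟩ := Sylow.exists_subgroup_card_pow_succ hdvd hn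
  have hne : M ≠ K := by
    intro h
    rw [← h, hn] at hK1
    have := Nat.pow_right_injective hp.out.two_le hK1
    omega
  have hKtop : K = ⊤ := hM.2 K (lt_of_le_of_ne hK2 hne)
  rw [hn, ← pow_succ, ← hK1, hKtop, Subgroup.card_top]

end Cfsg.Agent.Lib.H21.HSub
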