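import Mathlib
import Cfsg.Prelude.Def_Transfer
import Cfsg.Agent.Lib.H21.HSubC

/-! Exponent of special `p`-groups divides `p ^ 2` (helper21). -/

set_option autoImplicit false

open scoped commutatorElement

namespace Cfsg.Agent.Lib.H21.HSub

theorem mem_frattini_iff {P : Type*} [Group P] {x : P} :
    x ∈ frattini P ↔ ∀ K : Subgroup P, IsCoatom K → x ∈ K := by
  unfold frattini Order.radical
  simp only [Subgroup.mem_iInf, Set.mem_setOf_eq]

/-- `p`-th powers lie in the Frattini subgroup of a finite `p`-group. -/
theorem pow_mem_frattini {P : Type*} [Group P] [Finite P] {p : ℕ} [hp : Fact p.Prime]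
    (hP : IsPGroup p P) (x : P) : x ^ p ∈ frattini P := by
  rw [mem_frattini_iff]
  intro M hM
  have hcard := card_mul_of_isCoatom hP hM
  have hidx : M.index = p := by
    have h1 := M.card_mul_index
    rw [← hcard] at h1
    exact Nat.eq_of_mul_eq_mul_left Nat.card_pos h1
  have hPne : Nat.card P ≠ 1 := by
    intro h
    rw [h] at hcard
    have := Nat.eq_one_of_mul_eq_one_left hcard
    exact hp.out.one_lt.ne' this
  have hminfac : (Nat.card P).minFac = p := by
    obtain ⟨k, hk⟩ := hP.exists_card_eq
    rw [hk]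
    apply Nat.Prime.pow_minFac hp.out
    rintro rfl
    exact hPne (by rw [hk, pow_zero])
  haveI : M.Normal := Subgroup.normal_of_index_eq_minFac_card (hidx.trans hminfac.symm)
  have h2 : Nat.card (P ⧸ M) = p := by rw [← Subgroup.index_eq_card, hidx]
  have h3 : (QuotientGroup.mk x : P ⧸ M) ^ p = 1 := by
    rw [← h2]
    exact pow_card_eq_one'
  rw [← QuotientGroup.mk_pow] at h3
  exact (QuotientGroup.eq_one_iff _).mp h3

/-- In a special `p`-group every element has order dividing `p ^ 2`. -/
theorem pow_sq_eq_one_of_isSpecial {P : Type*} [Group P] [Finite P] {p : ℕ} [hp : Fact p.Prime]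
    (h : Cfsg.IsSpecial p P) (x : P) : x ^ (p * p) = 1 := by
  obtain ⟨hP, hfr, hcomm⟩ := h
  -- commutators are central
  have hcen : ∀ a b : P, ⁅a, b⁆ ∈ Subgroup.center P := by
    intro a b
    rw [← hcomm]
    exact Subgroup.commutator_mem_commutator (Subgroup.mem_top a) (Subgroup.mem_top b)
  have hpowc : ∀ (a b : P) (k : ℕ), ⁅a ^ k, b⁆ = ⁅a, b⁆ ^ k := by
    intro a b k
    induction k with
    | zero => simp
    | succ k ih =>
      have h1 : ⁅a ^ (k + 1), b⁆ = a * ⁅a ^ k, b⁆ * a⁻¹ * ⁅a, b⁆ := by
        rw [pow_succ']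
        simp only [commutatorElement_def]
        group
      have h2 : a * ⁅a ^ k, b⁆ * a⁻¹ = ⁅a ^ k, b⁆ := by
        have := Subgroup.mem_center_iff.mp (hcen (a ^ k) b) a
        rw [this, mul_inv_cancel_right]
      rw [h1, h2, ih, pow_succ]
  have hcp : ∀ a b : P, ⁅a, b⁆ ^ p = 1 := by
    intro a b
    rw [← hpowc]
    have h1 : a ^ p ∈ Subgroup.center P := by
      rw [← hfr]
      exact pow_mem_frattini hP a
    have := Subgroup.mem_center_iff.mp h1 b
    rw [commutatorElement_def, ← this]
    group
  have hall : ∀ z ∈ commutator P, z ^ p = 1 := by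
    intro z hz
    rw [commutator_def, Subgroup.commutator_def] at hz
    induction hz using Subgroup.closure_induction with
    | mem z hz =>
      obtain ⟨a, -, b, -, rfl⟩ := hz
      exact hcp a b
    | one => simp
    | mul z w hz hw ihz ihw =>
      have hzc : z ∈ Subgroup.center P := by
        rw [← hcomm, commutator_def, Subgroup.commutator_def]
        exact hz
      have : Commute z w := (Subgroup.mem_center_iff.mp hzc w).symm
      rw [this.mul_pow, ihz, ihw, one_mul]
    | inv z hz ih => rw [inv_pow, ih, inv_one]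
  rw [pow_mul]
  apply hall
  rw [hcomm, ← hfr]
  exact pow_mem_frattini hP x

end Cfsg.Agent.Lib.H21.HSub
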