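import Mathlib
import Cfsg.Agent.S3736
import Cfsg.Agent.Lib.H21.HSubA
import Cfsg.Agent.Lib.H21.HSubB
import Cfsg.Agent.Lib.H21.HSubC
import Cfsg.Agent.Lib.H21.HSubD

/-! Minimal bad Frobenius pairs under the H-subgroup hypothesis (helper21). -/

set_option autoImplicit false

namespace Cfsg.Agent.Lib.H21.HSub

open Cfsg.Agent.Lib.H15

variable {G : Type*} [Group G]

/-- the standing hypotheses: `p` is the smallest prime divisor of `|G|`, `P` a `p`-subgroup of order
`> p ^ m`, `m ≥ 1`, and all subgroups of `P` of order `p ^ m` (and `4` if `p ^ m = 2`) are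
H-subgroups. -/
structure Ctx (p : ℕ) (P : Subgroup G) (m : ℕ) : Prop where
  hminp : ∀ q : ℕ, q.Prime → q ∣ Nat.card G → p ≤ q
  hP : IsPGroup p P
  hm : 1 ≤ m
  hcP : p ^ m < Nat.card P
  hH : ∀ E : Subgroup G, E ≤ P → (Nat.card E = p ^ m ∨ (p ^ m = 2 ∧ Nat.card E = 4)) → HS E

/-- a minimal bad pair inside `P` -/
structure MinBad (p : ℕ) (P Q : Subgroup G) (y : G) : Prop where
  hQP : Q ≤ P
  hyN : y ∈ Subgroup.normalizer (Q : Set G)
  hyp : (orderOf y).Coprime p
  hyC : y ∉ Subgroup.centralizer (Q : Set G)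
  hmin : ∀ U : Subgroup G, U < Q → y ∈ Subgroup.normalizer (U : Set G) → ∀ u ∈ U, y * u = u * y

section

variable [Finite G] {p : ℕ} [hp : Fact p.Prime] {P Q : Subgroup G} {m : ℕ} {y : G}

theorem Ctx.prime_le_of_dvd_orderOf (hC : Ctx p P m) (g : G) :
    ∀ q : ℕ, q.Prime → q ∣ orderOf g → p ≤ q :=
  fun q hq hqd => hC.hminp q hq (hqd.trans (orderOf_dvd_natCard g))

theorem MinBad.isPGroup (hC : Ctx p P m) (hB : MinBad p P Q y) : IsPGroup p Q :=
  hC.hP.to_le hB.hQP

theorem MinBad.not_isCyclic (hC : Ctx p P m) (hB : MinBad p P Q y) : ¬ IsCyclic Q := fun hcyc =>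
  hB.hyC (mem_centralizer_of_isCyclic (hB.isPGroup hC) hcyc hB.hyN hB.hyp
    (hC.prime_le_of_dvd_orderOf y))

/-- if `y` normalizes `U < Q` then `U` commutes with all powers of `y` -/
theorem MinBad.commutator_eq_bot (hB : MinBad p P Q y) {U : Subgroup G} (hU : U < Q)
    (hyU : y ∈ Subgroup.normalizer (U : Set G)) : ⁅U, Subgroup.zpowers y⁆ = ⊥ := by
  rw [Subgroup.commutator_eq_bot_iff_le_centralizer]
  intro u hu
  rw [Subgroup.mem_centralizer_iff]
  intro z hz
  obtain ⟨k, rfl⟩ := Subgroup.mem_zpowers_iff.mp hz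
  have h1 : Commute y u := hB.hmin U hU hyU u hu
  exact (h1.zpow_left k).eq

theorem MinBad.exponent (hC : Ctx p P m) (hB : MinBad p P Q y) :
    ∀ x ∈ Q, x ^ p = 1 ∨ (p = 2 ∧ x ^ 4 = 1) := by
  have hQp := hB.isPGroup hC
  have hzN : Subgroup.zpowers y ≤ Subgroup.normalizer (Q : Set G) :=
    (Subgroup.zpowers_le).mpr hB.hyN
  have hnt : ⁅Q, Subgroup.zpowers y⁆ ≠ ⊥ := by
    intro h
    rw [Subgroup.commutator_eq_bot_iff_le_centralizer] at h
    apply hB.hyC
    rw [Subgroup.mem_centralizer_iff]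
    intro q hq
    have := Subgroup.mem_centralizer_iff.mp (h hq) y (Subgroup.mem_zpowers y)
    exact this.symm
  have hmin' : ∀ U : Subgroup G, U < Q →
      Subgroup.zpowers y ≤ Subgroup.normalizer (U : Set G) → ⁅U, Subgroup.zpowers y⁆ = ⊥ :=
    fun U hU hyU => hB.commutator_eq_bot hU (hyU (Subgroup.mem_zpowers y))
  have hcop : (Nat.card (Subgroup.zpowers y)).Coprime p := by
    rw [Nat.card_zpowers]
    exact hB.hyp
  obtain ⟨-, hstr, -, hodd⟩ := Cfsg.Agent.S3736.result (Subgroup.zpowers y) (Subgroup.zpowers y) Q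
    hQp hzN le_rfl Subgroup.le_normalizer hcop hnt hmin'
  intro x hx
  by_cases hp2 : p = 2
  · rcases hstr with hea | hsp
    · exact Or.inl (hea.2 x hx)
    · right
      refine ⟨hp2, ?_⟩
      have h1 := pow_sq_eq_one_of_isSpecial hsp ⟨x, hx⟩
      have h2 : x ^ (p * p) = 1 := by
        have := congrArg Subtype.val h1
        simpa using this
      rw [hp2] at h2
      exact h2
  · exact Or.inl (hodd hp2 x hx)

/-- Case `|Q| > p ^ m` is impossible. -/
theorem MinBad.card_le (hC : Ctx p P m) (hB : MinBad p P Q y) : Nat.card Q ≤ p ^ m := by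
  by_contra hcon
  push Not at hcon
  have hQp := hB.isPGroup hC
  apply hB.hyC
  rw [Subgroup.mem_centralizer_iff]
  intro x hx
  -- find a good `E`
  have key : ∃ E : Subgroup G, x ∈ E ∧ E < Q ∧
      (Nat.card E = p ^ m ∨ (p ^ m = 2 ∧ Nat.card E = 4)) := by
    have hsmall : ∀ j : ℕ, j ≤ m → x ^ p ^ j = 1 → ∃ E : Subgroup G, x ∈ E ∧ E < Q ∧
        (Nat.card E = p ^ m ∨ (p ^ m = 2 ∧ Nat.card E = 4)) := by
      intro j hj hxj
      have hcard : Nat.card (Subgroup.zpowers x) ≤ p ^ m := by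
        rw [Nat.card_zpowers]
        exact (Nat.le_of_dvd (pow_pos hp.out.pos _) (orderOf_dvd_of_pow_eq_one hxj)).trans
          (Nat.pow_le_pow_right hp.out.pos hj)
      obtain ⟨E, hE1, hE2, hE3⟩ := exists_between hQp ((Subgroup.zpowers_le).mpr hx) hcard hcon.le
      refine ⟨E, hE1 (Subgroup.mem_zpowers x), lt_of_le_of_ne hE2 ?_, Or.inl hE3⟩
      intro h
      rw [h] at hE3
      omega
    rcases hB.exponent hC x hx with h1 | ⟨hp2, h4⟩
    · exact hsmall 1 hC.hm (by rwa [pow_one])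
    · by_cases hm2 : 2 ≤ m
      · exact hsmall 2 hm2 (by rw [hp2]; exact h4)
      · have hm1 : m = 1 := le_antisymm (by omega) hC.hm
        by_cases hx2 : x ^ 2 = 1
        · exact hsmall 1 hC.hm (by rw [hp2, pow_one]; exact hx2)
        · have hord : orderOf x = 4 := by
            have h5 : orderOf x ∣ 2 ^ 2 := orderOf_dvd_of_pow_eq_one (by norm_num; exact h4)
            obtain ⟨k, hk, hk2⟩ := (Nat.dvd_prime_pow Nat.prime_two).mp h5
            have : k = 2 := by
              by_contra hne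
              have hk1 : k ≤ 1 := by omega
              apply hx2
              have : orderOf x ∣ 2 := by
                rw [hk2]
                calc 2 ^ k ∣ 2 ^ 1 := pow_dvd_pow 2 hk1
                  _ = 2 := pow_one 2
              exact orderOf_dvd_iff_pow_eq_one.mp this
            rw [hk2, this]
            norm_num
          refine ⟨Subgroup.zpowers x, Subgroup.mem_zpowers x,
            lt_of_le_of_ne ((Subgroup.zpowers_le).mpr hx) ?_, Or.inr ⟨?_, ?_⟩⟩
          · intro h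
            apply hB.not_isCyclic hC
            rw [← h]
            infer_instance
          · rw [hp2, hm1, pow_one]
          · rw [Nat.card_zpowers, hord]
  obtain ⟨E, hxE, hEQ, hEcard⟩ := key
  have hHS := hC.hH E (hEQ.le.trans hB.hQP) hEcard
  have h1 := hHS.mem_normalizer_inf (hEQ.le.trans hB.hQP) hC.hP hB.hQP hB.hyN
  rw [inf_eq_left.mpr hEQ.le] at h1
  exact (hB.hmin E hEQ h1 x hxE).symm

end

end Cfsg.Agent.Lib.H21.HSub
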