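import Mathlib
import Cfsg.Agent.Lib.H21.HSubE

/-! Case `|Q| ≤ p ^ m`: all maximal subgroups of `P` are strongly closed (helper21). -/

set_option autoImplicit false

namespace Cfsg.Agent.Lib.H21.HSub

open Cfsg.Agent.Lib.H15

variable {G : Type*} [Group G]

theorem card_mul_relIndex_of_le {H K : Subgroup G} (h : H ≤ K) :
    Nat.card H * H.relIndex K = Nat.card K := by
  have h1 := (H.subgroupOf K).card_mul_index
  rwa [Nat.card_congr (Subgroup.subgroupOfEquivOfLe h).toEquiv] at h1

section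

variable [Finite G] {p : ℕ} [hp : Fact p.Prime] {P Q : Subgroup G} {m : ℕ} {y : G}

/-- a subgroup `M ⊉ T` of index `p` in a `p`-group `S ⊇ T` meets `T` in a subgroup of index `p` -/
theorem relIndex_inf_eq_prime {S M T : Subgroup G} (hS : IsPGroup p S) (hMS : M ≤ S) (hTS : T ≤ S)
    (hMcard : Nat.card M * p = Nat.card S) (hTM : ¬ T ≤ M) : (M ⊓ T).relIndex T = p := by
  rw [Subgroup.inf_relIndex_right]
  have h1 : M.relIndex S = p := by
    have h2 := card_mul_relIndex_of_le hMS
    rw [← hMcard] at h2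
    exact Nat.eq_of_mul_eq_mul_left Nat.card_pos h2
  have h3 : M.relIndex T ≤ p := by
    rw [← h1]
    apply Subgroup.relIndex_le_of_le_right hTS
    rw [h1]
    exact hp.out.ne_zero
  have h4 : M.relIndex T ∣ Nat.card T := Subgroup.relIndex_dvd_card M T
  obtain ⟨k, hk⟩ := (hS.to_le hTS).exists_card_eq
  rw [hk] at h4
  obtain ⟨j, -, hj2⟩ := (Nat.dvd_prime_pow hp.out).mp h4
  have h5 : M.relIndex T ≠ 1 := fun h => hTM (Subgroup.relIndex_eq_one.mp h)
  rcases Nat.eq_zero_or_pos j with h0 | h0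
  · rw [h0, pow_zero] at hj2
    exact absurd hj2 h5
  · have h6 : p ^ 1 ≤ p ^ j := Nat.pow_le_pow_right hp.out.pos h0
    rw [pow_one, ← hj2] at h6
    exact le_antisymm h3 h6

/-- B1: in a subgroup `S ⊇ Q` of `P` of order `> p ^ m`, every maximal subgroup contains `Q`. -/
theorem MinBad.le_of_maximal (hC : Ctx p P m) (hB : MinBad p P Q y) {S M : Subgroup G}
    (hQS : Q ≤ S) (hSP : S ≤ P) (hMS : M ≤ S) (hMcard : Nat.card M * p = Nat.card S)
    (hS : p ^ m < Nat.card S) : Q ≤ M := by
  by_contra hQM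
  have hQcard := hB.card_le hC
  have hSp : IsPGroup p S := hC.hP.to_le hSP
  have hQp := hB.isPGroup hC
  set X := M ⊓ Q with hX
  have hXQ : X < Q := lt_of_le_of_ne inf_le_right (fun h => hQM (h ▸ inf_le_left))
  have hidx : X.relIndex Q = p := relIndex_inf_eq_prime hSp hMS hQS hMcard hQM
  have hXcard : Nat.card X * p = Nat.card Q := by
    rw [← hidx]
    exact card_mul_relIndex_of_le hXQ.le
  -- `p ^ m ≤ |M|`
  have hMm : p ^ m ≤ Nat.card M := by
    obtain ⟨k, hk⟩ := (hSp.to_le hMS).exists_card_eq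
    rw [hk] at hMcard ⊢
    rw [← pow_succ] at hMcard
    rw [← hMcard] at hS
    have : m < k + 1 := (Nat.pow_lt_pow_iff_right hp.out.one_lt).mp hS
    exact Nat.pow_le_pow_right hp.out.pos (by omega)
  have hXm : Nat.card X ≤ p ^ m := by
    have : Nat.card X ≤ Nat.card Q := by
      rw [← hXcard]
      exact Nat.le_mul_of_pos_right _ hp.out.pos
    exact this.trans hQcard
  obtain ⟨E, hE1, hE2, hE3⟩ := exists_between (hSp.to_le hMS) (inf_le_left : X ≤ M) hXm hMm
  have hEQ : E ⊓ Q = X := by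
    apply le_antisymm
    · exact le_inf (inf_le_left.trans hE2) inf_le_right
    · exact le_inf hE1 inf_le_right
  have hEP : E ≤ P := hE2.trans (hMS.trans hSP)
  have hHS := hC.hH E hEP (Or.inl hE3)
  have hyX : y ∈ Subgroup.normalizer (X : Set G) := by
    rw [← hEQ]
    exact hHS.mem_normalizer_inf hEP hC.hP hB.hQP hB.hyN
  have hcomm : ∀ x ∈ X, y * x = x * y := hB.hmin X hXQ hyX
  -- `X` is normal in `Q`
  have hnorm : Q ≤ Subgroup.normalizer (X : Set G) := by
    have hidx' : (X.subgroupOf Q).index = (Nat.card Q).minFac := by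
      show X.relIndex Q = _
      rw [hidx]
      obtain ⟨k, hk⟩ := hQp.exists_card_eq
      rw [hk]
      symm
      apply Nat.Prime.pow_minFac hp.out
      rintro rfl
      rw [pow_zero] at hk
      rw [hk] at hXcard
      have := Nat.eq_one_of_mul_eq_one_left hXcard
      exact hp.out.one_lt.ne' this
    have hn : (X.subgroupOf Q).Normal := Subgroup.normal_of_index_eq_minFac_card hidx'
    exact (Subgroup.normal_subgroupOf_iff_le_normalizer hXQ.le).mp hn
  have hq : ∀ q ∈ Q, q⁻¹ * (y * q * y⁻¹) ∈ X := fun q hqQ =>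
    comm_mem_of_relIndex_prime hXQ.le hidx hnorm hB.hyN hyX (hC.prime_le_of_dvd_orderOf y) hqQ
  apply hB.hyC
  rw [Subgroup.mem_centralizer_iff]
  intro q hqQ
  exact (commute_of_commute_sub hQp hXQ.le hB.hyp hcomm hq q hqQ).symm

/-- B2: every subgroup of `P` of order at least `p ^ m` contains `Q`. -/
theorem MinBad.le_of_card_le (hC : Ctx p P m) (hB : MinBad p P Q y) :
    ∀ (j : ℕ) (F : Subgroup G), F ≤ P → Nat.card F * p ^ j = Nat.card P → p ^ m ≤ Nat.card F →
      Q ≤ F := by
  intro j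
  induction j with
  | zero =>
    intro F hFP hcard _
    rw [pow_zero, mul_one] at hcard
    have : F = P := eq_of_le_of_card_le' hFP hcard.ge
    rw [this]
    exact hB.hQP
  | succ j ih =>
    intro F hFP hcard hFm
    have hFp : IsPGroup p F := hC.hP.to_le hFP
    obtain ⟨n, hn⟩ := hFp.exists_card_eq
    have h1 : p ^ (n + 1) ≤ Nat.card P := by
      rw [← hcard, hn, ← pow_add]
      exact Nat.pow_le_pow_right hp.out.pos (by omega)
    have h2 : Nat.card F ≤ p ^ (n + 1) := by
      rw [hn]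
      exact Nat.pow_le_pow_right hp.out.pos (Nat.le_succ n)
    obtain ⟨F', hF1, hF2, hF3⟩ := exists_between hC.hP hFP h2 h1
    have h3 : Nat.card F * p = Nat.card F' := by rw [hn, hF3, pow_succ]
    have h4 : Nat.card F' * p ^ j = Nat.card P := by
      rw [← h3, ← hcard, pow_succ, mul_assoc, mul_comm p (p ^ j)]
    have h5 : p ^ m < Nat.card F' := by
      rw [← h3]
      calc p ^ m ≤ Nat.card F := hFm
        _ < Nat.card F * p := by
          have := hp.out.one_lt
          have hpos : 0 < Nat.card F := Nat.card_pos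
          nlinarith
    have h6 : Q ≤ F' := ih F' hF2 h4 h5.le
    exact hB.le_of_maximal hC h6 hF2 hF1 h3 h5

theorem MinBad.le_of_card_le' (hC : Ctx p P m) (hB : MinBad p P Q y) {F : Subgroup G}
    (hFP : F ≤ P) (hFm : p ^ m ≤ Nat.card F) : Q ≤ F := by
  have hFp : IsPGroup p F := hC.hP.to_le hFP
  obtain ⟨n, hn⟩ := hFp.exists_card_eq
  obtain ⟨k, hk⟩ := hC.hP.exists_card_eq
  have hnk : n ≤ k := by
    have := Subgroup.card_le_of_le hFP
    rw [hn, hk] at this
    exact (Nat.pow_le_pow_iff_right hp.out.one_lt).mp this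
  apply hB.le_of_card_le hC (k - n) F hFP _ hFm
  rw [hn, hk, ← pow_add]
  congr 1
  omega

/-- B3: every maximal subgroup of `P` is strongly closed in `P`. -/
theorem MinBad.maximal_stronglyClosed (hC : Ctx p P m) (hB : MinBad p P Q y) {M : Subgroup G}
    (hMP : M ≤ P) (hMcard : Nat.card M * p = Nat.card P) (g : G) : cj g M ⊓ P ≤ M := by
  intro x hx
  obtain ⟨hx1, hx2⟩ := Subgroup.mem_inf.mp hx
  rw [mem_cj_iff] at hx1
  set x' := g⁻¹ * x * g with hx'
  have hMp : IsPGroup p M := hC.hP.to_le hMP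
  have hMm : p ^ m ≤ Nat.card M := by
    obtain ⟨k, hk⟩ := hMp.exists_card_eq
    have hcP := hC.hcP
    rw [← hMcard, hk, ← pow_succ] at hcP
    have : m < k + 1 := (Nat.pow_lt_pow_iff_right hp.out.one_lt).mp hcP
    rw [hk]
    exact Nat.pow_le_pow_right hp.out.pos (by omega)
  have hCM : Subgroup.zpowers x' ≤ M := (Subgroup.zpowers_le).mpr hx1
  have hCcard : Nat.card (Subgroup.zpowers x') ≤ p ^ m := by
    by_contra hcon
    push Not at hcon
    have hQC : Q ≤ Subgroup.zpowers x' := hB.le_of_card_le' hC (hCM.trans hMP) hcon.le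
    apply hB.not_isCyclic hC
    exact Subgroup.isCyclic_of_le hQC
  obtain ⟨E, hE1, hE2, hE3⟩ := exists_between hMp hCM hCcard hMm
  have hEP : E ≤ P := hE2.trans hMP
  have hHS := hC.hH E hEP (Or.inl hE3)
  apply hE2
  apply hHS.inf_le hEP hC.hP g
  refine Subgroup.mem_inf.mpr ⟨?_, hx2⟩
  rw [mem_cj_iff]
  exact hE1 (Subgroup.mem_zpowers x')

end

end Cfsg.Agent.Lib.H21.HSub
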