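import Mathlib
import Cfsg.Agent.S4250
import Cfsg.Agent.Lib.L0.Tate
import Cfsg.Agent.Lib.H16.NormalComplementDescent
import Cfsg.Agent.Lib.H21.HSubF

/-! If all maximal subgroups of a Sylow `p`-subgroup are strongly closed and `p` is the smallest
prime divisor of `|G|`, then `G` has a normal `p`-complement (via the focal subgroup theorem in
Alperin form and Tate's theorem) (helper21). -/

set_option autoImplicit false

open scoped commutatorElement

namespace Cfsg.Agent.Lib.H21.HSub

open Cfsg.Agent.Lib.H15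

variable {G : Type*} [Group G]

/-- all maximal subgroups of the `p`-subgroup `P` are strongly closed in `P` -/
def MaxSC (p : ℕ) (P : Subgroup G) : Prop :=
  ∀ M : Subgroup G, M ≤ P → Nat.card M * p = Nat.card P → ∀ g : G, cj g M ⊓ P ≤ M

theorem comm_mem_frattini [Finite G] {p : ℕ} [hp : Fact p.Prime] {P : Subgroup G}
    (hP : IsPGroup p P) (hSC : MaxSC p P) {T : Subgroup G} (hTP : T ≤ P) {n : G}
    (hn : n ∈ Subgroup.normalizer (T : Set G))
    (hkp : ∀ q : ℕ, q.Prime → q ∣ orderOf n → p ≤ q) {t : G} (ht : t ∈ T) :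
    ⁅t, n⁆ ∈ (frattini P).map P.subtype := by
  have hntT : n * t⁻¹ * n⁻¹ ∈ T := (Subgroup.mem_normalizer_iff.mp hn _).mp (T.inv_mem ht)
  have hwT : ⁅t, n⁆ ∈ T := by
    rw [commutatorElement_def]
    have : t * n * t⁻¹ * n⁻¹ = t * (n * t⁻¹ * n⁻¹) := by group
    rw [this]
    exact T.mul_mem ht hntT
  refine ⟨⟨⁅t, n⁆, hTP hwT⟩, ?_, rfl⟩
  rw [SetLike.mem_coe, mem_frattini_iff]
  intro M' hM'
  set M := M'.map P.subtype with hM
  have hMP : M ≤ P := by
    rintro _ ⟨x, -, rfl⟩
    exact x.2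
  have hMcard : Nat.card M * p = Nat.card P := by
    rw [hM, Subgroup.card_map_of_injective P.subtype_injective]
    exact card_mul_of_isCoatom hP hM'
  have hsc := hSC M hMP hMcard
  suffices hw : ⁅t, n⁆ ∈ M by
    obtain ⟨z, hz, hz2⟩ := hw
    have : z = ⟨⁅t, n⁆, hTP hwT⟩ := Subtype.ext hz2
    rw [← this]
    exact hz
  by_cases hTM : T ≤ M
  · exact hTM hwT
  · -- `P` normalizes `M`
    have hPM : ∀ u ∈ P, ∀ x ∈ cj u M, x ∈ M := by
      intro u hu x hx
      apply hsc u
      refine Subgroup.mem_inf.mpr ⟨hx, ?_⟩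
      rw [mem_cj_iff] at hx
      have : x = u * (u⁻¹ * x * u) * u⁻¹ := by group
      rw [this]
      exact P.mul_mem (P.mul_mem hu (hMP hx)) (P.inv_mem hu)
    have hidx : (M ⊓ T).relIndex T = p := relIndex_inf_eq_prime hP hMP hTP hMcard hTM
    have hnorm : T ≤ Subgroup.normalizer ((M ⊓ T : Subgroup G) : Set G) := by
      intro t' ht'
      apply mem_normalizer_of_cj_le
      intro x hx
      have hx' := mem_cj_iff.mp hx
      refine Subgroup.mem_inf.mpr ⟨hPM t' (hTP ht') x (mem_cj_iff.mpr hx'.1), ?_⟩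
      have : x = t' * (t'⁻¹ * x * t') * t'⁻¹ := by group
      rw [this]
      exact T.mul_mem (T.mul_mem ht' hx'.2) (T.inv_mem ht')
    have hnT₀ : n ∈ Subgroup.normalizer ((M ⊓ T : Subgroup G) : Set G) := by
      apply mem_normalizer_of_cj_le
      intro x hx
      have hx' := mem_cj_iff.mp hx
      have hxT : x ∈ T := by
        have h1 := (Subgroup.mem_normalizer_iff.mp hn _).mp hx'.2
        simpa [mul_assoc] using h1
      refine Subgroup.mem_inf.mpr ⟨?_, hxT⟩
      apply hsc n
      exact Subgroup.mem_inf.mpr ⟨mem_cj_iff.mpr hx'.1, hTP hxT⟩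
    have key := comm_mem_of_relIndex_prime (inf_le_right : M ⊓ T ≤ T) hidx hnorm hn hnT₀ hkp
      (T.inv_mem ht)
    have : ⁅t, n⁆ = (t⁻¹)⁻¹ * (n * t⁻¹ * n⁻¹) := by
      rw [commutatorElement_def]
      group
    rw [this]
    exact key.1

theorem inf_commutator_le_frattini [Finite G] {p : ℕ} [hp : Fact p.Prime]
    (hminp : ∀ q : ℕ, q.Prime → q ∣ Nat.card G → p ≤ q) (P : Sylow p G)
    (hSC : MaxSC p (P : Subgroup G)) :
    (P : Subgroup G) ⊓ commutator G ≤ (frattini (P : Subgroup G)).map (P : Subgroup G).subtype := by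
  rw [Cfsg.Agent.S4250.result p P]
  apply sup_le
  · rw [Subgroup.commutator_le]
    intro t ht n hn
    refine comm_mem_frattini P.2 hSC le_rfl ?_ ?_ ht
    · exact hn
    · exact fun q hq hqd => hminp q hq (hqd.trans (orderOf_dvd_natCard n))
  · apply iSup_le
    intro Q
    apply iSup_le
    intro _
    apply iSup_le
    intro x
    apply iSup_le
    rintro ⟨hx, k, hk⟩
    rw [Subgroup.commutator_le]
    intro t ht z hz
    refine comm_mem_frattini P.2 hSC inf_le_left ?_ ?_ ht
    · exact (Subgroup.zpowers_le.mpr hx) hz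
    · intro q hq hqd
      have h1 : orderOf z ∣ orderOf x := orderOf_dvd_of_mem_zpowers hz
      have h2 : q ∣ p ^ k := hk ▸ (hqd.trans h1)
      have h3 := (Nat.prime_dvd_prime_iff_eq hq hp.out).mp (hq.dvd_of_dvd_pow h2)
      exact h3.ge

theorem hnpc_of_maxSC [Finite G] {p : ℕ} [hp : Fact p.Prime]
    (hminp : ∀ q : ℕ, q.Prime → q ∣ Nat.card G → p ≤ q) (P : Sylow p G)
    (hSC : MaxSC p (P : Subgroup G)) : Cfsg.HasNormalPComplement p G := by
  set N := (P : Subgroup G).transferFocal.ker with hN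
  have h1 : N ⊓ (P : Subgroup G) ≤ (frattini P).map (P : Subgroup G).subtype := by
    rw [hN, Subgroup.ker_transferFocal_inf_eq_focalSubgroup P,
      ← Subgroup.commutator_inf_eq_focalSubgroup P, inf_comm]
    exact inf_commutator_le_frattini hminp P hSC
  have h2 : Cfsg.HasNormalPComplement p N := Cfsg.Agent.Lib.L0.tate P N h1
  have h3 : ∃ j, N.index = p ^ j := by
    have e := Subgroup.transferFocal.quotientKerMulEquivQuotientFocalSubroupOf P
    have h4 : N.index = Nat.card ((P : Subgroup G) ⧸ (P : Subgroup G).focalSubgroupOf) := by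
      rw [Subgroup.index_eq_card]
      exact Nat.card_congr e.toEquiv
    have h5 : Nat.card ((P : Subgroup G) ⧸ (P : Subgroup G).focalSubgroupOf) ∣
        Nat.card (P : Subgroup G) := Subgroup.card_quotient_dvd_card _
    obtain ⟨k, hk⟩ := P.2.exists_card_eq
    rw [hk] at h5
    obtain ⟨j, -, hj⟩ := (Nat.dvd_prime_pow hp.out).mp h5
    exact ⟨j, h4.trans hj⟩
  exact Cfsg.Agent.Lib.H16.hasNormalPComplement_of_normal_of_index_pow N h3 h2

end Cfsg.Agent.Lib.H21.HSub
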