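import Mathlib
import Cfsg.Agent.Lib.L0.FrobeniusPC
import Cfsg.Agent.Lib.H21.HSubG

/-! The H-subgroup normal `p`-complement theorem, internal form (helper21). -/

set_option autoImplicit false

open scoped Pointwise

namespace Cfsg.Agent.Lib.H21.HSub

open Cfsg.Agent.Lib.H15 Cfsg.Agent.Lib.L0

variable {G : Type*} [Group G]

/-- every `p`-subgroup is conjugate into a given Sylow `p`-subgroup -/
theorem exists_cj_le_sylow [Finite G] {p : ℕ} [Fact p.Prime] (P : Sylow p G) {Q : Subgroup G}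
    (hQ : IsPGroup p Q) : ∃ a : G, cj a Q ≤ (P : Subgroup G) := by
  obtain ⟨P', hP'⟩ := hQ.exists_le_sylow
  obtain ⟨a, ha⟩ := MulAction.exists_smul_eq G P' P
  refine ⟨a, ?_⟩
  rintro _ ⟨q, hq, rfl⟩
  have h1 : MulAut.conj a • q ∈ MulAut.conj a • (P' : Subgroup G) :=
    Subgroup.smul_mem_pointwise_smul q _ _ (hP' hq)
  have h2 : ((a • P' : Sylow p G) : Subgroup G) = MulAut.conj a • (P' : Subgroup G) := rfl
  rw [← h2, ha] at h1
  exact h1

/-- existence of a minimal bad pair inside `P` when Frobenius' hypothesis fails -/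
theorem exists_minBad [Finite G] {p : ℕ} [Fact p.Prime] (P : Sylow p G) (hF : ¬ FrobHyp p G) :
    ∃ (Q : Subgroup G) (y : G), MinBad p (P : Subgroup G) Q y := by
  classical
  unfold FrobHyp at hF
  push Not at hF
  obtain ⟨Q₀, hQ₀, g, hgN, hgp, hgC⟩ := hF
  obtain ⟨a, ha⟩ := exists_cj_le_sylow P hQ₀
  let S : Set ℕ := {n | ∃ (Q : Subgroup G) (y : G), Q ≤ (P : Subgroup G) ∧
    y ∈ Subgroup.normalizer (Q : Set G) ∧ (orderOf y).Coprime p ∧
    y ∉ Subgroup.centralizer (Q : Set G) ∧ Nat.card Q = n}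
  have hne : S.Nonempty := by
    refine ⟨Nat.card (cj a Q₀), cj a Q₀, a * g * a⁻¹, ha, ?_, ?_, ?_, rfl⟩
    · rw [normalizer_cj]
      exact conj_mem_cj hgN
    · have : orderOf (a * g * a⁻¹) = orderOf g := (MulAut.conj a).orderOf_eq g
      rw [this]
      exact hgp
    · rw [centralizer_cj, mem_cj_iff]
      have : a⁻¹ * (a * g * a⁻¹) * a = g := by group
      rw [this]
      exact hgC
  obtain ⟨Q, y, hQP, hyN, hyp, hyC, hcard⟩ := Nat.sInf_mem hne
  refine ⟨Q, y, hQP, hyN, hyp, hyC, ?_⟩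
  intro U hU hyU u hu
  by_contra hcon
  have hUC : y ∉ Subgroup.centralizer (U : Set G) := by
    intro h
    exact hcon ((Subgroup.mem_centralizer_iff.mp h) u hu).symm
  have hmem : Nat.card U ∈ S := ⟨U, y, hU.le.trans hQP, hyU, hyp, hUC, rfl⟩
  have h1 : sInf S ≤ Nat.card U := Nat.sInf_le hmem
  rw [← hcard] at h1
  have h2 : U = Q := eq_of_le_of_card_le' hU.le h1
  exact hU.ne h2

/-- **Main theorem (internal form)**. -/
theorem hnpc_of_ctx [Finite G] {p : ℕ} [Fact p.Prime] (P : Sylow p G) {m : ℕ}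
    (hC : Ctx p (P : Subgroup G) m) : Cfsg.HasNormalPComplement p G := by
  by_cases hF : FrobHyp p G
  · exact hasNormalPComplement_of_frobHyp hF
  · obtain ⟨Q, y, hB⟩ := exists_minBad P hF
    apply hnpc_of_maxSC hC.hminp P
    intro M hMP hMcard g
    exact hB.maximal_stronglyClosed hC hMP hMcard g

end Cfsg.Agent.Lib.H21.HSub
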