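import Mathlib
import Cfsg.Agent.Lib.H21.Hall4Defs

/-!
# S4221 piece HYP: the elementwise hypotheses from the frozen statement's hypotheses
-/

set_option autoImplicit false

namespace Cfsg.Agent.Lib.H21.Hall4

open Equiv

variable {α : Type*}

theorem smul_emb_apply (G : Subgroup (Perm α)) (g : G) (s : Fin 4 ↪ α) (i : Fin 4) :
    (g • s) i = (g : Perm α) (s i) := rfl

/-- `st G s` and the stabilizer of `s` in `↥G` have the same cardinality. -/
theorem card_st_eq (G : Subgroup (Perm α)) (s : Fin 4 ↪ α) :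
    Nat.card (st G s) = Nat.card (MulAction.stabilizer G s) := by
  refine Nat.card_congr ?_
  refine
    { toFun := fun h => ⟨⟨h.1, (mem_st.1 h.2).1⟩, ?_⟩
      invFun := fun h => ⟨h.1.1, mem_st.2 ⟨h.1.2, ?_⟩⟩
      left_inv := fun h => rfl
      right_inv := fun h => rfl }
  · rw [MulAction.mem_stabilizer_iff]
    ext i
    exact (mem_st.1 h.2).2 i
  · intro i
    have := h.2
    rw [MulAction.mem_stabilizer_iff] at this
    exact congrArg (fun e : Fin 4 ↪ α => e i) this

/-- Stabilizers of tuples in the same `G`-orbit have the same order. -/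
theorem card_st_conj (G : Subgroup (Perm α)) {g : Perm α} (hg : g ∈ G) (s s' : Fin 4 ↪ α)
    (h : ∀ i, g (s i) = s' i) : Nat.card (st G s') = Nat.card (st G s) := by
  refine Nat.card_congr ?_
  refine
    { toFun := fun k => ⟨g⁻¹ * k.1 * g, mem_st.2 ⟨G.mul_mem (G.mul_mem (G.inv_mem hg) (mem_st.1 k.2).1) hg, ?_⟩⟩
      invFun := fun k => ⟨g * k.1 * g⁻¹, mem_st.2 ⟨G.mul_mem (G.mul_mem hg (mem_st.1 k.2).1) (G.inv_mem hg), ?_⟩⟩
      left_inv := fun k => by ext : 1; simp [mul_assoc]
      right_inv := fun k => by ext : 1; simp [mul_assoc] }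
  · intro i
    rw [Perm.mul_apply, Perm.mul_apply, h i, (mem_st.1 k.2).2 i, ← h i, Perm.inv_def, Equiv.symm_apply_apply]
  · intro i
    rw [Perm.mul_apply, Perm.mul_apply, ← h i, Perm.inv_def, Equiv.symm_apply_apply, (mem_st.1 k.2).2 i]

theorem hyp_of (G : Subgroup (Perm α)) (hG : MulAction.IsMultiplyPretransitive G α 4)
    (x : Fin 4 ↪ α) (hodd : Odd (Nat.card (MulAction.stabilizer G x))) : Hyp G := by
  refine ⟨?_, ?_⟩
  · intro s s'
    obtain ⟨g, hg⟩ := MulAction.exists_smul_eq G s s'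
    refine ⟨g.1, g.2, fun i => ?_⟩
    rw [← hg]
    rfl
  · intro s
    obtain ⟨g, hg⟩ := MulAction.exists_smul_eq G x s
    rw [card_st_conj G g.2 x s (fun i => by rw [← hg]; rfl), card_st_eq]
    exact hodd

end Cfsg.Agent.Lib.H21.Hall4
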