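import Mathlib
import Cfsg.Agent.Lib.H21.Hall4Defs
import Cfsg.Agent.Lib.H21.Hall4HYP

/-!
# S4221 piece SMALL: degrees `4, 5, 6, 7`
-/

set_option autoImplicit false

namespace Cfsg.Agent.Lib.H21.Hall4

open Equiv

variable {α : Type*} [Fintype α] [DecidableEq α] {G : Subgroup (Perm α)}

/-- Orbit–stabilizer for `G` on `Fin 4 ↪ α` (own copy, used by `small`). -/
theorem card_G_aux (hG : Hyp G) (s : Fin 4 ↪ α) :
    Nat.card G = (Fintype.card α).descFactorial 4 * Nat.card (st G s) := by
  have h1 : (MulAction.stabilizer G s).index = Nat.card (Fin 4 ↪ α) := by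
    rw [MulAction.index_stabilizer, ← Set.ncard_univ]
    congr 1
    ext s'
    simp only [Set.mem_univ, iff_true]
    obtain ⟨g, hg, h⟩ := hG.trans s s'
    exact ⟨⟨g, hg⟩, by ext i; exact h i⟩
  have h2 := Subgroup.card_mul_index (MulAction.stabilizer G s)
  rw [h1, Nat.card_eq_fintype_card (α := Fin 4 ↪ α), Fintype.card_embedding_eq,
    Fintype.card_fin, ← card_st_eq] at h2
  rw [← h2, mul_comm]

/-- A subgroup of `Perm α`, `|α| = 7`, of order `840` does not exist: its normal core is trivial
(otherwise it contains `A₇`), so `Perm α` embeds in `Sym(6)`. -/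
theorem no_index_six (h7 : Fintype.card α = 7) (hc : Nat.card G = 840) : False := by
  have hperm : Nat.card (Perm α) = 5040 := by
    rw [Nat.card_eq_fintype_card, Fintype.card_perm, h7]
    rfl
  have hidx : G.index = 6 := by
    have := Subgroup.card_mul_index G
    rw [hc, hperm] at this
    omega
  have hnt : Nontrivial α := by
    rw [← Fintype.one_lt_card_iff_nontrivial, h7]
    norm_num
  have hA : Nat.card (alternatingGroup α) = 2520 := by
    have := two_mul_nat_card_alternatingGroup (α := α)
    rw [hperm] at this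
    omega
  have hcore : G.normalCore = ⊥ := by
    by_contra hne
    have hnt' : Nontrivial G.normalCore := (Subgroup.nontrivial_iff_ne_bot _).2 hne
    have hle : alternatingGroup α ≤ G.normalCore :=
      Equiv.Perm.alternatingGroup_le_of_normal
        (by rw [Nat.card_eq_fintype_card, h7]; norm_num) hnt'
    have hle' : alternatingGroup α ≤ G := hle.trans (Subgroup.normalCore_le G)
    have := Subgroup.card_le_of_le hle'
    rw [hA, hc] at this
    omega
  rw [Subgroup.normalCore_eq_ker] at hcore
  have hinj : Function.Injective (MulAction.toPermHom (Perm α) (Perm α ⧸ G)) :=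
    (MonoidHom.ker_eq_bot_iff _).1 hcore
  have hle := Nat.card_le_card_of_injective _ hinj
  rw [hperm, Nat.card_perm, ← Subgroup.index_eq_card, hidx] at hle
  norm_num [Nat.factorial] at hle

theorem small (hG : Hyp G) (x : Fin 4 ↪ α) (h : Fintype.card α ≤ 7) :
    ((Fintype.card α = 4 ∨ Fintype.card α = 5) ∧ G = ⊤) ∨
      ((Fintype.card α = 6 ∨ Fintype.card α = 7) ∧ G = alternatingGroup α) := by
  have h4 : 4 ≤ Fintype.card α := by
    have := Fintype.card_le_of_embedding x
    simpa using this
  have hcard := card_G_aux hG x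
  obtain ⟨k, hk⟩ := hG.odd x
  have hdvd : Nat.card G ∣ Nat.card (Perm α) := Subgroup.card_subgroup_dvd_card G
  have hperm : Nat.card (Perm α) = (Fintype.card α).factorial := by
    rw [Nat.card_eq_fintype_card, Fintype.card_perm]
  have hidx : Nat.card G * G.index = Nat.card (Perm α) := Subgroup.card_mul_index G
  obtain h | h | h | h : Fintype.card α = 4 ∨ Fintype.card α = 5 ∨ Fintype.card α = 6 ∨
      Fintype.card α = 7 := by omega
  · left
    refine ⟨Or.inl h, ?_⟩
    rw [h] at hcard hperm
    have e1 : Nat.descFactorial 4 4 = 24 := rfl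
    have e2 : Nat.factorial 4 = 24 := rfl
    rw [e1] at hcard
    rw [e2] at hperm
    rw [hperm, hcard, hk] at hdvd
    have := Nat.le_of_dvd (by norm_num) hdvd
    have hk0 : k = 0 := by omega
    rw [hk, hk0] at hcard
    apply Subgroup.eq_top_of_card_eq
    rw [hperm]
    omega
  · left
    refine ⟨Or.inr h, ?_⟩
    rw [h] at hcard hperm
    have e1 : Nat.descFactorial 5 4 = 120 := rfl
    have e2 : Nat.factorial 5 = 120 := rfl
    rw [e1] at hcard
    rw [e2] at hperm
    rw [hperm, hcard, hk] at hdvd
    have := Nat.le_of_dvd (by norm_num) hdvd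
    have hk0 : k = 0 := by omega
    rw [hk, hk0] at hcard
    apply Subgroup.eq_top_of_card_eq
    rw [hperm]
    omega
  · right
    refine ⟨Or.inl h, ?_⟩
    rw [h] at hcard hperm
    have e1 : Nat.descFactorial 6 4 = 360 := rfl
    have e2 : Nat.factorial 6 = 720 := rfl
    rw [e1] at hcard
    rw [e2] at hperm
    rw [hperm, hcard, hk] at hdvd
    have := Nat.le_of_dvd (by norm_num) hdvd
    have hk0 : k = 0 := by omega
    rw [hk, hk0] at hcard
    apply Equiv.Perm.eq_alternatingGroup_of_index_eq_two
    rw [hcard, hperm] at hidx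
    omega
  · right
    refine ⟨Or.inr h, ?_⟩
    rw [h] at hcard hperm
    have e1 : Nat.descFactorial 7 4 = 840 := rfl
    have e2 : Nat.factorial 7 = 5040 := rfl
    rw [e1] at hcard
    rw [e2] at hperm
    rw [hperm, hcard, hk] at hdvd
    have hle := Nat.le_of_dvd (by norm_num) hdvd
    have hk3 : k ≤ 2 := by omega
    have hk012 : k = 0 ∨ k = 1 := by
      interval_cases k
      · left; rfl
      · right; rfl
      · exfalso
        revert hdvd
        decide
    rcases hk012 with hk0 | hk1
    · exfalso
      rw [hk, hk0] at hcard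
      exact no_index_six h (by omega)
    · rw [hk, hk1] at hcard
      apply Equiv.Perm.eq_alternatingGroup_of_index_eq_two
      rw [hcard, hperm] at hidx
      omega

end Cfsg.Agent.Lib.H21.Hall4
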