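import Mathlib
import Cfsg.Agent.Lib.H21.Hall4Defs
import Cfsg.Agent.Lib.H21.Hall4HYP
import Cfsg.Agent.Lib.H21.Hall4SMALL
import Cfsg.Agent.Lib.H4.Hall4PAT
import Cfsg.Agent.Lib.H4.Hall4FIX
import Cfsg.Agent.Lib.H4.Hall4CST
import Cfsg.Agent.Lib.H17.Hall4CONJ
import Cfsg.Agent.Lib.H17.Hall4ORB
import Cfsg.Agent.Lib.H22.Hall4FOUR
import Cfsg.Agent.Lib.H22.Hall4CV
import Cfsg.Agent.Lib.H13.Hall4CU
import Cfsg.Agent.Lib.H13.Hall4TRIV
import Cfsg.Agent.Lib.H29.Hall4BW
import Cfsg.Agent.Lib.H29.Hall4CUBE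
import Cfsg.Agent.Lib.H1.Hall4CT

/-!
# S4221 (M. Hall): a 4-transitive group with a 4-point stabilizer of odd order

Assembly of the farmed-out pieces (`tools/blueprints/S4221.md`): for `n ≥ 8` the two classes of
four-groups `U = ⟨t, t'⟩` (patterns `(01)`, `(23)`) and `V = ⟨a, b⟩` (patterns `(01)(23)`,
`(02)(13)`) are conjugate; comparing `|C_G(U)|`, `|C_G(V)|`, the Brauer–Wielandt formula for both
and `|C_G(t)| = |C_G(a)|` forces `n = 11` and a trivial 4-point stabilizer.
-/

set_option autoImplicit false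

namespace Cfsg.Agent.Lib.H21.Hall4Main

open Equiv Cfsg.Agent.Lib.H21.Hall4

variable {α : Type*} [Fintype α] [DecidableEq α] {G : Subgroup (Perm α)}

theorem pat_mul {a b : Perm α} {s : Fin 4 ↪ α} {σ τ : Perm (Fin 4)} (ha : Pat a s σ) (hb : Pat b s τ) :
    Pat (a * b) s (σ * τ) := by
  intro i
  rw [Perm.mul_apply, hb i, ha (τ i), Perm.mul_apply]

theorem ne_one_of_pat {a : Perm α} {s : Fin 4 ↪ α} {σ : Perm (Fin 4)} (ha : Pat a s σ) (i : Fin 4)
    (hi : σ i ≠ i) : a ≠ 1 := by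
  rintro rfl
  have := ha i
  rw [Perm.one_apply] at this
  exact hi (s.injective this).symm

theorem ne_of_pat {a b : Perm α} {s : Fin 4 ↪ α} {σ τ : Perm (Fin 4)} (ha : Pat a s σ) (hb : Pat b s τ)
    (i : Fin 4) (hi : σ i ≠ τ i) : a ≠ b := by
  rintro rfl
  have := (ha i).symm.trans (hb i)
  exact hi (s.injective this)

/-- If a finset of card `2` contains two distinct elements, every element is one of them. -/
theorem mem_pair_of_card_two {S : Finset α} {p q : α} (hS : S.card = 2) (hp : p ∈ S) (hq : q ∈ S)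
    (hpq : p ≠ q) : ∀ y ∈ S, y = p ∨ y = q := by
  have hsub : ({p, q} : Finset α) ⊆ S := by
    intro z hz
    rcases Finset.mem_insert.1 hz with rfl | hz
    · exact hp
    · rw [Finset.mem_singleton.1 hz]; exact hq
  have hcard : S.card ≤ ({p, q} : Finset α).card := by
    rw [Finset.card_pair hpq, hS]
  have := Finset.eq_of_subset_of_card_le hsub hcard
  intro y hy
  rw [← this] at hy
  simpa using hy

theorem main_ge_eight (hG : Hyp G) (x : Fin 4 ↪ α) (h8 : 8 ≤ Fintype.card α) :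
    Fintype.card α = 11 ∧ Nat.card (st G x) = 1 := by
  classical
  -- index pattern facts
  have e01 : σ01 * σ01 = 1 := by decide
  have e23 : σ23 * σ23 = 1 := by decide
  have ec1 : σ01 * σ23 = σ23 * σ01 := by decide
  have ea : σa * σa = 1 := by decide
  have eb : σb * σb = 1 := by decide
  have ec2 : σa * σb = σb * σa := by decide
  have e0123 : σ01 * σ23 = σa := rfl
  obtain ⟨t, ht, t', ht', ht2, ht'2, htt, hpt, hpt'⟩ := Cfsg.Agent.Lib.H4.Hall4.exists_comm_pair hG x σ01 σ23 e01 e23 ec1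
  obtain ⟨a, ha, b, hb, ha2, hb2, hab, hpa, hpb⟩ := Cfsg.Agent.Lib.H4.Hall4.exists_comm_pair hG x σa σb ea eb ec2
  have hptt : Pat (t * t') x σa := pat_mul hpt hpt'
  have hpab : Pat (a * b) x (σa * σb) := pat_mul hpa hpb
  have htne : t ≠ 1 := ne_one_of_pat hpt 0 (by decide)
  have ht'ne : t' ≠ 1 := ne_one_of_pat hpt' 2 (by decide)
  have httne : t * t' ≠ 1 := ne_one_of_pat hptt 0 (by decide)
  have hane : a ≠ 1 := ne_one_of_pat hpa 0 (by decide)
  have hbne : b ≠ 1 := ne_one_of_pat hpb 0 (by decide)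
  have habne : a * b ≠ 1 := ne_one_of_pat hpab 0 (by decide)
  have htt'ne : t ≠ t' := ne_of_pat hpt hpt' 0 (by decide)
  have habneq : a ≠ b := ne_of_pat hpa hpb 0 (by decide)
  have htt2 : (t * t') * (t * t') = 1 := by
    rw [mul_assoc, ← mul_assoc t' t t', ← htt, mul_assoc, ht'2, mul_one, ht2]
  have hab2 : (a * b) * (a * b) = 1 := by
    rw [mul_assoc, ← mul_assoc b a b, ← hab, mul_assoc, hb2, mul_one, ha2]
  have httG : t * t' ∈ G := G.mul_mem ht ht'
  have habG : a * b ∈ G := G.mul_mem ha hb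
  -- all involutions have the same number of fixed points
  set φ := nfix t with hφ
  have hnf : ∀ {c : Perm α}, c ∈ G → c * c = 1 → c ≠ 1 → nfix c = φ := by
    intro c hc hc2 hcne
    obtain ⟨g, _, hg⟩ := Cfsg.Agent.Lib.H4.Hall4.invol_conj hG h8 ht ht2 htne hc hc2 hcne
    rw [← hg, Cfsg.Agent.Lib.H17.Hall4.nfix_conj]
  have hφ3 : φ ≤ 3 := Cfsg.Agent.Lib.H4.Hall4.nfix_le_three hG ht ht2 htne
  -- orbit count for (t, t')
  set f := (Finset.univ.filter (fun y => t y = y ∧ t' y = y)).card with hf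
  have hOC := Cfsg.Agent.Lib.H17.Hall4.orbit_count t t' ht2 ht'2 htt
  rw [hnf ht' ht'2 ht'ne, hnf httG htt2 httne, ← hφ] at hOC
  -- the set Fix t \ Fix t' = {x 2, x 3}
  set Dt := Finset.univ.filter (fun y => t y = y ∧ t' y ≠ y) with hDt
  have hx2 : x 2 ∈ Dt := by
    rw [hDt, Finset.mem_filter]
    refine ⟨Finset.mem_univ _, ?_, ?_⟩
    · have := hpt 2; rwa [show σ01 2 = 2 by decide] at this
    · have := hpt' 2; rw [show σ23 2 = 3 by decide] at this
      rw [this]; exact fun h => by simpa using x.injective h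
  have hx3 : x 3 ∈ Dt := by
    rw [hDt, Finset.mem_filter]
    refine ⟨Finset.mem_univ _, ?_, ?_⟩
    · have := hpt 3; rwa [show σ01 3 = 3 by decide] at this
    · have := hpt' 3; rw [show σ23 3 = 2 by decide] at this
      rw [this]; exact fun h => by simpa using x.injective h
  have hx23 : x 2 ≠ x 3 := fun h => by simpa using x.injective h
  have hsplit : φ = f + Dt.card := Cfsg.Agent.Lib.H17.Hall4.nfix_split t t'
  have hDeven : Even Dt.card := Cfsg.Agent.Lib.H17.Hall4.even_fix_diff t t' ht'2 htt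
  have hD2 : 2 ≤ Dt.card := by
    have : ({x 2, x 3} : Finset α) ⊆ Dt := by
      intro z hz
      rcases Finset.mem_insert.1 hz with rfl | hz
      · exact hx2
      · rw [Finset.mem_singleton.1 hz]; exact hx3
    have h := Finset.card_le_card this
    rwa [Finset.card_pair hx23] at h
  have hDcard : Dt.card = 2 := by
    obtain ⟨k, hk⟩ := hDeven
    omega
  have h23 : ∀ y, t y = y → t' y ≠ y → y = x 2 ∨ y = x 3 := by
    intro y h1 h2
    exact mem_pair_of_card_two hDcard hx2 hx3 hx23 y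
      (by rw [hDt, Finset.mem_filter]; exact ⟨Finset.mem_univ _, h1, h2⟩)
  -- the set Fix t' \ Fix t = {x 0, x 1}
  set Dt' := Finset.univ.filter (fun y => t' y = y ∧ t y ≠ y) with hDt'
  have hx0 : x 0 ∈ Dt' := by
    rw [hDt', Finset.mem_filter]
    refine ⟨Finset.mem_univ _, ?_, ?_⟩
    · have := hpt' 0; rwa [show σ23 0 = 0 by decide] at this
    · have := hpt 0; rw [show σ01 0 = 1 by decide] at this
      rw [this]; exact fun h => by simpa using x.injective h
  have hx1 : x 1 ∈ Dt' := by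
    rw [hDt', Finset.mem_filter]
    refine ⟨Finset.mem_univ _, ?_, ?_⟩
    · have := hpt' 1; rwa [show σ23 1 = 1 by decide] at this
    · have := hpt 1; rw [show σ01 1 = 0 by decide] at this
      rw [this]; exact fun h => by simpa using x.injective h
  have hx01 : x 0 ≠ x 1 := fun h => by simpa using x.injective h
  have hsplit' : nfix t' = (Finset.univ.filter (fun y => t' y = y ∧ t y = y)).card + Dt'.card :=
    Cfsg.Agent.Lib.H17.Hall4.nfix_split t' t
  have hff : (Finset.univ.filter (fun y => t' y = y ∧ t y = y)).card = f := by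
    rw [hf]; congr 1; ext y; simp [and_comm]
  rw [hnf ht' ht'2 ht'ne, hff] at hsplit'
  have hD'even : Even Dt'.card := Cfsg.Agent.Lib.H17.Hall4.even_fix_diff t' t ht2 htt.symm
  have hD'2 : 2 ≤ Dt'.card := by
    have : ({x 0, x 1} : Finset α) ⊆ Dt' := by
      intro z hz
      rcases Finset.mem_insert.1 hz with rfl | hz
      · exact hx0
      · rw [Finset.mem_singleton.1 hz]; exact hx1
    have h := Finset.card_le_card this
    rwa [Finset.card_pair hx01] at h
  have hD'card : Dt'.card = 2 := by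
    obtain ⟨k, hk⟩ := hD'even
    omega
  have h01 : ∀ y, t' y = y → t y ≠ y → y = x 0 ∨ y = x 1 := by
    intro y h1 h2
    exact mem_pair_of_card_two hD'card hx0 hx1 hx01 y
      (by rw [hDt', Finset.mem_filter]; exact ⟨Finset.mem_univ _, h1, h2⟩)
  -- n = f + 6 + R
  set R := (reg t t').card with hR
  have hφf : φ = f + 2 := by omega
  have hn : Fintype.card α = f + 6 + R := by omega
  have hf1 : f ≤ 1 := by omega
  have hRpos : 0 < R := by omega
  obtain ⟨ω, hω⟩ := Finset.card_pos.1 hRpos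
  -- x 0 is a regular point of (a, b)
  have hx0reg : x 0 ∈ reg a b := by
    rw [mem_reg]
    refine ⟨?_, ?_, ?_⟩
    · rw [hpa 0, show σa 0 = 1 by decide]; exact fun h => by simpa using x.injective h
    · rw [hpb 0, show σb 0 = 2 by decide]; exact fun h => by simpa using x.injective h
    · rw [hpab 0, show (σa * σb) 0 = 3 by decide]; exact fun h => by simpa using x.injective h
  obtain ⟨g, hg, hga, hgb, _⟩ := Cfsg.Agent.Lib.H22.Hall4.four_conj hG ht ht' ha hb ht2 ht'2 htt ha2 hb2 hab ω (x 0) hω hx0reg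
  have hCeq : Nat.card (G ⊓ Subgroup.centralizer ({a, b} : Set (Perm α)) : Subgroup (Perm α)) =
      Nat.card (G ⊓ Subgroup.centralizer ({t, t'} : Set (Perm α)) : Subgroup (Perm α)) := by
    have := Cfsg.Agent.Lib.H17.Hall4.card_cent_conj2 (G := G) hg t t'
    rwa [hga, hgb] at this
  have hRab : (reg a b).card = R := by
    have := Cfsg.Agent.Lib.H17.Hall4.card_reg_conj g t t'
    rwa [hga, hgb] at this
  -- the two centralizer orders
  set δV := Nat.card (st G x ⊓ Subgroup.centralizer ({a, b} : Set (Perm α)) : Subgroup (Perm α))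
    with hδV
  set δU := Nat.card (st G x ⊓ Subgroup.centralizer ({t, t'} : Set (Perm α)) : Subgroup (Perm α))
    with hδU
  have hCV := Cfsg.Agent.Lib.H22.Hall4.card_cent_four hG ha hb ha2 hb2 hab x hx0reg
    (by rw [hpa 0, show σa 0 = 1 by decide])
    (by rw [hpb 0, show σb 0 = 2 by decide])
    (by rw [hpab 0, show (σa * σb) 0 = 3 by decide])
  have hCU := Cfsg.Agent.Lib.H13.Hall4.card_cent_U ht ht' htt x hpt hpt' h01 h23
  rw [hRab, ← hδV] at hCV
  rw [← hδU] at hCU
  obtain ⟨r, hr⟩ := Cfsg.Agent.Lib.H17.Hall4.four_dvd_reg t t' ht2 ht'2 htt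
  rw [← hR] at hr
  have hδ : δU = r * δV := by
    have : 4 * δU = 4 * (r * δV) := by rw [← hCU, ← hCeq, hCV, hr]; ring
    omega
  -- Brauer–Wielandt for V and U
  set H := Nat.card (st G x) with hH
  set ca := Nat.card (st G x ⊓ Subgroup.centralizer ({a} : Set (Perm α)) : Subgroup (Perm α)) with hca
  set ct := Nat.card (st G x ⊓ Subgroup.centralizer ({t} : Set (Perm α)) : Subgroup (Perm α)) with hct
  have hcapos : 0 < ca := Nat.card_pos
  have hbwV := Cfsg.Agent.Lib.H29.Hall4.bw hG ha hb ha2 hb2 hab hane hbne habneq x σa σb hpa hpb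
  have hcb : Nat.card (st G x ⊓ Subgroup.centralizer ({b} : Set (Perm α)) : Subgroup (Perm α)) = ca := by
    rw [hca]; symm
    exact Cfsg.Agent.Lib.H4.Hall4.card_cst_eq hG ha ha2 hb hb2 x σa (swap 1 2) hpa
      (by rw [show swap (1 : Fin 4) 2 * σa * (swap (1 : Fin 4) 2)⁻¹ = σb by decide]; exact hpb)
  have hcab : Nat.card (st G x ⊓ Subgroup.centralizer ({a * b} : Set (Perm α)) : Subgroup (Perm α)) = ca := by
    rw [hca]; symm
    exact Cfsg.Agent.Lib.H4.Hall4.card_cst_eq hG ha ha2 habG hab2 x σa (swap 1 3) hpa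
      (by rw [show swap (1 : Fin 4) 3 * σa * (swap (1 : Fin 4) 3)⁻¹ = σa * σb by decide]; exact hpab)
  rw [hcb, hcab, ← hH, ← hδV, ← hca] at hbwV
  have hbwU := Cfsg.Agent.Lib.H29.Hall4.bw hG ht ht' ht2 ht'2 htt htne ht'ne htt'ne x σ01 σ23 hpt hpt'
  have hct' : Nat.card (st G x ⊓ Subgroup.centralizer ({t'} : Set (Perm α)) : Subgroup (Perm α)) = ct := by
    rw [hct]; symm
    exact Cfsg.Agent.Lib.H4.Hall4.card_cst_eq hG ht ht2 ht' ht'2 x σ01 σb hpt
      (by rw [show σb * σ01 * σb⁻¹ = σ23 by decide]; exact hpt')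
  have hctt : Nat.card (st G x ⊓ Subgroup.centralizer ({t * t'} : Set (Perm α)) : Subgroup (Perm α)) = ca := by
    rw [hca]; symm
    exact Cfsg.Agent.Lib.H4.Hall4.card_cst_eq hG ha ha2 httG htt2 x σa 1 hpa
      (by rw [show (1 : Perm (Fin 4)) * σa * (1 : Perm (Fin 4))⁻¹ = σa by decide]; exact hptt)
  rw [hct', hctt, ← hH, ← hδU, ← hct] at hbwU
  -- ct = r * ca
  have hctr : ct = r * ca := by
    have h1 : ct ^ 2 * ca = (r * ca) ^ 2 * ca := by
      calc ct ^ 2 * ca = ct * ct * ca := by ring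
        _ = H * δU ^ 2 := hbwU.symm
        _ = r ^ 2 * (H * δV ^ 2) := by rw [hδ]; ring
        _ = r ^ 2 * (ca * ca * ca) := by rw [hbwV]
        _ = (r * ca) ^ 2 * ca := by ring
    have h2 : ct ^ 2 = (r * ca) ^ 2 := Nat.eq_of_mul_eq_mul_right hcapos h1
    exact Nat.pow_left_injective (n := 2) (by norm_num) h2
  -- the centralizers of a and t in G
  have hCa := Cfsg.Agent.Lib.H1.Hall4.card_cent_a hG ha ha2 x hpa
  have hCt := Cfsg.Agent.Lib.H1.Hall4.card_cent_t hG ht ht2 x hpt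
  rw [hnf ha ha2 hane, ← hca] at hCa
  rw [← hφ, ← hct] at hCt
  have hCat : Nat.card (G ⊓ Subgroup.centralizer ({a} : Set (Perm α)) : Subgroup (Perm α)) =
      Nat.card (G ⊓ Subgroup.centralizer ({t} : Set (Perm α)) : Subgroup (Perm α)) := by
    obtain ⟨k, hk, hka⟩ := Cfsg.Agent.Lib.H4.Hall4.invol_conj hG h8 ht ht2 htne ha ha2 hane
    have := Cfsg.Agent.Lib.H17.Hall4.card_cent_conj1 (G := G) hk t
    rwa [hka] at this
  have hnφ : Fintype.card α - φ = 4 + 4 * r := by omega
  rw [hnφ] at hCa hCt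
  have hkey : (4 + 4 * r) * (4 + 4 * r - 2) * ca = (4 + 4 * r) * (φ * (φ - 1)) * (r * ca) := by
    rw [← hCa, hCat, hCt, hctr]
  have hkey2 : 2 + 4 * r = φ * (φ - 1) * r := by
    have h4 : 0 < (4 + 4 * r) * ca := Nat.mul_pos (by omega) hcapos
    have : ((4 + 4 * r) * ca) * (4 + 4 * r - 2) = ((4 + 4 * r) * ca) * (φ * (φ - 1) * r) := by
      calc ((4 + 4 * r) * ca) * (4 + 4 * r - 2) = (4 + 4 * r) * (4 + 4 * r - 2) * ca := by ring
        _ = (4 + 4 * r) * (φ * (φ - 1)) * (r * ca) := hkey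
        _ = ((4 + 4 * r) * ca) * (φ * (φ - 1) * r) := by ring
    have := Nat.eq_of_mul_eq_mul_left h4 this
    omega
  have hfr : f = 1 ∧ r = 1 := by
    have hf01 : f = 0 ∨ f = 1 := by omega
    rcases hf01 with h0 | h1
    · exfalso
      rw [hφf, h0] at hkey2
      norm_num at hkey2
      omega
    · refine ⟨h1, ?_⟩
      rw [hφf, h1] at hkey2
      norm_num at hkey2
      omega
  obtain ⟨hf1', hr1⟩ := hfr
  have hn11 : Fintype.card α = 11 := by omega
  refine ⟨hn11, ?_⟩
  -- C_H(V) = 1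
  have hR4 : (reg a b).card = 4 := by rw [hRab, hr, hr1]
  have hxreg : ∀ i, x i ∈ reg a b := by
    intro i
    rw [mem_reg]
    refine ⟨?_, ?_, ?_⟩
    · rw [hpa i]; intro h
      exact (show ∀ j : Fin 4, σa j ≠ j by decide) i (x.injective h)
    · rw [hpb i]; intro h
      exact (show ∀ j : Fin 4, σb j ≠ j by decide) i (x.injective h)
    · rw [hpab i]; intro h
      exact (show ∀ j : Fin 4, (σa * σb) j ≠ j by decide) i (x.injective h)
  have hregx : ∀ y ∈ reg a b, ∃ i, y = x i := by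
    have hsub : (Finset.univ.map x) ⊆ reg a b := by
      intro y hy
      obtain ⟨i, _, rfl⟩ := Finset.mem_map.1 hy
      exact hxreg i
    have hcard : (reg a b).card ≤ (Finset.univ.map x).card := by
      rw [Finset.card_map, Finset.card_univ, Fintype.card_fin, hR4]
    have heq := Finset.eq_of_subset_of_card_le hsub hcard
    intro y hy
    rw [← heq] at hy
    obtain ⟨i, _, rfl⟩ := Finset.mem_map.1 hy
    exact ⟨i, rfl⟩
  have hOCV := Cfsg.Agent.Lib.H17.Hall4.orbit_count a b ha2 hb2 hab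
  rw [hnf ha ha2 hane, hnf hb hb2 hbne, hnf habG hab2 habne, hR4, hn11, hφf, hf1'] at hOCV
  have hfV : (Finset.univ.filter (fun y => a y = y ∧ b y = y)).card ≤ 2 := by omega
  have htriv := Cfsg.Agent.Lib.H13.Hall4.cent_four_trivial hG ha hb ha2 hb2 hab hane hbne habneq x hregx hfV
  have hδV1 : δV = 1 := by
    rw [hδV, htriv]
    exact Subgroup.card_bot
  rw [hδV1] at hbwV
  exact Cfsg.Agent.Lib.H29.Hall4.st_trivial_of_cube hG hn11 x ca (by rw [← hH]; linarith [hbwV])



theorem hall_final {α : Type*} [Fintype α] [DecidableEq α] (G : Subgroup (Equiv.Perm α))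
    (hG : MulAction.IsMultiplyPretransitive G α 4) (x : Fin 4 ↪ α)
    (hodd : Odd (Nat.card (MulAction.stabilizer G x))) :
    ((Fintype.card α = 4 ∨ Fintype.card α = 5) ∧ G = ⊤) ∨
      ((Fintype.card α = 6 ∨ Fintype.card α = 7) ∧ G = alternatingGroup α) ∨
      (Fintype.card α = 11 ∧ Nat.card G = 7920) := by
  have h := hyp_of G hG x hodd
  by_cases h7 : Fintype.card α ≤ 7
  · rcases small h x h7 with h1 | h2
    · exact Or.inl h1
    · exact Or.inr (Or.inl h2)
  · obtain ⟨h11, h1⟩ := main_ge_eight h x (by omega)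
    refine Or.inr (Or.inr ⟨h11, ?_⟩)
    rw [Cfsg.Agent.Lib.H21.Hall4.card_G_aux h x, h11, h1]
    decide

end Cfsg.Agent.Lib.H21.Hall4Main
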