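import Mathlib

/-!
# S4221 piece ODD: the odd-order conjugation trick for involutions
-/

set_option autoImplicit false

namespace Cfsg.Agent.Lib.H21.Hall4

/-- An involution `u` inverting `w` (`u w u = w⁻¹`) inverts its powers. -/
theorem invol_conj_pow {Γ : Type*} [Group Γ] (u w : Γ) (hu : u * u = 1) (h : u * w * u = w⁻¹) (j : ℕ) :
    u * w ^ j * u = (w ^ j)⁻¹ := by
  have hui : u⁻¹ = u := inv_eq_of_mul_eq_one_left hu
  have h1 : (MulAut.conj u) (w ^ j) = ((MulAut.conj u) w) ^ j := map_pow _ _ _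
  rw [MulAut.conj_apply, MulAut.conj_apply, hui, h, inv_pow] at h1
  exact h1

/-- Two involutions whose product has odd order are conjugate by a power of the product. -/
theorem odd_conj {Γ : Type*} [Group Γ] (u v : Γ) (hu : u * u = 1) (hv : v * v = 1)
    (h : Odd (orderOf (u * v))) : ∃ s ∈ Subgroup.zpowers (u * v), s⁻¹ * u * s = v := by
  obtain ⟨m, hm⟩ := h
  set w := u * v with hw
  have hwk : w ^ (2 * m + 1) = 1 := by rw [← hm]; exact pow_orderOf_eq_one w
  have hinv : u * w * u = w⁻¹ := by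
    rw [hw, eq_inv_iff_mul_eq_one]
    calc u * (u * v) * u * (u * v) = (u * u) * v * (u * u) * v := by group
      _ = 1 := by rw [hu, one_mul, mul_one, hv]
  refine ⟨w ^ (m + 1), Subgroup.npow_mem_zpowers w (m + 1), ?_⟩
  have h1 : (w ^ (m + 1))⁻¹ = w ^ m := by
    rw [inv_eq_iff_mul_eq_one, ← pow_add]
    rw [show m + 1 + m = 2 * m + 1 by ring]; exact hwk
  have h2 := invol_conj_pow u w hu hinv (m + 1)
  -- u * w^(m+1) = (w^(m+1))⁻¹ * u
  have h3 : u * w ^ (m + 1) = w ^ m * u := by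
    have : u * w ^ (m + 1) * u * u = (w ^ (m + 1))⁻¹ * u := by rw [h2]
    rw [mul_assoc, hu, mul_one, h1] at this
    exact this
  rw [h1, mul_assoc, h3, ← mul_assoc, ← pow_add]
  -- w^(2m) * u = v
  have h4 : w ^ (m + m) = w⁻¹ := by
    rw [eq_inv_iff_mul_eq_one, ← pow_succ, show m + m + 1 = 2 * m + 1 by ring]; exact hwk
  rw [h4, hw, mul_inv_rev]
  have hui : u⁻¹ = u := inv_eq_of_mul_eq_one_left hu
  have hvi : v⁻¹ = v := inv_eq_of_mul_eq_one_left hv
  rw [hui, hvi, mul_assoc, hu, mul_one]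

/-- If `b (a b a)` has odd order, some `b w` (`w` a power of it) is an involution commuting with `a`. -/
theorem comm_lift {Γ : Type*} [Group Γ] (a b : Γ) (ha : a * a = 1) (hb : b * b = 1)
    (h : Odd (orderOf (b * (a * b * a)))) :
    ∃ w ∈ Subgroup.zpowers (b * (a * b * a)), (b * w) * (b * w) = 1 ∧ a * (b * w) = (b * w) * a := by
  obtain ⟨m, hm⟩ := h
  set w0 := b * (a * b * a) with hw0
  have hwk : w0 ^ (2 * m + 1) = 1 := by rw [← hm]; exact pow_orderOf_eq_one w0
  have hai : a⁻¹ = a := inv_eq_of_mul_eq_one_left ha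
  have hbi : b⁻¹ = b := inv_eq_of_mul_eq_one_left hb
  have hw0inv : w0⁻¹ = a * b * a * b := by
    rw [hw0]
    simp only [mul_inv_rev, hai, hbi]
    group
  have hbinv : b * w0 * b = w0⁻¹ := by
    rw [hw0inv, hw0]
    calc b * (b * (a * b * a)) * b = (b * b) * (a * b * a) * b := by group
      _ = a * b * a * b := by rw [hb, one_mul]
  have hainv : a * w0 * a = w0⁻¹ := by
    rw [hw0inv, hw0]
    calc a * (b * (a * b * a)) * a = a * b * a * b * (a * a) := by group
      _ = a * b * a * b := by rw [ha, mul_one]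
  refine ⟨w0 ^ (m + 1), Subgroup.npow_mem_zpowers w0 (m + 1), ?_, ?_⟩
  · have h2 := invol_conj_pow b w0 hb hbinv (m + 1)
    calc b * w0 ^ (m + 1) * (b * w0 ^ (m + 1)) = (b * w0 ^ (m + 1) * b) * w0 ^ (m + 1) := by group
      _ = 1 := by rw [h2, inv_mul_cancel]
  · have h2 := invol_conj_pow a w0 ha hainv (m + 1)
    have h1 : (w0 ^ (m + 1))⁻¹ = w0 ^ m := by
      rw [inv_eq_iff_mul_eq_one, ← pow_add]
      rw [show m + 1 + m = 2 * m + 1 by ring]; exact hwk
    -- a * (b * w) * a = b * w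
    have haba : a * b * a = b * w0 := by
      rw [hw0, ← mul_assoc b b, hb, one_mul]
    have h3 : a * (b * w0 ^ (m + 1)) * a = b * w0 ^ (m + 1) := by
      have e1 : a * (b * w0 ^ (m + 1)) * a = (a * b * a) * (a * w0 ^ (m + 1) * a) := by
        have : (a * b * a) * (a * w0 ^ (m + 1) * a) = a * b * (a * a) * w0 ^ (m + 1) * a := by group
        rw [this, ha, mul_one]; group
      rw [e1, h2, h1, haba, mul_assoc, ← pow_succ']
    have : a * (b * w0 ^ (m + 1)) * a * a = b * w0 ^ (m + 1) * a := by rw [h3]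
    rw [mul_assoc, ha, mul_one] at this
    exact this

end Cfsg.Agent.Lib.H21.Hall4
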