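import Mathlib
import Cfsg.Agent.Lib.H21.NormMax

/-!
# Subgroups containing a normal Hall subgroup with abelian complement are normal
-/

set_option autoImplicit false

namespace Cfsg.Agent.Lib.H21.NormMax

variable {G : Type*} [Group G]

/-- Let `P ⊴ B` with `|P|` prime to `|B : P|`, and suppose that the subgroups of `B` of order
prime to `|P|` are abelian.  Then every subgroup between `P` and `B` is normal in `B`. -/
theorem le_normalizer_of_normal_hall [Finite G] {P H B : Subgroup G}
    (hPB : P ≤ B) (hBN : B ≤ Subgroup.normalizer (P : Set G))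
    (hcop : (Nat.card P).Coprime (P.relIndex B))
    (hab : ∀ T : Subgroup G, T ≤ B → (Nat.card T).Coprime (Nat.card P) →
      ∀ a ∈ T, ∀ b ∈ T, a * b = b * a)
    (hPH : P ≤ H) (hHB : H ≤ B) : B ≤ Subgroup.normalizer (H : Set G) := by
  haveI : (P.subgroupOf B).Normal := (Subgroup.normal_subgroupOf_iff_le_normalizer hPB).mpr hBN
  have hcN : Nat.card (P.subgroupOf B) = Nat.card P :=
    Nat.card_congr (Subgroup.subgroupOfEquivOfLe hPB).toEquiv
  have hcop' : (Nat.card (P.subgroupOf B)).Coprime (P.subgroupOf B).index := by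
    rw [hcN]; exact hcop
  obtain ⟨T', hT'⟩ := Subgroup.exists_right_complement'_of_coprime hcop'
  have hcT' : Nat.card T' = P.relIndex B := (hT'.symm.index_eq_card).symm
  have hTB : T'.map B.subtype ≤ B := by
    rintro _ ⟨y, -, rfl⟩
    exact y.2
  have hcT : Nat.card (T'.map B.subtype) = Nat.card T' :=
    Subgroup.card_map_of_injective B.subtype_injective
  have hcomm := hab (T'.map B.subtype) hTB (by rw [hcT, hcT']; exact hcop.symm)
  intro b hb
  apply mem_normalizer_of_forall_conj_mem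
  intro x hx
  obtain ⟨⟨u, t⟩, hut⟩ := hT'.2 (⟨b, hb⟩ : B)
  obtain ⟨⟨v, s⟩, hvs⟩ := hT'.2 (⟨x, hHB hx⟩ : B)
  have hb' : b = (u : B) * (t : B) := by
    have := congrArg Subtype.val hut
    simpa using this.symm
  have hx' : x = (v : B) * (s : B) := by
    have := congrArg Subtype.val hvs
    simpa using this.symm
  have huP : ((u : B) : G) ∈ P := Subgroup.mem_subgroupOf.mp u.2
  have hvP : ((v : B) : G) ∈ P := Subgroup.mem_subgroupOf.mp v.2
  have htT : ((t : B) : G) ∈ T'.map B.subtype := ⟨t, t.2, rfl⟩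
  have hsT : ((s : B) : G) ∈ T'.map B.subtype := ⟨s, s.2, rfl⟩
  have hsH : ((s : B) : G) ∈ H := by
    have : ((s : B) : G) = ((v : B) : G)⁻¹ * x := by rw [hx']; group
    rw [this]
    exact H.mul_mem (H.inv_mem (hPH hvP)) hx
  have hw : ((t : B) : G) * ((v : B) : G) * ((t : B) : G)⁻¹ ∈ P :=
    (Subgroup.mem_normalizer_iff.mp (hBN (t : B).2) _).mp hvP
  have hts : ((t : B) : G) * ((s : B) : G) * ((t : B) : G)⁻¹ = ((s : B) : G) := by
    rw [hcomm _ htT _ hsT, mul_inv_cancel_right]
  have key : b * x * b⁻¹ = ((u : B) : G) * (((t : B) : G) * ((v : B) : G) * ((t : B) : G)⁻¹) *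
      (((t : B) : G) * ((s : B) : G) * ((t : B) : G)⁻¹) * ((u : B) : G)⁻¹ := by
    rw [hb', hx']; group
  rw [key, hts]
  exact H.mul_mem (H.mul_mem (H.mul_mem (hPH huP) (hPH hw)) hsH) (H.inv_mem (hPH huP))

end Cfsg.Agent.Lib.H21.NormMax
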