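import Mathlib
import Cfsg.Agent.Lib.H21.SplitAut
import Cfsg.Agent.Lib.H1.FpfAction

set_option autoImplicit false

namespace Cfsg.Agent.Lib.H21

open Cfsg.Agent.Lib.H1

variable {G : Type*} [Group G]

/-- Hughes-type hypothesis: every element outside the normal subgroup `H` has `p`-th power `1`. -/
structure HpHyp (p : ℕ) (H : Subgroup G) : Prop where
  normal : H.Normal
  pow : ∀ g : G, g ∉ H → g ^ p = 1

/-- an element outside `H` centralizes no nontrivial `p'`-element of `H` -/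
theorem HpHyp.fpf {p : ℕ} [hp : Fact p.Prime] {H : Subgroup G} (hH : HpHyp p H) {x k : G}
    (hx : x ∉ H) (hk : k ∈ H) (hcomm : x * k * x⁻¹ = k) (hko : (orderOf k).Coprime p) : k = 1 := by
  have hxk : x * k ∉ H := by
    intro hm
    apply hx
    have := H.mul_mem hm (H.inv_mem hk)
    rwa [mul_inv_cancel_right] at this
  have hc : Commute x k := by
    have : x * k = k * x := by
      calc x * k = x * k * x⁻¹ * x := by group
        _ = k * x := by rw [hcomm]
    exact this
  have h1 : (x * k) ^ p = 1 := hH.pow _ hxk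
  rw [hc.mul_pow, hH.pow x hx, one_mul] at h1
  have h2 : orderOf k ∣ p := orderOf_dvd_of_pow_eq_one h1
  have h3 : orderOf k ∣ Nat.gcd (orderOf k) p := Nat.dvd_gcd dvd_rfl h2
  rw [hko.gcd_eq_one, Nat.dvd_one] at h3
  exact orderOf_eq_one_iff.mp h3

/-- concrete fixed-point lemma -/
theorem HpHyp.fix [Finite G] {p : ℕ} [hp : Fact p.Prime] {H : Subgroup G} (hH : HpHyp p H)
    {Q P : Subgroup G} (hQH : Q ≤ H) (hQ : (Nat.card Q).Coprime p) (hQne : Q ≠ ⊥)
    (hP : IsPGroup p P) (hPQ : P ≤ Subgroup.normalizer (Q : Set G)) (hPH : ¬ P ≤ H) :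
    H ⊓ P ≤ Subgroup.centralizer (Q : Set G) ∧ (H.subgroupOf P).index = p := by
  haveI : Nontrivial Q := (Subgroup.nontrivial_iff_ne_bot Q).mpr hQne
  have hne : H.subgroupOf P ≠ ⊤ := by
    intro h
    rw [Subgroup.subgroupOf_eq_top] at h
    exact hPH h
  have hh : ∀ x : P, x ∉ H.subgroupOf P → x ^ p = 1 ∧
      ∀ k : Q, conjAutHom hPQ x k = k → k = 1 := by
    intro x hx
    have hxH : (x : G) ∉ H := fun hm => hx (Subgroup.mem_subgroupOf.mpr hm)
    refine ⟨?_, ?_⟩
    · apply Subtype.ext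
      rw [Subgroup.coe_pow, hH.pow _ hxH]; rfl
    · intro k hk
      have h1 : (x : G) * k * (x : G)⁻¹ = k := by
        rw [← conjAutHom_apply hPQ x k, hk]
      have hko : (orderOf (k : G)).Coprime p := by
        have h2 : orderOf (k : G) ∣ Nat.card Q := by
          rw [Subgroup.orderOf_coe]; exact orderOf_dvd_natCard k
        exact Nat.Coprime.coprime_dvd_left h2 hQ
      have := hH.fpf hxH (hQH k.2) h1 hko
      exact Subtype.ext this
  obtain ⟨h1, h2⟩ := fix_abs (conjAutHom hPQ) hP hQ (H.subgroupOf P) hne hh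
  refine ⟨?_, h2⟩
  rintro x ⟨hxH, hxP⟩
  have hx : (⟨x, hxP⟩ : P) ∈ (conjAutHom hPQ).ker := h1 (Subgroup.mem_subgroupOf.mpr hxH)
  rw [MonoidHom.mem_ker] at hx
  rw [Subgroup.mem_centralizer_iff]
  intro k hk
  have h3 := conjAutHom_apply hPQ ⟨x, hxP⟩ ⟨k, hk⟩
  rw [hx] at h3
  simp only [MulAut.one_apply] at h3
  -- h3 : k = x * k * x⁻¹
  calc k * x = x * k * x⁻¹ * x := by rw [← h3]
    _ = x * k := by group

/-- the quotient by `H` is a `p`-group -/
theorem HpHyp.isPGroup_quotient {p : ℕ} {H : Subgroup G} (hH : HpHyp p H) :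
    haveI := hH.normal
    IsPGroup p (G ⧸ H) := by
  haveI := hH.normal
  intro g
  obtain ⟨g', rfl⟩ := QuotientGroup.mk_surjective g
  refine ⟨1, ?_⟩
  rw [pow_one, ← QuotientGroup.mk_pow]
  by_cases hg : g' ∈ H
  · rw [QuotientGroup.eq_one_iff]; exact H.pow_mem hg p
  · rw [hH.pow g' hg]; rfl

/-- **Hughes–Thompson**: if `H` is proper and not a `p`-group then it has index `p`. -/
theorem HpHyp.index_eq [Finite G] {p : ℕ} [hp : Fact p.Prime] {H : Subgroup G} (hH : HpHyp p H)
    (hHtop : H ≠ ⊤) (q : ℕ) (hq : q.Prime) (hqp : q ≠ p) (hqH : q ∣ Nat.card H) :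
    H.index = p := by
  haveI := hH.normal
  haveI : Fact q.Prime := ⟨hq⟩
  have hpq : IsPGroup p (G ⧸ H) := hH.isPGroup_quotient
  obtain ⟨S⟩ : Nonempty (Sylow q H) := inferInstance
  set Q : Subgroup G := (S : Subgroup H).map H.subtype with hQdef
  have hQH : Q ≤ H := by
    rintro _ ⟨x, _, rfl⟩
    exact x.2
  have hQcard : Nat.card Q = Nat.card (S : Subgroup H) :=
    Subgroup.card_map_of_injective H.subtype_injective
  have hQne : Q ≠ ⊥ := by
    intro h
    have h1 : Nat.card Q = 1 := by rw [h, Subgroup.card_bot]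
    rw [hQcard, S.card_eq_multiplicity] at h1
    have h3 : 0 < (Nat.card H).factorization q :=
      hq.factorization_pos_of_dvd Nat.card_pos.ne' hqH
    have : 1 < q ^ (Nat.card H).factorization q := Nat.one_lt_pow h3.ne' hq.one_lt
    omega
  have hQcop : (Nat.card Q).Coprime p := by
    rw [hQcard, S.card_eq_multiplicity]
    exact Nat.Coprime.pow_left _ ((Nat.coprime_primes hq hp.out).mpr hqp)
  have hfrat : Subgroup.normalizer (Q : Set G) ⊔ H = ⊤ := Sylow.normalizer_sup_eq_top S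
  set N : Subgroup G := Subgroup.normalizer (Q : Set G) with hN
  let f : N →* G ⧸ H := (QuotientGroup.mk' H).comp N.subtype
  have hf : Function.Surjective f := by
    intro g
    obtain ⟨g', rfl⟩ := QuotientGroup.mk_surjective g
    have hg : g' ∈ N ⊔ H := hfrat ▸ Subgroup.mem_top g'
    obtain ⟨n, hn, h, hh, rfl⟩ := Subgroup.mem_sup_of_normal_right.mp hg
    refine ⟨⟨n, hn⟩, ?_⟩
    show (QuotientGroup.mk n : G ⧸ H) = QuotientGroup.mk (n * h)
    rw [QuotientGroup.eq]
    simpa using hh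
  obtain ⟨T⟩ : Nonempty (Sylow p N) := inferInstance
  have hTtop : ((T.mapSurjective hf : Sylow p (G ⧸ H)) : Subgroup (G ⧸ H)) = ⊤ := by
    apply Subgroup.eq_top_of_card_eq
    rw [Sylow.card_eq_multiplicity]
    obtain ⟨n, hn⟩ := IsPGroup.iff_card.mp hpq
    rw [hn, hp.out.factorization_pow]
    simp
  rw [Sylow.coe_mapSurjective] at hTtop
  set P : Subgroup G := (T : Subgroup N).map N.subtype with hPdef
  have hPN : P ≤ N := by
    rintro _ ⟨x, _, rfl⟩
    exact x.2
  have hPp : IsPGroup p P := T.2.map _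
  -- surjectivity of P → G ⧸ H
  have hPsurj : ∀ g : G ⧸ H, ∃ x ∈ P, (QuotientGroup.mk x : G ⧸ H) = g := by
    intro g
    have : g ∈ (T : Subgroup N).map f := hTtop ▸ Subgroup.mem_top g
    obtain ⟨t, ht, rfl⟩ := this
    exact ⟨t, ⟨t, ht, rfl⟩, rfl⟩
  have hPH : ¬ P ≤ H := by
    intro hle
    apply hHtop
    rw [eq_top_iff]
    intro g _
    obtain ⟨x, hx, hxg⟩ := hPsurj (QuotientGroup.mk g)
    have h1 : x⁻¹ * g ∈ H := QuotientGroup.eq.mp hxg
    have := H.mul_mem (hle hx) h1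
    rwa [mul_inv_cancel_left] at this
  obtain ⟨-, hidx⟩ := hH.fix hQH hQcop hQne hPp hPN hPH
  -- compare indices
  let g : P →* G ⧸ H := (QuotientGroup.mk' H).comp P.subtype
  have hgker : g.ker = H.subgroupOf P := by
    ext x
    rw [MonoidHom.mem_ker, Subgroup.mem_subgroupOf]
    show (QuotientGroup.mk (x : G) : G ⧸ H) = 1 ↔ _
    rw [QuotientGroup.eq_one_iff]
  have hgsurj : Function.Surjective g := by
    intro y
    obtain ⟨x, hx, hxy⟩ := hPsurj y
    exact ⟨⟨x, hx⟩, hxy⟩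
  have h1 : g.ker.index = Nat.card g.range := Subgroup.index_ker g
  rw [MonoidHom.range_eq_top.mpr hgsurj, Subgroup.card_top, hgker, hidx] at h1
  rw [Subgroup.index_eq_card, ← h1]

end Cfsg.Agent.Lib.H21
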