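/-
S2174 (architect helper12), piece CPART, part 1 (helper21): `F₄` in characteristic two: ranks of `y - 1` on the
52-dimensional module for `t = x_47`, `u = x_44`, `tu = x_47 x_44`, `v = x_39 x_45`: `≤ 16`, `≤ 16`, `= 21`, `≥ 24`
(certificates for helper6's generic checkers `Lib/H6/InvRank`; generated by a script adapted from tools/e6_h6).
-/
import Mathlib
import Cfsg.Prelude.Def_LieChev
import Cfsg.Agent.Lib.H6.InvRank
import Cfsg.Agent.Lib.H29.ChevCert13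

set_option autoImplicit false
set_option linter.unusedSectionVars false
set_option linter.unusedSimpArgs false
set_option linter.unusedVariables false

namespace Cfsg.Agent.Lib.H21.IC

open Cfsg.Lie Matrix Cfsg.Agent.Lib.H29.Chev Cfsg.Agent.Lib.H6.Inv

/-- the sparse matrix with the given columns -/
def smOfL (l : List SV) : SM := fun c => l.getD c []

def f4K_t : List SV := [[(0, 1)], [(1, 1)], [(2, 1)], [(10, 1)], [(14, 1)], [(16, 1)], [(17, 1)], [(18, 1)], [(21, 1)], [(23, 1)], [(24, 1)], [(26, 1)], [(28, 1)], [(29, 1)], [(30, 1)], [(31, 1)], [(32, 1)], [(33, 1)], [(34, 1)], [(35, 1)], [(36, 1)], [(37, 1)], [(38, 1)], [(39, 1)], [(40, 1)], [(41, 1)], [(42, 1)], [(43, 1)], [(44, 1)], [(45, 1)], [(46, 1)], [(47, 1)], [(48, 1)], [(49, 1)], [(50, 1)], [(51, 1)]]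

def f4PK_t : List (ℕ × ℕ) := [(0, 0), (1, 1), (2, 2), (10, 3), (14, 4), (16, 5), (17, 6), (18, 7), (21, 8), (23, 9), (24, 10), (26, 11), (28, 12), (29, 13), (30, 14), (31, 15), (32, 16), (33, 17), (34, 18), (35, 19), (36, 20), (37, 21), (38, 22), (39, 23), (40, 24), (41, 25), (42, 26), (43, 27), (44, 28), (45, 29), (46, 30), (47, 31), (48, 32), (49, 33), (50, 34), (51, 35)]

theorem f4K_t_bdd : chkBdd (fdF4.l + fdF4.n) (smOfL f4K_t) = true := by decide +kernel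
theorem f4PK_t_piv : chkPiv (fdF4.l + fdF4.n) f4PK_t = true := by decide +kernel
theorem f4K_t_zero : chkZero 2 (fdF4.l + fdF4.n) (nSM fdF4 [47] (smOfL f4K_t)) = true := by decide +kernel
theorem f4K_t_id : chkId 2 (smOfL f4K_t) f4PK_t = true := by decide +kernel

section
variable {F : Type*} [Field F] [CharP F 2]

theorem f4_rank_t_le : (([47].map fun r => chevF4.x F r 1).prod - 1).rank + 36 ≤ 52 :=
  rank_word_le 2 cert12_F4.c6.c2 [47] (by decide) (smOfL f4K_t) f4PK_t f4K_t_bdd f4PK_t_piv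
    f4K_t_zero f4K_t_id

end

def f4K_u : List SV := [[(1, 1)], [(2, 1)], [(3, 1)], [(19, 1)], [(20, 1)], [(21, 1)], [(22, 1)], [(23, 1)], [(24, 1)], [(25, 1)], [(26, 1)], [(27, 1)], [(28, 1)], [(29, 1)], [(30, 1)], [(31, 1)], [(32, 1)], [(33, 1)], [(34, 1)], [(35, 1)], [(36, 1)], [(37, 1)], [(38, 1)], [(39, 1)], [(40, 1)], [(41, 1)], [(42, 1)], [(43, 1)], [(44, 1)], [(45, 1)], [(46, 1)], [(47, 1)], [(48, 1)], [(49, 1)], [(50, 1)], [(51, 1)]]

def f4PK_u : List (ℕ × ℕ) := [(1, 0), (2, 1), (3, 2), (19, 3), (20, 4), (21, 5), (22, 6), (23, 7), (24, 8), (25, 9), (26, 10), (27, 11), (28, 12), (29, 13), (30, 14), (31, 15), (32, 16), (33, 17), (34, 18), (35, 19), (36, 20), (37, 21), (38, 22), (39, 23), (40, 24), (41, 25), (42, 26), (43, 27), (44, 28), (45, 29), (46, 30), (47, 31), (48, 32), (49, 33), (50, 34), (51, 35)]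

theorem f4K_u_bdd : chkBdd (fdF4.l + fdF4.n) (smOfL f4K_u) = true := by decide +kernel
theorem f4PK_u_piv : chkPiv (fdF4.l + fdF4.n) f4PK_u = true := by decide +kernel
theorem f4K_u_zero : chkZero 2 (fdF4.l + fdF4.n) (nSM fdF4 [44] (smOfL f4K_u)) = true := by decide +kernel
theorem f4K_u_id : chkId 2 (smOfL f4K_u) f4PK_u = true := by decide +kernel

section
variable {F : Type*} [Field F] [CharP F 2]

theorem f4_rank_u_le : (([44].map fun r => chevF4.x F r 1).prod - 1).rank + 36 ≤ 52 :=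
  rank_word_le 2 cert12_F4.c6.c2 [44] (by decide) (smOfL f4K_u) f4PK_u f4K_u_bdd f4PK_u_piv
    f4K_u_zero f4K_u_id

end

def f4K_tu : List SV := [[(1, 1)], [(2, 1)], [(21, 1)], [(0, 1), (22, 1)], [(23, 1)], [(24, 1)], [(26, 1)], [(28, 1)], [(29, 1)], [(30, 1)], [(31, 1)], [(32, 1)], [(33, 1)], [(34, 1)], [(35, 1)], [(36, 1)], [(37, 1)], [(38, 1)], [(39, 1)], [(40, 1)], [(41, 1)], [(42, 1)], [(43, 1)], [(44, 1)], [(45, 1)], [(46, 1)], [(47, 1)], [(48, 1)], [(49, 1)], [(50, 1)], [(51, 1)]]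

def f4PK_tu : List (ℕ × ℕ) := [(1, 0), (2, 1), (21, 2), (22, 3), (23, 4), (24, 5), (26, 6), (28, 7), (29, 8), (30, 9), (31, 10), (32, 11), (33, 12), (34, 13), (35, 14), (36, 15), (37, 16), (38, 17), (39, 18), (40, 19), (41, 20), (42, 21), (43, 22), (44, 23), (45, 24), (46, 25), (47, 26), (48, 27), (49, 28), (50, 29), (51, 30)]

theorem f4K_tu_bdd : chkBdd (fdF4.l + fdF4.n) (smOfL f4K_tu) = true := by decide +kernel
theorem f4PK_tu_piv : chkPiv (fdF4.l + fdF4.n) f4PK_tu = true := by decide +kernel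
theorem f4K_tu_zero : chkZero 2 (fdF4.l + fdF4.n) (nSM fdF4 [47, 44] (smOfL f4K_tu)) = true := by decide +kernel
theorem f4K_tu_id : chkId 2 (smOfL f4K_tu) f4PK_tu = true := by decide +kernel

def f4V_tu : List SV := [[(0, 1), (3, 1), (4, 1)], [(0, 1), (3, 1), (7, 1), (10, 1)], [(5, 1), (19, 1)], [(6, 1), (20, 1)], [(8, 1), (25, 1)], [(9, 1), (27, 1)], [(3, 1), (10, 1)], [(11, 1), (14, 1)], [(12, 1), (16, 1)], [(13, 1), (17, 1)], [(14, 1)], [(15, 1), (18, 1)], [(16, 1)], [(17, 1)], [(18, 1)], [(19, 1)], [(20, 1)], [(0, 1)], [(25, 1)], [(27, 1)], [(3, 1)]]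

def f4PV_tu : List (ℕ × ℕ) := [(0, 0), (1, 1), (23, 2), (24, 3), (31, 4), (32, 5), (33, 6), (37, 7), (38, 8), (39, 9), (40, 10), (41, 11), (42, 12), (43, 13), (44, 14), (46, 15), (47, 16), (48, 17), (49, 18), (50, 19), (51, 20)]

theorem f4V_tu_bdd : chkBdd (fdF4.l + fdF4.n) (smOfL f4V_tu) = true := by decide +kernel
theorem f4PV_tu_piv : chkPiv (fdF4.l + fdF4.n) f4PV_tu = true := by decide +kernel
theorem f4V_tu_id : chkId 2 (nSM fdF4 [47, 44] (smOfL f4V_tu)) f4PV_tu = true := by decide +kernel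

section
variable {F : Type*} [Field F] [CharP F 2]

theorem f4_rank_tu_le : (([47, 44].map fun r => chevF4.x F r 1).prod - 1).rank + 31 ≤ 52 :=
  rank_word_le 2 cert12_F4.c6.c2 [47, 44] (by decide) (smOfL f4K_tu) f4PK_tu f4K_tu_bdd f4PK_tu_piv
    f4K_tu_zero f4K_tu_id

theorem f4_le_rank_tu : 21 ≤ (([47, 44].map fun r => chevF4.x F r 1).prod - 1).rank :=
  le_rank_word 2 cert12_F4.c6.c2 [47, 44] (by decide) (smOfL f4V_tu) f4PV_tu f4V_tu_bdd f4PV_tu_piv
    f4V_tu_id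

end

def f4V_v : List SV := [[(1, 1), (12, 1)], [(2, 1), (6, 1), (12, 1)], [(4, 1), (25, 1)], [(5, 1), (26, 1)], [(7, 1), (17, 1)], [(8, 1)], [(11, 1), (24, 1)], [(15, 1)], [(16, 1)], [(9, 1)], [(10, 1)], [(19, 1)], [(22, 1)], [(23, 1)], [(13, 1)], [(14, 1)], [(1, 1)], [(17, 1)], [(20, 1)], [(21, 1)], [(24, 1)], [(1, 1), (2, 1)], [(13, 1), (25, 1)], [(14, 1), (26, 1)]]

def f4PV_v : List (ℕ × ℕ) := [(0, 0), (3, 1), (13, 2), (14, 3), (17, 4), (18, 5), (24, 6), (32, 7), (33, 8), (34, 9), (35, 10), (37, 11), (39, 12), (40, 13), (41, 14), (42, 15), (43, 16), (44, 17), (45, 18), (46, 19), (48, 20), (49, 21), (50, 22), (51, 23)]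

theorem f4V_v_bdd : chkBdd (fdF4.l + fdF4.n) (smOfL f4V_v) = true := by decide +kernel
theorem f4PV_v_piv : chkPiv (fdF4.l + fdF4.n) f4PV_v = true := by decide +kernel
theorem f4V_v_id : chkId 2 (nSM fdF4 [39, 45] (smOfL f4V_v)) f4PV_v = true := by decide +kernel

section
variable {F : Type*} [Field F] [CharP F 2]

theorem f4_le_rank_v : 24 ≤ (([39, 45].map fun r => chevF4.x F r 1).prod - 1).rank :=
  le_rank_word 2 cert12_F4.c6.c2 [39, 45] (by decide) (smOfL f4V_v) f4PV_v f4V_v_bdd f4PV_v_piv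
    f4V_v_id

end

end Cfsg.Agent.Lib.H21.IC
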