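/-
S2174 (architect helper12), piece CPART (helper21): `F₄` in characteristic two: the four involutions `t = x_47(1)`,
`u = x_44(1)`, `tu`, `v = x_39(1) x_45(1)` are pairwise non-conjugate.
Five of the six pairs are separated by the rank of `y - 1` on the 52-dimensional module (`16, 16, 21, 24`; certificates
in `Lib/H21/ICF4Rank`, checked by helper6's generic `Lib/H6/InvRank`); `t` and `u` (long and short root element) have
the same rank and are separated by the Bruhat canonical form: both are central in `U`, so a conjugating element may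
be taken in `N`, and `N` preserves root lengths.
-/
import Mathlib
import Cfsg.Prelude.Def_LieExceptional
import Cfsg.Agent.Lib.H12.F4CentV7
import Cfsg.Agent.Lib.H29.F4Inv3
import Cfsg.Agent.Lib.H29.ChevDiagOrd
import Cfsg.Agent.Lib.H21.ICF4Rank

set_option autoImplicit false
set_option linter.unusedSectionVars false
set_option linter.unusedSimpArgs false
set_option linter.unusedVariables false

namespace Cfsg.Agent.Lib.H21.IC

open Cfsg Cfsg.Lie Matrix Cfsg.Agent.Lib.H29.Chev Cfsg.Agent.Lib.H12.F4V Cfsg.Agent.Lib.H6.Inv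

section F4

variable {F : Type*} [Field F] [CharP F 2]

/-- conjugacy in the group -/
def ConjF4 (x y : GL chevF4.Idx F) : Prop := ∃ h ∈ chevF4.group F, h * x * h⁻¹ = y

/-- the matrix of a product of root elements with parameter one -/
theorem val_prod_fX (L : List ℕ) :
    (((L.map fun r => fX r (1 : F)).prod : GL chevF4.Idx F) : Matrix chevF4.Idx chevF4.Idx F) =
      (L.map fun r => chevF4.x F r 1).prod := by
  induction L with
  | nil => simp
  | cons r L ih =>
    rw [List.map_cons, List.prod_cons, Units.val_mul, ih, List.map_cons, List.prod_cons]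
    congr 1
    exact cert12_F4.c6.c2.xA_val r 1

/-- conjugate products of root elements have the same rank of `y - 1` -/
theorem rank_eq_of_conj (L L' : List ℕ)
    (h : ConjF4 ((L.map fun r => fX r (1 : F)).prod) ((L'.map fun r => fX r (1 : F)).prod)) :
    ((L.map fun r => chevF4.x F r 1).prod - 1).rank = ((L'.map fun r => chevF4.x F r 1).prod - 1).rank := by
  obtain ⟨g, _, hg⟩ := h
  rw [← val_prod_fX L, ← val_prod_fX L', ← hg, rank_sub_one_conj]

theorem l47 : ([47].map fun r => fX r (1 : F)).prod = fX 47 (1 : F) := by simp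
theorem l44 : ([44].map fun r => fX r (1 : F)).prod = fX 44 (1 : F) := by simp
theorem l4744 : ([47, 44].map fun r => fX r (1 : F)).prod = fX 47 (1 : F) * fX 44 1 := by simp
theorem l3945 : ([39, 45].map fun r => fX r (1 : F)).prod = fX 39 (1 : F) * fX 45 1 := by simp

/-- a long and a short root element, both central in `U`, are not conjugate -/
theorem not_conj_t_u : ¬ ConjF4 (fX 47 (1 : F)) (fX 44 1) := by
  rintro ⟨g, hgG, hg⟩
  have hn := f4_n
  have hUc47 : ∀ t : F, ∀ u ∈ chevF4.posUnipotent F, Commute u (fX 47 t) := fun t =>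
    pos_commute 47 (by omega) (fun s h1 h2 => (f4_central_tbl s h1 h2).1) t
  have hUc44 : ∀ t : F, ∀ u ∈ chevF4.posUnipotent F, Commute u (fX 44 t) := fun t =>
    pos_commute 44 (by omega) (fun s h1 h2 => (f4_central_tbl s h1 h2).2) t
  obtain ⟨b, hb, n, hn', u, hu, rfl⟩ := cert12_F4.c6.canonical_form.1 g hgG
  obtain ⟨u₀, hu₀, h, hh, rfl⟩ := cert12_F4.c6.c2.borel_mem b hb
  have huU := _root_.Cfsg.Agent.Lib.H29.Chev.Uw_le_pos n hu
  have hHN : chevF4.diagonalSubgroup F ≤ chevF4.monomialSubgroup F := le_sup_left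
  have hm : h * n ∈ chevF4.monomialSubgroup F := mul_mem (hHN hh) hn'
  -- the monomial part conjugates `x_47(1)` to `x_44(1)`
  have hmc : h * n * fX 47 (1 : F) * (h * n)⁻¹ = fX 44 1 := by
    have e1 : u * fX 47 (1 : F) * u⁻¹ = fX 47 1 := by
      rw [(hUc47 1 u huU).eq]
      group
    have e2 : u₀⁻¹ * fX 44 (1 : F) * u₀ = fX 44 1 := by
      rw [mul_assoc, ← (hUc44 1 u₀ hu₀).eq]
      group
    calc h * n * fX 47 (1 : F) * (h * n)⁻¹
        = h * n * (u * fX 47 (1 : F) * u⁻¹) * (h * n)⁻¹ := by rw [e1]
      _ = u₀⁻¹ * (u₀ * h * n * u * fX 47 (1 : F) * (u₀ * h * n * u)⁻¹) * u₀ := by group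
      _ = u₀⁻¹ * fX 44 (1 : F) * u₀ := by rw [hg]
      _ = fX 44 1 := e2
  obtain ⟨⟨π, hπ⟩, _⟩ := cert12_F4.c6.perm_of_mem (h * n) hm
  set L : List (ℕ × F) := [(47, 1)] with hLdef
  have hLz : H12.F4V.lp cert12_F4 L = fX 47 (1 : F) := by
    simp [H12.F4V.lp, hLdef]
  have hLpos : ∀ p ∈ L, p.1 < fdF4.n ∧ fdF4.n / 2 ≤ p.1 := by
    intro p hp
    simp only [hLdef, List.mem_cons, List.mem_nil_iff, or_false] at hp
    rcases hp with rfl
    simp [hn]
  have hLnd : (L.map Prod.fst).Nodup := by simp [hLdef]
  have hLc : PComm cert12_F4 L := by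
    apply pcomm_of [47] (by decide +kernel)
    intro p hp
    simp only [hLdef, List.mem_cons, List.mem_nil_iff, or_false] at hp
    rcases hp with rfl
    simp
  have hconj : h * n * H12.F4V.lp cert12_F4 L * (h * n)⁻¹ = fX 44 (1 : F) := by
    rw [hLz, hmc]
  have h44U : fX 44 (1 : F) ∈ chevF4.posUnipotent F := by
    have := lp_mem_pos cert12_F4 [((44 : ℕ), (1 : F))] (by
      intro p hp _
      simp only [List.mem_cons, List.mem_nil_iff, or_false] at hp
      rcases hp with rfl
      simp [hn])
    simpa [H12.F4V.lp] using this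
  have hpos := support_pos cert12_F4 hπ L hLpos hLnd hLc (by rw [hconj]; exact h44U)
  have hp47 : fdF4.n / 2 ≤ π 47 := hpos (47, 1) (by simp [hLdef]) one_ne_zero
  rw [hn] at hp47
  have hlt47 : π 47 < 48 := by
    have := (hπ 47 (by omega)).1
    omega
  have hs47 := perm_short hm hπ 47 (by omega) false (by decide)
  have hne : π 47 ≠ 44 := by
    intro e
    rw [e] at hs47
    revert hs47
    decide
  have e1 := conj_lp cert12_F4 hπ L (fun p hp => (hLpos p hp).1)
  rw [hconj] at e1
  simp only [hLdef, List.map_cons, List.map_nil, H12.F4V.lp, List.prod_cons, List.prod_nil, mul_one] at e1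
  have e2 := cert12_F4.list_prod_eq_one
    [(π 47, pc cert12_F4 hπ 47), (44, (-1 : F))]
    (by
      intro p hp
      simp only [List.mem_cons, List.mem_nil_iff, or_false] at hp
      rcases hp with rfl | rfl
      · simp only [hn]
        omega
      · simp [hn])
    (by
      simp only [List.map_cons, List.map_nil, List.nodup_cons, List.mem_cons, List.mem_nil_iff, or_false,
        not_false_eq_true, List.nodup_nil, and_true]
      exact hne)
    (by
      simp only [List.map_cons, List.map_nil, List.prod_cons, List.prod_nil, mul_one]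
      rw [← e1]
      show cert12_F4.c6.c2.xA 44 (1 : F) * cert12_F4.c6.c2.xA 44 (-1 : F) = 1
      rw [cert12_F4.c6.c2.xA_mul, add_neg_cancel, cert12_F4.c6.c2.xA_zero])
  have := e2 (44, -1) (by simp)
  simp only at this
  exact one_ne_zero (neg_eq_zero.mp this)

/-- **CPART** (part (c) of S2174): the four representatives are pairwise non-conjugate. -/
theorem not_conj_F4 :
    ¬ ConjF4 (fX 47 (1 : F)) (fX 44 1) ∧ ¬ ConjF4 (fX 47 (1 : F)) (fX 47 1 * fX 44 1) ∧
    ¬ ConjF4 (fX 47 (1 : F)) (fX 39 1 * fX 45 1) ∧ ¬ ConjF4 (fX 44 (1 : F)) (fX 47 1 * fX 44 1) ∧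
    ¬ ConjF4 (fX 44 (1 : F)) (fX 39 1 * fX 45 1) ∧ ¬ ConjF4 (fX 47 (1 : F) * fX 44 1) (fX 39 1 * fX 45 1) := by
  have r1 := f4_rank_t_le (F := F)
  have r2 := f4_rank_u_le (F := F)
  have r3 := f4_le_rank_tu (F := F)
  have r4 := f4_rank_tu_le (F := F)
  have r5 := f4_le_rank_v (F := F)
  refine ⟨not_conj_t_u, ?_, ?_, ?_, ?_, ?_⟩
  · intro h
    have h' : ConjF4 (([47].map fun r => fX r (1 : F)).prod) (([47, 44].map fun r => fX r (1 : F)).prod) := by
      rw [l47, l4744]
      exact h
    have := rank_eq_of_conj [47] [47, 44] h'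
    omega
  · intro h
    have h' : ConjF4 (([47].map fun r => fX r (1 : F)).prod) (([39, 45].map fun r => fX r (1 : F)).prod) := by
      rw [l47, l3945]
      exact h
    have := rank_eq_of_conj [47] [39, 45] h'
    omega
  · intro h
    have h' : ConjF4 (([44].map fun r => fX r (1 : F)).prod) (([47, 44].map fun r => fX r (1 : F)).prod) := by
      rw [l44, l4744]
      exact h
    have := rank_eq_of_conj [44] [47, 44] h'
    omega
  · intro h
    have h' : ConjF4 (([44].map fun r => fX r (1 : F)).prod) (([39, 45].map fun r => fX r (1 : F)).prod) := by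
      rw [l44, l3945]
      exact h
    have := rank_eq_of_conj [44] [39, 45] h'
    omega
  · intro h
    have h' : ConjF4 (([47, 44].map fun r => fX r (1 : F)).prod) (([39, 45].map fun r => fX r (1 : F)).prod) := by
      rw [l4744, l3945]
      exact h
    have := rank_eq_of_conj [47, 44] [39, 45] h'
    omega

end F4

end Cfsg.Agent.Lib.H21.IC
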