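import Mathlib
import Cfsg.Agent.Lib.H1.ZStar
import Cfsg.Agent.Lib.H1.CoprimeSylow
import Cfsg.Agent.Lib.H1.IndexBasic
import Cfsg.Agent.Lib.H22.PPrimeCore
import Cfsg.Agent.Lib.H21.HSubF

/-! A class of involutions whose pairwise products are `p`-elements (`p` odd) generates a group
with derived subgroup a `p`-group (helper21). Uses Glauberman's `Z*`-theorem (helper1). -/

set_option autoImplicit false

namespace Cfsg.Agent.Lib.H21.InvProd

open Cfsg.Agent.Lib.H1 Cfsg.Agent.Lib.H22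

universe u

variable {G : Type u} [Group G] [Finite G]

/-- Core lemma: `N` normal of odd order, `d` an involution such that `d * (n d n⁻¹)` is a
`p`-element for all `n ∈ N`. Then some Sylow `p`-subgroup `P` of `N` normalized by `d` satisfies
`d * (n d n⁻¹) ∈ P` for all `n ∈ N`. -/
theorem exists_pGroup_of_inverted {p : ℕ} [hp : Fact p.Prime] {N : Subgroup G} (hNn : N.Normal)
    (hNodd : (Nat.card N).Coprime 2) {d : G} (hd : orderOf d = 2)
    (hprod : ∀ n ∈ N, ∃ k : ℕ, orderOf (d * (n * d * n⁻¹)) = p ^ k) :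
    ∃ P : Subgroup G, IsPGroup p P ∧ ∀ n ∈ N, d * (n * d * n⁻¹) ∈ P := by
  have hdd : d * d = 1 := by rw [← sq, ← hd]; exact pow_orderOf_eq_one d
  have hdinv : d⁻¹ = d := inv_eq_of_mul_eq_one_left hdd
  obtain ⟨A, hA⟩ : ∃ A, A = Subgroup.zpowers d := ⟨_, rfl⟩
  have hdA : d ∈ A := hA ▸ Subgroup.mem_zpowers d
  have hcardA : Nat.card A = 2 := by rw [hA, Nat.card_zpowers, hd]
  have hact : CoprimeAction A N := by
    have h1 : A ≤ Subgroup.normalizer (N : Set G) := by
      rw [Subgroup.normalizer_eq_top_iff.mpr hNn]; exact le_top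
    have h2 : (Nat.card A).Coprime (Nat.card N) := hcardA ▸ hNodd.symm
    have h3 : Group.IsSolvable A := by
      subst hA; infer_instance
    exact ⟨h1, h2, Or.inl h3⟩
  obtain ⟨C, hC⟩ : ∃ C, C = N ⊓ Subgroup.centralizer ({d} : Set G) := ⟨_, rfl⟩
  have hCN : C ≤ N := hC ▸ inf_le_left
  have hmemC : ∀ x, x ∈ C ↔ x ∈ N ∧ x * d = d * x := by
    intro x
    rw [hC, Subgroup.mem_inf, Subgroup.mem_centralizer_singleton_iff]
  -- the commutator with `d` of an element of `N` normalizing... lies where expected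
  have hcomm_eq : ∀ u : G, d * u * d⁻¹ * u⁻¹ = d * (u * d * u⁻¹) := by
    intro u; rw [hdinv]; group
  -- (i) for `q ≠ p`, `d` centralizes a Sylow `q`-subgroup of `N`
  have hq : ∀ q : ℕ, q.Prime → q ≠ p → ¬ q ∣ C.relIndex N := by
    intro q hqp hqne
    haveI : Fact q.Prime := ⟨hqp⟩
    obtain ⟨Q, hQ, hQA⟩ := coprime_exists_invariant_sylow hact q
    have hQC : Q ≤ C := by
      intro u hu
      rw [hmemC]
      refine ⟨hQ.le hu, ?_⟩
      have hdQ := hQA hdA
      have h1 : d * u * d⁻¹ ∈ Q := (Subgroup.mem_normalizer_iff.mp hdQ u).mp hu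
      have h2 : d * u * d⁻¹ * u⁻¹ ∈ Q := Q.mul_mem h1 (Q.inv_mem hu)
      obtain ⟨k, hk⟩ := hprod u (hQ.le hu)
      rw [← hcomm_eq] at hk
      obtain ⟨j, hj⟩ := (IsPGroup.iff_orderOf.mp hQ.isPGroup) ⟨_, h2⟩
      rw [Subgroup.orderOf_mk, hk] at hj
      have hk0 : k = 0 := by
        by_contra hk0
        have h3 : p ∣ q ^ j := hj ▸ dvd_pow_self p hk0
        have h4 : p ∣ q := hp.out.dvd_of_dvd_pow h3
        exact hqne ((Nat.prime_dvd_prime_iff_eq hp.out hqp).mp h4).symm
      rw [hk0, pow_zero, orderOf_eq_one_iff] at hk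
      calc u * d = (d * u * d⁻¹ * u⁻¹)⁻¹ * (d * u) := by group
        _ = d * u := by rw [hk, inv_one, one_mul]
    intro hdvd
    have h1 := card_mul_relIndex_of_le hCN
    have h2 : Nat.card Q ∣ Nat.card C := Subgroup.card_dvd_of_le hQC
    rw [hQ.card_eq] at h2
    have hCpos : Nat.card C ≠ 0 := Nat.card_pos.ne'
    have hRpos : C.relIndex N ≠ 0 := by
      intro h0
      rw [h0, mul_zero] at h1
      exact Nat.card_pos.ne' h1.symm
    have h3 := (Nat.Prime.pow_dvd_iff_le_factorization hqp hCpos).mp h2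
    have h4 : (Nat.card N).factorization q =
        (Nat.card C).factorization q + (C.relIndex N).factorization q := by
      rw [← h1, Nat.factorization_mul hCpos hRpos]; rfl
    have h5 : 1 ≤ (C.relIndex N).factorization q :=
      (Nat.Prime.dvd_iff_one_le_factorization hqp hRpos).mp hdvd
    omega
  -- (ii) the index of `C` in `N` is a power of `p`
  have hRpos : C.relIndex N ≠ 0 := by
    intro h0
    have h1 := card_mul_relIndex_of_le hCN
    rw [h0, mul_zero] at h1
    exact Nat.card_pos.ne' h1.symm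
  have hidxC : ∃ a : ℕ, C.relIndex N = p ^ a := by
    refine ⟨_, Nat.eq_prime_pow_of_unique_prime_dvd hRpos ?_⟩
    intro q hqp hqd
    by_contra hne
    exact hq q hqp hne hqd
  -- (iii) a `d`-invariant Sylow `p`-subgroup
  obtain ⟨P, hP, hPA⟩ := coprime_exists_invariant_sylow hact p
  have hidxP : ¬ p ∣ P.relIndex N := by
    have h1 := card_mul_relIndex_of_le hP.le
    rw [hP.card_eq] at h1
    have h2 : P.relIndex N = Nat.card N / p ^ (Nat.card N).factorization p :=
      (Nat.div_eq_of_eq_mul_right (pow_pos hp.out.pos _) h1.symm).symm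
    rw [h2]
    exact Nat.not_dvd_ordCompl hp.out Nat.card_pos.ne'
  obtain ⟨a, ha⟩ := hidxC
  have hcop : (P.subgroupOf N).index.Coprime (C.subgroupOf N).index := by
    show (P.relIndex N).Coprime (C.relIndex N)
    rw [ha]
    exact ((Nat.Prime.coprime_iff_not_dvd hp.out).mpr hidxP).symm.pow_right a
  refine ⟨P, hP.isPGroup, ?_⟩
  intro n hn
  obtain ⟨x, hx, y, hy, hxy⟩ := exists_mul_of_coprime_index hcop ⟨n, hn⟩
  have hxP : (x : G) ∈ P := Subgroup.mem_subgroupOf.mp hx
  have hyC : (y : G) ∈ C := Subgroup.mem_subgroupOf.mp hy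
  have hn' : n = (x : G) * (y : G) := by
    have := congrArg Subtype.val hxy
    simpa using this
  have hyd : (y : G) * d = d * (y : G) := ((hmemC _).mp hyC).2
  have h1 : n * d * n⁻¹ = (x : G) * d * (x : G)⁻¹ := by
    rw [hn']
    calc (x : G) * y * d * ((x : G) * y)⁻¹ = (x : G) * ((y : G) * d) * (y : G)⁻¹ * (x : G)⁻¹ := by
          group
      _ = (x : G) * (d * (y : G)) * (y : G)⁻¹ * (x : G)⁻¹ := by rw [hyd]
      _ = (x : G) * d * (x : G)⁻¹ := by group
  rw [h1, ← hcomm_eq]
  have hdP := hPA hdA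
  have h2 : d * (x : G) * d⁻¹ ∈ P := (Subgroup.mem_normalizer_iff.mp hdP _).mp hxP
  exact P.mul_mem h2 (P.inv_mem hxP)

end Cfsg.Agent.Lib.H21.InvProd
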