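import Mathlib
import Cfsg.Prelude.Def_IsolatedElements
import Cfsg.Prelude.Def_Local
import Cfsg.Agent.Lib.H15.Isolated
import Cfsg.Agent.Lib.H7.CoreComp
import Cfsg.Agent.Lib.H1.PCore

/-!
# Isolated elements of order `p` in groups of `p`-rank at most two (helper21 library, part A)

General lemmas: conjugates of isolated elements, isolated elements centralize the `p`-subgroups
they normalize, the rank lemma, and `p`-elements of a component outside its centralizer.
-/

set_option autoImplicit false

namespace Cfsg.Agent.Lib.H21.IsoRk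

open Cfsg

variable {G : Type*} [Group G]

theorem isIsolated_conj {x : G} (hiso : IsIsolated x) (g : G) : IsIsolated (g * x * g⁻¹) := by
  intro h hc
  have h1 : Commute x ((g⁻¹ * h * g) * x * (g⁻¹ * h * g)⁻¹) := by
    have h0 := (Commute.conj_iff g⁻¹).2 hc
    have e1 : g⁻¹ * (g * x * g⁻¹) * g⁻¹⁻¹ = x := by group
    have e2 : g⁻¹ * (h * (g * x * g⁻¹) * h⁻¹) * g⁻¹⁻¹
        = (g⁻¹ * h * g) * x * (g⁻¹ * h * g)⁻¹ := by group
    rwa [e1, e2] at h0
  have h2 := hiso _ h1
  calc h * (g * x * g⁻¹) * h⁻¹ = g * ((g⁻¹ * h * g) * x * (g⁻¹ * h * g)⁻¹) * g⁻¹ := by group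
    _ = g * x * g⁻¹ := by rw [h2]

theorem orderOf_conj' (g x : G) : orderOf (g * x * g⁻¹) = orderOf x := by
  have : g * x * g⁻¹ = MulAut.conj g x := by simp
  rw [this]
  exact MulEquiv.orderOf_eq (MulAut.conj g) x

theorem isPGroup_zpowers_of_orderOf_eq [Finite G] {p : ℕ} [Fact p.Prime] {x : G}
    (hx : orderOf x = p) :
    IsPGroup p ↥(Subgroup.zpowers x) :=
  Cfsg.Agent.Lib.H15.isPGroup_zpowers_of_orderOf ⟨1, by rw [hx, pow_one]⟩

/-- An isolated element of order `p` centralizes every `p`-subgroup it normalizes. -/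
theorem isolated_centralizes [Finite G] {p : ℕ} [Fact p.Prime] {x : G} (hx : orderOf x = p)
    (hiso : IsIsolated x) {Q : Subgroup G} (hQ : IsPGroup p Q)
    (hxQ : x ∈ Subgroup.normalizer (Q : Set G)) :
    Q ≤ Subgroup.centralizer ({x} : Set G) := by
  have hz : IsPGroup p (Subgroup.zpowers x) := isPGroup_zpowers_of_orderOf_eq hx
  have hT : IsPGroup p (Subgroup.zpowers x ⊔ Q : Subgroup G) :=
    hz.to_sup_of_normal_right' hQ (by rw [Subgroup.zpowers_le]; exact hxQ)
  have hxT : x ∈ Subgroup.zpowers x ⊔ Q :=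
    (le_sup_left : Subgroup.zpowers x ≤ Subgroup.zpowers x ⊔ Q) (Subgroup.mem_zpowers x)
  have := Cfsg.Agent.Lib.H15.isolated_central hiso hT hxT
  exact le_sup_right.trans this

/-- The subgroup generated by commuting elements of order dividing `p` is elementary abelian. -/
theorem elemAb_closure {p : ℕ} {S : Set G} (hS : ∀ y ∈ S, y ^ p = 1)
    (hSS : ∀ x ∈ S, ∀ y ∈ S, x * y = y * x) :
    IsMulCommutative (Subgroup.closure S) ∧ ∀ b ∈ Subgroup.closure S, b ^ p = 1 := by
  have hBc : IsMulCommutative (Subgroup.closure S) := Subgroup.isMulCommutative_closure hSS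
  refine ⟨hBc, ?_⟩
  intro b hb
  induction hb using Subgroup.closure_induction with
  | mem x hx => exact hS x hx
  | one => exact one_pow _
  | mul x y hx hy hx' hy' =>
    have hc : Commute x y := congrArg Subtype.val
      (hBc.is_comm.comm (⟨x, hx⟩ : Subgroup.closure S) ⟨y, hy⟩)
    rw [hc.mul_pow, hx', hy', one_mul]
  | inv x _ hx => rw [inv_pow, hx, inv_one]

/-- The rank lemma: in a group of `p`-rank at most two, three pairwise commuting elements of
order dividing `p`, the first two independent, generate the same as the first two. -/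
theorem mem_closure_pair_of_rank [Finite G] {p : ℕ} [hp : Fact p.Prime] (hrank : PRankLE p 2 G)
    {a b c : G} (ha : orderOf a = p) (hb : b ^ p = 1) (hc : c ^ p = 1) (hab : Commute a b)
    (hac : Commute a c) (hbc : Commute b c) (hba : b ∉ Subgroup.zpowers a) :
    c ∈ Subgroup.closure ({a, b} : Set G) := by
  have hap : a ^ p = 1 := by rw [← ha]; exact pow_orderOf_eq_one a
  have hS : ∀ y ∈ ({a, b, c} : Set G), y ^ p = 1 := by
    intro y hy
    simp only [Set.mem_insert_iff, Set.mem_singleton_iff] at hy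
    rcases hy with rfl | rfl | rfl
    · exact hap
    · exact hb
    · exact hc
  have hSS : ∀ u ∈ ({a, b, c} : Set G), ∀ v ∈ ({a, b, c} : Set G), u * v = v * u := by
    intro u hu v hv
    simp only [Set.mem_insert_iff, Set.mem_singleton_iff] at hu hv
    rcases hu with rfl | rfl | rfl <;> rcases hv with rfl | rfl | rfl
    · rfl
    · exact hab.eq
    · exact hac.eq
    · exact hab.eq.symm
    · rfl
    · exact hbc.eq
    · exact hac.eq.symm
    · exact hbc.eq.symm
    · rfl
  obtain ⟨hAc, hAe⟩ := elemAb_closure hS hSS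
  set A := Subgroup.closure ({a, b, c} : Set G) with hA
  set B := Subgroup.closure ({a, b} : Set G) with hB
  have hBA : B ≤ A := Subgroup.closure_mono (by
    intro y hy
    simp only [Set.mem_insert_iff, Set.mem_singleton_iff] at hy ⊢
    rcases hy with rfl | rfl
    · exact Or.inl rfl
    · exact Or.inr (Or.inl rfl))
  have hAcard : Nat.card A ≤ p ^ 2 := hrank A hAc hAe
  have hAp : IsPGroup p A := by
    intro g
    refine ⟨1, ?_⟩
    apply Subtype.ext
    rw [pow_one, Subgroup.coe_pow, hAe g.1 g.2]; rfl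
  have hBp : IsPGroup p B := hAp.to_le hBA
  have haB : a ∈ B := Subgroup.subset_closure (by simp)
  have hbB : b ∈ B := Subgroup.subset_closure (by simp)
  have hzB : Subgroup.zpowers a ≤ B := (Subgroup.zpowers_le).2 haB
  obtain ⟨k, hk⟩ := IsPGroup.iff_card.1 hBp
  have hzc : Nat.card (Subgroup.zpowers a) = p := by rw [Nat.card_zpowers, ha]
  have hdvd : p ∣ p ^ k := by
    rw [← hk]
    have := Subgroup.card_dvd_of_le hzB
    rwa [hzc] at this
  have hk2 : 2 ≤ k := by
    by_contra hlt
    have hk1 : k ≤ 1 := by omega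
    have hle : Nat.card B ≤ Nat.card (Subgroup.zpowers a) := by
      rw [hk, hzc]
      calc p ^ k ≤ p ^ 1 := Nat.pow_le_pow_right hp.out.pos hk1
        _ = p := pow_one p
    have heq : Subgroup.zpowers a = B := Subgroup.eq_of_le_of_card_ge hzB hle
    exact hba (heq ▸ hbB)
  have hBge : Nat.card A ≤ Nat.card B := by
    rw [hk]
    exact hAcard.trans (Nat.pow_le_pow_right hp.out.pos hk2)
  have hEq : B = A := Subgroup.eq_of_le_of_card_ge hBA hBge
  rw [hEq]
  exact Subgroup.subset_closure (by simp)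

/-- `N_G(L)` normalizes `C_G(L)`. -/
theorem conj_mem_centralizer_of_mem_normalizer {L : Subgroup G} {z x : G}
    (hz : z ∈ Subgroup.normalizer (L : Set G))
    (hx : z * x * z⁻¹ ∈ Subgroup.centralizer (L : Set G)) :
    x ∈ Subgroup.centralizer (L : Set G) := by
  rw [Subgroup.mem_centralizer_iff] at hx ⊢
  intro l hl
  have h1 : z * l * z⁻¹ ∈ L := (Subgroup.mem_normalizer_iff.1 hz l).1 hl
  have h2 := hx _ h1
  have h3 : z * (l * x) * z⁻¹ = z * (x * l) * z⁻¹ := by
    calc z * (l * x) * z⁻¹ = z * l * z⁻¹ * (z * x * z⁻¹) := by group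
      _ = z * x * z⁻¹ * (z * l * z⁻¹) := h2
      _ = z * (x * l) * z⁻¹ := by group
  have h4 : z * (l * x) = z * (x * l) := mul_right_cancel h3
  exact mul_left_cancel h4

section Component

variable [Finite G] {p : ℕ} [Fact p.Prime]

/-- A Sylow `p`-subgroup meets every component outside the centralizer of the component, when
`O_{p'}(G) = 1`. -/
theorem exists_mem_sylow_component_not_mem_centralizer (hO : pPrimeCore p G = ⊥)
    {L : Subgroup G} (hL : IsComponent L) (P : Sylow p G) :
    ∃ y, y ∈ (P : Subgroup G) ∧ y ∈ L ∧ y ∉ Subgroup.centralizer (L : Set G) := by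
  have hp : p.Prime := Fact.out
  by_contra hcon
  push Not at hcon
  have h2 : ¬ p ∣ (P : Subgroup G).relIndex L :=
    Cfsg.Agent.Lib.H3.not_dvd_relIndex_of_isSubnormal (P : Subgroup G) hL.1 P.not_dvd_index
  have h3 : IsPGroup p (Subgroup.center ↥L) :=
    Cfsg.Agent.Lib.H9.center_isPGroup_of_subnormal p hO L hL.1
  have h4 : (P : Subgroup G).subgroupOf L ≤ Subgroup.center ↥L := by
    intro g hg
    rw [Subgroup.mem_subgroupOf] at hg
    have h5 := hcon g.1 hg g.2
    rw [Subgroup.mem_center_iff]
    intro l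
    apply Subtype.ext
    exact Subgroup.mem_centralizer_iff.1 h5 l l.2
  have h5 : ¬ p ∣ (Subgroup.center ↥L).index := by
    intro h
    apply h2
    exact h.trans (Subgroup.index_dvd_of_le h4)
  have : Group.IsPerfect ↥L := hL.2.1
  have h6 := Cfsg.Agent.Lib.H7.not_dvd_card_of_center_index h3 h5
  apply Cfsg.Agent.Lib.H7.not_coprime_card_component p hO hL
  rw [Nat.coprime_comm]
  exact (Nat.Prime.coprime_iff_not_dvd hp).2 h6

end Component

end Cfsg.Agent.Lib.H21.IsoRk
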