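import Mathlib

/-!
# Two-generator `p`-groups (helper21)

Let `S` be a finite `p`-group with `|S : Φ(S)| = p²`.
* `exists_sup_zpowers_eq_top` : a subgroup `Q ≰ Φ(S)` satisfies `S = Q⟨y⟩` for some `y`.
* `commutator_le_of_sup_zpowers` : if `S = Q⟨y⟩` with `Q` normal then `S' ≤ Q`.
* `comm_of_disjoint` : two normal subgroups not in `Φ(S)` with trivial intersection force `S` abelian.
Subgroup versions (`…_sub`) for a subgroup `P` of a group `G`.
-/

set_option autoImplicit false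

namespace Cfsg.Agent.Lib.H21.TwoGen

open scoped commutatorElement

theorem exists_sup_zpowers_eq_top {S : Type*} [Group S] [Finite S] {p : ℕ} [hp : Fact p.Prime]
    (hidx : (frattini S).index = p ^ 2) (Q : Subgroup S) (hQ : ¬ Q ≤ frattini S) :
    ∃ y : S, Q ⊔ Subgroup.zpowers y = ⊤ := by
  obtain ⟨M, hM⟩ : ∃ M : Subgroup S, M = Q ⊔ frattini S := ⟨_, rfl⟩
  have hfM : frattini S ≤ M := hM ▸ le_sup_right
  have hQM : Q ≤ M := hM ▸ le_sup_left
  have h1 : (frattini S).relIndex M * M.index = p ^ 2 := by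
    rw [Subgroup.relIndex_mul_index hfM, hidx]
  have h2 : M.index ∣ p ^ 2 := Dvd.intro_left _ h1
  obtain ⟨k, hk2, hk⟩ := (Nat.dvd_prime_pow hp.out).mp h2
  have hkne : k ≠ 2 := by
    rintro rfl
    rw [hk] at h1
    have h3 : (frattini S).relIndex M = 1 := by
      have hpos : 0 < p ^ 2 := pow_pos hp.out.pos 2
      exact Nat.eq_of_mul_eq_mul_right hpos (by rw [h1, one_mul])
    rw [Subgroup.relIndex_eq_one] at h3
    exact hQ (hQM.trans h3)
  have hk01 : k = 0 ∨ k = 1 := by omega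
  rcases hk01 with rfl | rfl
  · refine ⟨1, ?_⟩
    rw [pow_zero, Subgroup.index_eq_one] at hk
    rw [Subgroup.zpowers_one_eq_bot, sup_bot_eq]
    apply frattini_nongenerating
    rw [← hM, hk]
  · rw [pow_one] at hk
    have hMtop : M ≠ ⊤ := by
      intro h
      rw [h, Subgroup.index_top] at hk
      exact hp.out.one_lt.ne hk
    obtain ⟨y, hy⟩ : ∃ y : S, y ∉ M := by
      by_contra hcon
      push Not at hcon
      exact hMtop (eq_top_iff.mpr fun x _ => hcon x)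
    refine ⟨y, ?_⟩
    obtain ⟨M', hM'⟩ : ∃ M' : Subgroup S, M' = M ⊔ Subgroup.zpowers y := ⟨_, rfl⟩
    have hMM' : M ≤ M' := hM' ▸ le_sup_left
    have hyM' : y ∈ M' := by
      rw [hM']
      exact (le_sup_right : Subgroup.zpowers y ≤ _) (Subgroup.mem_zpowers y)
    have h4 : M.relIndex M' * M'.index = p := by
      rw [Subgroup.relIndex_mul_index hMM', hk]
    have h5 : M'.index ∣ p := Dvd.intro_left _ h4
    rcases (Nat.dvd_prime hp.out).mp h5 with h6 | h6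
    · rw [Subgroup.index_eq_one] at h6
      apply frattini_nongenerating
      rw [← h6, hM', hM]
      ac_rfl
    · exfalso
      rw [h6] at h4
      have h7 : M.relIndex M' = 1 :=
        Nat.eq_of_mul_eq_mul_right hp.out.pos (by rw [h4, one_mul])
      rw [Subgroup.relIndex_eq_one] at h7
      exact hy (h7 hyM')

theorem commutator_le_of_sup_zpowers {S : Type*} [Group S] (Q : Subgroup S) [hQn : Q.Normal] (y : S)
    (h : Q ⊔ Subgroup.zpowers y = ⊤) : commutator S ≤ Q := by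
  have hcyc : IsCyclic (S ⧸ Q) := by
    refine ⟨⟨(QuotientGroup.mk y : S ⧸ Q), fun x => ?_⟩⟩
    induction x using QuotientGroup.induction_on with
    | H s =>
      have hs : s ∈ Q ⊔ Subgroup.zpowers y := h ▸ Subgroup.mem_top s
      rw [← SetLike.mem_coe, Subgroup.normal_mul] at hs
      obtain ⟨q, hq, z, hz, rfl⟩ := Set.mem_mul.mp hs
      obtain ⟨k, rfl⟩ := Subgroup.mem_zpowers_iff.mp hz
      refine ⟨k, ?_⟩
      show (QuotientGroup.mk y : S ⧸ Q) ^ k = QuotientGroup.mk (q * y ^ k)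
      rw [QuotientGroup.mk_mul, (QuotientGroup.eq_one_iff q).mpr hq, one_mul, QuotientGroup.mk_zpow]
  letI := IsCyclic.commGroup (α := S ⧸ Q)
  have h1 := Abelianization.commutator_subset_ker (QuotientGroup.mk' Q)
  rwa [QuotientGroup.ker_mk'] at h1

theorem comm_of_disjoint {S : Type*} [Group S] [Finite S] {p : ℕ} [hp : Fact p.Prime]
    (hidx : (frattini S).index = p ^ 2) (Q₁ Q₂ : Subgroup S) [Q₁.Normal] [Q₂.Normal]
    (h₁ : ¬ Q₁ ≤ frattini S) (h₂ : ¬ Q₂ ≤ frattini S) (hd : Q₁ ⊓ Q₂ = ⊥) (a b : S) :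
    a * b = b * a := by
  obtain ⟨y₁, hy₁⟩ := exists_sup_zpowers_eq_top hidx Q₁ h₁
  obtain ⟨y₂, hy₂⟩ := exists_sup_zpowers_eq_top hidx Q₂ h₂
  have hc₁ := commutator_le_of_sup_zpowers Q₁ y₁ hy₁
  have hc₂ := commutator_le_of_sup_zpowers Q₂ y₂ hy₂
  have hc : commutator S = ⊥ := by
    rw [eq_bot_iff, ← hd]
    exact le_inf hc₁ hc₂
  have hab : ⁅a, b⁆ ∈ commutator S := by
    rw [commutator_def]
    exact Subgroup.commutator_mem_commutator (Subgroup.mem_top _) (Subgroup.mem_top _)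
  rw [hc, Subgroup.mem_bot, commutatorElement_eq_one_iff_mul_comm] at hab
  exact hab

section Sub

variable {G : Type*} [Group G]

/-- image of the Frattini subgroup of `P` in `G` -/
theorem not_subgroupOf_le_frattini {P Q : Subgroup G} (hQP : Q ≤ P)
    (hQ : ¬ Q ≤ (frattini ↥P).map P.subtype) : ¬ Q.subgroupOf P ≤ frattini ↥P := by
  intro h
  apply hQ
  intro q hq
  exact ⟨⟨q, hQP hq⟩, h (Subgroup.mem_subgroupOf.mpr hq), rfl⟩

theorem exists_sup_zpowers_eq_sub [Finite G] {p : ℕ} [hp : Fact p.Prime] {P : Subgroup G}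
    (hidx : (frattini ↥P).index = p ^ 2) {Q : Subgroup G} (hQP : Q ≤ P)
    (hQ : ¬ Q ≤ (frattini ↥P).map P.subtype) :
    ∃ y ∈ P, Q ⊔ Subgroup.zpowers y = P := by
  obtain ⟨y, hy⟩ := exists_sup_zpowers_eq_top hidx (Q.subgroupOf P)
    (not_subgroupOf_le_frattini hQP hQ)
  refine ⟨y.1, y.2, ?_⟩
  have h1 := congrArg (Subgroup.map P.subtype) hy
  rw [Subgroup.map_sup, Subgroup.map_subgroupOf_eq_of_le hQP, MonoidHom.map_zpowers,
    ← MonoidHom.range_eq_map, Subgroup.range_subtype] at h1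
  exact h1

theorem comm_of_disjoint_sub [Finite G] {p : ℕ} [hp : Fact p.Prime] {P : Subgroup G}
    (hidx : (frattini ↥P).index = p ^ 2) {Q₁ Q₂ : Subgroup G} (h₁P : Q₁ ≤ P) (h₂P : Q₂ ≤ P)
    (hn₁ : P ≤ Subgroup.normalizer (Q₁ : Set G)) (hn₂ : P ≤ Subgroup.normalizer (Q₂ : Set G))
    (h₁ : ¬ Q₁ ≤ (frattini ↥P).map P.subtype) (h₂ : ¬ Q₂ ≤ (frattini ↥P).map P.subtype)
    (hd : Q₁ ⊓ Q₂ = ⊥) : IsMulCommutative ↥P := by
  haveI : (Q₁.subgroupOf P).Normal := (Subgroup.normal_subgroupOf_iff_le_normalizer h₁P).mpr hn₁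
  haveI : (Q₂.subgroupOf P).Normal := (Subgroup.normal_subgroupOf_iff_le_normalizer h₂P).mpr hn₂
  have hd' : Q₁.subgroupOf P ⊓ Q₂.subgroupOf P = ⊥ := by
    rw [eq_bot_iff]
    intro x hx
    obtain ⟨hx1, hx2⟩ := Subgroup.mem_inf.mp hx
    have h3 : x.1 ∈ Q₁ ⊓ Q₂ :=
      Subgroup.mem_inf.mpr ⟨Subgroup.mem_subgroupOf.mp hx1, Subgroup.mem_subgroupOf.mp hx2⟩
    rw [hd, Subgroup.mem_bot] at h3
    rw [Subgroup.mem_bot]
    exact Subtype.ext h3
  exact ⟨⟨fun a b => comm_of_disjoint hidx (Q₁.subgroupOf P) (Q₂.subgroupOf P)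
    (not_subgroupOf_le_frattini h₁P h₁) (not_subgroupOf_le_frattini h₂P h₂) hd' a b⟩⟩

end Sub

end Cfsg.Agent.Lib.H21.TwoGen
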