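import Mathlib
import Cfsg.Prelude.Def_Local
import Cfsg.Agent.Lib.H21.TwoGenA
import Cfsg.Agent.Lib.L0.Tate
import Cfsg.Agent.Lib.H1.PCore
import Cfsg.Agent.S4140

/-!
# Two-generator Sylow subgroups, Tate consequences (helper21)

Setting `Hyp p P`: `P` a nonabelian Sylow `p`-subgroup of `G` with `|P : Φ(P)| = p²`, `O_{p'}(G) = 1`
and `core_G(Φ(P)) = 1`.
* `tate_rel` : relative form of Tate's theorem (`N ⊴ H`, `P ≤ H`, `N ∩ P ≤ Φ(P)` ⇒ `N` `p`-nilpotent).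
* `Hyp.not_inf_le` : a nontrivial normal subgroup `K` has `K ∩ P ≰ Φ(P)`.
* `Hyp.inf_ne_bot` : two nontrivial normal subgroups meet nontrivially.
* `Hyp.exists_min` : there is a unique minimal normal subgroup.
-/

set_option autoImplicit false

namespace Cfsg.Agent.Lib.H21.TwoGen

open Cfsg

variable {G : Type*} [Group G]

/-- relative Tate -/
theorem tate_rel [Finite G] {p : ℕ} [hp : Fact p.Prime] (P : Sylow p G) (H N : Subgroup G)
    (hPH : (P : Subgroup G) ≤ H) (hNH : N ≤ H) (hnorm : H ≤ Subgroup.normalizer (N : Set G))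
    (h : N ⊓ (P : Subgroup G) ≤ (frattini ↥(P : Subgroup G)).map (P : Subgroup G).subtype) :
    Cfsg.HasNormalPComplement p N := by
  haveI hNn : (N.subgroupOf H).Normal := (Subgroup.normal_subgroupOf_iff_le_normalizer hNH).mpr hnorm
  obtain ⟨P', hP'⟩ : ∃ P' : Sylow p H, P' = P.subtype hPH := ⟨_, rfl⟩
  have hP'mem : ∀ x : H, x ∈ (P' : Subgroup H) ↔ x.1 ∈ (P : Subgroup G) := by
    intro x; rw [hP', Sylow.coe_subtype, Subgroup.mem_subgroupOf]
  have hmemP : ∀ x : (P' : Subgroup H), x.1.1 ∈ (P : Subgroup G) := fun x => (hP'mem x.1).mp x.2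
  obtain ⟨f, hf⟩ : ∃ f : (P : Subgroup G) →* (P' : Subgroup H), ∀ x, ((f x).1.1 : G) = x.1 := by
    have hmem : ∀ x : (P : Subgroup G), (⟨x.1, hPH x.2⟩ : H) ∈ (P' : Subgroup H) :=
      fun x => (hP'mem _).mpr x.2
    exact ⟨MonoidHom.mk' (fun x => ⟨⟨x.1, hPH x.2⟩, hmem x⟩) (fun a b => rfl), fun x => rfl⟩
  have hfs : Function.Surjective f := by
    intro x
    refine ⟨⟨x.1.1, hmemP x⟩, ?_⟩
    apply Subtype.ext
    apply Subtype.ext
    rw [hf]
  have hfr := frattini_le_comap_frattini_of_surjective hfs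
  have h1 : N.subgroupOf H ⊓ (P' : Subgroup H)
      ≤ (frattini ↥(P' : Subgroup H)).map (P' : Subgroup H).subtype := by
    intro x hx
    obtain ⟨hxN, hxP⟩ := Subgroup.mem_inf.mp hx
    have hxP' : x.1 ∈ (P : Subgroup G) := (hP'mem x).mp hxP
    obtain ⟨φ, hφ, hφx⟩ := h (Subgroup.mem_inf.mpr ⟨Subgroup.mem_subgroupOf.mp hxN, hxP'⟩)
    have h2 : f φ ∈ frattini ↥(P' : Subgroup H) := hfr hφ
    refine ⟨f φ, h2, ?_⟩
    apply Subtype.ext
    show ((f φ).1.1 : G) = x.1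
    rw [hf]
    exact hφx
  have h3 := Cfsg.Agent.Lib.L0.tate P' (N.subgroupOf H) h1
  exact Cfsg.Agent.Lib.L0.HasNormalPComplement.of_mulEquiv_tate (Subgroup.subgroupOfEquivOfLe hNH) h3

/-- a normal `p`-nilpotent subgroup of a group with `O_{p'} = 1` is a `p`-group -/
theorem isPGroup_of_hasNormalPComplement [Finite G] {p : ℕ} [hp : Fact p.Prime]
    (hcore : Cfsg.pPrimeCore p G = ⊥) {K : Subgroup G} [hKn : K.Normal]
    (hnpc : Cfsg.HasNormalPComplement p K) : IsPGroup p K := by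
  obtain ⟨M₀, hM₀n, hM₀cop, k, hk⟩ := Cfsg.Agent.Lib.L0.HasNormalPComplement.exists_normal hnpc
  have hMn : (M₀.map K.subtype).Normal := Cfsg.Agent.S4140.normal_map_of_hall hp.out M₀ hM₀cop hk
  have hMcop : (Nat.card (M₀.map K.subtype)).Coprime p := by
    rw [Subgroup.card_map_of_injective K.subtype_injective]
    exact ((Nat.Prime.coprime_iff_not_dvd hp.out).mpr hM₀cop).symm
  have hM : M₀.map K.subtype ≤ Cfsg.pPrimeCore p G := le_sSup ⟨hMn, hMcop⟩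
  rw [hcore, le_bot_iff] at hM
  have hM₀ : M₀ = ⊥ := by
    rw [← Subgroup.map_bot K.subtype] at hM
    exact Subgroup.map_injective K.subtype_injective hM
  rw [hM₀, Subgroup.index_bot] at hk
  exact IsPGroup.of_card hk

structure Hyp (p : ℕ) [Fact p.Prime] (P : Sylow p G) : Prop where
  hna : ¬ IsMulCommutative ↥(P : Subgroup G)
  hgen : (frattini ↥(P : Subgroup G)).index = p ^ 2
  hcore : Cfsg.pPrimeCore p G = ⊥
  hfrat : ((frattini ↥(P : Subgroup G)).map (P : Subgroup G).subtype).normalCore = ⊥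

variable [Finite G] {p : ℕ} [hp : Fact p.Prime] {P : Sylow p G}

/-- a normal `p`-subgroup lies in `P` -/
theorem le_sylow_of_normal {K : Subgroup G} (hKn : K.Normal) (hK : IsPGroup p K) :
    K ≤ (P : Subgroup G) :=
  (Cfsg.Agent.Lib.H1.le_pCore hKn hK).trans (Cfsg.Agent.Lib.H1.pCore_le_sylow P)

theorem Hyp.not_inf_le (h : Hyp p P) {K : Subgroup G} (hKn : K.Normal) (hK : K ≠ ⊥) :
    ¬ K ⊓ (P : Subgroup G) ≤ (frattini ↥(P : Subgroup G)).map (P : Subgroup G).subtype := by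
  intro hle
  have hnpc := Cfsg.Agent.Lib.L0.tate P K hle
  have hKp : IsPGroup p K := isPGroup_of_hasNormalPComplement h.hcore hnpc
  have hKP : K ≤ (P : Subgroup G) := le_sylow_of_normal hKn hKp
  have h1 : K ≤ (frattini ↥(P : Subgroup G)).map (P : Subgroup G).subtype := by
    rw [inf_eq_left.mpr hKP] at hle
    exact hle
  have h2 := (Subgroup.normal_le_normalCore (H := (frattini ↥(P : Subgroup G)).map
    (P : Subgroup G).subtype) (N := K)).mpr h1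
  rw [h.hfrat, le_bot_iff] at h2
  exact hK h2

theorem Hyp.inf_ne_bot (h : Hyp p P) {K₁ K₂ : Subgroup G} (hK₁n : K₁.Normal) (hK₁ : K₁ ≠ ⊥)
    (hK₂n : K₂.Normal) (hK₂ : K₂ ≠ ⊥) : K₁ ⊓ K₂ ≠ ⊥ := by
  intro hd
  apply h.hna
  have hn : ∀ K : Subgroup G, K.Normal →
      (P : Subgroup G) ≤ Subgroup.normalizer ((K ⊓ (P : Subgroup G) : Subgroup G) : Set G) := by
    intro K hKn x hx
    rw [Subgroup.mem_normalizer_iff]
    intro y
    constructor
    · intro hy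
      obtain ⟨hy1, hy2⟩ := Subgroup.mem_inf.mp hy
      exact Subgroup.mem_inf.mpr ⟨hKn.conj_mem y hy1 x,
        Subgroup.mul_mem _ (Subgroup.mul_mem _ hx hy2) (Subgroup.inv_mem _ hx)⟩
    · intro hy
      obtain ⟨hy1, hy2⟩ := Subgroup.mem_inf.mp hy
      have e : y = x⁻¹ * (x * y * x⁻¹) * x⁻¹⁻¹ := by group
      rw [e]
      exact Subgroup.mem_inf.mpr ⟨hKn.conj_mem _ hy1 x⁻¹,
        Subgroup.mul_mem _ (Subgroup.mul_mem _ (Subgroup.inv_mem _ hx) hy2)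
          (Subgroup.inv_mem _ (Subgroup.inv_mem _ hx))⟩
  apply comm_of_disjoint_sub h.hgen (Q₁ := K₁ ⊓ (P : Subgroup G)) (Q₂ := K₂ ⊓ (P : Subgroup G))
    inf_le_right inf_le_right (hn K₁ hK₁n) (hn K₂ hK₂n)
  · intro hle
    exact h.not_inf_le hK₁n hK₁ hle
  · intro hle
    exact h.not_inf_le hK₂n hK₂ hle
  · rw [eq_bot_iff, ← hd]
    exact le_inf (inf_le_left.trans inf_le_left) (inf_le_right.trans inf_le_left)

theorem Hyp.exists_min (h : Hyp p P) :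
    ∃ K₀ : Subgroup G, K₀.Normal ∧ K₀ ≠ ⊥ ∧ ∀ K : Subgroup G, K.Normal → K ≠ ⊥ → K₀ ≤ K := by
  have htop : (⊤ : Subgroup G) ≠ ⊥ := by
    intro htb
    apply h.hna
    refine ⟨⟨fun a b => ?_⟩⟩
    have ha : a.1 ∈ (⊥ : Subgroup G) := htb ▸ Subgroup.mem_top _
    have hb : b.1 ∈ (⊥ : Subgroup G) := htb ▸ Subgroup.mem_top _
    rw [Subgroup.mem_bot] at ha hb
    apply Subtype.ext
    rw [Subgroup.coe_mul, Subgroup.coe_mul, ha, hb]
  obtain ⟨K₀, ⟨hK₀n, hK₀⟩, hmin⟩ := wellFounded_lt.has_min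
    {K : Subgroup G | K.Normal ∧ K ≠ ⊥} ⟨⊤, inferInstance, htop⟩
  refine ⟨K₀, hK₀n, hK₀, fun K hKn hK => ?_⟩
  have h1 : K₀ ⊓ K ≠ ⊥ := h.inf_ne_bot hK₀n hK₀ hKn hK
  have h2 : (K₀ ⊓ K).Normal := by
    haveI := hK₀n
    haveI := hKn
    infer_instance
  have h3 : ¬ K₀ ⊓ K < K₀ := hmin (K₀ ⊓ K) ⟨h2, h1⟩
  have h4 : K₀ ⊓ K = K₀ := eq_of_le_of_not_lt inf_le_left h3
  exact inf_eq_left.mp h4

end Cfsg.Agent.Lib.H21.TwoGen
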