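import Mathlib
import Cfsg.Prelude.Def_Local
import Cfsg.Agent.Lib.H21.TwoGenB
import Cfsg.Agent.Lib.H21.HSubD
import Cfsg.Agent.Lib.H1.Fitting
import Cfsg.Agent.Lib.H1.Gaschutz
import Cfsg.Agent.Lib.H1.Misc
import Cfsg.Agent.Lib.H7.FStar
import Cfsg.Agent.Lib.H10.QdExtT

/-!
# Two-generator Sylow subgroups: the generalized Fitting subgroup (helper21)

In the setting `Hyp p P` with unique minimal normal subgroup `K₀`:
* `Hyp.fitting_le`, `Hyp.fitting_pow` : `F(G) ≤ P` has exponent `p`;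
* `Hyp.fitting_eq` : `F(G) = 1` or `F(G) = K₀` (Gaschütz);
* `Hyp.layer_eq_bot` : if `F(G) = K₀` then `E(G) = 1` (transfer);
* `Hyp.fstar_eq` : `F*(G) = K₀`.
-/

set_option autoImplicit false

namespace Cfsg.Agent.Lib.H21.TwoGen

open Cfsg

variable {G : Type*} [Group G] [Finite G] {p : ℕ} [hp : Fact p.Prime] {P : Sylow p G}

theorem Hyp.fitting_le (h : Hyp p P) : fittingSubgroup G ≤ (P : Subgroup G) := by
  rw [Cfsg.Agent.Lib.H1.fittingSubgroup_eq_iSup_pCore]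
  apply iSup_le
  intro q
  haveI : Fact (q : ℕ).Prime := ⟨q.2⟩
  by_cases hqp : (q : ℕ) = p
  · rw [hqp]
    exact Cfsg.Agent.Lib.H1.pCore_le_sylow P
  · have hcop : (Nat.card (pCore (q : ℕ) G)).Coprime p := by
      obtain ⟨n, hn⟩ := (Cfsg.Agent.Lib.H1.pCore_isPGroup (q : ℕ) G).exists_card_eq
      rw [hn]
      exact Nat.Coprime.pow_left n ((Nat.coprime_primes q.2 hp.out).mpr hqp)
    have h1 : pCore (q : ℕ) G ≤ pPrimeCore p G :=
      le_sSup ⟨Cfsg.Agent.Lib.H1.pCore_normal (q : ℕ) G, hcop⟩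
    rw [h.hcore] at h1
    exact h1.trans bot_le

theorem Hyp.fitting_pow (h : Hyp p P) {r : G} (hr : r ∈ fittingSubgroup G) : r ^ p = 1 := by
  have hRn := Cfsg.Agent.Lib.H1.fittingSubgroup_normal G
  have h1 : r ^ p ∈ ((frattini ↥(P : Subgroup G)).map (P : Subgroup G).subtype).normalCore := by
    intro g
    have h2 : g * r * g⁻¹ ∈ (P : Subgroup G) := h.fitting_le (hRn.conj_mem r hr g)
    have h3 := Cfsg.Agent.Lib.H21.HSub.pow_mem_frattini P.isPGroup'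
      (⟨g * r * g⁻¹, h2⟩ : (P : Subgroup G))
    have e : g * r ^ p * g⁻¹ = (g * r * g⁻¹) ^ p := by rw [conj_pow]
    rw [e]
    exact ⟨_, h3, rfl⟩
  rw [h.hfrat, Subgroup.mem_bot] at h1
  exact h1

/-- decomposition of elements of `K ⊔ H` for normal `K` -/
theorem exists_mul_of_mem_sup {K H : Subgroup G} (hKn : K.Normal) {g : G} (hg : g ∈ K ⊔ H) :
    ∃ k ∈ K, ∃ h ∈ H, k * h = g := by
  haveI := hKn
  rw [← SetLike.mem_coe, Subgroup.normal_mul] at hg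
  exact Set.mem_mul.mp hg

theorem Hyp.exists_gen (h : Hyp p P) {K₀ : Subgroup G} (hK₀n : K₀.Normal) (hK₀ : K₀ ≠ ⊥)
    (hK₀P : K₀ ≤ (P : Subgroup G)) :
    ∃ y ∈ (P : Subgroup G), K₀ ⊔ Subgroup.zpowers y = (P : Subgroup G) := by
  apply exists_sup_zpowers_eq_sub h.hgen hK₀P
  have h1 := h.not_inf_le hK₀n hK₀
  rwa [inf_eq_left.mpr hK₀P] at h1

theorem Hyp.fitting_eq (h : Hyp p P) {K₀ : Subgroup G} (hK₀n : K₀.Normal) (hK₀ : K₀ ≠ ⊥)
    (hmin : ∀ K : Subgroup G, K.Normal → K ≠ ⊥ → K₀ ≤ K) :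
    fittingSubgroup G = ⊥ ∨
      (fittingSubgroup G = K₀ ∧ K₀ ≤ Subgroup.centralizer (K₀ : Set G)) := by
  by_cases hR : fittingSubgroup G = ⊥
  · exact Or.inl hR
  right
  obtain ⟨R, hRdef⟩ : ∃ R : Subgroup G, R = fittingSubgroup G := ⟨_, rfl⟩
  rw [← hRdef] at hR ⊢
  have hRn : R.Normal := hRdef ▸ Cfsg.Agent.Lib.H1.fittingSubgroup_normal G
  have hRP : R ≤ (P : Subgroup G) := hRdef ▸ h.fitting_le
  have hRpow : ∀ r ∈ R, r ^ p = 1 := fun r hr => h.fitting_pow (hRdef ▸ hr)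
  have hK₀R : K₀ ≤ R := hmin R hRn hR
  -- `K₀ ≤ Z(R)`
  have hK₀Z : K₀ ≤ Subgroup.centralizer (R : Set G) := by
    have hZn : (R ⊓ Subgroup.centralizer (R : Set G)).Normal := by
      haveI := hRn
      infer_instance
    have hZ : R ⊓ Subgroup.centralizer (R : Set G) ≠ ⊥ := by
      have hRp : IsPGroup p R := P.isPGroup'.to_le hRP
      haveI : Nontrivial R := (Subgroup.nontrivial_iff_ne_bot R).mpr hR
      haveI := hRp.center_nontrivial
      obtain ⟨z, hz⟩ := exists_ne (1 : Subgroup.center R)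
      intro hbot
      have hzmem : (z.1.1 : G) ∈ R ⊓ Subgroup.centralizer (R : Set G) := by
        refine Subgroup.mem_inf.mpr ⟨z.1.2, ?_⟩
        rw [Subgroup.mem_centralizer_iff]
        intro r hr
        have := Subgroup.mem_center_iff.mp z.2 ⟨r, hr⟩
        exact congrArg Subtype.val this
      rw [hbot, Subgroup.mem_bot] at hzmem
      apply hz
      apply Subtype.ext
      apply Subtype.ext
      exact hzmem
    exact (hmin _ hZn hZ).trans inf_le_right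
  have hK₀c : K₀ ≤ Subgroup.centralizer (K₀ : Set G) :=
    hK₀Z.trans (Subgroup.centralizer_le hK₀R)
  refine ⟨?_, hK₀c⟩
  by_contra hne
  -- an element of `R` outside `K₀`
  obtain ⟨r₀, hr₀R, hr₀K⟩ : ∃ r₀ ∈ R, r₀ ∉ K₀ := by
    by_contra hcon
    push Not at hcon
    exact hne (le_antisymm hcon hK₀R)
  obtain ⟨y, hyP, hy⟩ := h.exists_gen hK₀n hK₀ (hK₀R.trans hRP)
  obtain ⟨k₀, hk₀, c, hc, hkc⟩ := exists_mul_of_mem_sup hK₀n (hy ▸ hRP hr₀R : r₀ ∈ K₀ ⊔ _)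
  have hcR : c ∈ R := by
    have : c = k₀⁻¹ * r₀ := by rw [← hkc]; group
    rw [this]
    exact R.mul_mem (R.inv_mem (hK₀R hk₀)) hr₀R
  have hcK : c ∉ K₀ := by
    intro hcK
    apply hr₀K
    rw [← hkc]
    exact K₀.mul_mem hk₀ hcK
  have hc1 : c ≠ 1 := fun h1 => hcK (h1 ▸ K₀.one_mem)
  -- the cyclic group `C = ⟨y⟩ ∩ R` has order `p`
  obtain ⟨C, hC⟩ : ∃ C : Subgroup G, C = Subgroup.zpowers y ⊓ R := ⟨_, rfl⟩
  have hCy : C ≤ Subgroup.zpowers y := hC ▸ inf_le_left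
  have hCR : C ≤ R := hC ▸ inf_le_right
  have hcC : c ∈ C := hC ▸ Subgroup.mem_inf.mpr ⟨hc, hcR⟩
  haveI hCcyc : IsCyclic C := Subgroup.isCyclic_of_le hCy
  have hCcard : Nat.card C = p := by
    obtain ⟨g, hg⟩ := IsCyclic.exists_generator (α := C)
    have h1 := orderOf_eq_card_of_forall_mem_zpowers hg
    have h2 : g ^ p = 1 := by
      apply Subtype.ext
      rw [Subgroup.coe_pow]
      exact hRpow _ (hCR g.2)
    have h3 : orderOf g ∣ p := orderOf_dvd_of_pow_eq_one h2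
    rw [h1] at h3
    rcases (Nat.dvd_prime hp.out).mp h3 with h4 | h4
    · exfalso
      have := (Nat.card_eq_one_iff_unique.mp h4).1
      have h5 : (⟨c, hcC⟩ : C) = 1 := Subsingleton.elim _ _
      exact hc1 (congrArg Subtype.val h5)
    · exact h4
  have hAK : Subgroup.zpowers y ⊓ K₀ = ⊥ := by
    rw [eq_bot_iff]
    intro d hd
    obtain ⟨hd1, hd2⟩ := Subgroup.mem_inf.mp hd
    rw [Subgroup.mem_bot]
    by_contra hd0
    have hdC : d ∈ C := hC ▸ Subgroup.mem_inf.mpr ⟨hd1, hK₀R hd2⟩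
    have h1 : (⟨d, hdC⟩ : C) ≠ 1 := fun h1 => hd0 (congrArg Subtype.val h1)
    have h2 := zpowers_eq_top_of_prime_card hCcard h1
    have h3 : (⟨c, hcC⟩ : C) ∈ Subgroup.zpowers (⟨d, hdC⟩ : C) := h2 ▸ Subgroup.mem_top _
    obtain ⟨j, hj⟩ := Subgroup.mem_zpowers_iff.mp h3
    have h4 : d ^ j = c := by
      have := congrArg Subtype.val hj
      rwa [Subgroup.coe_zpow] at this
    exact hcK (h4 ▸ K₀.zpow_mem hd2 j)
  -- Gaschütz
  haveI := hK₀n
  haveI : IsMulCommutative K₀ := by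
    refine ⟨⟨fun a b => ?_⟩⟩
    apply Subtype.ext
    rw [Subgroup.coe_mul, Subgroup.coe_mul]
    exact (Subgroup.mem_centralizer_iff.mp (hK₀c b.2) a.1 a.2)
  have hcop : (Nat.card K₀).Coprime (P : Subgroup G).index := by
    obtain ⟨n, hn⟩ := (P.isPGroup'.to_le (hK₀R.trans hRP)).exists_card_eq
    rw [hn]
    apply Nat.Coprime.pow_left
    rw [Nat.Prime.coprime_iff_not_dvd hp.out]
    exact P.not_dvd_index
  obtain ⟨H, hH⟩ := Cfsg.Agent.Lib.H1.gaschutz_exists K₀ (P : Subgroup G) (hK₀R.trans hRP) hcop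
    (Subgroup.zpowers y) hAK hy
  have hdisj : K₀ ⊓ H = ⊥ := hH.disjoint.eq_bot
  have htop : K₀ ⊔ H = ⊤ := hH.sup_eq_top
  have hdecomp : ∀ g : G, ∃ k ∈ K₀, ∃ h' ∈ H, k * h' = g := fun g =>
    exists_mul_of_mem_sup hK₀n (htop ▸ Subgroup.mem_top g)
  have hTn : (R ⊓ H).Normal := by
    constructor
    intro t ht g
    obtain ⟨htR, htH⟩ := Subgroup.mem_inf.mp ht
    obtain ⟨k, hk, h', hh', rfl⟩ := hdecomp g
    have h1 : h' * t * h'⁻¹ ∈ R := hRn.conj_mem t htR h'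
    have h2 : h' * t * h'⁻¹ ∈ H := H.mul_mem (H.mul_mem hh' htH) (H.inv_mem hh')
    have h3 : h' * t * h'⁻¹ * k = k * (h' * t * h'⁻¹) :=
      Subgroup.mem_centralizer_iff.mp (hK₀Z hk) _ h1
    have e : k * h' * t * (k * h')⁻¹ = h' * t * h'⁻¹ := by
      have : k * h' * t * (k * h')⁻¹ = k * (h' * t * h'⁻¹) * k⁻¹ := by group
      rw [this, ← h3, mul_inv_cancel_right]
    rw [e]
    exact Subgroup.mem_inf.mpr ⟨h1, h2⟩
  have hT : R ⊓ H = ⊥ := by
    by_contra hT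
    have h1 : K₀ ≤ R ⊓ H := hmin _ hTn hT
    have h2 : K₀ ≤ K₀ ⊓ H := le_inf le_rfl (h1.trans inf_le_right)
    rw [hdisj, le_bot_iff] at h2
    exact hK₀ h2
  apply hr₀K
  obtain ⟨k, hk, h', hh', hkh⟩ := hdecomp r₀
  have h1 : h' ∈ R ⊓ H := by
    refine Subgroup.mem_inf.mpr ⟨?_, hh'⟩
    have : h' = k⁻¹ * r₀ := by rw [← hkh]; group
    rw [this]
    exact R.mul_mem (R.inv_mem (hK₀R hk)) hr₀R
  rw [hT, Subgroup.mem_bot] at h1
  rw [← hkh, h1, mul_one]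
  exact hk

end Cfsg.Agent.Lib.H21.TwoGen
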