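import Mathlib
import Cfsg.Prelude.Def_Local
import Cfsg.Agent.Lib.H21.TwoGenC
import Cfsg.Agent.Lib.H7.Components

/-!
# Two-generator Sylow subgroups: `F*(G)` is the unique minimal normal subgroup (helper21)
-/

set_option autoImplicit false

namespace Cfsg.Agent.Lib.H21.TwoGen

open Cfsg

variable {G : Type*} [Group G] [Finite G] {p : ℕ} [hp : Fact p.Prime] {P : Sylow p G}

/-- if `F(G) = K₀ ≠ 1` then there are no components -/
theorem Hyp.layer_eq_bot (h : Hyp p P) {K₀ : Subgroup G} (hK₀n : K₀.Normal) (hK₀ : K₀ ≠ ⊥)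
    (hmin : ∀ K : Subgroup G, K.Normal → K ≠ ⊥ → K₀ ≤ K) (hR : fittingSubgroup G = K₀) :
    layer G = ⊥ := by
  by_contra hE
  obtain ⟨E, hEdef⟩ : ∃ E : Subgroup G, E = layer G := ⟨_, rfl⟩
  rw [← hEdef] at hE
  have hEn : E.Normal := hEdef ▸ Cfsg.Agent.Lib.H7.layer_normal
  have hK₀E : K₀ ≤ E := hmin E hEn hE
  have hEc : E ≤ Subgroup.centralizer (K₀ : Set G) := by
    have := Cfsg.Agent.Lib.H7.layer_commutator_fitting (G := G)
    rw [Subgroup.commutator_eq_bot_iff_le_centralizer, hR, ← hEdef] at this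
    exact this
  have hK₀P : K₀ ≤ (P : Subgroup G) := hR ▸ h.fitting_le
  obtain ⟨y, hyP, hy⟩ := h.exists_gen hK₀n hK₀ hK₀P
  -- `P ∩ E` is abelian
  have hab : ∀ a ∈ (P : Subgroup G) ⊓ E, ∀ b ∈ (P : Subgroup G) ⊓ E, a * b = b * a := by
    intro a ha b hb
    obtain ⟨haP, haE⟩ := Subgroup.mem_inf.mp ha
    obtain ⟨hbP, hbE⟩ := Subgroup.mem_inf.mp hb
    obtain ⟨k₁, hk₁, u₁, hu₁, rfl⟩ := exists_mul_of_mem_sup hK₀n (hy ▸ haP : a ∈ K₀ ⊔ _)
    obtain ⟨k₂, hk₂, u₂, hu₂, rfl⟩ := exists_mul_of_mem_sup hK₀n (hy ▸ hbP : b ∈ K₀ ⊔ _)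
    have hu₁E : u₁ ∈ E := by
      have : u₁ = k₁⁻¹ * (k₁ * u₁) := by group
      rw [this]
      exact E.mul_mem (E.inv_mem (hK₀E hk₁)) haE
    have hu₂E : u₂ ∈ E := by
      have : u₂ = k₂⁻¹ * (k₂ * u₂) := by group
      rw [this]
      exact E.mul_mem (E.inv_mem (hK₀E hk₂)) hbE
    have hcm : ∀ k ∈ K₀, ∀ x ∈ E, Commute k x := fun k hk x hx =>
      Subgroup.mem_centralizer_iff.mp (hEc hx) k hk
    have c1 : Commute u₁ u₂ := by
      obtain ⟨i, rfl⟩ := Subgroup.mem_zpowers_iff.mp hu₁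
      obtain ⟨j, rfl⟩ := Subgroup.mem_zpowers_iff.mp hu₂
      exact (Commute.refl y).zpow_zpow i j
    have c2 : Commute k₁ k₂ := hcm k₁ hk₁ k₂ (hK₀E hk₂)
    have c3 : Commute k₁ u₂ := hcm k₁ hk₁ u₂ hu₂E
    have c4 : Commute u₁ k₂ := (hcm k₂ hk₂ u₁ hu₁E).symm
    exact Commute.mul_left (Commute.mul_right c2 c3) (Commute.mul_right c4 c1)
  -- a Sylow subgroup of `E` is abelian
  obtain ⟨Q⟩ : Nonempty (Sylow p E) := inferInstance
  have hQab : ∀ a ∈ (Q : Subgroup E), ∀ b ∈ (Q : Subgroup E), a * b = b * a := by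
    have hQ₀ : IsPGroup p ((Q : Subgroup E).map E.subtype) := Q.isPGroup'.map E.subtype
    obtain ⟨Q', hQ'⟩ := hQ₀.exists_le_sylow
    obtain ⟨g, hg⟩ := MulAction.exists_smul_eq G Q' P
    have hconj : ∀ a ∈ (Q : Subgroup E), g * a.1 * g⁻¹ ∈ (P : Subgroup G) ⊓ E := by
      intro a ha
      refine Subgroup.mem_inf.mpr ⟨?_, hEn.conj_mem a.1 a.2 g⟩
      have h1 : a.1 ∈ (Q' : Subgroup G) := hQ' ⟨a, ha, rfl⟩
      rw [← hg, Sylow.coe_subgroup_smul, Cfsg.Agent.Lib.H1.mem_conj_smul_iff]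
      have e : g⁻¹ * (g * a.1 * g⁻¹) * g = a.1 := by group
      rw [e]
      exact h1
    intro a ha b hb
    have h1 := hab _ (hconj a ha) _ (hconj b hb)
    apply Subtype.ext
    rw [Subgroup.coe_mul, Subgroup.coe_mul]
    have e1 : g * a.1 * g⁻¹ * (g * b.1 * g⁻¹) = g * (a.1 * b.1) * g⁻¹ := by group
    have e2 : g * b.1 * g⁻¹ * (g * a.1 * g⁻¹) = g * (b.1 * a.1) * g⁻¹ := by group
    rw [e1, e2] at h1
    exact mul_left_cancel (mul_right_cancel h1)
  have hperf : Group.IsPerfect E :=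
    Subgroup.isPerfect_iff.mpr (hEdef ▸ Cfsg.Agent.Lib.H7.layer_commutator_self)
  apply hK₀
  rw [eq_bot_iff]
  intro k hk
  rw [Subgroup.mem_bot]
  have hc : (⟨k, hK₀E hk⟩ : E) ∈ Subgroup.center E := by
    rw [Subgroup.mem_center_iff]
    intro x
    apply Subtype.ext
    rw [Subgroup.coe_mul, Subgroup.coe_mul]
    exact (Subgroup.mem_centralizer_iff.mp (hEc x.2) k hk).symm
  have hc' : (⟨k, hK₀E hk⟩ : E) ∈ commutator E := by
    rw [Group.IsPerfect.commutator_eq_top]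
    exact Subgroup.mem_top _
  have hck : (⟨k, hK₀E hk⟩ : E) ^ p ^ 1 = 1 := by
    apply Subtype.ext
    rw [pow_one, Subgroup.coe_pow]
    exact h.fitting_pow (hR ▸ hk)
  have := Cfsg.Agent.Lib.H10.QdExt.eq_one_of_mem_center_commutator Q hQab hc hc' 1 hck
  exact congrArg Subtype.val this

/-- `F*(G)` is the unique minimal normal subgroup -/
theorem Hyp.fstar_eq (h : Hyp p P) {K₀ : Subgroup G} (hK₀n : K₀.Normal) (hK₀ : K₀ ≠ ⊥)
    (hmin : ∀ K : Subgroup G, K.Normal → K ≠ ⊥ → K₀ ≤ K) :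
    generalizedFittingSubgroup G = K₀ ∧
      ((fittingSubgroup G = ⊥ ∧ layer G = K₀) ∨ K₀ ≤ Subgroup.centralizer (K₀ : Set G)) := by
  rcases h.fitting_eq hK₀n hK₀ hmin with hR | ⟨hR, hc⟩
  · have hF : generalizedFittingSubgroup G = layer G := by
      unfold generalizedFittingSubgroup
      rw [hR, sup_bot_eq]
    have hEn : (layer G).Normal := Cfsg.Agent.Lib.H7.layer_normal
    have hE : layer G ≠ ⊥ := by
      intro hE
      have h1 := Cfsg.Agent.Lib.H7.centralizer_generalizedFittingSubgroup_le (G := G)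
      rw [hF, hE] at h1
      have h2 : (⊤ : Subgroup G) ≤ ⊥ := by
        refine le_trans ?_ h1
        intro x _
        rw [Subgroup.mem_centralizer_iff]
        intro y hy
        rw [SetLike.mem_coe, Subgroup.mem_bot] at hy
        rw [hy, one_mul, mul_one]
      exact hK₀ (le_bot_iff.mp (le_top.trans h2))
    have hK₀E : K₀ ≤ layer G := hmin _ hEn hE
    have hEK₀ : layer G ≤ K₀ := by
      apply sSup_le
      intro L hL
      rcases Cfsg.Agent.Lib.H7.component_le_or_commutator_eq_bot hL hK₀n.isSubnormal with h1 | h1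
      · exact h1
      · exfalso
        rw [Subgroup.commutator_eq_bot_iff_le_centralizer] at h1
        have hCn : (Subgroup.centralizer (K₀ : Set G)).Normal := by
          haveI := hK₀n
          exact Subgroup.normal_centralizer
        have hC : Subgroup.centralizer (K₀ : Set G) ≠ ⊥ := by
          intro hC
          rw [hC, le_bot_iff] at h1
          exact Cfsg.Agent.Lib.H7.component_ne_bot hL h1
        have h2 : K₀ ≤ Subgroup.centralizer (K₀ : Set G) := hmin _ hCn hC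
        haveI : IsMulCommutative K₀ := by
          refine ⟨⟨fun a b => ?_⟩⟩
          apply Subtype.ext
          rw [Subgroup.coe_mul, Subgroup.coe_mul]
          exact (Subgroup.mem_centralizer_iff.mp (h2 b.2) a.1 a.2)
        have h3 : K₀ ≤ fittingSubgroup G :=
          Cfsg.Agent.Lib.H1.le_fittingSubgroup hK₀n
            (Cfsg.Agent.Lib.H1.isNilpotent_of_isMulCommutative K₀)
        rw [hR, le_bot_iff] at h3
        exact hK₀ h3
    have hEeq : layer G = K₀ := le_antisymm hEK₀ hK₀E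
    exact ⟨hF.trans hEeq, Or.inl ⟨hR, hEeq⟩⟩
  · have hE := h.layer_eq_bot hK₀n hK₀ hmin hR
    refine ⟨?_, Or.inr hc⟩
    unfold generalizedFittingSubgroup
    rw [hE, hR, bot_sup_eq]

end Cfsg.Agent.Lib.H21.TwoGen
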