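import Mathlib
import Cfsg.Prelude.Def_Local
import Cfsg.Agent.Lib.H21.TwoGenD
import Cfsg.Agent.Lib.H7.OrbitDiag
import Cfsg.Agent.Lib.H10.LBalance

/-!
# Two-generator Sylow subgroups: `P` permutes the components transitively (helper21)
-/

set_option autoImplicit false

namespace Cfsg.Agent.Lib.H21.TwoGen

open Cfsg

variable {G : Type*} [Group G]

/-- the join of the `P`-conjugates of `K` -/
def orb (P K : Subgroup G) : Subgroup G :=
  ⨆ x : P, K.map (MulAut.conj x.1).toMonoidHom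

theorem le_orb (P K : Subgroup G) : K ≤ orb P K := by
  refine le_iSup_of_le (⟨1, P.one_mem⟩ : P) ?_
  intro k hk
  exact ⟨k, hk, by simp⟩

theorem map_orb_le (P K : Subgroup G) (z : G)
    (hz : ∀ x : P, ∃ x' : P, (K.map (MulAut.conj x.1).toMonoidHom).map (MulAut.conj z).toMonoidHom
      ≤ K.map (MulAut.conj x'.1).toMonoidHom) :
    (orb P K).map (MulAut.conj z).toMonoidHom ≤ orb P K := by
  unfold orb
  rw [Subgroup.map_iSup]
  apply iSup_le
  intro x
  obtain ⟨x', hx'⟩ := hz x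
  exact hx'.trans (le_iSup (fun x : P => K.map (MulAut.conj x.1).toMonoidHom) x')

theorem mem_normalizer_of_map_le {M : Subgroup G} {z : G}
    (h1 : M.map (MulAut.conj z).toMonoidHom ≤ M) (h2 : M.map (MulAut.conj z⁻¹).toMonoidHom ≤ M) :
    z ∈ Subgroup.normalizer (M : Set G) := by
  rw [Subgroup.mem_normalizer_iff]
  intro m
  constructor
  · intro hm
    exact h1 ⟨m, hm, by simp⟩
  · intro hm
    have := h2 ⟨_, hm, rfl⟩
    simpa [mul_assoc] using this

theorem le_normalizer_orb_self (P K : Subgroup G) : P ≤ Subgroup.normalizer (orb P K : Set G) := by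
  have key : ∀ z ∈ P, (orb P K).map (MulAut.conj z).toMonoidHom ≤ orb P K := by
    intro z hz
    apply map_orb_le
    intro x
    refine ⟨⟨z * x.1, P.mul_mem hz x.2⟩, ?_⟩
    rintro _ ⟨_, ⟨k, hk, rfl⟩, rfl⟩
    exact ⟨k, hk, by simp [mul_assoc]⟩
  intro z hz
  exact mem_normalizer_of_map_le (key z hz) (key z⁻¹ (P.inv_mem hz))

theorem le_normalizer_inf {P M : Subgroup G} (h : P ≤ Subgroup.normalizer (M : Set G)) :
    P ≤ Subgroup.normalizer ((M ⊓ P : Subgroup G) : Set G) := by
  intro x hx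
  have hxn := Subgroup.mem_normalizer_iff.mp (h hx)
  rw [Subgroup.mem_normalizer_iff]
  intro y
  constructor
  · intro hy
    obtain ⟨hy1, hy2⟩ := Subgroup.mem_inf.mp hy
    exact Subgroup.mem_inf.mpr ⟨(hxn y).mp hy1,
      Subgroup.mul_mem _ (Subgroup.mul_mem _ hx hy2) (Subgroup.inv_mem _ hx)⟩
  · intro hy
    obtain ⟨hy1, hy2⟩ := Subgroup.mem_inf.mp hy
    refine Subgroup.mem_inf.mpr ⟨(hxn y).mpr hy1, ?_⟩
    have e : y = x⁻¹ * (x * y * x⁻¹) * x := by group
    rw [e]
    exact Subgroup.mul_mem _ (Subgroup.mul_mem _ (Subgroup.inv_mem _ hx) hy2) hx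

variable [Finite G]

theorem orb_le_layer {P K : Subgroup G} (hK : IsComponent K) : orb P K ≤ layer G := by
  apply iSup_le
  intro x
  exact Cfsg.Agent.Lib.H7.component_le_layer (Cfsg.Agent.Lib.H7.isComponent_map_conj x.1 hK)

theorem layer_le_normalizer_orb {P K : Subgroup G} (hK : IsComponent K) :
    layer G ≤ Subgroup.normalizer (orb P K : Set G) := by
  have key : ∀ z ∈ layer G, (orb P K).map (MulAut.conj z).toMonoidHom ≤ orb P K := by
    intro z hz
    apply map_orb_le
    intro x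
    refine ⟨x, ?_⟩
    have hJ := Cfsg.Agent.Lib.H7.isComponent_map_conj x.1 hK
    have hzn := Subgroup.mem_normalizer_iff.mp
      (Cfsg.Agent.Lib.H7.layer_le_normalizer_component hJ hz)
    rintro _ ⟨j, hj, rfl⟩
    exact (hzn j).mp hj
  intro z hz
  exact mem_normalizer_of_map_le (key z hz) (key z⁻¹ ((layer G).inv_mem hz))

theorem orb_le_centralizer {P K J : Subgroup G} (hK : IsComponent K) (hJ : IsComponent J)
    (hne : ∀ x : P, J ≠ K.map (MulAut.conj x.1).toMonoidHom) :
    orb P K ≤ Subgroup.centralizer (J : Set G) := by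
  apply iSup_le
  intro x
  rw [← Subgroup.commutator_eq_bot_iff_le_centralizer]
  exact Cfsg.Agent.Lib.H7.components_commute (Cfsg.Agent.Lib.H7.isComponent_map_conj x.1 hK) hJ
    (fun h => hne x h.symm)

/-- a subgroup containing a component is not `p`-nilpotent when `O_{p'}(G) = 1` -/
theorem not_npc_of_component {p : ℕ} [hp : Fact p.Prime] (hcore : pPrimeCore p G = ⊥)
    {K N : Subgroup G} (hK : IsComponent K) (hKN : K ≤ N) : ¬ Cfsg.HasNormalPComplement p N := by
  intro hnpc
  have h1 := Cfsg.Agent.Lib.L0.HasNormalPComplement.subgroup hnpc (K.subgroupOf N)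
  have h2 : Cfsg.HasNormalPComplement p K :=
    Cfsg.Agent.Lib.L0.HasNormalPComplement.of_mulEquiv_tate (Subgroup.subgroupOfEquivOfLe hKN) h1
  obtain ⟨M₀, hM₀n, hM₀cop, k, hk⟩ := Cfsg.Agent.Lib.L0.HasNormalPComplement.exists_normal h2
  have hpg : IsPGroup p (K ⧸ M₀) := by
    apply IsPGroup.of_card (n := k)
    rw [← Subgroup.index_eq_card, hk]
  haveI : Group.IsNilpotent (K ⧸ M₀) := hpg.isNilpotent
  have hM₀ : M₀ = ⊤ := by
    rw [eq_top_iff]
    intro x _
    have := Cfsg.Agent.Lib.H10.map_eq_one_of_perfect_of_solvable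
      (Cfsg.Agent.Lib.H7.component_commutator_self hK) (QuotientGroup.mk' M₀) x
    rwa [QuotientGroup.mk'_apply, QuotientGroup.eq_one_iff] at this
  apply Cfsg.Agent.Lib.H7.not_coprime_card_component p hcore hK
  rw [hM₀, Subgroup.card_top] at hM₀cop
  exact ((Nat.Prime.coprime_iff_not_dvd hp.out).mpr hM₀cop).symm

variable {p : ℕ} [hp : Fact p.Prime] {P : Sylow p G}

theorem Hyp.orb_not_le (h : Hyp p P) {K : Subgroup G} (hK : IsComponent K) :
    ¬ orb (P : Subgroup G) K ⊓ (P : Subgroup G)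
      ≤ (frattini ↥(P : Subgroup G)).map (P : Subgroup G).subtype := by
  intro hle
  have h1 := tate_rel P (layer G ⊔ (P : Subgroup G)) (orb (P : Subgroup G) K) le_sup_right
    ((orb_le_layer hK).trans le_sup_left)
    (sup_le (layer_le_normalizer_orb hK) (le_normalizer_orb_self _ _)) hle
  exact not_npc_of_component h.hcore hK (le_orb _ _) h1

theorem Hyp.components_conj (h : Hyp p P) (hRbot : fittingSubgroup G = ⊥)
    {K L : Subgroup G} (hK : IsComponent K) (hL : IsComponent L) :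
    ∃ x ∈ (P : Subgroup G), L = K.map (MulAut.conj x).toMonoidHom := by
  by_contra hcon
  push Not at hcon
  have hne : ∀ x x' : (P : Subgroup G),
      L.map (MulAut.conj x'.1).toMonoidHom ≠ K.map (MulAut.conj x.1).toMonoidHom := by
    intro x x' heq
    apply hcon (x'.1⁻¹ * x.1) (Subgroup.mul_mem _ (Subgroup.inv_mem _ x'.2) x.2)
    have h1 := congrArg (Subgroup.map (MulAut.conj x'.1⁻¹).toMonoidHom) heq
    rw [Subgroup.map_map, Subgroup.map_map] at h1
    have e1 : (MulAut.conj x'.1⁻¹).toMonoidHom.comp (MulAut.conj x'.1).toMonoidHom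
        = MonoidHom.id G := by
      ext g; simp [mul_assoc]
    have e2 : (MulAut.conj x'.1⁻¹).toMonoidHom.comp (MulAut.conj x.1).toMonoidHom
        = (MulAut.conj (x'.1⁻¹ * x.1)).toMonoidHom := by
      ext g; simp [mul_assoc]
    rw [e1, e2, Subgroup.map_id] at h1
    exact h1
  obtain ⟨M₁, hM₁⟩ : ∃ M₁ : Subgroup G, M₁ = orb (P : Subgroup G) K := ⟨_, rfl⟩
  obtain ⟨M₂, hM₂⟩ : ∃ M₂ : Subgroup G, M₂ = orb (P : Subgroup G) L := ⟨_, rfl⟩
  have hcomm : M₂ ≤ Subgroup.centralizer (M₁ : Set G) := by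
    rw [hM₂]
    apply iSup_le
    intro x'
    rw [Subgroup.le_centralizer_iff, hM₁]
    exact orb_le_centralizer hK (Cfsg.Agent.Lib.H7.isComponent_map_conj x'.1 hL)
      (fun x => hne x x')
  have hA : M₁ ⊓ M₂ ≤ Subgroup.centralizer (layer G : Set G) := by
    rw [Subgroup.le_centralizer_iff]
    apply sSup_le
    intro J hJ
    by_cases hJK : ∃ x : (P : Subgroup G), J = K.map (MulAut.conj x.1).toMonoidHom
    · obtain ⟨x, rfl⟩ := hJK
      have h1 : K.map (MulAut.conj x.1).toMonoidHom ≤ M₁ :=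
        hM₁ ▸ le_iSup (fun x : (P : Subgroup G) => K.map (MulAut.conj x.1).toMonoidHom) x
      have h2 : M₁ ≤ Subgroup.centralizer (M₂ : Set G) := Subgroup.le_centralizer_iff.mp hcomm
      exact h1.trans (h2.trans (Subgroup.centralizer_le inf_le_right))
    · push Not at hJK
      have h1 : M₁ ≤ Subgroup.centralizer (J : Set G) := hM₁ ▸ orb_le_centralizer hK hJ hJK
      exact (Subgroup.le_centralizer_iff.mp h1).trans (Subgroup.centralizer_le inf_le_left)
  have hAbot : M₁ ⊓ M₂ = ⊥ := by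
    have hEn : (layer G).Normal := Cfsg.Agent.Lib.H7.layer_normal
    have hZn : (layer G ⊓ Subgroup.centralizer (layer G : Set G)).Normal := inferInstance
    haveI : IsMulCommutative ↥(layer G ⊓ Subgroup.centralizer (layer G : Set G)) := by
      refine ⟨⟨fun a b => ?_⟩⟩
      apply Subtype.ext
      rw [Subgroup.coe_mul, Subgroup.coe_mul]
      exact (Subgroup.mem_centralizer_iff.mp (Subgroup.mem_inf.mp b.2).2 a.1
        (Subgroup.mem_inf.mp a.2).1)
    have h1 : layer G ⊓ Subgroup.centralizer (layer G : Set G) ≤ fittingSubgroup G :=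
      Cfsg.Agent.Lib.H1.le_fittingSubgroup hZn
        (Cfsg.Agent.Lib.H1.isNilpotent_of_isMulCommutative _)
    rw [hRbot] at h1
    rw [eq_bot_iff]
    refine le_trans (le_inf ?_ hA) h1
    exact inf_le_left.trans (hM₁ ▸ orb_le_layer hK)
  apply h.hna
  apply comm_of_disjoint_sub h.hgen (Q₁ := M₁ ⊓ (P : Subgroup G)) (Q₂ := M₂ ⊓ (P : Subgroup G))
    inf_le_right inf_le_right
    (le_normalizer_inf (hM₁ ▸ le_normalizer_orb_self _ _))
    (le_normalizer_inf (hM₂ ▸ le_normalizer_orb_self _ _))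
    (hM₁ ▸ h.orb_not_le hK) (hM₂ ▸ h.orb_not_le hL)
  rw [eq_bot_iff, ← hAbot]
  exact le_inf (inf_le_left.trans inf_le_left) (inf_le_right.trans inf_le_left)

end Cfsg.Agent.Lib.H21.TwoGen
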