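import Mathlib
import Cfsg.Agent.Lib.H21.IsoRkA
import Cfsg.Agent.Lib.H21.TwoGenE
import Cfsg.Agent.Lib.L0.FrobeniusPC
import Cfsg.Agent.S3785

/-!
# Isolated elements of order `p` in groups of `p`-rank at most two (helper21 library, part B)

If `x` is an isolated element of order `p` (odd) normalizing but not centralizing a component
`L` of a group of `p`-rank at most two with `O_{p'}(G) = 1`, then `C_G(L)` has no element of
order `p`.
-/

set_option autoImplicit false

namespace Cfsg.Agent.Lib.H21.IsoRk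

open Cfsg

variable {G : Type*} [Group G] [Finite G] {p : ℕ} [Fact p.Prime]

/-- In the presence of an element `w` of order `p` centralizing `L`, every element of `N_L(D)`
centralizes the elements of order `p` of the `p`-subgroup `D` of `L`. -/
theorem commute_of_bad (hrank : PRankLE p 2 G) {x : G} (hx : orderOf x = p) (hiso : IsIsolated x)
    {L : Subgroup G} (hxL : x ∈ Subgroup.normalizer (L : Set G))
    (hxC : x ∉ Subgroup.centralizer (L : Set G))
    {w : G} (hw : orderOf w = p) (hwL : w ∈ Subgroup.centralizer (L : Set G))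
    {D : Subgroup G} (hD : IsPGroup p D) (hDL : D ≤ L) {h : G} (hhL : h ∈ L)
    (hhD : h ∈ Subgroup.normalizer (D : Set G))
    {y : G} (hyD : y ∈ D) (hy : orderOf y = p) : h * y = y * h := by
  set N := Subgroup.normalizer (L : Set G) with hN
  have hLN : L ≤ N := Subgroup.le_normalizer
  have hCN : Subgroup.centralizer (L : Set G) ≤ N := Subgroup.centralizer_le_normalizer _
  have hwp : IsPGroup p (Subgroup.zpowers w) := isPGroup_zpowers_of_orderOf_eq hw
  have hwD : ∀ d ∈ D, Commute w d := fun d hd =>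
    (Subgroup.mem_centralizer_iff.1 hwL d (hDL hd)).symm
  have hwND : Subgroup.zpowers w ≤ Subgroup.normalizer (D : Set G) := by
    rw [Subgroup.zpowers_le]
    apply Subgroup.centralizer_le_normalizer
    rw [Subgroup.mem_centralizer_iff]
    intro d hd
    exact (hwD d hd).eq.symm
  have hT : IsPGroup p (Subgroup.zpowers w ⊔ D : Subgroup G) :=
    hwp.to_sup_of_normal_right' hD hwND
  have hTN : Subgroup.zpowers w ⊔ D ≤ N :=
    sup_le ((Subgroup.zpowers_le).2 (hCN hwL)) (hDL.trans hLN)
  obtain ⟨S, hS, hTS⟩ := Cfsg.Agent.Lib.H5.exists_isSylowIn_ge hT hTN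
  have hxp : IsPGroup p (Subgroup.zpowers x) := isPGroup_zpowers_of_orderOf_eq hx
  obtain ⟨S', hS', hxS'⟩ :=
    Cfsg.Agent.Lib.H5.exists_isSylowIn_ge hxp ((Subgroup.zpowers_le).2 hxL)
  obtain ⟨z, hzN, hz⟩ := hS'.exists_conj hS
  set x' := z * x * z⁻¹ with hx'
  have hx'S : x' ∈ S := by
    rw [hz]
    exact Cfsg.Agent.Lib.H15.conj_mem_cj (hxS' (Subgroup.mem_zpowers x))
  have hiso' : IsIsolated x' := isIsolated_conj hiso z
  have hx'o : orderOf x' = p := by rw [hx', orderOf_conj', hx]
  have hSC := Cfsg.Agent.Lib.H15.isolated_central hiso' hS.2.1 hx'S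
  have hwS : w ∈ S :=
    hTS ((le_sup_left : Subgroup.zpowers w ≤ Subgroup.zpowers w ⊔ D) (Subgroup.mem_zpowers w))
  have hx'w : Commute x' w := Cfsg.Agent.Lib.H15.commute_of_mem_centralizer_singleton (hSC hwS)
  have hx'D : ∀ d ∈ D, Commute x' d := fun d hd =>
    Cfsg.Agent.Lib.H15.commute_of_mem_centralizer_singleton
      (hSC (hTS ((le_sup_right : D ≤ Subgroup.zpowers w ⊔ D) hd)))
  have hx'C : x' ∉ Subgroup.centralizer (L : Set G) := fun hc =>
    hxC (conj_mem_centralizer_of_mem_normalizer hzN hc)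
  have hx'w' : x' ∉ Subgroup.zpowers w := fun hc => hx'C ((Subgroup.zpowers_le).2 hwL hc)
  have hwh : Commute w h := (Subgroup.mem_centralizer_iff.1 hwL h hhL).symm
  by_cases hyw : y ∈ Subgroup.zpowers w
  · obtain ⟨n, rfl⟩ := Subgroup.mem_zpowers_iff.1 hyw
    exact (Commute.zpow_right hwh.symm n).eq
  · have hyp' : y ^ p = 1 := by rw [← hy]; exact pow_orderOf_eq_one y
    have hx'p : x' ^ p = 1 := by rw [← hx'o]; exact pow_orderOf_eq_one x'
    have h1 : x' ∈ Subgroup.closure ({w, y} : Set G) :=
      mem_closure_pair_of_rank hrank hw hyp' hx'p (hwD y hyD) hx'w.symm (hx'D y hyD).symm hyw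
    have h2 : Subgroup.closure ({w, y} : Set G)
        ≤ (Subgroup.centralizer ({x'} : Set G)).comap (MulAut.conj h).toMonoidHom := by
      rw [Subgroup.closure_le]
      intro g hg
      simp only [Set.mem_insert_iff, Set.mem_singleton_iff] at hg
      rw [SetLike.mem_coe, Subgroup.mem_comap, MulEquiv.coe_toMonoidHom, MulAut.conj_apply,
        Subgroup.mem_centralizer_singleton_iff]
      rcases hg with rfl | rfl
      · have : h * g * h⁻¹ = g := by rw [← hwh.eq]; group
        rw [this]; exact hx'w.eq.symm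
      · have : h * g * h⁻¹ ∈ D := (Subgroup.mem_normalizer_iff.1 hhD g).1 hyD
        exact (hx'D _ this).eq.symm
    have h3 : Commute x' (h * x' * h⁻¹) := by
      have := h2 h1
      rw [Subgroup.mem_comap, MulEquiv.coe_toMonoidHom, MulAut.conj_apply] at this
      exact Cfsg.Agent.Lib.H15.commute_of_mem_centralizer_singleton this
    have h4 : h * x' * h⁻¹ = x' := hiso' h h3
    have h5 : Commute h x' := by
      show h * x' = x' * h
      calc h * x' = h * x' * h⁻¹ * h := by group
        _ = x' * h := by rw [h4]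
    have h6 : y ∈ Subgroup.closure ({w, x'} : Set G) :=
      mem_closure_pair_of_rank hrank hw hx'p hyp' hx'w.symm (hwD y hyD) (hx'D y hyD) hx'w'
    have h7 : Subgroup.closure ({w, x'} : Set G) ≤ Subgroup.centralizer ({h} : Set G) := by
      rw [Subgroup.closure_le]
      intro g hg
      simp only [Set.mem_insert_iff, Set.mem_singleton_iff] at hg
      rw [SetLike.mem_coe, Subgroup.mem_centralizer_singleton_iff]
      rcases hg with rfl | rfl
      · exact hwh.eq
      · exact h5.eq.symm
    have := h7 h6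
    rw [Subgroup.mem_centralizer_singleton_iff] at this
    exact this.symm

/-- `C_G(L)` has no element of order `p`. -/
theorem no_order_p_in_centralizer (hp2 : p ≠ 2) (hcore : pPrimeCore p G = ⊥)
    (hrank : PRankLE p 2 G) {x : G} (hx : orderOf x = p) (hiso : IsIsolated x)
    {L : Subgroup G} (hL : IsComponent L) (hxL : x ∈ Subgroup.normalizer (L : Set G))
    (hxC : x ∉ Subgroup.centralizer (L : Set G))
    {w : G} (hw : orderOf w = p) (hwL : w ∈ Subgroup.centralizer (L : Set G)) : False := by
  apply Cfsg.Agent.Lib.H21.TwoGen.not_npc_of_component hcore hL (le_refl L)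
  apply Cfsg.Agent.Lib.L0.hasNormalPComplement_of_frobHyp
  intro Q hQ g hg hcop
  rw [Subgroup.mem_centralizer_iff]
  intro q hq
  have key := Cfsg.Agent.S3785.centralizes_of_centralizes_order_p hp2 hQ hg hcop ?_ q hq
  · exact key.symm
  · intro y hyQ hyo
    apply Subtype.ext
    rw [Subgroup.coe_mul, Subgroup.coe_mul]
    apply commute_of_bad hrank hx hiso hxL hxC hw hwL (D := Q.map L.subtype) (hQ.map _)
      (Subgroup.map_subtype_le _) g.2 ?_ ⟨y, hyQ, rfl⟩ ?_
    · exact Subgroup.le_normalizer_map L.subtype ⟨g, hg, rfl⟩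
    · rw [← hyo]; exact Subgroup.orderOf_coe y

end Cfsg.Agent.Lib.H21.IsoRk
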