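import Mathlib
import Cfsg.Agent.Lib.H21.IsoRkB
import Cfsg.Agent.Lib.H7.CoreComp2
import Cfsg.Agent.Lib.H7.FStar

/-!
# Isolated elements of order `p` in groups of `p`-rank at most two (helper21 library, part C)

An isolated element of order `p` normalizes every component and (if not central) fails to
centralize one of them, when `O_{p'}(G) = 1`.
-/

set_option autoImplicit false

namespace Cfsg.Agent.Lib.H21.IsoRk

open Cfsg

variable {G : Type*} [Group G] [Finite G] {p : ℕ} [Fact p.Prime]

/-- An isolated element of order `p` normalizes every component. -/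
theorem map_conj_eq_of_isolated (hcore : pPrimeCore p G = ⊥) {x : G} (hx : orderOf x = p)
    (hiso : IsIsolated x) {K : Subgroup G} (hK : IsComponent K) :
    K.map (MulAut.conj x).toMonoidHom = K := by
  by_contra hKx
  obtain ⟨P, hxP⟩ := (isPGroup_zpowers_of_orderOf_eq hx).exists_le_sylow
  have hxP' : x ∈ (P : Subgroup G) := hxP (Subgroup.mem_zpowers x)
  obtain ⟨y, hyP, hyK, hyC⟩ := exists_mem_sylow_component_not_mem_centralizer hcore hK P
  have hPC := Cfsg.Agent.Lib.H15.isolated_central hiso P.isPGroup' hxP'
  have hxy : Commute x y := Cfsg.Agent.Lib.H15.commute_of_mem_centralizer_singleton (hPC hyP)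
  apply hyC
  rw [Subgroup.mem_centralizer_iff]
  intro l hl
  have hyKx : y ∈ K.map (MulAut.conj x).toMonoidHom := by
    refine ⟨y, hyK, ?_⟩
    rw [MulEquiv.coe_toMonoidHom, MulAut.conj_apply, hxy.eq]
    group
  have := Cfsg.Agent.Lib.H7.commute_of_mem_components
    (Cfsg.Agent.Lib.H7.isComponent_map_conj x hK) hK hKx hyKx hl
  exact this.eq.symm

/-- A non-central isolated element of order `p` fails to centralize some component. -/
theorem exists_component_not_centralized (hcore : pPrimeCore p G = ⊥) {x : G}
    (hx : orderOf x = p) (hiso : IsIsolated x) (hnc : x ∉ Subgroup.center G) :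
    ∃ L : Subgroup G, IsComponent L ∧ x ∉ Subgroup.centralizer (L : Set G) := by
  by_contra hcon
  push Not at hcon
  apply hnc
  have hRn := Cfsg.Agent.Lib.H1.pCore_normal p G
  have hR : pCore p G ≤ Subgroup.centralizer ({x} : Set G) :=
    isolated_centralizes hx hiso (Cfsg.Agent.Lib.H1.pCore_isPGroup p G)
      (by rw [Subgroup.normalizer_eq_top]; trivial)
  have hlayer : layer G ≤ Subgroup.centralizer ({x} : Set G) := by
    unfold layer
    apply sSup_le
    intro K hK k hk
    rw [Subgroup.mem_centralizer_singleton_iff]
    exact Subgroup.mem_centralizer_iff.1 (hcon K hK) k hk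
  have hF : generalizedFittingSubgroup G ≤ Subgroup.centralizer ({x} : Set G) :=
    sup_le hlayer ((Cfsg.Agent.Lib.H7.fittingSubgroup_le_pCore hcore).trans hR)
  have hxF : x ∈ generalizedFittingSubgroup G := by
    apply Cfsg.Agent.Lib.H7.centralizer_generalizedFittingSubgroup_le
    rw [Subgroup.mem_centralizer_iff]
    intro f hf
    have := hF hf
    rw [Subgroup.mem_centralizer_singleton_iff] at this
    exact this
  rw [Subgroup.mem_center_iff]
  intro g
  have h1 : g * x * g⁻¹ ∈ generalizedFittingSubgroup G :=
    (inferInstance : (generalizedFittingSubgroup G).Normal).conj_mem x hxF g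
  have h2 : Commute x (g * x * g⁻¹) :=
    Cfsg.Agent.Lib.H15.commute_of_mem_centralizer_singleton (hF h1)
  have h3 := hiso g h2
  calc g * x = g * x * g⁻¹ * g := by group
    _ = x * g := by rw [h3]

end Cfsg.Agent.Lib.H21.IsoRk
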