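import Cfsg.Agent.Lib.H23.ContribP

/-!
# Strict lower bound for the diagonal contributions of a major subsection at positive height
(helper21; piece D1 of S4540)

For a major subsection `(y, b)` of `B` and `χ ∈ B` of height `h ≥ 1`:
`φ(m) p^h < ∑_k p^d m^{(y^k, b)}_{χχ}` (sum over the Galois conjugates).  This is the strict
version of `Cfsg.Agent.Lib.H23.Contrib.card_units_mul_pow_le_sum_contrib_self`: the numbers
`|G|_{p'} p^d m^{(y^k)}_{χχ} / p^h` lie in the local IDEAL (not only in the local ring), so their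
integer norm is divisible by `p`.
-/

set_option autoImplicit false

namespace Cfsg.Agent.Lib.H21.KC

open Cfsg MonoidAlgebra Cfsg.Agent.Lib.H23 Cfsg.Agent.Lib.H24 Cfsg.Agent.Lib.L0
  Cfsg.Agent.Lib.H23.Contrib
open scoped ComplexConjugate

variable {G : Type*} [Group G] [Fintype G] {p : ℕ} [Fact p.Prime] {M : Ideal AlgInt}

omit [Fintype G] [Fact p.Prime] in
theorem kc_irr_one_conj {K : Type*} [Group K] [Finite K] (ξ : IrrCharacter K) :
    conj ((ξ : K → ℂ) 1) = (ξ : K → ℂ) 1 := by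
  have h := irr_inv ξ 1
  rw [inv_one] at h
  exact h.symm

omit [Fintype G] [Fact p.Prime] in
theorem kc_lamW_inv (H : Subgroup G) [Fintype H] (z : H) (ξ ξ' : IrrCharacter H) :
    lamW H z⁻¹ ξ ξ' = conj (lamW H z ξ ξ') := by
  unfold lamW
  rw [irr_inv ξ z, irr_inv ξ' z]
  simp only [map_mul, map_div₀, Complex.conj_conj, kc_irr_one_conj ξ, kc_irr_one_conj ξ']

omit [Fintype G] in
theorem kc_pin_conj_self {K : Type*} [Group K] [Fintype K] (hM : IsPModular p M)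
    (ξ₀ : IrrCharacter K) {ξ ξ' : IrrCharacter K} (hξ : ξ ∈ blockOf M (ξ₀ : K → ℂ)) :
    conj (pin p (ξ : K → ℂ) (ξ' : K → ℂ)) = pin p (ξ : K → ℂ) (ξ' : K → ℂ) := by
  have hp : p.Prime := Fact.out
  have hp0 : (p : ℂ) ≠ 0 := Nat.cast_ne_zero.2 hp.ne_zero
  obtain ⟨n, hn⟩ := exists_int_pow_mul_pin hM ξ₀ (ξ' := ξ') hξ
  have h1 : conj ((p : ℂ) ^ blockDefect p (blockOf M (ξ₀ : K → ℂ)) *
      pin p (ξ : K → ℂ) (ξ' : K → ℂ)) = (n : ℂ) := by
    rw [hn, map_intCast]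
  rw [map_mul, map_pow, Complex.conj_natCast, ← hn] at h1
  exact mul_left_cancel₀ (pow_ne_zero _ hp0) h1

/-- The contribution at `z⁻¹` is the complex conjugate of the contribution at `z`. -/
theorem kc_contrib_inv [Fintype (IrrCharacter G)] (H : Subgroup G) [Fintype H]
    [Fintype (IrrCharacter H)] (b : Set (IrrCharacter H)) [DecidablePred (· ∈ b)] (z : H)
    (hM : IsPModular p M) (hzc : z ∈ Subgroup.center H)
    (ξ₀ : IrrCharacter H) (hb : b = blockOf M (ξ₀ : H → ℂ)) (χ ψ : IrrCharacter G) :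
    contrib p H b z⁻¹ (χ : G → ℂ) (ψ : G → ℂ) = conj (contrib p H b z (χ : G → ℂ) (ψ : G → ℂ)) := by
  rw [contrib_eq_sum H b z hM hzc ξ₀ hb χ ψ,
    contrib_eq_sum H b z⁻¹ hM (Subgroup.inv_mem _ hzc) ξ₀ hb χ ψ, map_sum]
  refine Finset.sum_congr rfl fun ξ _ => ?_
  rw [map_sum]
  refine Finset.sum_congr rfl fun ξ' _ => ?_
  by_cases h : ξ ∈ b ∧ ξ' ∈ b
  · rw [if_pos h, if_pos h, map_mul, map_mul, map_mul, resMult_conj, resMult_conj, kc_lamW_inv]
    have h1 : ξ ∈ blockOf M (ξ₀ : H → ℂ) := hb ▸ h.1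
    rw [kc_pin_conj_self hM ξ₀ h1]
  · rw [if_neg h, if_neg h, map_zero]

/-- For `χ ∈ B` of positive height, `ω_χ` of its own section element lies in the local ideal. -/
theorem kc_omega_secElt_self_mem [Fintype (IrrCharacter G)] (H : Subgroup G) [Fintype H]
    [Fintype (IrrCharacter H)] (ξ₁ : IrrCharacter H)
    [DecidablePred (· ∈ blockOf M (ξ₁ : H → ℂ))] (hM : IsPModular p M)
    {B : Set (IrrCharacter G)} (hind : IsInducedBlock M H (blockOf M (ξ₁ : H → ℂ)) B)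
    {z : H} (hzc : z ∈ Subgroup.center H) {χ : IrrCharacter G} (hχ : χ ∈ B)
    (hh : 1 ≤ blockHeight p B (χ : G → ℂ)) :
    MemLocalIdeal M (omega (χ : G → ℂ)
      (secElt H (blockOf M (ξ₁ : H → ℂ)) z p (χ : G → ℂ))) := by
  have hP := isPrime_of_isPModular hM
  have hp : p.Prime := Fact.out
  obtain ⟨χ₁, hχ₁⟩ := hind.2.1
  subst hχ₁
  obtain ⟨χ₀, hχ₀B, hχ₀0⟩ :=
    Cfsg.Agent.Lib.L0.BlockHeight.exists_height_zero (p := p) (M := M) χ₁
  have hkey0 := ordCompl_mul_pow_mul_contrib H hM (blockOf M (ξ₁ : H → ℂ)) z χ₁ hχ₀B (χ : G → ℂ)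
  have hkey1 := ordCompl_mul_pow_mul_contrib H hM (blockOf M (ξ₁ : H → ℂ)) z⁻¹ χ₁ hχ (χ₀ : G → ℂ)
  have hswap : contrib p H (blockOf M (ξ₁ : H → ℂ)) z (χ : G → ℂ) (χ₀ : G → ℂ) =
      contrib p H (blockOf M (ξ₁ : H → ℂ)) z⁻¹ (χ₀ : G → ℂ) (χ : G → ℂ) := by
    rw [kc_contrib_inv H (blockOf M (ξ₁ : H → ℂ)) z hM hzc ξ₁ rfl χ₀ χ,
      contrib_conj H (blockOf M (ξ₁ : H → ℂ)) z hM hzc ξ₁ rfl χ₀ χ]
  rw [hχ₀0, pow_zero, one_mul, hswap, hkey1] at hkey0
  -- `hkey0 : p^h * r_χ * ω_χ(secElt z⁻¹ χ₀) = r_χ₀ * ω_χ₀(secElt z χ)`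
  set h := blockHeight p (blockOf M (χ₁ : G → ℂ)) (χ : G → ℂ) with hhdef
  have hpow : MemLocalIdeal M ((p : ℂ) ^ h) := by
    obtain ⟨h', hh'⟩ : ∃ h', h = h' + 1 := ⟨h - 1, by omega⟩
    rw [hh', pow_succ]
    exact memLocalIdeal_mul_left (memLocalRing_pow (natCast_mem_localRing _) _) (memLocalIdeal_p hM)
  have hω1 : MemLocalRing M (omega (χ : G → ℂ)
      (secElt H (blockOf M (ξ₁ : H → ℂ)) z⁻¹ p (χ₀ : G → ℂ))) :=
    omega_memLocalRing χ (secElt_mem_center H _ _ _)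
      (secElt_mem_intCoeff H _ _ (Subgroup.inv_mem _ hzc) χ₀)
  have hmem : MemLocalIdeal M
      (((charDegree (χ₀ : G → ℂ) / p ^ (charDegree (χ₀ : G → ℂ)).factorization p : ℕ) : ℂ) *
        omega (χ₀ : G → ℂ) (secElt H (blockOf M (ξ₁ : H → ℂ)) z p (χ : G → ℂ))) := by
    rw [← hkey0, mul_assoc]
    exact memLocalIdeal_mul_right hpow (memLocalRing_mul (natCast_mem_localRing _) hω1)
  have hr0 : ¬ MemLocalIdeal M
      ((charDegree (χ₀ : G → ℂ) / p ^ (charDegree (χ₀ : G → ℂ)).factorization p : ℕ) : ℂ) := by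
    rw [natCast_memLocalIdeal_iff hM]
    exact Nat.not_dvd_ordCompl hp (charDegree_pos _ χ₀.2).ne'
  have hω0 := memLocalIdeal_of_mul (natCast_mem_localRing _) hr0 hmem
  have hsame : SameBlock M (χ : G → ℂ) (χ₀ : G → ℂ) :=
    sameBlock_trans (sameBlock_symm hχ) hχ₀B
  have h1 := omega_sub_memLocalIdeal hsame
    (secElt_mem_center H (blockOf M (ξ₁ : H → ℂ)) z (χ : G → ℂ))
    (secElt_mem_intCoeff (M := M) (p := p) H (blockOf M (ξ₁ : H → ℂ)) z hzc χ)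
  have := memLocalIdeal_add h1 hω0
  rwa [sub_add_cancel] at this

omit [Fact p.Prime] in
theorem kc_memLocalIdeal_prod [M.IsPrime] {ι : Type*} [Fintype ι] [Nonempty ι] (f : ι → ℂ)
    (hf : ∀ i, MemLocalIdeal M (f i)) : MemLocalIdeal M (∏ i, f i) := by
  classical
  obtain ⟨i₀⟩ := ‹Nonempty ι›
  rw [← Finset.mul_prod_erase Finset.univ f (Finset.mem_univ i₀)]
  exact memLocalIdeal_mul_right (hf i₀)
    (memLocalRing_prod _ _ fun i _ => memLocalRing_of_memLocalIdeal (hf i))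

/-- Strict AM-GM in the form needed: nonnegative reals with product at least `c > 1` have sum
strictly larger than their number. -/
theorem kc_card_lt_sum_of_lt_prod {ι : Type*} [Fintype ι] [Nonempty ι] (z : ι → ℝ)
    (hz : ∀ i, 0 ≤ z i) {c : ℝ} (hc : 1 < c) (hprod : c ≤ ∏ i, z i) :
    (Fintype.card ι : ℝ) < ∑ i, z i := by
  have hn : 0 < Fintype.card ι := Fintype.card_pos
  have hnR : (0 : ℝ) < Fintype.card ι := by exact_mod_cast hn
  have hc0 : (0 : ℝ) ≤ c := by linarith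
  set t : ℝ := c ^ ((Fintype.card ι : ℝ)⁻¹) with ht
  have ht1 : 1 < t := Real.one_lt_rpow hc (inv_pos.2 hnR)
  have ht0 : 0 < t := by linarith
  have htn : t ^ Fintype.card ι = c := Real.rpow_inv_natCast_pow hc0 hn.ne'
  have h1 : (Fintype.card ι : ℝ) ≤ ∑ i, z i / t := by
    apply card_le_sum_of_one_le_prod
    · intro i
      exact div_nonneg (hz i) ht0.le
    · rw [Finset.prod_div_distrib, Finset.prod_const, Finset.card_univ, htn,
        le_div_iff₀ (by linarith), one_mul]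
      exact hprod
  rw [← Finset.sum_div, le_div_iff₀ ht0] at h1
  have h2 : (Fintype.card ι : ℝ) < (Fintype.card ι : ℝ) * t := by
    nlinarith
  linarith

/-- **D1**: the strict version of `card_units_mul_pow_le_sum_contrib_self` for characters of
positive height. -/
theorem card_units_mul_pow_lt_sum_contrib_self [Fintype (IrrCharacter G)] (hM : IsPModular p M)
    (H : Subgroup G) [Fintype H] [Fintype (IrrCharacter H)] (ξ₁ : IrrCharacter H)
    [DecidablePred (· ∈ blockOf M (ξ₁ : H → ℂ))] {B : Set (IrrCharacter G)}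
    (hind : IsInducedBlock M H (blockOf M (ξ₁ : H → ℂ)) B)
    (hdef : blockDefect p (blockOf M (ξ₁ : H → ℂ)) = blockDefect p B) (y : H)
    (hyc : y ∈ Subgroup.center H) (hy : ∃ k : ℕ, orderOf y = p ^ k)
    (hC : ∀ g : G, g * (y : G) * g⁻¹ = (y : G) → g ∈ H) {χ : IrrCharacter G}
    (hχ : χ ∈ B) (hh : 1 ≤ blockHeight p B (χ : G → ℂ)) (m : ℕ) [NeZero m]
    (hm : m = Nat.card G) :
    (Fintype.card (ZMod m)ˣ : ℝ) * (p : ℝ) ^ blockHeight p B (χ : G → ℂ) <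
      ∑ k : (ZMod m)ˣ, (p : ℝ) ^ blockDefect p B * ∑ ψ : IrrCharacter G,
        ‖contrib p H (blockOf M (ξ₁ : H → ℂ)) (y ^ (k : ZMod m).val) (χ : G → ℂ) (ψ : G → ℂ)‖ ^ 2 := by
  classical
  have hPr := isPrime_of_isPModular hM
  have hp : p.Prime := Fact.out
  have hp0 : (p : ℂ) ≠ 0 := Nat.cast_ne_zero.2 hp.ne_zero
  have hpR : (0 : ℝ) < p := by exact_mod_cast hp.pos
  set d := blockDefect p B with hd
  set h := blockHeight p B (χ : G → ℂ) with hhh
  obtain ⟨χ₁, hχ₁⟩ := hind.2.1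
  -- data for the powers of `y`
  have hord_dvd : orderOf y ∣ m := by
    rw [hm]
    exact (orderOf_dvd_natCard y).trans (Subgroup.card_subgroup_dvd_card H)
  have hdata : ∀ σ : Gal(CyclotomicField m ℚ/ℚ),
      y ^ (cycPow m σ).val ∈ Subgroup.center H ∧
      (∃ k : ℕ, orderOf (y ^ (cycPow m σ).val) = p ^ k) ∧
      ∀ g : G, g * ((y ^ (cycPow m σ).val : H) : G) * g⁻¹ = ((y ^ (cycPow m σ).val : H) : G) →
        g ∈ H := by
    intro σ
    exact pow_central_data H hyc hy hp hC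
      (Nat.Coprime.coprime_dvd_right hord_dvd (cycPow_val_coprime m σ))
  -- the real numbers `r σ`
  set r : Gal(CyclotomicField m ℚ/ℚ) → ℝ := fun σ => ∑ ψ : IrrCharacter G,
    ‖contrib p H (blockOf M (ξ₁ : H → ℂ)) (y ^ (cycPow m σ).val) (χ : G → ℂ) (ψ : G → ℂ)‖ ^ 2
    with hr
  have hr0 : ∀ σ, 0 ≤ r σ := fun σ => Finset.sum_nonneg fun ψ _ => by positivity
  have hcr : ∀ σ, contrib p H (blockOf M (ξ₁ : H → ℂ)) (y ^ (cycPow m σ).val) (χ : G → ℂ)
      (χ : G → ℂ) = ((r σ : ℝ) : ℂ) := fun σ =>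
    contrib_self_eq_sum H hM (hdata σ).1 (hdata σ).2.1 (hdata σ).2.2 ξ₁ χ
  obtain ⟨x, hx⟩ := exists_cyc_contrib (p := p) H (blockOf M (ξ₁ : H → ℂ)) y hyc χ χ
    ((p ^ d : ℕ) : ℚ) m hm
  have hcast : (((p ^ d : ℕ) : ℚ) : ℂ) = (p : ℂ) ^ d := by push_cast; rfl
  simp only [hcast] at hx
  have hx' : ∀ σ, cycEmb m (σ x) = (((p : ℝ) ^ d * r σ : ℝ) : ℂ) := by
    intro σ
    rw [hx σ, hcr σ]
    push_cast
    rfl
  have hym : y ^ m = 1 := by
    rw [hm]
    obtain ⟨q, hq⟩ := Subgroup.card_subgroup_dvd_card H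
    rw [hq, pow_mul, pow_card_eq_one', one_pow]
  have hk1 : (cycPow m (1 : Gal(CyclotomicField m ℚ/ℚ))) = 1 := by simp [cycPow]
  have h1 : cycEmb m x = (p : ℂ) ^ d *
      contrib p H (blockOf M (ξ₁ : H → ℂ)) y (χ : G → ℂ) (χ : G → ℂ) := by
    have := hx 1
    rw [AlgEquiv.one_apply] at this
    rw [this, hk1, pow_val_one_eq m y hym]
  have hdb : blockDefect p (blockOf M (ξ₁ : H → ℂ)) = d := hdef
  have hint : IsIntegral ℤ (cycEmb m x) := by
    rw [h1, ← hdb]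
    exact isIntegral_pow_mul_contrib H ξ₁ hM hyc χ χ
  -- non-vanishing
  obtain ⟨ψ₀, hψ₀B, hψ₀0⟩ := Cfsg.Agent.Lib.L0.BlockHeight.exists_height_zero (p := p) (M := M) χ₁
  rw [← hχ₁] at hψ₀B hψ₀0
  have hne : cycEmb m x ≠ 0 := by
    rw [h1]
    refine mul_ne_zero (pow_ne_zero _ hp0) ?_
    have h2 := contrib_ne_zero_of_height_zero H ξ₁ hM hind hdef hyc hy hψ₀B hψ₀0 hχ
    have h3 := contrib_conj H (blockOf M (ξ₁ : H → ℂ)) y hM hyc ξ₁ rfl ψ₀ χ
    have h4 : contrib p H (blockOf M (ξ₁ : H → ℂ)) y (χ : G → ℂ) (ψ₀ : G → ℂ) ≠ 0 := by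
      rw [← h3]
      exact (map_ne_zero _).2 h2
    have h5 := hcr 1
    rw [hk1, pow_val_one_eq m y hym] at h5
    rw [h5]
    have h6 : 0 < r 1 := by
      rw [hr]
      simp only
      rw [hk1, pow_val_one_eq m y hym]
      refine lt_of_lt_of_le ?_ (Finset.single_le_sum (fun ψ _ => by positivity)
        (Finset.mem_univ ψ₀))
      have := norm_pos_iff.2 h4
      positivity
    exact_mod_cast h6.ne'
  obtain ⟨N, hN0, hN⟩ := exists_int_prod_galois m x hint hne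
  set φ := Fintype.card Gal(CyclotomicField m ℚ/ℚ) with hφ
  -- divisibility of `N`
  set m' : ℕ := Nat.card G / p ^ (Nat.card G).factorization p with hm'
  set rχ : ℕ := charDegree (χ : G → ℂ) / p ^ (charDegree (χ : G → ℂ)).factorization p with hrχ
  have hm'p : ¬ p ∣ m' := Nat.not_dvd_ordCompl hp Nat.card_pos.ne'
  have hfac : ∀ σ : Gal(CyclotomicField m ℚ/ℚ), ∃ w : ℂ, MemLocalIdeal M w ∧
      (m' : ℂ) * cycEmb m (σ x) = (p : ℂ) ^ h * w := by
    intro σ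
    have hmem := kc_omega_secElt_self_mem H ξ₁ hM hind (hdata σ).1 hχ hh
    subst hχ₁
    have hkey := ordCompl_mul_pow_mul_contrib H hM (blockOf M (ξ₁ : H → ℂ))
      (y ^ (cycPow m σ).val) χ₁ hχ (χ : G → ℂ)
    refine ⟨(rχ : ℂ) * omega (χ : G → ℂ)
      (secElt H (blockOf M (ξ₁ : H → ℂ)) (y ^ (cycPow m σ).val) p (χ : G → ℂ)), ?_, ?_⟩
    · exact memLocalIdeal_mul_left (natCast_mem_localRing _) hmem
    · rw [hx σ, hkey]
      ring
  choose w hwI hw using hfac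
  have hprod : ((m' ^ φ * N : ℤ) : ℂ) = (p : ℂ) ^ (h * φ) * ∏ σ : Gal(CyclotomicField m ℚ/ℚ), w σ := by
    have h2 : ∏ σ : Gal(CyclotomicField m ℚ/ℚ), ((m' : ℂ) * cycEmb m (σ x)) =
        ∏ σ : Gal(CyclotomicField m ℚ/ℚ), ((p : ℂ) ^ h * w σ) :=
      Finset.prod_congr rfl fun σ _ => hw σ
    rw [Finset.prod_mul_distrib, Finset.prod_mul_distrib, Finset.prod_const, Finset.prod_const,
      Finset.card_univ, hN, ← hφ, ← pow_mul] at h2
    push_cast
    exact h2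
  have hprodI : MemLocalIdeal M (∏ σ : Gal(CyclotomicField m ℚ/ℚ), w σ) :=
    kc_memLocalIdeal_prod _ hwI
  have hdvd : (p : ℤ) ^ (h * φ) ∣ m' ^ φ * N := by
    apply pow_dvd_of_intCast_div_mem hM
    rw [hprod, mul_div_cancel_left₀ _ (pow_ne_zero _ hp0)]
    exact memLocalRing_of_memLocalIdeal hprodI
  obtain ⟨q, hq⟩ := hdvd
  have hqI : (p : ℤ) ∣ q := by
    rw [← intCast_memLocalIdeal_iff hM]
    have h2 : (q : ℂ) = ∏ σ : Gal(CyclotomicField m ℚ/ℚ), w σ := by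
      have h3 : ((m' ^ φ * N : ℤ) : ℂ) = (p : ℂ) ^ (h * φ) * (q : ℂ) := by
        rw [hq]; push_cast; ring
      rw [hprod] at h3
      exact (mul_left_cancel₀ (pow_ne_zero _ hp0) h3).symm
    rw [h2]
    exact hprodI
  have hdvd' : (p : ℤ) ^ (h * φ + 1) ∣ m' ^ φ * N := by
    obtain ⟨q', rfl⟩ := hqI
    rw [hq, pow_succ]
    exact ⟨q', by ring⟩
  have hdvdN : p ^ (h * φ + 1) ∣ N.natAbs := by
    have h2 : p ^ (h * φ + 1) ∣ (m' ^ φ * N).natAbs := by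
      have := Int.natAbs_dvd_natAbs.2 hdvd'
      simpa [Int.natAbs_pow] using this
    rw [Int.natAbs_mul, Int.natAbs_pow, Int.natAbs_natCast] at h2
    refine (Nat.Coprime.dvd_of_dvd_mul_left ?_ h2)
    exact Nat.Coprime.pow _ _ ((Nat.Prime.coprime_iff_not_dvd hp).2 hm'p)
  have hNle : p ^ (h * φ + 1) ≤ N.natAbs :=
    Nat.le_of_dvd (Int.natAbs_pos.2 hN0) hdvdN
  -- the real product
  have hprodR : ∏ σ : Gal(CyclotomicField m ℚ/ℚ), ((p : ℝ) ^ d * r σ) = (N : ℝ) := by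
    have h2 : ((∏ σ : Gal(CyclotomicField m ℚ/ℚ), ((p : ℝ) ^ d * r σ) : ℝ) : ℂ) = ((N : ℝ) : ℂ) := by
      push_cast
      rw [← hN]
      refine Finset.prod_congr rfl fun σ _ => ?_
      rw [hx' σ]
      push_cast
      rfl
    exact_mod_cast h2
  have hNnonneg : (0 : ℝ) ≤ N := by
    rw [← hprodR]
    exact Finset.prod_nonneg fun σ _ => mul_nonneg (pow_nonneg hpR.le _) (hr0 σ)
  have hNge : (p : ℝ) ^ (h * φ + 1) ≤ (N : ℝ) := by
    have h2 : (N : ℝ) = (N.natAbs : ℝ) := by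
      have h3 : 0 ≤ N := by exact_mod_cast hNnonneg
      have h4 : (N.natAbs : ℤ) = N := Int.natAbs_of_nonneg h3
      calc (N : ℝ) = ((N.natAbs : ℤ) : ℝ) := by rw [h4]
        _ = (N.natAbs : ℝ) := Int.cast_natCast _
    rw [h2]
    exact_mod_cast hNle
  -- strict AM-GM
  have hp1 : (1 : ℝ) < p := by exact_mod_cast hp.one_lt
  have hamgm : (φ : ℝ) < ∑ σ : Gal(CyclotomicField m ℚ/ℚ), ((p : ℝ) ^ d * r σ) / (p : ℝ) ^ h := by
    apply kc_card_lt_sum_of_lt_prod _ _ hp1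
    · rw [Finset.prod_div_distrib, hprodR, Finset.prod_const, Finset.card_univ, ← hφ, ← pow_mul,
        le_div_iff₀ (pow_pos hpR _), ← pow_succ']
      exact hNge
    · intro σ
      exact div_nonneg (mul_nonneg (pow_nonneg hpR.le _) (hr0 σ)) (pow_nonneg hpR.le _)
  have hsum : ∑ k : (ZMod m)ˣ, (p : ℝ) ^ d * ∑ ψ : IrrCharacter G,
      ‖contrib p H (blockOf M (ξ₁ : H → ℂ)) (y ^ (k : ZMod m).val) (χ : G → ℂ) (ψ : G → ℂ)‖ ^ 2 =
      ∑ σ : Gal(CyclotomicField m ℚ/ℚ), (p : ℝ) ^ d * r σ := by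
    symm
    refine Fintype.sum_equiv (cycGalEquiv m).toEquiv _ _ fun σ => ?_
    rfl
  have hcard : Fintype.card (ZMod m)ˣ = φ :=
    (Fintype.card_congr (cycGalEquiv m).toEquiv).symm
  rw [hsum, hcard]
  rw [← Finset.sum_div, lt_div_iff₀ (pow_pos hpR _)] at hamgm
  exact hamgm

end Cfsg.Agent.Lib.H21.KC
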