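import Mathlib
import Cfsg.Prelude.Def_Blocks
import Cfsg.Agent.Lib.H21.BKFIB

/-!
# S4640, piece 7 (FIB) in the exact signature of `tools/blueprints/S4640_sigs.lean` (helper21)

`card_extensions`: for `N ⊴ G` with `G / N` abelian and `χ₀ ∈ Irr(G)` restricting irreducibly to `N`
and fixed by no nontrivial linear character of `G / N`, the fibre of restriction over `χ₀|_N` has
exactly `|G : N|` elements.
-/

set_option autoImplicit false

namespace Cfsg.Agent.Lib.H21.KK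

open Cfsg Cfsg.Agent.Lib.L0 Cfsg.Agent.Lib.H23 Cfsg.Agent.Lib.H24 Cfsg.Agent.Lib.H21.BK

section chars
variable {G : Type*} [Group G] [Fintype G]

theorem card_extensions (N : Subgroup G) [N.Normal] [Fintype N]
    (hab : ∀ a b : G, a * b * a⁻¹ * b⁻¹ ∈ N) (χ₀ : Cfsg.IrrCharacter G)
    (hirr : Cfsg.IsIrrCharacter N (fun n : N => (χ₀ : G → ℂ) n))
    (hno : ∀ β : G →* ℂˣ, (∀ n ∈ N, β n = 1) →
      (∀ g, (χ₀ : G → ℂ) g * ((β g : ℂˣ) : ℂ) = (χ₀ : G → ℂ) g) → β = 1) :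
    Nat.card {χ : Cfsg.IrrCharacter G // ∀ n : N, (χ : G → ℂ) n = (χ₀ : G → ℂ) n} = N.index := by
  classical
  rw [← card_twist N hab]
  symm
  have hres : ∀ (β : Twist N) (n : N), (twistIrr χ₀ β.1 : G → ℂ) n = (χ₀ : G → ℂ) n := by
    intro β n
    rw [twistIrr_apply, β.2 n, Units.val_one, mul_one]
  refine Nat.card_congr (Equiv.ofBijective
    (fun β : Twist N => (⟨twistIrr χ₀ β.1, hres β⟩ :
      {χ : Cfsg.IrrCharacter G // ∀ n : N, (χ : G → ℂ) n = (χ₀ : G → ℂ) n})) ⟨?_, ?_⟩)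
  · -- injective
    intro β β' h
    have h' : ∀ g : G, (χ₀ : G → ℂ) g * (β.1 g : ℂ) = (χ₀ : G → ℂ) g * (β'.1 g : ℂ) := by
      intro g
      have := congrArg (fun x : {χ : Cfsg.IrrCharacter G //
        ∀ n : N, (χ : G → ℂ) n = (χ₀ : G → ℂ) n} => ((x : Cfsg.IrrCharacter G) : G → ℂ) g) h
      simpa [twistIrr_apply] using this
    have hγ : β.1 * β'.1⁻¹ = 1 := by
      apply hno
      · intro n hn
        rw [MonoidHom.mul_apply, MonoidHom.inv_apply, β.2 ⟨n, hn⟩, β'.2 ⟨n, hn⟩, inv_one, mul_one]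
      · intro g
        rw [MonoidHom.mul_apply, MonoidHom.inv_apply, Units.val_mul, ← mul_assoc, h' g,
          mul_assoc, ← Units.val_mul, mul_inv_cancel, Units.val_one, mul_one]
    apply Subtype.ext
    exact mul_inv_eq_one.1 hγ
  · -- surjective
    rintro ⟨χ', hχ'⟩
    obtain ⟨β, hβN, hβ⟩ := exists_hom_of_restrict_eq N χ₀.2 χ'.2 hirr hχ'
    refine ⟨⟨β, hβN⟩, ?_⟩
    apply Subtype.ext
    apply Subtype.ext
    show (twistIrr χ₀ β : G → ℂ) = (χ' : G → ℂ)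
    rw [hβ]
    funext g
    rw [twistIrr_apply, Pi.mul_apply, homToFun_apply]

end chars

end Cfsg.Agent.Lib.H21.KK
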