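import Mathlib
import Cfsg.Agent.Lib.H21.HughesIndex

set_option autoImplicit false

namespace Cfsg.Agent.Lib.H21

variable {G : Type*} [Group G]

open scoped IsMulCommutative

/-- `(w g)^n = (∏_{i<n} g^i w g^{-i}) g^n` for `w` in an abelian normal subgroup `W`. -/
theorem mul_pow_eq_prod_conj {W : Subgroup G} [W.Normal] [IsMulCommutative W] (w : W) (g : G)
    (n : ℕ) :
    ((w : G) * g) ^ n =
      ((∏ i ∈ Finset.range n, MulAut.conjNormal (g ^ i) w : W) : G) * g ^ n := by
  induction n with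
  | zero => simp
  | succ n ih =>
    rw [pow_succ, ih, Finset.prod_range_succ, Subgroup.coe_mul, MulAut.conjNormal_apply, pow_succ]
    group

/-- powers of `x * r` stay in `x ^ i * R` when `x` normalizes `R` -/
theorem exists_pow_mul_eq {R : Subgroup G} {x : G} (hxR : x ∈ Subgroup.normalizer (R : Set G))
    (r : G) (hr : r ∈ R) (i : ℕ) : (x ^ i)⁻¹ * (x * r) ^ i ∈ R := by
  induction i with
  | zero => simp
  | succ i ih =>
    have h1 : (x ^ (i + 1))⁻¹ * (x * r) ^ (i + 1) =
        x⁻¹ * ((x ^ i)⁻¹ * (x * r) ^ i) * x⁻¹⁻¹ * r := by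
      rw [pow_succ, pow_succ]; group
    rw [h1]
    refine R.mul_mem ?_ hr
    exact (Subgroup.mem_normalizer_iff.mp (Subgroup.inv_mem _ hxR) _).mp ih

/-- **Norm trick.** Under the Hughes hypothesis, a `p'`-subgroup `R ≤ H` normalized by an element
outside `H` centralizes every abelian normal `p`-subgroup `W ≤ H` of `G`. -/
theorem HpHyp.centralizes [Finite G] {p : ℕ} [hp : Fact p.Prime] {H : Subgroup G} (hH : HpHyp p H)
    {W R : Subgroup G} [hWn : W.Normal] [IsMulCommutative W] (hWH : W ≤ H) (hWp : IsPGroup p W)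
    (hRH : R ≤ H) (hR : (Nat.card R).Coprime p) {x : G} (hx : x ∉ H)
    (hxR : x ∈ Subgroup.normalizer (R : Set G)) : R ≤ Subgroup.centralizer (W : Set G) := by
  classical
  haveI : Fintype R := Fintype.ofFinite R
  have hxp : x ^ p = 1 := hH.pow x hx
  have hp1 : 1 ≤ p := hp.out.one_lt.le
  -- ν i : R → R
  let ν : ℕ → R → R := fun i r => ⟨(x ^ i)⁻¹ * (x * r) ^ i, exists_pow_mul_eq hxR r r.2 i⟩
  have hν : ∀ (i : ℕ) (r : R), (x * (r : G)) ^ i = x ^ i * (ν i r : G) := by
    intro i r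
    show _ = x ^ i * ((x ^ i)⁻¹ * (x * r) ^ i)
    rw [mul_inv_cancel_left]
  have hxr : ∀ r : R, x * (r : G) ∉ H := by
    intro r hm
    apply hx
    have := H.mul_mem hm (H.inv_mem (hRH r.2))
    rwa [mul_inv_cancel_right] at this
  have hνinj : ∀ i : ℕ, 0 < i → i < p → Function.Injective (ν i) := by
    intro i hi0 hip r s hrs
    have h1 : (x * (r : G)) ^ i = (x * (s : G)) ^ i := by rw [hν, hν, hrs]
    have hcop : Nat.Coprime i p :=
      (Nat.coprime_comm.mp ((Nat.Prime.coprime_iff_not_dvd hp.out).mpr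
        (Nat.not_dvd_of_pos_of_lt hi0 hip)))
    obtain ⟨m, -, hm⟩ := Nat.exists_mul_mod_eq_one_of_coprime hcop hp.out.one_lt
    have hpow : ∀ g : G, g ^ p = 1 → (g ^ i) ^ m = g := by
      intro g hg
      rw [← pow_mul, ← Nat.div_add_mod (i * m) p, hm, pow_add, pow_mul, hg, one_pow, one_mul,
        pow_one]
    have h2 : x * (r : G) = x * (s : G) := by
      rw [← hpow _ (hH.pow _ (hxr r)), ← hpow _ (hH.pow _ (hxr s)), h1]
    exact Subtype.ext (mul_left_cancel h2)
  have hνbij : ∀ i : ℕ, 0 < i → i < p → Function.Bijective (ν i) := fun i h0 h1 =>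
    (hνinj i h0 h1).bijective_of_finite
  intro r₀ hr₀
  rw [Subgroup.mem_centralizer_iff]
  intro w' hw'
  -- work with w : W
  set w : W := ⟨w', hw'⟩ with hwdef
  set c : G →* MulAut W := MulAut.conjNormal with hc
  -- the basic identity for each r
  have hid : ∀ r : R, (∏ i ∈ Finset.range p, c ((x * (r : G)) ^ i) w) = 1 := by
    intro r
    -- use w' * (x r) ∉ H
    have hnot : (w : G) * (x * (r : G)) ∉ H := by
      intro hm
      apply hxr r
      have := H.mul_mem (H.inv_mem (hWH w.2)) hm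
      rwa [inv_mul_cancel_left] at this
    have h1 := mul_pow_eq_prod_conj w (x * (r : G)) p
    rw [hH.pow _ hnot, hH.pow _ (hxr r), mul_one] at h1
    exact Subtype.ext h1.symm
  -- N := ∏_r c r w
  set N : W := ∏ r : R, c (r : G) w with hN
  have hNfix : ∀ s : R, c (s : G) N = N := by
    intro s
    rw [hN, map_prod]
    have : ∀ r : R, c (s : G) (c (r : G) w) = c ((s * r : R) : G) w := by
      intro r
      rw [Subgroup.coe_mul, map_mul]; rfl
    simp_rw [this]
    exact (Group.mulLeft_bijective s).prod_comp (fun r : R => c (r : G) w)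
  have hprod : (∏ i ∈ Finset.range (p - 1), c (x ^ (i + 1)) N) * w ^ Nat.card R = 1 := by
    have h1 : ∏ r : R, ∏ i ∈ Finset.range p, c ((x * (r : G)) ^ i) w = 1 := by
      apply Finset.prod_eq_one
      intro r _
      exact hid r
    rw [Finset.prod_comm] at h1
    have hp' : p = (p - 1) + 1 := by omega
    rw [hp', Finset.prod_range_succ'] at h1
    have h0 : ∏ r : R, c ((x * (r : G)) ^ 0) w = w ^ Nat.card R := by
      simp only [pow_zero, map_one, MulAut.one_apply, Finset.prod_const, Finset.card_univ]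
      rw [Nat.card_eq_fintype_card]
    rw [h0] at h1
    have h2 : ∀ i ∈ Finset.range (p - 1),
        ∏ r : R, c ((x * (r : G)) ^ (i + 1)) w = c (x ^ (i + 1)) N := by
      intro i hi
      rw [Finset.mem_range] at hi
      have hb := hνbij (i + 1) (Nat.succ_pos i) (by omega)
      rw [hN, map_prod]
      rw [← hb.prod_comp (fun r : R => c (x ^ (i + 1)) (c (r : G) w))]
      apply Finset.prod_congr rfl
      intro r _
      rw [hν (i + 1) r, map_mul]; rfl
    rw [Finset.prod_congr rfl h2] at h1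
    exact h1
  -- the product is R-fixed
  have hufix : c r₀ (∏ i ∈ Finset.range (p - 1), c (x ^ (i + 1)) N) =
      ∏ i ∈ Finset.range (p - 1), c (x ^ (i + 1)) N := by
    rw [map_prod]
    apply Finset.prod_congr rfl
    intro i _
    have hmem : (x ^ (i + 1))⁻¹ * r₀ * (x ^ (i + 1))⁻¹⁻¹ ∈ R :=
      (Subgroup.mem_normalizer_iff.mp
        (Subgroup.inv_mem _ (Subgroup.pow_mem _ hxR (i + 1))) _).mp hr₀
    have h1 : c r₀ (c (x ^ (i + 1)) N) =
        c (x ^ (i + 1)) (c ((x ^ (i + 1))⁻¹ * r₀ * (x ^ (i + 1))⁻¹⁻¹) N) := by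
      rw [← MulAut.mul_apply, ← MulAut.mul_apply, ← map_mul, ← map_mul]
      congr 2
      group
    rw [h1, hNfix ⟨_, hmem⟩]
  -- hence w ^ |R| is fixed by r₀
  have hwfix : c r₀ (w ^ Nat.card R) = w ^ Nat.card R := by
    have h1 : w ^ Nat.card R = (∏ i ∈ Finset.range (p - 1), c (x ^ (i + 1)) N)⁻¹ :=
      eq_inv_of_mul_eq_one_right hprod
    rw [h1, map_inv, hufix]
  -- so w is fixed by r₀
  have hfix : c r₀ w = w := by
    have h1 : (c r₀ w * w⁻¹) ^ Nat.card R = 1 := by
      rw [mul_pow, inv_pow, ← map_pow, hwfix, mul_inv_cancel]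
    obtain ⟨k, hk⟩ := hWp (c r₀ w * w⁻¹)
    have h2 : orderOf (c r₀ w * w⁻¹) ∣ Nat.gcd (Nat.card R) (p ^ k) :=
      Nat.dvd_gcd (orderOf_dvd_of_pow_eq_one h1) (orderOf_dvd_of_pow_eq_one hk)
    rw [(Nat.Coprime.pow_right k hR).gcd_eq_one, Nat.dvd_one, orderOf_eq_one_iff] at h2
    exact mul_inv_eq_one.mp h2
  have h3 := congrArg Subtype.val hfix
  rw [hc, MulAut.conjNormal_apply] at h3
  -- h3 : r₀ * w' * r₀⁻¹ = w'
  calc w' * r₀ = r₀ * w' * r₀⁻¹ * r₀ := by rw [h3]
    _ = r₀ * w' := by group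

end Cfsg.Agent.Lib.H21
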