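import Mathlib
import Cfsg.Agent.Lib.H21.NormTrick
import Cfsg.Agent.Lib.L0.GlaubermanNPC
import Cfsg.Agent.Lib.L0.FrobeniusPC
import Cfsg.Agent.Lib.H1.FpfNilpotent
import Cfsg.Agent.Lib.H7.Coprime
import Cfsg.Agent.Lib.H7.Fitting

set_option autoImplicit false

namespace Cfsg.Agent.Lib.H21

universe u

open Cfsg Cfsg.Agent.Lib.L0 Cfsg.Agent.Lib.H1

theorem isNilpotent_of_injective {A B : Type*} [Group A] [Group B] [hB : Group.IsNilpotent B]
    (f : A →* B) (hf : Function.Injective f) : Group.IsNilpotent A := by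
  haveI : Group.IsNilpotent f.range := inferInstance
  exact Group.nilpotent_of_mulEquiv (MonoidHom.ofInjective hf).symm

/-- induction hypothesis for Kegel's theorem -/
def KegelIH (p n : ℕ) : Prop :=
  ∀ (G : Type u) [Group G] [Finite G], Nat.card G < n → ∀ H : Subgroup G, HpHyp p H →
    H.index = p → Group.IsNilpotent H

section

variable {G : Type u} [Group G] [Finite G] {p : ℕ} [hp : Fact p.Prime]

/-- the induction hypothesis applied to a proper subgroup `L` not inside `H` -/
theorem KegelIH.sub (IH : KegelIH.{u} p (Nat.card G)) {H : Subgroup G} (hH : HpHyp p H)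
    (hidx : H.index = p) (L : Subgroup G) (hL : L ≠ ⊤) (hLH : ¬ L ≤ H) :
    Group.IsNilpotent (H.subgroupOf L) := by
  haveI := hH.normal
  apply IH L (card_lt_of_ne_top hL)  (H.subgroupOf L)
  · refine ⟨Subgroup.normal_subgroupOf, ?_⟩
    intro g hg
    apply Subtype.ext
    rw [Subgroup.coe_pow]
    exact hH.pow _ (fun hm => hg (Subgroup.mem_subgroupOf.mpr hm))
  · have h1 : H.relIndex L ∣ p := hidx ▸ Subgroup.relIndex_dvd_index_of_normal H L
    rcases (Nat.dvd_prime hp.out).mp h1 with h2 | h2
    · exact absurd (Subgroup.relIndex_eq_one.mp h2) hLH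
    · exact h2

/-- the induction hypothesis applied to the quotient by a nontrivial normal `W ≤ H` -/
theorem KegelIH.quot (IH : KegelIH.{u} p (Nat.card G)) {H : Subgroup G} (hH : HpHyp p H)
    (hidx : H.index = p) (W : Subgroup G) [W.Normal] (hW : W ≠ ⊥) (hWH : W ≤ H) :
    Group.IsNilpotent (H.map (QuotientGroup.mk' W)) := by
  haveI := hH.normal
  have hcardlt : Nat.card (G ⧸ W) < Nat.card G := by
    have h1 : Nat.card G = Nat.card (G ⧸ W) * Nat.card W := by
      rw [← Subgroup.index_eq_card, Subgroup.index_mul_card]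
    have h2 : 1 < Nat.card W := (Subgroup.one_lt_card_iff_ne_bot (H := W)).mpr hW
    have h3 : 0 < Nat.card (G ⧸ W) := Nat.card_pos
    rw [h1]
    nlinarith
  apply IH (G ⧸ W) hcardlt (H.map (QuotientGroup.mk' W))
  · refine ⟨Subgroup.Normal.map inferInstance _ (QuotientGroup.mk'_surjective W), ?_⟩
    intro g hg
    obtain ⟨g', rfl⟩ := QuotientGroup.mk'_surjective W g
    have hg' : g' ∉ H := fun hm => hg ⟨g', hm, rfl⟩
    rw [← map_pow, hH.pow g' hg', map_one]
  · rw [Subgroup.index_map_eq H (QuotientGroup.mk'_surjective W)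
      (by rw [QuotientGroup.ker_mk']; exact hWH), hidx]

/-- Case B of the normal `p`-complement step: `W` abelian normal `p`-subgroup centralized by all
`p'`-Sylow subgroups of `H`, and `H / W` nilpotent. -/
theorem npc_of_caseB {H W : Subgroup G} [W.Normal] (hWH : W ≤ H)
    (hWp : IsPGroup p W)
    (hB1 : ∀ q : ℕ, q.Prime → q ≠ p → ∀ R : Sylow q H,
      (R : Subgroup H).map H.subtype ≤ Subgroup.centralizer (W : Set G))
    (hB2 : Group.IsNilpotent (H.map (QuotientGroup.mk' W))) : HasNormalPComplement p H := by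
  apply hasNormalPComplement_of_frobHyp
  intro T hT y hyT hyo
  set WH : Subgroup H := W.subgroupOf H with hWH'
  haveI : WH.Normal := Subgroup.normal_subgroupOf
  set C : Subgroup H := Subgroup.centralizer (WH : Set H) with hC
  haveI : C.Normal := Subgroup.normal_centralizer
  -- index of C is a power of p
  have hCidx : ∃ k, C.index = p ^ k := by
    refine ⟨_, Nat.eq_prime_pow_of_unique_prime_dvd Subgroup.index_ne_zero_of_finite ?_⟩
    intro d hd hdvd
    by_contra hne
    haveI : Fact d.Prime := ⟨hd⟩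
    obtain ⟨R⟩ : Nonempty (Sylow d H) := inferInstance
    have hRC : (R : Subgroup H) ≤ C := by
      intro r hr
      rw [hC, Subgroup.mem_centralizer_iff]
      intro w hw
      have h1 : (r : G) ∈ Subgroup.centralizer (W : Set G) :=
        hB1 d hd hne R ⟨r, hr, rfl⟩
      rw [Subgroup.mem_centralizer_iff] at h1
      apply Subtype.ext
      exact h1 (w : G) (Subgroup.mem_subgroupOf.mp hw)
    have h2 : C.index ∣ (R : Subgroup H).index := Subgroup.index_dvd_of_le hRC
    exact R.not_dvd_index (hdvd.trans h2)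
  obtain ⟨k, hk⟩ := hCidx
  have hyC : y ∈ C := mem_of_coprime_orderOf_of_index_pow C k hk y hyo
  have hWHp : IsPGroup p WH := by
    intro w
    obtain ⟨j, hj⟩ := hWp ⟨(w : H), Subgroup.mem_subgroupOf.mp w.2⟩
    refine ⟨j, ?_⟩
    apply Subtype.ext
    apply Subtype.ext
    have := congrArg Subtype.val hj
    simpa using this
  obtain ⟨j, hj⟩ := IsPGroup.iff_card.mp hWHp
  have hcomm := Cfsg.Agent.Lib.H7.commute_of_stable_step (G := H) (a := y) (Q := T) (R := WH)
    (by rw [hj]; exact Nat.Coprime.pow_right j hyo) ?_ ?_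
  · rw [Subgroup.mem_centralizer_iff]
    intro t ht
    exact (hcomm t ht).symm
  · intro t ht
    rw [Subgroup.mem_subgroupOf]
    -- images commute in the nilpotent quotient
    haveI := hB2
    let yb : H.map (QuotientGroup.mk' W) := ⟨QuotientGroup.mk' W y, ⟨y, y.2, rfl⟩⟩
    let tb : H.map (QuotientGroup.mk' W) := ⟨QuotientGroup.mk' W t, ⟨t, t.2, rfl⟩⟩
    have hoy : orderOf yb ∣ orderOf y := by
      apply orderOf_dvd_of_pow_eq_one
      apply Subtype.ext
      show (QuotientGroup.mk' W (y : G)) ^ orderOf y = 1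
      rw [← map_pow, ← Subgroup.coe_pow, pow_orderOf_eq_one]
      simp
    have hot : orderOf tb ∣ orderOf t := by
      apply orderOf_dvd_of_pow_eq_one
      apply Subtype.ext
      show (QuotientGroup.mk' W (t : G)) ^ orderOf t = 1
      rw [← map_pow, ← Subgroup.coe_pow, pow_orderOf_eq_one]
      simp
    obtain ⟨i, hi⟩ := (IsPGroup.iff_orderOf.mp hT) ⟨t, ht⟩
    rw [Subgroup.orderOf_mk] at hi
    have hcop : (orderOf yb).Coprime (orderOf tb) := by
      apply Nat.Coprime.coprime_dvd_left hoy
      apply Nat.Coprime.coprime_dvd_right hot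
      rw [hi]
      exact Nat.Coprime.pow_right i hyo
    have h1 := Cfsg.Agent.Lib.H8.commute_of_coprime_orderOf _ yb tb hcop
    have h2 : (QuotientGroup.mk' W (y : G)) * QuotientGroup.mk' W (t : G) =
        QuotientGroup.mk' W (t : G) * QuotientGroup.mk' W (y : G) :=
      congrArg Subtype.val h1.eq
    have h3 : QuotientGroup.mk' W ((y : G) * t * (y : G)⁻¹ * (t : G)⁻¹) = 1 := by
      rw [map_mul, map_mul, map_inv, map_inv, map_mul, h2]
      group
    rw [QuotientGroup.mk'_apply, QuotientGroup.eq_one_iff] at h3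
    simpa using h3
  · intro r hr
    rw [hC, Subgroup.mem_centralizer_iff] at hyC
    exact (hyC r hr).symm

/-- a Frattini-type choice: an element outside `H` normalizing (the image of) a Sylow subgroup
of `H` -/
theorem exists_normalizing_not_mem {H : Subgroup G} [H.Normal] (hHtop : H ≠ ⊤) {q : ℕ}
    [Fact q.Prime] (R : Sylow q H) :
    ∃ x : G, x ∈ Subgroup.normalizer (((R : Subgroup H).map H.subtype : Subgroup G) : Set G) ∧
      x ∉ H := by
  by_contra hcon
  push Not at hcon
  apply hHtop
  have h1 := Sylow.normalizer_sup_eq_top R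
  rw [eq_top_iff, ← h1]
  exact sup_le (fun x hx => hcon x hx) le_rfl

/-- Step 1: `H` has a normal `p`-complement (`p` odd). -/
theorem npc_step (IH : KegelIH.{u} p (Nat.card G)) (hp2 : p ≠ 2) {H : Subgroup G}
    (hH : HpHyp p H) (hidx : H.index = p) : HasNormalPComplement p H := by
  haveI := hH.normal
  have hHtop : H ≠ ⊤ := by
    intro h
    rw [h, Subgroup.index_top] at hidx
    exact hp.out.one_lt.ne hidx
  by_cases hpH : p ∣ Nat.card H
  swap
  · exact hasNormalPComplement_of_not_dvd hpH
  obtain ⟨S₀⟩ : Nonempty (Sylow p H) := inferInstance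
  set P₀ : Subgroup G := (S₀ : Subgroup H).map H.subtype with hP₀
  obtain ⟨x, hxP₀, hxH⟩ := exists_normalizing_not_mem hHtop S₀
  set WH : Subgroup H := Cfsg.centerThompsonAOf (S₀ : Subgroup H) with hWH
  set W : Subgroup G := WH.map H.subtype with hW
  have hWeq : Cfsg.centerThompsonAOf P₀ = W :=
    Cfsg.Agent.Lib.H4.ZJ.centerThompsonAOf_map H.subtype (S₀ : Subgroup H)
      (H.subtype_injective.injOn)
  have hWHle : WH ≤ (S₀ : Subgroup H) := centerThompsonAOf_le _
  have hWH' : W ≤ H := by
    rintro _ ⟨w, _, rfl⟩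
    exact w.2
  have hxW : x ∈ Subgroup.normalizer (W : Set G) := by
    rw [Subgroup.mem_normalizer_iff_map_conj_eq]
    have h1 : P₀.map (MulAut.conj x).toMonoidHom = P₀ :=
      Subgroup.mem_normalizer_iff_map_conj_eq.mp hxP₀
    have h2 := Cfsg.Agent.Lib.H4.ZJ.centerThompsonAOf_map (MulAut.conj x).toMonoidHom P₀
      ((MulAut.conj x).injective.injOn)
    rw [h1, hWeq] at h2
    exact h2.symm
  have hS₀ne : (S₀ : Subgroup H) ≠ ⊥ := by
    intro h
    have h1 := S₀.card_eq_multiplicity
    rw [h, Subgroup.card_bot] at h1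
    have h3 : 0 < (Nat.card H).factorization p :=
      hp.out.factorization_pos_of_dvd Nat.card_pos.ne' hpH
    have : 1 < p ^ (Nat.card H).factorization p := Nat.one_lt_pow h3.ne' hp.out.one_lt
    omega
  have hWHne : WH ≠ ⊥ := by
    intro h
    have h1 := ZZ_ne_bot S₀.2 hS₀ne
    apply h1
    rw [eq_bot_iff, ← h]
    exact zOf_le_centerThompsonAOf (S₀ : Subgroup H)
  have hWne : W ≠ ⊥ := by
    intro h
    apply hWHne
    rw [eq_bot_iff]
    intro w hw
    have : (w : G) ∈ W := ⟨w, hw, rfl⟩
    rw [h, Subgroup.mem_bot] at this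
    rw [Subgroup.mem_bot]
    exact Subtype.ext this
  have hWp : IsPGroup p W := (S₀.2.to_le hWHle).map _
  by_cases hN : Subgroup.normalizer (W : Set G) = ⊤
  · -- Case B
    haveI : W.Normal := Subgroup.normalizer_eq_top_iff.mp hN
    have hB2 := IH.quot hH hidx W hWne hWH'
    apply npc_of_caseB hWH' hWp ?_ hB2
    intro q hq hqp R
    haveI : Fact q.Prime := ⟨hq⟩
    obtain ⟨x', hx'R, hx'H⟩ := exists_normalizing_not_mem hHtop R
    haveI : IsMulCommutative W := by
      refine ⟨⟨?_⟩⟩
      rintro ⟨a, ha⟩ ⟨b, hb⟩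
      apply Subtype.ext
      rw [← hWeq] at ha hb
      have ha2 : a ∈ Subgroup.centralizer (Cfsg.thompsonSubgroupAOf P₀ : Set G) := ha.2
      rw [Subgroup.mem_centralizer_iff] at ha2
      exact (ha2 b hb.1).symm
    have hRH : (R : Subgroup H).map H.subtype ≤ H := by
      rintro _ ⟨r, _, rfl⟩
      exact r.2
    have hRcop : (Nat.card ((R : Subgroup H).map H.subtype : Subgroup G)).Coprime p := by
      rw [Subgroup.card_map_of_injective H.subtype_injective, R.card_eq_multiplicity]
      exact Nat.Coprime.pow_left _ ((Nat.coprime_primes hq hp.out).mpr hqp)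
    exact hH.centralizes hWH' hWp hRH hRcop hx'H hx'R
  · -- Case A
    set L : Subgroup G := Subgroup.normalizer (W : Set G) with hL
    have hLH : ¬ L ≤ H := fun hle => hxH (hle hxW)
    haveI hnil := IH.sub hH hidx L hN hLH
    apply glauberman_npc hp2 H S₀
    have hmemL : ∀ y : Subgroup.normalizer (WH : Set H), ((y : H) : G) ∈ L := by
      intro y
      apply Subgroup.mem_normalizer_fintype
      rintro _ ⟨w, hw, rfl⟩
      have := (Subgroup.mem_normalizer_iff.mp y.2 w).mp hw
      exact ⟨_, this, by simp⟩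
    let f₀ : Subgroup.normalizer (WH : Set H) →* G :=
      H.subtype.comp (Subgroup.normalizer (WH : Set H)).subtype
    let f₁ : Subgroup.normalizer (WH : Set H) →* L := f₀.codRestrict L hmemL
    let f : Subgroup.normalizer (WH : Set H) →* H.subgroupOf L :=
      f₁.codRestrict (H.subgroupOf L) (fun y => Subgroup.mem_subgroupOf.mpr (y : H).2)
    have hf : Function.Injective f := by
      intro a b hab
      have h1 : ((f a : L) : G) = ((f b : L) : G) := by rw [hab]
      exact Subtype.ext (Subtype.ext h1)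
    haveI : Group.IsNilpotent (Subgroup.normalizer (WH : Set H)) := isNilpotent_of_injective f hf
    exact hnpc_of_isNilpotent p

/-- the inductive step of Kegel's theorem -/
theorem kegel_aux (IH : KegelIH.{u} p (Nat.card G)) {H : Subgroup G} (hH : HpHyp p H)
    (hidx : H.index = p) : Group.IsNilpotent H := by
  haveI := hH.normal
  have hHtop : H ≠ ⊤ := by
    intro h
    rw [h, Subgroup.index_top] at hidx
    exact hp.out.one_lt.ne hidx
  by_cases hp2 : p = 2
  · -- `p = 2`: `H` is abelian
    obtain ⟨x₀, hx₀⟩ : ∃ x₀ : G, x₀ ∉ H := by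
      by_contra hcon
      push Not at hcon
      exact hHtop (eq_top_iff.mpr fun x _ => hcon x)
    have hx2 : x₀ * x₀ = 1 := by
      have := hH.pow x₀ hx₀
      rwa [hp2, pow_two] at this
    have hinv : ∀ a ∈ H, x₀ * a * x₀ = a⁻¹ := by
      intro a ha
      have hnot : x₀ * a ∉ H := by
        intro hm
        apply hx₀
        have := H.mul_mem hm (H.inv_mem ha)
        rwa [mul_inv_cancel_right] at this
      have h1 := hH.pow _ hnot
      rw [hp2, pow_two] at h1
      -- x₀ a x₀ a = 1
      have h2 : x₀ * a * x₀ * a = 1 := by rw [← h1]; group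
      exact eq_inv_of_mul_eq_one_left h2
    have hcomm : ∀ a ∈ H, ∀ b ∈ H, a * b = b * a := by
      intro a ha b hb
      have h1 := hinv (a * b) (H.mul_mem ha hb)
      have h2 : x₀ * (a * b) * x₀ = (x₀ * a * x₀) * (x₀ * b * x₀) := by
        calc x₀ * (a * b) * x₀ = x₀ * a * 1 * b * x₀ := by group
          _ = x₀ * a * (x₀ * x₀) * b * x₀ := by rw [hx2]
          _ = _ := by group
      rw [h2, hinv a ha, hinv b hb] at h1
      -- a⁻¹ b⁻¹ = (ab)⁻¹ = b⁻¹ a⁻¹
      have h3 : (a⁻¹ * b⁻¹)⁻¹ = ((a * b)⁻¹)⁻¹ := by rw [h1]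
      rw [mul_inv_rev, inv_inv, inv_inv, inv_inv] at h3
      exact h3.symm
    letI : CommGroup H :=
      { (inferInstance : Group H) with
        mul_comm := fun a b => Subtype.ext (hcomm a a.2 b b.2) }
    exact CommGroup.isNilpotent
  · -- `p` odd
    have hnpc := npc_step IH hp2 hH hidx
    obtain ⟨S₀⟩ : Nonempty (Sylow p H) := inferInstance
    obtain ⟨KH, hKHn, hcompl⟩ := HasNormalPComplement.forall_sylow hnpc S₀
    haveI := hKHn
    have hKHcard : ¬ p ∣ Nat.card KH := by
      rw [← hcompl.index_eq_card]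
      exact S₀.not_dvd_index
    have hKHidx : ∃ k, KH.index = p ^ k := by
      rw [hcompl.symm.index_eq_card]
      exact S₀.2.exists_card_eq
    obtain ⟨k, hk⟩ := hKHidx
    by_cases hKbot : KH = ⊥
    · rw [hKbot, Subgroup.index_bot] at hk
      exact (IsPGroup.of_card hk).isNilpotent
    -- K as a subgroup of G
    set K : Subgroup G := KH.map H.subtype with hK
    have hKH : K ≤ H := by
      rintro _ ⟨y, _, rfl⟩
      exact y.2
    have hKcard : Nat.card K = Nat.card KH := Subgroup.card_map_of_injective H.subtype_injective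
    have hKcop : (Nat.card K).Coprime p := by
      rw [hKcard]
      exact ((Nat.Prime.coprime_iff_not_dvd hp.out).mpr hKHcard).symm
    have hKne : K ≠ ⊥ := by
      intro h
      apply hKbot
      rw [← Subgroup.card_eq_one, ← hKcard, h, Subgroup.card_bot]
    have hKmem : ∀ y : G, ∀ hy : y ∈ H, (orderOf y).Coprime p → y ∈ K := by
      intro y hy ho
      have : (⟨y, hy⟩ : H) ∈ KH := by
        apply mem_of_coprime_orderOf_of_index_pow KH k hk
        rwa [Subgroup.orderOf_mk]
      exact ⟨⟨y, hy⟩, this, rfl⟩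
    have hKord : ∀ y ∈ K, (orderOf y).Coprime p := by
      intro y hy
      have h1 : orderOf y ∣ Nat.card K := by
        have := orderOf_dvd_natCard (⟨y, hy⟩ : K)
        rwa [Subgroup.orderOf_mk] at this
      exact Nat.Coprime.coprime_dvd_left h1 hKcop
    haveI hKn : K.Normal := by
      refine ⟨fun y hy g => ?_⟩
      apply hKmem _ (hH.normal.conj_mem y (hKH hy) g)
      have : orderOf (g * y * g⁻¹) = orderOf y := by
        have := (MulAut.conj g).orderOf_eq y
        simpa using this
      rw [this]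
      exact hKord y hy
    -- Thompson: K is nilpotent
    obtain ⟨x, hxP₀, hxH⟩ := exists_normalizing_not_mem hHtop S₀
    have hKnil : Group.IsNilpotent K := by
      apply fpf_prime_nilpotent hp.out (Nat.card K) K rfl (MulAut.conjNormal x : MulAut K)
      · intro y hy
        have h1 : x * (y : G) * x⁻¹ = y := by
          rw [← MulAut.conjNormal_apply, hy]
        have := hH.fpf hxH (hKH y.2) h1 (hKord _ y.2)
        exact Subtype.ext this
      · rw [← map_pow, hH.pow x hxH, map_one]
    -- P₀ centralizes K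
    set P₀ : Subgroup G := (S₀ : Subgroup H).map H.subtype with hP₀
    have hP₀p : IsPGroup p P₀ := S₀.2.map _
    have hxp : IsPGroup p (Subgroup.zpowers x) := by
      apply IsPGroup.of_card (n := 1)
      rw [Nat.card_zpowers, pow_one]
      have h1 : orderOf x ∣ p := orderOf_dvd_of_pow_eq_one (hH.pow x hxH)
      rcases (Nat.dvd_prime hp.out).mp h1 with h2 | h2
      · rw [orderOf_eq_one_iff] at h2
        exact absurd (h2 ▸ H.one_mem) hxH
      · exact h2
    have hPp : IsPGroup p (P₀ ⊔ Subgroup.zpowers x : Subgroup G) :=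
      IsPGroup.to_sup_of_normal_left' hP₀p hxp (by
        rw [Subgroup.zpowers_le]; exact hxP₀)
    have hPH : ¬ (P₀ ⊔ Subgroup.zpowers x : Subgroup G) ≤ H := fun hle =>
      hxH (hle (le_sup_right (a := P₀) (Subgroup.mem_zpowers x)))
    obtain ⟨hcent, -⟩ := hH.fix hKH hKcop hKne hPp
      (by rw [Subgroup.normalizer_eq_top_iff.mpr hKn]; exact le_top) hPH
    have hP₀K : P₀ ≤ Subgroup.centralizer (K : Set G) := by
      intro y hy
      apply hcent
      refine ⟨?_, le_sup_left (a := P₀) hy⟩
      obtain ⟨s, _, rfl⟩ := hy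
      exact s.2
    -- S₀ is normal in H
    have hKHcent : KH ≤ Subgroup.centralizer ((S₀ : Subgroup H) : Set H) := by
      intro y hy
      rw [Subgroup.mem_centralizer_iff]
      intro s hs
      have h1 : (s : G) ∈ Subgroup.centralizer (K : Set G) := hP₀K ⟨s, hs, rfl⟩
      rw [Subgroup.mem_centralizer_iff] at h1
      have h2 := h1 (y : G) ⟨y, hy, rfl⟩
      exact Subtype.ext h2.symm
    haveI hS₀n : (S₀ : Subgroup H).Normal := by
      rw [← Subgroup.normalizer_eq_top_iff, eq_top_iff, ← hcompl.sup_eq_top]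
      apply sup_le
      · exact hKHcent.trans (Subgroup.centralizer_le_normalizer _)
      · exact Subgroup.le_normalizer
    have hKHnil : Group.IsNilpotent KH := by
      haveI := hKnil
      let f : KH →* K := (H.subtype.comp KH.subtype).codRestrict K (fun y => ⟨y, y.2, rfl⟩)
      apply isNilpotent_of_injective f
      intro a b hab
      have h1 : ((f a : K) : G) = ((f b : K) : G) := by rw [hab]
      exact Subtype.ext (Subtype.ext h1)
    have hS₀nil : Group.IsNilpotent (S₀ : Subgroup H) := S₀.2.isNilpotent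
    have htop := Cfsg.Agent.Lib.H7.isNilpotent_sup_of_normal KH (S₀ : Subgroup H) hKHnil hS₀nil
    rw [hcompl.sup_eq_top] at htop
    haveI := htop
    exact Group.nilpotent_of_mulEquiv (Subgroup.topEquiv (G := H))

end

/-- **Kegel's theorem** (after Hughes–Thompson): a normal subgroup `H` of index `p` all of whose
outside elements have order `p` is nilpotent. -/
theorem kegel {p : ℕ} [hp : Fact p.Prime] :
    ∀ (n : ℕ) (G : Type u) [Group G] [Finite G], Nat.card G = n → ∀ H : Subgroup G, HpHyp p H →
      H.index = p → Group.IsNilpotent H := by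
  intro n
  induction n using Nat.strong_induction_on with
  | _ n ih =>
    intro G _ _ hn H hH hidx
    have IH : KegelIH.{u} p (Nat.card G) := fun G' _ _ hlt H' h1 h2 =>
      ih (Nat.card G') (hn ▸ hlt) G' rfl H' h1 h2
    exact kegel_aux IH hH hidx

end Cfsg.Agent.Lib.H21
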