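import Mathlib

/-!
# Krull–Schmidt (Remak) for finite groups (helper21)

Normal endomorphisms, Fitting's lemma, the two-summand lemma and the exchange theorem.
-/

set_option autoImplicit false

namespace Cfsg.Agent.Lib.H21.KS

variable {A : Type*} [Group A]

/-- A normal endomorphism commutes with all inner automorphisms. -/
def IsNormalEnd (φ : A →* A) : Prop := ∀ g x : A, φ (g * x * g⁻¹) = g * φ x * g⁻¹

/-- Directly indecomposable, in the form used by the statement. -/
def Indec (A : Type*) [Group A] : Prop :=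
  ∀ H K : Subgroup A, H.Normal → K.Normal → H ⊓ K = ⊥ → H ⊔ K = ⊤ → H = ⊥ ∨ K = ⊥

/-- Iterates of an endomorphism. -/
def iter (φ : A →* A) : ℕ → (A →* A)
  | 0 => MonoidHom.id A
  | (k + 1) => φ.comp (iter φ k)

@[simp] theorem iter_zero (φ : A →* A) : iter φ 0 = MonoidHom.id A := rfl
theorem iter_succ (φ : A →* A) (k : ℕ) : iter φ (k + 1) = φ.comp (iter φ k) := rfl

theorem iter_succ' (φ : A →* A) (k : ℕ) : iter φ (k + 1) = (iter φ k).comp φ := by
  induction k with
  | zero => rfl
  | succ k ih =>
    calc iter φ (k + 1 + 1) = φ.comp (iter φ (k + 1)) := rfl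
      _ = φ.comp ((iter φ k).comp φ) := by rw [ih]
      _ = (iter φ (k + 1)).comp φ := rfl

theorem iter_add (φ : A →* A) (k l : ℕ) : iter φ (k + l) = (iter φ k).comp (iter φ l) := by
  induction k with
  | zero => simp
  | succ k ih => rw [Nat.succ_add, iter_succ, ih, iter_succ, MonoidHom.comp_assoc]

theorem IsNormalEnd.comp {φ ψ : A →* A} (hφ : IsNormalEnd φ) (hψ : IsNormalEnd ψ) :
    IsNormalEnd (φ.comp ψ) := by
  intro g x
  simp only [MonoidHom.comp_apply]
  rw [hψ, hφ]

theorem IsNormalEnd.iter {φ : A →* A} (hφ : IsNormalEnd φ) (k : ℕ) : IsNormalEnd (iter φ k) := by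
  induction k with
  | zero => intro g x; rfl
  | succ k ih => rw [iter_succ]; exact hφ.comp ih

theorem IsNormalEnd.range_normal {φ : A →* A} (hφ : IsNormalEnd φ) : φ.range.Normal := by
  constructor
  rintro _ ⟨x, rfl⟩ g
  exact ⟨g * x * g⁻¹, hφ g x⟩

theorem ker_iter_mono (φ : A →* A) (k : ℕ) : (iter φ k).ker ≤ (iter φ (k + 1)).ker := by
  intro x hx
  rw [MonoidHom.mem_ker] at hx ⊢
  rw [iter_succ, MonoidHom.comp_apply, hx, map_one]

theorem ker_iter_stable (φ : A →* A) (k : ℕ) (h : (iter φ k).ker = (iter φ (k + 1)).ker) :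
    ∀ j : ℕ, (iter φ (k + j)).ker = (iter φ k).ker := by
  intro j
  induction j with
  | zero => rfl
  | succ j ih =>
    apply le_antisymm
    · intro x hx
      rw [MonoidHom.mem_ker] at hx
      have e : k + (j + 1) = (k + j) + 1 := by ring
      rw [e, iter_succ', MonoidHom.comp_apply] at hx
      have h1 : φ x ∈ (iter φ (k + j)).ker := hx
      rw [ih] at h1
      have h2 : x ∈ (iter φ (k + 1)).ker := by
        rw [MonoidHom.mem_ker, iter_succ', MonoidHom.comp_apply]
        exact h1
      rwa [← h] at h2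
    · rw [← ih]
      have e : k + (j + 1) = (k + j) + 1 := by ring
      rw [e]
      exact ker_iter_mono φ (k + j)

/-- The chain of kernels of iterates stabilizes. -/
theorem exists_ker_iter_eq [Finite A] (φ : A →* A) :
    ∃ k : ℕ, (iter φ k).ker = (iter φ (k + 1)).ker := by
  by_contra hcon
  have hcon : ∀ k : ℕ, (iter φ k).ker ≠ (iter φ (k + 1)).ker := fun k hk => hcon ⟨k, hk⟩
  have hlt : ∀ k, Nat.card (iter φ k).ker < Nat.card (iter φ (k + 1)).ker := by
    intro k
    have hle := ker_iter_mono φ k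
    have h1 : Nat.card (iter φ k).ker ≤ Nat.card (iter φ (k + 1)).ker :=
      Nat.le_of_dvd Nat.card_pos (Subgroup.card_dvd_of_le hle)
    rcases h1.lt_or_eq with h | h
    · exact h
    · exact absurd (Subgroup.eq_of_le_of_card_ge hle h.ge) (hcon k)
  have hge : ∀ k, k ≤ Nat.card (iter φ k).ker := by
    intro k
    induction k with
    | zero => exact Nat.zero_le _
    | succ k ih => exact Nat.succ_le_of_lt (lt_of_le_of_lt ih (hlt k))
  have h2 := hge (Nat.card A + 1)
  have h3 : Nat.card (iter φ (Nat.card A + 1)).ker ≤ Nat.card A :=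
    Nat.le_of_dvd Nat.card_pos (Subgroup.card_subgroup_dvd_card _)
  omega

/-- **Fitting's lemma** for finite groups: for a suitable `k ≥ 1`, the kernel and the range of
the `k`-th iterate of a normal endomorphism are complementary normal subgroups. -/
theorem fitting [Finite A] (φ : A →* A) :
    ∃ k : ℕ, 1 ≤ k ∧ (iter φ k).ker ⊓ (iter φ k).range = ⊥ ∧
      (iter φ k).ker ⊔ (iter φ k).range = ⊤ := by
  obtain ⟨k₀, hk₀⟩ := exists_ker_iter_eq φ
  have hst := ker_iter_stable φ k₀ hk₀
  have hdisj : (iter φ (k₀ + 1)).ker ⊓ (iter φ (k₀ + 1)).range = ⊥ := by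
    rw [eq_bot_iff]
    rintro x ⟨hx1, ⟨y, rfl⟩⟩
    have hx1' : iter φ (k₀ + 1) y ∈ (iter φ (k₀ + 1)).ker := hx1
    rw [MonoidHom.mem_ker, ← MonoidHom.comp_apply, ← iter_add] at hx1'
    have h1 : y ∈ (iter φ (k₀ + 1 + (k₀ + 1))).ker := hx1'
    have e : k₀ + 1 + (k₀ + 1) = k₀ + (k₀ + 2) := by ring
    rw [e, hst (k₀ + 2), ← hst 1] at h1
    rw [Subgroup.mem_bot]
    exact h1
  refine ⟨k₀ + 1, Nat.le_add_left 1 k₀, hdisj, ?_⟩
  · have hcard : Nat.card (iter φ (k₀ + 1)).ker * Nat.card (iter φ (k₀ + 1)).range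
        = Nat.card A := by
      rw [← Subgroup.index_ker, mul_comm]
      exact Subgroup.index_mul_card _
    have hc := Subgroup.isComplement'_of_card_mul_and_disjoint hcard (disjoint_iff.mpr hdisj)
    exact hc.sup_eq_top

/-- In an indecomposable finite group a normal endomorphism is bijective or nilpotent. -/
theorem bijective_or_nilpotent [Finite A] (hA : Indec A) {φ : A →* A} (hφ : IsNormalEnd φ) :
    Function.Bijective φ ∨ ∃ k : ℕ, ∀ x : A, iter φ k x = 1 := by
  obtain ⟨k, hk1, h1, h2⟩ := fitting φ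
  have hn1 : (iter φ k).ker.Normal := inferInstance
  have hn2 : (iter φ k).range.Normal := (hφ.iter k).range_normal
  rcases hA _ _ hn1 hn2 h1 h2 with h | h
  · left
    have hinj : Function.Injective φ := by
      rw [injective_iff_map_eq_one]
      intro x hx
      have : x ∈ (iter φ k).ker := by
        obtain ⟨j, rfl⟩ : ∃ j, k = j + 1 := ⟨k - 1, by omega⟩
        rw [MonoidHom.mem_ker, iter_succ', MonoidHom.comp_apply, hx, map_one]
      rw [h] at this
      exact this
    exact ⟨hinj, Finite.injective_iff_surjective.mp hinj⟩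
  · right
    refine ⟨k, fun x => ?_⟩
    have : iter φ k x ∈ (iter φ k).range := ⟨x, rfl⟩
    rw [h] at this
    exact this

/-- The two-summand lemma: if the pointwise product of two normal endomorphisms of an
indecomposable finite group is a bijective endomorphism, one of them is bijective. -/
theorem bijective_of_sum [Finite A] (hA : Indec A) {φ ψ χ : A →* A} (hφ : IsNormalEnd φ)
    (hχ : IsNormalEnd χ) (hsum : ∀ x, χ x = φ x * ψ x) (hbij : Function.Bijective χ) :
    Function.Bijective φ ∨ Function.Bijective ψ := by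
  by_cases hφb : Function.Bijective φ
  · exact Or.inl hφb
  right
  set χe : A ≃* A := MulEquiv.ofBijective χ hbij with hχe
  have hχe_apply : ∀ x, χe x = χ x := fun x => rfl
  set φ' : A →* A := χe.symm.toMonoidHom.comp φ with hφ'
  have hφ'_apply : ∀ x, φ' x = χe.symm (φ x) := fun x => rfl
  have hφ'n : IsNormalEnd φ' := by
    intro g x
    rw [hφ'_apply, hφ'_apply, hφ g x]
    apply χe.injective
    rw [MulEquiv.apply_symm_apply, hχe_apply, hχ, ← hχe_apply, MulEquiv.apply_symm_apply]
  have hφ'nb : ¬ Function.Bijective φ' := by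
    intro h
    apply hφb
    have : (φ : A → A) = χe ∘ φ' := by
      funext x
      simp [hφ'_apply]
    rw [this]
    exact χe.bijective.comp h
  rcases bijective_or_nilpotent hA hφ'n with h | ⟨k, hk⟩
  · exact absurd h hφ'nb
  have hinj : Function.Injective ψ := by
    rw [injective_iff_map_eq_one]
    intro x hx
    have h1 : φ' x = x := by
      rw [hφ'_apply]
      apply χe.injective
      rw [MulEquiv.apply_symm_apply, hχe_apply, hsum, hx, mul_one]
    have h2 : ∀ j : ℕ, iter φ' j x = x := by
      intro j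
      induction j with
      | zero => rfl
      | succ j ih => rw [iter_succ, MonoidHom.comp_apply, ih, h1]
    rw [← h2 k, hk]
  exact ⟨hinj, Finite.injective_iff_surjective.mp hinj⟩

section Exchange

universe u v w

variable {A₀ : Type u} {A' : Type v} [Group A₀] [Group A']
  {ι : Type*} [DecidableEq ι] {B : ι → Type w} [∀ j, Group (B j)]

/-- Projection of a product onto the coordinates in `S`. -/
def etaS (B : ι → Type w) [∀ j, Group (B j)] (S : Finset ι) :
    ((j : ι) → B j) →* ((j : ι) → B j) where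
  toFun g := fun j => if j ∈ S then g j else 1
  map_one' := by
    funext j
    by_cases h : j ∈ S <;> simp [h]
  map_mul' := by
    intro g h
    funext j
    by_cases hj : j ∈ S <;> simp [hj]

theorem etaS_apply (S : Finset ι) (g : (j : ι) → B j) (j : ι) :
    etaS B S g j = if j ∈ S then g j else 1 := rfl

theorem etaS_normal (S : Finset ι) : IsNormalEnd (etaS B S) := by
  intro g x
  funext j
  by_cases hj : j ∈ S <;> simp [etaS_apply, hj]

theorem etaS_insert (S : Finset ι) (j : ι) (hj : j ∉ S) (g : (j : ι) → B j) :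
    etaS B (insert j S) g = etaS B {j} g * etaS B S g := by
  funext l
  simp only [etaS_apply, Pi.mul_apply, Finset.mem_insert, Finset.mem_singleton]
  by_cases h1 : l = j
  · subst h1
    simp [hj]
  · by_cases h2 : l ∈ S <;> simp [h1, h2]

theorem etaS_singleton (j : ι) (g : (j : ι) → B j) :
    etaS B {j} g = Pi.mulSingle j (g j) := by
  funext l
  simp only [etaS_apply, Finset.mem_singleton]
  by_cases h1 : l = j
  · subst h1; simp
  · simp [h1]

/-- The endomorphism of `A₀` induced by the projection onto the coordinates in `S`. -/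
def thetaS (e : A₀ × A' ≃* ((j : ι) → B j)) (S : Finset ι) : A₀ →* A₀ :=
  (MonoidHom.fst A₀ A').comp (e.symm.toMonoidHom.comp ((etaS B S).comp
    (e.toMonoidHom.comp (MonoidHom.inl A₀ A'))))

theorem thetaS_apply (e : A₀ × A' ≃* ((j : ι) → B j)) (S : Finset ι) (x : A₀) :
    thetaS e S x = (e.symm (etaS B S (e (x, 1)))).1 := rfl

theorem thetaS_normal (e : A₀ × A' ≃* ((j : ι) → B j)) (S : Finset ι) :
    IsNormalEnd (thetaS e S) := by
  intro a x
  rw [thetaS_apply, thetaS_apply]
  have h1 : ((a * x * a⁻¹, 1) : A₀ × A') = (a, 1) * (x, 1) * (a, 1)⁻¹ := by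
    ext <;> simp
  have h2 : e ((a, 1) * (x, 1) * (a, 1)⁻¹) = e (a, 1) * e (x, 1) * (e (a, 1))⁻¹ := by
    rw [map_mul, map_mul, map_inv]
  have h3 : e.symm (e (a, 1) * etaS B S (e (x, 1)) * (e (a, 1))⁻¹)
      = (a, 1) * e.symm (etaS B S (e (x, 1))) * (a, 1)⁻¹ := by
    rw [map_mul, map_mul, map_inv, MulEquiv.symm_apply_apply]
  rw [h1, h2, etaS_normal S, h3]
  simp

theorem thetaS_insert (e : A₀ × A' ≃* ((j : ι) → B j)) (S : Finset ι) (j : ι) (hj : j ∉ S)
    (x : A₀) : thetaS e (insert j S) x = thetaS e {j} x * thetaS e S x := by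
  rw [thetaS_apply, thetaS_apply, thetaS_apply, etaS_insert S j hj, map_mul]
  rfl

theorem thetaS_univ [Fintype ι] (e : A₀ × A' ≃* ((j : ι) → B j)) (x : A₀) :
    thetaS e Finset.univ x = x := by
  rw [thetaS_apply]
  have : etaS B Finset.univ (e (x, 1)) = e (x, 1) := by
    funext j
    simp [etaS_apply]
  rw [this, MulEquiv.symm_apply_apply]

theorem thetaS_empty (e : A₀ × A' ≃* ((j : ι) → B j)) (x : A₀) :
    thetaS e ∅ x = 1 := by
  rw [thetaS_apply]
  have : etaS B ∅ (e (x, 1)) = 1 := by
    funext j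
    simp [etaS_apply]
  rw [this, map_one]
  rfl

/-- Some single coordinate induces an automorphism of the indecomposable factor `A₀`. -/
theorem exists_thetaS_singleton_bijective [Finite A₀] [Nontrivial A₀] (hA : Indec A₀)
    (e : A₀ × A' ≃* ((j : ι) → B j)) (S : Finset ι)
    (hS : Function.Bijective (thetaS e S)) : ∃ j ∈ S, Function.Bijective (thetaS e {j}) := by
  induction S using Finset.induction_on with
  | empty =>
    exfalso
    obtain ⟨x, hx⟩ := exists_ne (1 : A₀)
    apply hx
    apply hS.1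
    rw [thetaS_empty, thetaS_empty]
  | insert j S hj ih =>
    rcases bijective_of_sum hA (thetaS_normal e {j}) (thetaS_normal e (insert j S))
      (thetaS_insert e S j hj) hS with h | h
    · exact ⟨j, Finset.mem_insert_self j S, h⟩
    · obtain ⟨l, hl, hlb⟩ := ih h
      exact ⟨l, Finset.mem_insert_of_mem hl, hlb⟩

/-- Data extracted from a coordinate `j` inducing an automorphism of `A₀`: the factor `B j` is
isomorphic to `A₀` (via the map `β`), when `B j` is indecomposable. -/
theorem bijective_beta [Finite A₀] [Nontrivial A₀] [∀ j, Finite (B j)]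
    (e : A₀ × A' ≃* ((j : ι) → B j)) (j : ι) (hBj : Indec (B j))
    (hj : Function.Bijective (thetaS e {j})) :
    Function.Bijective ((MonoidHom.fst A₀ A').comp
      (e.symm.toMonoidHom.comp (MonoidHom.mulSingle B j))) := by
  set α : A₀ →* B j :=
    (Pi.evalMonoidHom B j).comp (e.toMonoidHom.comp (MonoidHom.inl A₀ A')) with hα
  set β : B j →* A₀ :=
    (MonoidHom.fst A₀ A').comp (e.symm.toMonoidHom.comp (MonoidHom.mulSingle B j)) with hβ
  have hα_apply : ∀ x, α x = e (x, 1) j := fun x => rfl
  have hβ_apply : ∀ b, β b = (e.symm (Pi.mulSingle j b)).1 := fun b => rfl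
  have hαβ : ∀ x, β (α x) = thetaS e {j} x := by
    intro x
    rw [thetaS_apply, etaS_singleton]
    rfl
  -- the range of `α` is normal
  have hαn : α.range.Normal := by
    constructor
    rintro _ ⟨x, rfl⟩ b
    set g : (j : ι) → B j := Pi.mulSingle j b with hg
    set a : A₀ := (e.symm g).1 with ha
    refine ⟨a * x * a⁻¹, ?_⟩
    have h1 : ((a * x * a⁻¹, 1) : A₀ × A') = e.symm g * (x, 1) * (e.symm g)⁻¹ := by
      ext <;> simp [ha]
    rw [hα_apply, hα_apply, h1, map_mul, map_mul, map_inv, MulEquiv.apply_symm_apply]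
    simp [hg]
  have h1 : β.ker ⊓ α.range = ⊥ := by
    rw [eq_bot_iff]
    rintro _ ⟨hx1, ⟨x, rfl⟩⟩
    have hx1' : β (α x) = 1 := hx1
    rw [hαβ] at hx1'
    have : x = 1 := hj.1 (by rw [hx1', map_one])
    rw [this, map_one]
    exact Subgroup.mem_bot.mpr rfl
  have h2 : β.ker ⊔ α.range = ⊤ := by
    rw [eq_top_iff]
    intro b _
    obtain ⟨x, hx⟩ := hj.2 (β b)
    rw [← hαβ] at hx
    have h3 : b * (α x)⁻¹ ∈ β.ker := by
      rw [MonoidHom.mem_ker, map_mul, map_inv, hx, mul_inv_cancel]
    have h4 : b = b * (α x)⁻¹ * α x := by group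
    rw [h4]
    exact mul_mem (Subgroup.mem_sup_left h3) (Subgroup.mem_sup_right ⟨x, rfl⟩)
  have hsurj : Function.Surjective β := by
    intro y
    obtain ⟨x, hx⟩ := hj.2 y
    exact ⟨α x, by rw [hαβ, hx]⟩
  rcases hBj _ _ inferInstance hαn h1 h2 with h | h
  · refine ⟨?_, hsurj⟩
    rw [← MonoidHom.ker_eq_bot_iff]
    exact h
  · exfalso
    obtain ⟨x, hx⟩ := exists_ne (1 : A₀)
    apply hx
    apply hj.1
    rw [← hαβ, ← hαβ]
    have hax : α x ∈ α.range := ⟨x, rfl⟩
    rw [h, Subgroup.mem_bot] at hax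
    rw [hax, map_one α, map_one β]

/-- **Exchange theorem**: an indecomposable direct factor `A₀` of a product of indecomposable
groups is isomorphic to one of the factors, and the complementary factor is isomorphic to the
product of the remaining ones. -/
theorem exchange {n : ℕ} {B : Fin (n + 1) → Type w} [∀ j, Group (B j)] [∀ j, Finite (B j)]
    [Finite A₀] [Finite A'] [Nontrivial A₀] (hA : Indec A₀) (hB : ∀ j, Indec (B j))
    (e : A₀ × A' ≃* ((j : Fin (n + 1)) → B j)) :
    ∃ j : Fin (n + 1), Nonempty (A₀ ≃* B j) ∧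
      Nonempty (A' ≃* ((l : Fin n) → B (j.succAbove l))) := by
  classical
  have hbij : Function.Bijective (thetaS e Finset.univ) := by
    have : (thetaS e Finset.univ : A₀ → A₀) = id := funext (thetaS_univ e)
    rw [this]
    exact Function.bijective_id
  obtain ⟨j, -, hj⟩ := exists_thetaS_singleton_bijective hA e Finset.univ hbij
  have hβ := bijective_beta e j (hB j) hj
  set β : B j →* A₀ :=
    (MonoidHom.fst A₀ A').comp (e.symm.toMonoidHom.comp (MonoidHom.mulSingle B j)) with hβdef
  have hβ_apply : ∀ b, β b = (e.symm (Pi.mulSingle j b)).1 := fun b => rfl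
  refine ⟨j, ⟨(MulEquiv.ofBijective β hβ).symm⟩, ?_⟩
  -- the map `A' → ∏_{l ≠ j} B l`
  let drop : ((i : Fin (n + 1)) → B i) →* ((l : Fin n) → B (j.succAbove l)) :=
    { toFun := fun g l => g (j.succAbove l)
      map_one' := rfl
      map_mul' := fun _ _ => rfl }
  set γ : A' →* ((l : Fin n) → B (j.succAbove l)) :=
    drop.comp (e.toMonoidHom.comp (MonoidHom.inr A₀ A')) with hγ
  have hγ_apply : ∀ y l, γ y l = e (1, y) (j.succAbove l) := fun y l => rfl
  have hinj : Function.Injective γ := by
    rw [injective_iff_map_eq_one]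
    intro y hy
    have h1 : e (1, y) = Pi.mulSingle j (e (1, y) j) := by
      funext i
      by_cases hij : i = j
      · subst hij; simp
      · obtain ⟨l, rfl⟩ := Fin.exists_succAbove_eq hij
        rw [Pi.mulSingle_eq_of_ne (Fin.succAbove_ne j l)]
        have := congrFun hy l
        rw [hγ_apply] at this
        exact this
    have h2 : β (e (1, y) j) = 1 := by
      rw [hβ_apply, ← h1, MulEquiv.symm_apply_apply]
    have h3 : e (1, y) j = 1 := hβ.1 (by rw [h2, map_one])
    rw [h3, Pi.mulSingle_one] at h1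
    have h4 : ((1, y) : A₀ × A') = 1 := e.injective (by rw [h1, map_one])
    exact (Prod.ext_iff.mp h4).2
  have hcard : Nat.card A' = Nat.card ((l : Fin n) → B (j.succAbove l)) := by
    have h1 : Nat.card A₀ * Nat.card A' = Nat.card ((i : Fin (n + 1)) → B i) := by
      rw [← Nat.card_prod]
      exact Nat.card_congr e.toEquiv
    have h2 : Nat.card (B j) * Nat.card ((l : Fin n) → B (j.succAbove l))
        = Nat.card ((i : Fin (n + 1)) → B i) := by
      rw [← Nat.card_prod]
      exact Nat.card_congr (Fin.insertNthEquiv B j)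
    have h3 : Nat.card (B j) = Nat.card A₀ := Nat.card_congr (Equiv.ofBijective β hβ)
    rw [h3, ← h1] at h2
    exact (Nat.eq_of_mul_eq_mul_left Nat.card_pos h2).symm
  have hγb : Function.Bijective γ :=
    (Nat.bijective_iff_injective_and_card γ).mpr ⟨hinj, hcard⟩
  exact ⟨MulEquiv.ofBijective γ hγb⟩

end Exchange

section Main

universe u w

/-- Splitting off the first factor of a product over `Fin (m + 1)`, as a group isomorphism. -/
def consMulEquiv {m : ℕ} (A : Fin (m + 1) → Type u) [∀ i, Group (A i)] :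
    A 0 × ((i : Fin m) → A i.succ) ≃* ((i : Fin (m + 1)) → A i) :=
  { Fin.consEquiv A with
    map_mul' := by
      intro f g
      funext i
      refine Fin.cases ?_ (fun i => ?_) i
      · simp [Fin.consEquiv]
      · simp [Fin.consEquiv] }

theorem subsingleton_of_mulEquiv_fin_zero {n : ℕ} {X : Type*} [Group X] [Subsingleton X]
    {B : Fin (n + 1) → Type w} [∀ j, Group (B j)] (hB : Nontrivial (B 0))
    (e : X ≃* ((j : Fin (n + 1)) → B j)) : False := by
  obtain ⟨b, hb⟩ := exists_ne (1 : B 0)
  apply hb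
  have h1 : e.symm (Pi.mulSingle 0 b) = e.symm 1 := Subsingleton.elim _ _
  have h2 := e.symm.injective h1
  have := congrFun h2 0
  simpa using this

/-- **Krull–Schmidt theorem** for finite groups. -/
theorem krull_schmidt : ∀ (m : ℕ) {n : ℕ} (A : Fin m → Type u) (B : Fin n → Type w)
    [∀ i, Group (A i)] [∀ j, Group (B j)] [∀ i, Finite (A i)] [∀ j, Finite (B j)]
    (_ : ∀ i, Nontrivial (A i) ∧ Indec (A i)) (_ : ∀ j, Nontrivial (B j) ∧ Indec (B j))
    (_ : ((i : Fin m) → A i) ≃* ((j : Fin n) → B j)),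
    ∃ σ : Fin m ≃ Fin n, ∀ i, Nonempty (A i ≃* B (σ i)) := by
  intro m
  induction m with
  | zero =>
    intro n A B _ _ _ _ hA hB e
    cases n with
    | zero => exact ⟨Equiv.refl _, fun i => i.elim0⟩
    | succ n => exact (subsingleton_of_mulEquiv_fin_zero (hB 0).1 e).elim
  | succ m ih =>
    intro n A B _ _ _ _ hA hB e
    cases n with
    | zero =>
      exact (subsingleton_of_mulEquiv_fin_zero (hA 0).1 e.symm).elim
    | succ n =>
      haveI : Nontrivial (A 0) := (hA 0).1
      obtain ⟨j, ⟨e1⟩, ⟨e2⟩⟩ := exchange (hA 0).2 (fun j => (hB j).2)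
        ((consMulEquiv A).trans e)
      obtain ⟨σ', hσ'⟩ := ih (fun i => A i.succ) (fun l => B (j.succAbove l))
        (fun i => hA i.succ) (fun l => hB (j.succAbove l)) e2
      refine ⟨(finSuccEquiv' 0).trans ((Equiv.optionCongr σ').trans (finSuccEquiv' j).symm), ?_⟩
      intro i
      refine Fin.cases ?_ (fun i => ?_) i
      · have h0 : ((finSuccEquiv' 0).trans ((Equiv.optionCongr σ').trans
            (finSuccEquiv' j).symm)) (0 : Fin (m + 1)) = j := by
          simp [finSuccEquiv'_at]
        rw [h0]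
        exact ⟨e1⟩
      · have h1 : ((finSuccEquiv' 0).trans ((Equiv.optionCongr σ').trans
            (finSuccEquiv' j).symm)) i.succ = j.succAbove (σ' i) := by
          have : (finSuccEquiv' (0 : Fin (m + 1))) i.succ = some i := by
            rw [← Fin.succAbove_zero]
            exact finSuccEquiv'_succAbove 0 i
          simp [this]
        rw [h1]
        exact hσ' i

end Main

end Cfsg.Agent.Lib.H21.KS
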