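import Cfsg.Agent.Lib.H27.LCDefs
import Cfsg.Agent.Lib.H4.LCCode

/-!
# S0406 farm-out, piece LC-SHB: the even minimal vectors which are not `≡ 0 (mod 4)`

Such a vector is `±2` on the support of a codeword of weight `8` and `0` elsewhere; for a fixed codeword any two differ in
an even number of signs.
-/

set_option autoImplicit false
set_option linter.unusedSimpArgs false
set_option linter.unusedSectionVars false
set_option linter.unusedVariables false

namespace Cfsg.Agent.Lib.H21.LC

open Cfsg.Agent.Lib.H27.LC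

variable {Λ : AddSubgroup (Fin 24 → ℤ)}

/-- the codeword of an even vector -/
def shbWord (c : Fin 24 → ℤ) : Fin 24 → ZMod 2 := fun i => ((c i / 2 : ℤ) : ZMod 2)

theorem shbWord_ne_zero_iff (c : Fin 24 → ℤ) (i : Fin 24) :
    shbWord c i ≠ 0 ↔ ¬ (2 : ℤ) ∣ c i / 2 := by
  unfold shbWord
  rw [Ne, ZMod.intCast_zmod_eq_zero_iff_dvd]
  rfl

/-- for an integer `d`: `d ^ 2` is at least the indicator of `d` odd, with equality only for `0, ±1` -/
theorem shb_sq_ge (d : ℤ) : (if ¬ (2 : ℤ) ∣ d then (1 : ℤ) else 0) ≤ d ^ 2 := by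
  by_cases h : (2 : ℤ) ∣ d
  · rw [if_neg (not_not.2 h)]
    positivity
  · rw [if_pos h]
    have : d ≠ 0 := by rintro rfl; exact h (dvd_zero _)
    have h1 : 0 < d ^ 2 := by positivity
    omega

theorem shb_sq_eq {d : ℤ} (h : d ^ 2 = if ¬ (2 : ℤ) ∣ d then (1 : ℤ) else 0) :
    d = 1 ∨ d = -1 ∨ d = 0 := by
  by_cases h2 : (2 : ℤ) ∣ d
  · rw [if_neg (not_not.2 h2)] at h
    right; right
    exact pow_eq_zero_iff (two_ne_zero) |>.1 h
  · rw [if_pos h2] at h
    have h3 : (d - 1) * (d + 1) = 0 := by linear_combination h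
    rcases mul_eq_zero.1 h3 with h4 | h4
    · left; linarith
    · right; left; linarith

/-- the shape of the vectors in question -/
theorem shb_shape (h8w : ∀ w ∈ codeOf Λ, w ≠ 0 → 8 ≤ hammingNorm w)
    {c : Fin 24 → ℤ} (hc : c ∈ Λ) (hn : nrm c = 32) (hev : ∀ i, (2 : ℤ) ∣ c i)
    (hne : ∃ i, ¬ (4 : ℤ) ∣ c i) :
    shbWord c ∈ codeOf Λ ∧ hammingNorm (shbWord c) = 8 ∧
      (∀ i, c i = 2 ∨ c i = -2 ∨ c i = 0) ∧ (∀ i, shbWord c i ≠ 0 ↔ c i ≠ 0) := by
  classical
  have hc2 : ∀ i, c i = 2 * (c i / 2) := fun i => (Int.mul_ediv_cancel' (hev i)).symm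
  have hmem : shbWord c ∈ codeOf Λ := by
    rw [mem_codeOf]
    refine ⟨fun i => c i / 2, ?_, fun i => rfl⟩
    have e : (fun i => 2 * (c i / 2)) = c := by
      funext i; exact (hc2 i).symm
    rw [e]; exact hc
  have hw0 : shbWord c ≠ 0 := by
    obtain ⟨i, hi⟩ := hne
    intro h0
    have h1 := congrFun h0 i
    have h2 : ¬ shbWord c i ≠ 0 := by rw [h1]; simp
    rw [shbWord_ne_zero_iff] at h2
    push Not at h2
    apply hi
    obtain ⟨k, hk⟩ := h2
    exact ⟨k, by rw [hc2 i, hk]; ring⟩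
  have h8 := h8w _ hmem hw0
  -- the sum of the squares of the halves is `8`
  have hsum : ∑ i, (c i / 2) ^ 2 = 8 := by
    have h1 : nrm c = 4 * ∑ i, (c i / 2) ^ 2 := by
      unfold nrm
      rw [Finset.mul_sum]
      refine Finset.sum_congr rfl fun i _ => ?_
      conv_lhs => rw [hc2 i]
      ring
    omega
  -- the weight is the sum of the indicators
  have hwt : (hammingNorm (shbWord c) : ℤ) =
      ∑ i, (if ¬ (2 : ℤ) ∣ c i / 2 then (1 : ℤ) else 0) := by
    unfold hammingNorm
    rw [Finset.card_filter]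
    push_cast
    refine Finset.sum_congr rfl fun i _ => ?_
    by_cases hi : shbWord c i ≠ 0
    · rw [if_pos hi, if_pos ((shbWord_ne_zero_iff c i).1 hi)]
    · rw [if_neg hi, if_neg (fun h' => hi ((shbWord_ne_zero_iff c i).2 h'))]
  have hle : ∑ i, (if ¬ (2 : ℤ) ∣ c i / 2 then (1 : ℤ) else 0) ≤ ∑ i, (c i / 2) ^ 2 :=
    Finset.sum_le_sum fun i _ => shb_sq_ge _
  have hwt8 : hammingNorm (shbWord c) = 8 := by
    have : (hammingNorm (shbWord c) : ℤ) ≤ 8 := by rw [hwt, ← hsum]; exact hle
    omega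
  have heq : ∑ i, ((c i / 2) ^ 2 - (if ¬ (2 : ℤ) ∣ c i / 2 then (1 : ℤ) else 0)) = 0 := by
    rw [Finset.sum_sub_distrib, hsum, ← hwt, hwt8]; norm_num
  have hterm : ∀ i, (c i / 2) ^ 2 = (if ¬ (2 : ℤ) ∣ c i / 2 then (1 : ℤ) else 0) := by
    intro i
    have := (Finset.sum_eq_zero_iff_of_nonneg (fun i _ => sub_nonneg.2 (shb_sq_ge (c i / 2)))).1 heq i
      (Finset.mem_univ i)
    linarith
  refine ⟨hmem, hwt8, fun i => ?_, fun i => ?_⟩
  · rcases shb_sq_eq (hterm i) with h1 | h1 | h1
    · left; rw [hc2 i, h1]; norm_num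
    · right; left; rw [hc2 i, h1]; norm_num
    · right; right; rw [hc2 i, h1]; norm_num
  · rw [shbWord_ne_zero_iff]
    rcases shb_sq_eq (hterm i) with h1 | h1 | h1
    · rw [h1]
      constructor
      · intro _; rw [hc2 i, h1]; norm_num
      · intro _; decide
    · rw [h1]
      constructor
      · intro _; rw [hc2 i, h1]; norm_num
      · intro _; decide
    · rw [h1]
      constructor
      · intro h2; exact absurd (dvd_zero _) h2
      · intro h2; exact absurd (by rw [hc2 i, h1]; norm_num) h2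

/-- **LC-SHB**, with the two facts on the code as hypotheses -/
theorem ncard_shapeB_le_of (hsum : ∀ y : Fin 24 → ℤ, (fun i => 4 * y i) ∈ Λ → (2 : ℤ) ∣ ∑ i, y i)
    (h8w : ∀ w ∈ codeOf Λ, w ≠ 0 → 8 ≤ hammingNorm w) :
    {c : Fin 24 → ℤ | c ∈ Λ ∧ nrm c = 32 ∧ (∀ i, (2 : ℤ) ∣ c i) ∧ ∃ i, ¬ (4 : ℤ) ∣ c i}.ncard ≤
      128 * {w : Fin 24 → ZMod 2 | w ∈ codeOf Λ ∧ hammingNorm w = 8}.ncard := by
  classical
  set SB : Set (Fin 24 → ℤ) :=
    {c : Fin 24 → ℤ | c ∈ Λ ∧ nrm c = 32 ∧ (∀ i, (2 : ℤ) ∣ c i) ∧ ∃ i, ¬ (4 : ℤ) ∣ c i} with hSB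
  set W8 : Set (Fin 24 → ZMod 2) := {w : Fin 24 → ZMod 2 | w ∈ codeOf Λ ∧ hammingNorm w = 8}
    with hW8
  have hfin : SB.Finite := (finite_nrm_eq 32).subset fun c hc => hc.2.1
  have hshape : ∀ c ∈ SB, shbWord c ∈ codeOf Λ ∧ hammingNorm (shbWord c) = 8 ∧
      (∀ i, c i = 2 ∨ c i = -2 ∨ c i = 0) ∧ (∀ i, shbWord c i ≠ 0 ↔ c i ≠ 0) :=
    fun c hc => shb_shape h8w hc.1 hc.2.1 hc.2.2.1 hc.2.2.2
  set s : Finset (Fin 24 → ℤ) := hfin.toFinset with hs
  have hmem : ∀ c, c ∈ s ↔ c ∈ SB := fun c => Set.Finite.mem_toFinset hfin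
  rw [Set.ncard_eq_toFinset_card SB hfin, Set.ncard_eq_toFinset_card W8 (Set.toFinite W8)]
  -- the image lies in `W8`
  have himg : s.image shbWord ⊆ (Set.toFinite W8).toFinset := by
    intro w hw
    obtain ⟨c, hc, rfl⟩ := Finset.mem_image.1 hw
    rw [Set.Finite.mem_toFinset]
    exact ⟨(hshape c ((hmem c).1 hc)).1, (hshape c ((hmem c).1 hc)).2.1⟩
  -- the fibres have at most `128` elements
  have hfib : ∀ w ∈ s.image shbWord, (s.filter fun c => shbWord c = w).card ≤ 128 := by
    intro w hw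
    obtain ⟨c₀, hc₀, rfl⟩ := Finset.mem_image.1 hw
    have h0 := hshape c₀ ((hmem c₀).1 hc₀)
    set w := shbWord c₀ with hw_def
    have hwt : (Finset.univ.filter fun i => w i ≠ 0).card = 8 := h0.2.1
    obtain ⟨i₀, hi₀⟩ : (Finset.univ.filter fun i => w i ≠ 0).Nonempty := by
      rw [← Finset.card_pos, hwt]; norm_num
    set T : Finset (Fin 24) := (Finset.univ.filter fun i => w i ≠ 0).erase i₀ with hT
    have hTcard : T.card = 7 := by
      rw [hT, Finset.card_erase_of_mem hi₀, hwt]
    have hpow : T.powerset.card = 128 := by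
      rw [Finset.card_powerset, hTcard]; norm_num
    rw [← hpow]
    apply Finset.card_le_card_of_injOn (fun c => T.filter fun i => c i = 2)
    · intro c hc
      rw [Finset.mem_coe, Finset.mem_powerset]
      exact Finset.filter_subset _ _
    · intro c hc c' hc' hcc
      rw [Finset.mem_coe, Finset.mem_filter] at hc hc'
      have hcS := (hmem c).1 hc.1
      have hcS' := (hmem c').1 hc'.1
      have h1 := hshape c hcS
      have h1' := hshape c' hcS'
      rw [hc.2] at h1
      rw [hc'.2] at h1'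
      -- agreement away from `i₀`
      have hagree : ∀ i, i ≠ i₀ → c i = c' i := by
        intro i hi
        by_cases hwi : w i ≠ 0
        · have hiT : i ∈ T := Finset.mem_erase.2 ⟨hi, Finset.mem_filter.2 ⟨Finset.mem_univ i, hwi⟩⟩
          have h2 : c i = 2 ↔ c' i = 2 := by
            have := congrArg (fun X : Finset (Fin 24) => i ∈ X) hcc
            simp only [Finset.mem_filter, hiT, true_and, eq_iff_iff] at this
            exact this
          have h3 := (h1.2.2.2 i).1 hwi
          have h3' := (h1'.2.2.2 i).1 hwi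
          rcases h1.2.2.1 i with a | a | a <;> rcases h1'.2.2.1 i with b | b | b
          · rw [a, b]
          · exfalso; have := h2.1 a; omega
          · exact absurd b h3'
          · exfalso; have := h2.2 b; omega
          · rw [a, b]
          · exact absurd b h3'
          · exact absurd a h3
          · exact absurd a h3
          · exact absurd a h3
        · push Not at hwi
          have h3 : c i = 0 := by
            by_contra hne
            exact (h1.2.2.2 i).2 hne hwi
          have h3' : c' i = 0 := by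
            by_contra hne
            exact (h1'.2.2.2 i).2 hne hwi
          rw [h3, h3']
      -- at `i₀`
      have hwi₀ : w i₀ ≠ 0 := (Finset.mem_filter.1 hi₀).2
      have h3 := (h1.2.2.2 i₀).1 hwi₀
      have h3' := (h1'.2.2.2 i₀).1 hwi₀
      funext i
      by_cases hi : i = i₀
      · subst hi
        by_contra hne
        -- the difference is `±4 e_{i₀}`
        have hdiff : ∃ t : ℤ, (t = 1 ∨ t = -1) ∧ c i - c' i = 4 * t := by
          rcases h1.2.2.1 i with a | a | a <;> rcases h1'.2.2.1 i with b | b | b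
          · exact absurd (by rw [a, b]) hne
          · exact ⟨1, Or.inl rfl, by rw [a, b]; norm_num⟩
          · exact absurd b h3'
          · exact ⟨-1, Or.inr rfl, by rw [a, b]; norm_num⟩
          · exact absurd (by rw [a, b]) hne
          · exact absurd b h3'
          · exact absurd a h3
          · exact absurd a h3
          · exact absurd a h3
        obtain ⟨t, ht, hct⟩ := hdiff
        have hmemΛ : (fun j => 4 * (Pi.single i t : Fin 24 → ℤ) j) ∈ Λ := by
          have e : (fun j => 4 * (Pi.single i t : Fin 24 → ℤ) j) = c - c' := by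
            funext j
            by_cases hj : j = i
            · subst hj
              rw [Pi.single_eq_same, Pi.sub_apply, hct]
            · rw [Pi.single_eq_of_ne hj, Pi.sub_apply, hagree j hj]; ring
          rw [e]
          exact Λ.sub_mem hcS.1 hcS'.1
        have := hsum _ hmemΛ
        rw [Finset.sum_pi_single' i t Finset.univ] at this
        simp only [Finset.mem_univ, if_true] at this
        rcases ht with ht | ht <;> rw [ht] at this <;> omega
      · exact hagree i hi
  calc s.card ≤ 128 * (s.image shbWord).card := Finset.card_le_mul_card_image s 128 hfib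
    _ ≤ 128 * (Set.toFinite W8).toFinset.card :=
        Nat.mul_le_mul_left _ (Finset.card_le_card himg)

/-- **LC-SHB** -/
theorem ncard_shapeB_le (h : LeechLike Λ) :
    {c : Fin 24 → ℤ | c ∈ Λ ∧ nrm c = 32 ∧ (∀ i, (2 : ℤ) ∣ c i) ∧ ∃ i, ¬ (4 : ℤ) ∣ c i}.ncard ≤
      128 * {w : Fin 24 → ZMod 2 | w ∈ codeOf Λ ∧ hammingNorm w = 8}.ncard :=
  ncard_shapeB_le_of (fun y hy => Cfsg.Agent.Lib.H4.LC.sum_even_of_four_mul_mem h y hy)
    (fun w hw hw0 => Cfsg.Agent.Lib.H4.LC.eight_le_weight h hw hw0)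

end Cfsg.Agent.Lib.H21.LC
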