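import Cfsg.Agent.Lib.H27.LCDefs

/-!
# S0406 farm-out, piece LC-SHC: the odd minimal vectors

A vector of `Λ` with odd coordinates and `nrm = 32` has one coordinate `±3` and all others `±1`; for a fixed
position of the `±3` it is determined by a codeword.
-/

set_option autoImplicit false
set_option linter.unusedSimpArgs false
set_option linter.unusedSectionVars false
set_option linter.unusedVariables false

namespace Cfsg.Agent.Lib.H21.LC

open Cfsg.Agent.Lib.H27.LC

variable {Λ : AddSubgroup (Fin 24 → ℤ)}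

/-- the square of an odd integer is `1`, `9` or at least `25` -/
theorem shc_odd_sq {x : ℤ} (hx : ¬ (2 : ℤ) ∣ x) : x ^ 2 = 1 ∨ x ^ 2 = 9 ∨ 25 ≤ x ^ 2 := by
  by_cases h1 : -5 < x ∧ x < 5
  · obtain ⟨h1, h2⟩ := h1
    interval_cases x
    all_goals first
      | (exfalso; exact hx (by decide))
      | norm_num
  · right; right
    rw [not_and_or, not_lt, not_lt] at h1
    rcases h1 with h1 | h1 <;> nlinarith

/-- the shape of an odd vector of norm `32` -/
theorem shc_shape {c : Fin 24 → ℤ} (hodd : ∀ j, ¬ (2 : ℤ) ∣ c j) (hn : nrm c = 32) :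
    ∃ i, c i ^ 2 = 9 ∧ ∀ j, j ≠ i → c j ^ 2 = 1 := by
  have hge : ∀ j, 1 ≤ c j ^ 2 := by
    intro j
    rcases shc_odd_sq (hodd j) with h | h | h <;> omega
  -- some coordinate has square at least 9
  obtain ⟨i, hi⟩ : ∃ i, 9 ≤ c i ^ 2 := by
    by_contra hcon
    push Not at hcon
    have h1 : ∀ j, c j ^ 2 = 1 := by
      intro j
      rcases shc_odd_sq (hodd j) with h | h | h
      · exact h
      · have := hcon j; omega
      · have := hcon j; omega
    have : nrm c = 24 := by
      unfold nrm
      rw [Finset.sum_congr rfl (fun j _ => h1 j)]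
      simp
    omega
  have hsplit : nrm c = c i ^ 2 + ∑ j ∈ Finset.univ.erase i, c j ^ 2 := by
    unfold nrm
    exact (Finset.add_sum_erase Finset.univ (fun j => c j ^ 2) (Finset.mem_univ i)).symm
  have hcard : (Finset.univ.erase i : Finset (Fin 24)).card = 23 := by
    rw [Finset.card_erase_of_mem (Finset.mem_univ i)]; simp
  have hlow : (23 : ℤ) ≤ ∑ j ∈ Finset.univ.erase i, c j ^ 2 := by
    have := Finset.card_nsmul_le_sum (Finset.univ.erase i) (fun j => c j ^ 2) 1 (fun j _ => hge j)
    rw [hcard] at this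
    simpa using this
  have hi9 : c i ^ 2 = 9 := by
    rcases shc_odd_sq (hodd i) with h | h | h <;> omega
  refine ⟨i, hi9, fun j hj => ?_⟩
  have hjmem : j ∈ Finset.univ.erase i := Finset.mem_erase.2 ⟨hj, Finset.mem_univ j⟩
  have hsplit2 : ∑ k ∈ Finset.univ.erase i, c k ^ 2 =
      c j ^ 2 + ∑ k ∈ (Finset.univ.erase i).erase j, c k ^ 2 :=
    (Finset.add_sum_erase (Finset.univ.erase i) (fun k => c k ^ 2) hjmem).symm
  have hcard2 : ((Finset.univ.erase i).erase j : Finset (Fin 24)).card = 22 := by
    rw [Finset.card_erase_of_mem hjmem, hcard]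
  have hlow2 : (22 : ℤ) ≤ ∑ k ∈ (Finset.univ.erase i).erase j, c k ^ 2 := by
    have := Finset.card_nsmul_le_sum ((Finset.univ.erase i).erase j) (fun k => c k ^ 2) 1
      (fun k _ => hge k)
    rw [hcard2] at this
    simpa using this
  rcases shc_odd_sq (hodd j) with h | h | h
  · exact h
  · omega
  · omega

/-- two odd vectors of the same shape which agree modulo `4` are equal -/
theorem shc_eq_of_mod_four {c c' : Fin 24 → ℤ} (hodd : ∀ j, ¬ (2 : ℤ) ∣ c j)
    (hsq : ∀ j, c j ^ 2 = c' j ^ 2) (h4 : ∀ j, (4 : ℤ) ∣ c' j - c j) : c = c' := by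
  funext j
  have h1 : (c j - c' j) * (c j + c' j) = 0 := by
    have := hsq j
    linear_combination this
  rcases mul_eq_zero.1 h1 with h | h
  · linarith
  · exfalso
    apply hodd j
    have h2 : c' j = - c j := by linarith
    have h3 := h4 j
    rw [h2] at h3
    obtain ⟨k, hk⟩ := h3
    exact ⟨-k, by linarith⟩

/-- **LC-SHC** -/
theorem ncard_shapeC_le (h : LeechLike Λ) :
    {c : Fin 24 → ℤ | c ∈ Λ ∧ nrm c = 32 ∧ ¬ (2 : ℤ) ∣ c 0}.ncard ≤ 24 * Nat.card (codeOf Λ) := by
  classical
  set SC : Set (Fin 24 → ℤ) := {c : Fin 24 → ℤ | c ∈ Λ ∧ nrm c = 32 ∧ ¬ (2 : ℤ) ∣ c 0} with hSC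
  have hfin : SC.Finite := (finite_nrm_eq 32).subset fun c hc => hc.2.1
  -- all coordinates are odd
  have hodd : ∀ c ∈ SC, ∀ j, ¬ (2 : ℤ) ∣ c j := by
    intro c hc j hj
    apply hc.2.2
    have := h.hpar c hc.1 j 0
    have e : c 0 = c j - (c j - c 0) := by ring
    rw [e]
    exact dvd_sub hj this
  set s : Finset (Fin 24 → ℤ) := hfin.toFinset with hs
  have hmem : ∀ c, c ∈ s ↔ c ∈ SC := fun c => Set.Finite.mem_toFinset hfin
  rw [Set.ncard_eq_toFinset_card SC hfin]
  -- cover by the position of the `±3`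
  have hcover : s ⊆ Finset.univ.biUnion (fun i : Fin 24 => s.filter (fun c => c i ^ 2 = 9)) := by
    intro c hc
    obtain ⟨i, hi, -⟩ := shc_shape (hodd c ((hmem c).1 hc)) ((hmem c).1 hc).2.1
    exact Finset.mem_biUnion.2 ⟨i, Finset.mem_univ i, Finset.mem_filter.2 ⟨hc, hi⟩⟩
  -- the code as a finset
  set C : Finset (Fin 24 → ZMod 2) := (Set.toFinite (codeOf Λ : Set (Fin 24 → ZMod 2))).toFinset
    with hC
  have hCcard : C.card = Nat.card (codeOf Λ) := by
    rw [hC, ← Set.ncard_eq_toFinset_card (codeOf Λ : Set (Fin 24 → ZMod 2))]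
    rfl
  have hCmem : ∀ w, w ∈ C ↔ w ∈ codeOf Λ := fun w => by
    rw [hC, Set.Finite.mem_toFinset]; rfl
  have hfib : ∀ i : Fin 24, (s.filter (fun c => c i ^ 2 = 9)).card ≤ C.card := by
    intro i
    by_cases hne : (s.filter (fun c => c i ^ 2 = 9)).Nonempty
    · obtain ⟨r, hr⟩ := hne
      have hrS : r ∈ SC := (hmem r).1 (Finset.mem_filter.1 hr).1
      have hr9 : r i ^ 2 = 9 := (Finset.mem_filter.1 hr).2
      have hrshape : ∀ j, j ≠ i → r j ^ 2 = 1 := by
        obtain ⟨i', hi', hrest⟩ := shc_shape (hodd r hrS) hrS.2.1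
        intro j hj
        by_cases hii : i' = i
        · exact hrest j (by rw [hii]; exact hj)
        · have := hrest i (fun e => hii e.symm)
          omega
      apply Finset.card_le_card_of_injOn
        (fun c => fun j => (((c j - r j) / 2 : ℤ) : ZMod 2))
      · intro c hc
        have hcS : c ∈ SC := (hmem c).1 (Finset.mem_filter.1 hc).1
        rw [Finset.mem_coe, hCmem, mem_codeOf]
        refine ⟨fun j => (c j - r j) / 2, ?_, fun j => rfl⟩
        have e : (fun j => 2 * ((c j - r j) / 2)) = c - r := by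
          funext j
          have h2 : (2 : ℤ) ∣ c j - r j := by
            have h1 := hodd c hcS j
            have h2 := hodd r hrS j
            omega
          rw [Pi.sub_apply, Int.mul_ediv_cancel' h2]
        rw [e]
        exact Λ.sub_mem hcS.1 hrS.1
      · intro c hc c' hc' hcc
        have hcS : c ∈ SC := (hmem c).1 (Finset.mem_filter.1 (Finset.mem_coe.1 hc)).1
        have hc9 : c i ^ 2 = 9 := (Finset.mem_filter.1 (Finset.mem_coe.1 hc)).2
        have hcS' : c' ∈ SC := (hmem c').1 (Finset.mem_filter.1 (Finset.mem_coe.1 hc')).1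
        have hc9' : c' i ^ 2 = 9 := (Finset.mem_filter.1 (Finset.mem_coe.1 hc')).2
        have shape : ∀ x ∈ SC, x i ^ 2 = 9 → ∀ j, j ≠ i → x j ^ 2 = 1 := by
          intro x hx hx9 j hj
          obtain ⟨i', hi', hrest⟩ := shc_shape (hodd x hx) hx.2.1
          by_cases hii : i' = i
          · exact hrest j (by rw [hii]; exact hj)
          · have := hrest i (fun e => hii e.symm)
            omega
        apply shc_eq_of_mod_four (hodd c hcS)
        · intro j
          by_cases hj : j = i
          · rw [hj, hc9, hc9']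
          · rw [shape c hcS hc9 j hj, shape c' hcS' hc9' j hj]
        · intro j
          have h1 := congrFun hcc j
          simp only at h1
          rw [ZMod.intCast_eq_intCast_iff_dvd_sub] at h1
          have h2 : (2 : ℤ) ∣ c j - r j := by
            have h1 := hodd c hcS j
            have h2 := hodd r hrS j
            omega
          have h3 : (2 : ℤ) ∣ c' j - r j := by
            have h1 := hodd c' hcS' j
            have h2 := hodd r hrS j
            omega
          obtain ⟨a, ha⟩ := h2
          obtain ⟨b, hb⟩ := h3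
          rw [ha, hb] at h1
          simp only [Nat.cast_ofNat] at h1
          rw [Int.mul_ediv_cancel_left _ (by norm_num : (2 : ℤ) ≠ 0),
            Int.mul_ediv_cancel_left _ (by norm_num : (2 : ℤ) ≠ 0)] at h1
          obtain ⟨k, hk⟩ := h1
          exact ⟨k, by linarith⟩
    · rw [Finset.not_nonempty_iff_eq_empty] at hne
      rw [hne]; simp
  calc s.card ≤ (Finset.univ.biUnion (fun i : Fin 24 => s.filter (fun c => c i ^ 2 = 9))).card :=
        Finset.card_le_card hcover
    _ ≤ ∑ i : Fin 24, (s.filter (fun c => c i ^ 2 = 9)).card := Finset.card_biUnion_le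
    _ ≤ ∑ i : Fin 24, C.card := Finset.sum_le_sum fun i _ => hfib i
    _ = 24 * Nat.card (codeOf Λ) := by
        rw [Finset.sum_const, hCcard]; simp

end Cfsg.Agent.Lib.H21.LC
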