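import Mathlib
import Cfsg.Agent.Lib.H1.M11U.Defs

/-!
# S0420, piece LOC (helper21): `C_G(P) = P` and central involutions of a Sylow 2-subgroup of `N(P)`
are fixed-point-free on `P`, for a Sylow 3-subgroup `P` of a group with the landed facts `Hyp G`.
Exact signatures of `tools/blueprints/S0420_sigs.lean`.
-/

set_option autoImplicit false

universe u

namespace Cfsg.Agent.Lib.H21.M11U

open Cfsg.Agent.Lib.H1.M11U

variable {G : Type u} [Group G] [Finite G]

/-- a Sylow 3-subgroup has order 9 -/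
theorem loc_card_sylow3_sub (h : Hyp G) (P : Sylow 3 G) : Nat.card (P : Subgroup G) = 9 := by
  have : Fact (Nat.Prime 3) := ⟨Nat.prime_three⟩
  have hf : (7920 : ℕ).factorization 3 = 2 := by
    have h1 : (7920 : ℕ) = 3 ^ 2 * 880 := by norm_num
    rw [h1, Nat.factorization_mul (by norm_num) (by norm_num),
      Nat.Prime.factorization_pow Nat.prime_three]
    simp [Nat.factorization_eq_zero_of_not_dvd]
  rw [Sylow.card_eq_multiplicity, h.card, hf]; norm_num

/-- a Sylow 3-subgroup is abelian -/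
theorem loc_comm (h : Hyp G) (P : Sylow 3 G) {a b : G} (ha : a ∈ (P : Subgroup G))
    (hb : b ∈ (P : Subgroup G)) : a * b = b * a := by
  have : Fact (Nat.Prime 3) := ⟨Nat.prime_three⟩
  have h9 : Nat.card (P : Subgroup G) = 3 ^ 2 := by rw [loc_card_sylow3_sub h P]; norm_num
  have hc := IsPGroup.isMulCommutative_of_card_eq_prime_sq h9
  exact congrArg Subtype.val (hc.is_comm.comm ⟨a, ha⟩ ⟨b, hb⟩)

/-- `C_G(P) = P`. -/
theorem centralizer_eq (h : Hyp G) (P : Sylow 3 G) :
    Subgroup.centralizer ((P : Subgroup G) : Set G) = (P : Subgroup G) := by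
  have : Fact (Nat.Prime 3) := ⟨Nat.prime_three⟩
  have : Fact (Nat.Prime 2) := ⟨Nat.prime_two⟩
  have h9 := loc_card_sylow3_sub h P
  have hle : (P : Subgroup G) ≤ Subgroup.centralizer ((P : Subgroup G) : Set G) := by
    intro x hx
    rw [Subgroup.mem_centralizer_iff]
    intro y hy
    exact loc_comm h P hy hx
  -- an element of order 3 in `P`
  obtain ⟨x, hx⟩ := exists_prime_orderOf_dvd_card' (G := ↥(P : Subgroup G)) 3 (by rw [h9]; norm_num)
  have hx3 : orderOf (x : G) = 3 := by rw [Subgroup.orderOf_coe]; exact hx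
  have hC18 := h.cent3 (x : G) hx3
  have hCle : Subgroup.centralizer ((P : Subgroup G) : Set G) ≤
      Subgroup.centralizer ({(x : G)} : Set G) :=
    Subgroup.centralizer_le (by
      intro y hy
      rw [Set.mem_singleton_iff] at hy
      rw [hy]
      exact x.2)
  have hd18 : Nat.card ↥(Subgroup.centralizer ((P : Subgroup G) : Set G)) ∣ 18 := by
    rw [← hC18]; exact Subgroup.card_dvd_of_le hCle
  have hd9 : 9 ∣ Nat.card ↥(Subgroup.centralizer ((P : Subgroup G) : Set G)) := by
    rw [← h9]; exact Subgroup.card_dvd_of_le hle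
  have hcard : Nat.card ↥(Subgroup.centralizer ((P : Subgroup G) : Set G)) = 9 := by
    obtain ⟨k, hk⟩ := hd9
    rw [hk] at hd18
    have hk2 : k ∣ 2 := by
      have : 9 * k ∣ 9 * 2 := by simpa using hd18
      exact Nat.dvd_of_mul_dvd_mul_left (by norm_num) this
    have hkle : k ≤ 2 := Nat.le_of_dvd (by norm_num) hk2
    have hk0 : k ≠ 0 := by
      rintro rfl
      simp at hk2
    have hk1 : k = 1 ∨ k = 2 := by omega
    rcases hk1 with rfl | rfl
    · simpa using hk
    · exfalso
      -- an involution centralising `P`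
      have h2 : 2 ∣ Nat.card ↥(Subgroup.centralizer ((P : Subgroup G) : Set G)) := by
        rw [hk]; norm_num
      obtain ⟨t, ht⟩ := exists_prime_orderOf_dvd_card'
        (G := ↥(Subgroup.centralizer ((P : Subgroup G) : Set G))) 2 h2
      have ht2 : orderOf (t : G) = 2 := by rw [Subgroup.orderOf_coe]; exact ht
      have hC48 := h.cent2 (t : G) ht2
      have hPle : (P : Subgroup G) ≤ Subgroup.centralizer ({(t : G)} : Set G) := by
        intro y hy
        rw [Subgroup.mem_centralizer_singleton_iff]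
        have := (Subgroup.mem_centralizer_iff.1 t.2) y hy
        exact this
      have : 9 ∣ 48 := by
        rw [← h9, ← hC48]; exact Subgroup.card_dvd_of_le hPle
      omega
  exact (Subgroup.eq_of_le_of_card_ge hle (by rw [hcard, h9])).symm

/-- a central involution of a Sylow 2-subgroup `S` of `N(P)` is fixed-point-free on `P`. -/
theorem central_invol_fpf (h : Hyp G) (P : Sylow 3 G) (S : Subgroup G) (hS : S ≤ Nrm P)
    (hS16 : Nat.card S = 16) {z : G} (hzS : z ∈ S) (hz2 : orderOf z = 2)
    (hzc : ∀ s ∈ S, s * z = z * s) {v : G} (hv : v ∈ (P : Subgroup G)) (hzv : z * v * z⁻¹ = v) :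
    v = 1 := by
  by_contra hv1
  have h9 := loc_card_sylow3_sub h P
  -- `C = C_P(z)`
  set C : Subgroup G := (P : Subgroup G) ⊓ Subgroup.centralizer ({z} : Set G) with hCdef
  have hCmem : ∀ w, w ∈ C ↔ w ∈ (P : Subgroup G) ∧ w * z = z * w := by
    intro w
    rw [hCdef, Subgroup.mem_inf, Subgroup.mem_centralizer_singleton_iff]
  have hvC : v ∈ C := by
    rw [hCmem]
    refine ⟨hv, ?_⟩
    calc v * z = (z * v * z⁻¹) * z := by rw [hzv]
      _ = z * v := by group
  have hCP : C ≤ (P : Subgroup G) := inf_le_left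
  have hCd9 : Nat.card C ∣ 9 := by rw [← h9]; exact Subgroup.card_dvd_of_le hCP
  -- `C` is `S`-invariant
  have hCinv : ∀ s ∈ S, ∀ w ∈ C, s * w * s⁻¹ ∈ C := by
    intro s hs w hw
    rw [hCmem] at hw ⊢
    refine ⟨?_, ?_⟩
    · have hsN : s ∈ Subgroup.normalizer ((P : Subgroup G) : Set G) := hS hs
      exact (Subgroup.mem_normalizer_iff.1 hsN w).1 hw.1
    · have hwz : w * z = z * w := hw.2
      have hsz := hzc s hs
      have hsz' : s⁻¹ * z = z * s⁻¹ := by
        calc s⁻¹ * z = s⁻¹ * (z * s) * s⁻¹ := by group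
          _ = s⁻¹ * (s * z) * s⁻¹ := by rw [hsz]
          _ = z * s⁻¹ := by group
      calc s * w * s⁻¹ * z = s * w * (s⁻¹ * z) := by group
        _ = s * w * (z * s⁻¹) := by rw [hsz']
        _ = s * (w * z) * s⁻¹ := by group
        _ = s * (z * w) * s⁻¹ := by rw [hwz]
        _ = (s * z) * w * s⁻¹ := by group
        _ = (z * s) * w * s⁻¹ := by rw [hsz]
        _ = z * (s * w * s⁻¹) := by group
  -- `|C| ≠ 9`
  have hC9 : Nat.card C ≠ 9 := by
    intro hc
    have hCeq : C = (P : Subgroup G) := Subgroup.eq_of_le_of_card_ge hCP (by rw [hc, h9])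
    have hzcent : z ∈ Subgroup.centralizer ((P : Subgroup G) : Set G) := by
      rw [Subgroup.mem_centralizer_iff]
      intro y hy
      have hyC : y ∈ C := by rw [hCeq]; exact hy
      exact ((hCmem y).1 hyC).2
    rw [centralizer_eq h P] at hzcent
    have := Subgroup.orderOf_dvd_natCard _ hzcent
    rw [hz2, h9] at this
    omega
  -- so `|C| = 3`
  have hC3 : Nat.card C = 3 := by
    have hle : Nat.card C ≤ 9 := Nat.le_of_dvd (by norm_num) hCd9
    have hne1 : Nat.card C ≠ 1 := by
      intro hc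
      have hbot : C = ⊥ := Subgroup.card_eq_one.1 hc
      rw [hbot, Subgroup.mem_bot] at hvC
      exact hv1 hvC
    have hpos : 0 < Nat.card C := Nat.card_pos
    interval_cases hn : Nat.card C <;> simp_all
  have hv3 : orderOf v = 3 := by
    have hd : orderOf v ∣ 3 := by rw [← hC3]; exact Subgroup.orderOf_dvd_natCard _ hvC
    have hne : orderOf v ≠ 1 := by rwa [Ne, orderOf_eq_one_iff]
    rcases (Nat.dvd_prime Nat.prime_three).1 hd with h1 | h3
    · exact absurd h1 hne
    · exact h3
  have hzp : Subgroup.zpowers v = C := by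
    apply Subgroup.eq_of_le_of_card_ge
    · rw [Subgroup.zpowers_le]; exact hvC
    · rw [Nat.card_zpowers, hv3, hC3]
  have hv3' : v ^ 3 = 1 := by rw [← hv3]; exact pow_orderOf_eq_one v
  have hvinv : v ^ 2 = v⁻¹ := by
    have : v ^ 2 * v = 1 := by rw [← pow_succ]; exact hv3'
    exact eq_inv_of_mul_eq_one_left this
  have hvne : v ≠ v⁻¹ := by
    intro hh
    apply hv1
    have h2 : v ^ 2 = 1 := by
      rw [pow_two]
      nth_rewrite 1 [hh]
      exact inv_mul_cancel v
    calc v = v ^ 3 * (v ^ 2)⁻¹ := by group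
      _ = 1 := by rw [hv3', h2]; simp
  -- every `s ∈ S` centralises or inverts `v`
  have hdich : ∀ s ∈ S, s * v * s⁻¹ = v ∨ s * v * s⁻¹ = v⁻¹ := by
    intro s hs
    have hmem : s * v * s⁻¹ ∈ Subgroup.zpowers v := by rw [hzp]; exact hCinv s hs v hvC
    obtain ⟨k, hk⟩ := Subgroup.mem_zpowers_iff.1 hmem
    have hk' : v ^ (k % 3) = s * v * s⁻¹ := by
      have := zpow_mod_orderOf v k
      rw [hv3] at this
      rw [← hk]; exact_mod_cast this
    have hlt : k % 3 < 3 := Int.emod_lt_of_pos k (by norm_num)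
    have hge : 0 ≤ k % 3 := Int.emod_nonneg k (by norm_num)
    have hcases : k % 3 = 0 ∨ k % 3 = 1 ∨ k % 3 = 2 := by omega
    rcases hcases with h0 | h1 | h2
    · exfalso
      rw [h0, zpow_zero] at hk'
      apply hv1
      have : v = s⁻¹ * (s * v * s⁻¹) * s := by group
      rw [this, ← hk']; group
    · left
      rw [h1, zpow_one] at hk'
      exact hk'.symm
    · right
      rw [h2] at hk'
      rw [← hk', ← hvinv]
      norm_cast
  -- `K = C_S(v)`
  set K : Subgroup G := S ⊓ Subgroup.centralizer ({v} : Set G) with hKdef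
  have hKS : K ≤ S := inf_le_left
  have hKmem : ∀ s, s ∈ S → (s ∈ K ↔ s * v * s⁻¹ = v) := by
    intro s hs
    rw [hKdef, Subgroup.mem_inf, Subgroup.mem_centralizer_singleton_iff]
    constructor
    · intro hsK
      rw [hsK.2]; group
    · intro hsv
      refine ⟨hs, ?_⟩
      calc s * v = (s * v * s⁻¹) * s := by group
        _ = v * s := by rw [hsv]
  have hK18 : Nat.card K ∣ 18 := by
    rw [← h.cent3 v hv3]; exact Subgroup.card_dvd_of_le inf_le_right
  have hcardsub : Nat.card ↥(K.subgroupOf S) = Nat.card K :=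
    Nat.card_congr (Subgroup.subgroupOfEquivOfLe hKS).toEquiv
  have hmul := Subgroup.card_mul_index (K.subgroupOf S)
  rw [hcardsub, hS16] at hmul
  by_cases hall : ∀ s ∈ S, s * v * s⁻¹ = v
  · -- `K = S`
    have hSK : S ≤ K := fun s hs => (hKmem s hs).2 (hall s hs)
    have : Nat.card S ∣ Nat.card K := Subgroup.card_dvd_of_le hSK
    rw [hS16] at this
    have := this.trans hK18
    omega
  · push Not at hall
    obtain ⟨s₀, hs₀, hs₀v⟩ := hall
    have hs₀inv : s₀ * v * s₀⁻¹ = v⁻¹ := (hdich s₀ hs₀).resolve_left hs₀v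
    have hidx : (K.subgroupOf S).index = 2 := by
      rw [Subgroup.index_eq_two_iff]
      refine ⟨⟨s₀, hs₀⟩, ?_⟩
      intro b
      have hb := b.2
      have hbs : (b : G) * s₀ ∈ S := S.mul_mem hb hs₀
      rw [Subgroup.mem_subgroupOf, Subgroup.mem_subgroupOf]
      have e1 : ((b * ⟨s₀, hs₀⟩ : ↥S) : G) = (b : G) * s₀ := rfl
      rw [e1, hKmem _ hbs, hKmem _ hb]
      have hconj : (b : G) * s₀ * v * ((b : G) * s₀)⁻¹ = (b : G) * v⁻¹ * (b : G)⁻¹ := by
        calc (b : G) * s₀ * v * ((b : G) * s₀)⁻¹ = (b : G) * (s₀ * v * s₀⁻¹) * (b : G)⁻¹ := by group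
          _ = (b : G) * v⁻¹ * (b : G)⁻¹ := by rw [hs₀inv]
      rw [hconj]
      have hinvconj : (b : G) * v⁻¹ * (b : G)⁻¹ = ((b : G) * v * (b : G)⁻¹)⁻¹ := by group
      rw [hinvconj]
      rcases hdich (b : G) hb with hc | hi
      · right
        refine ⟨hc, ?_⟩
        rw [hc]
        exact fun hh => hvne hh.symm
      · left
        refine ⟨?_, ?_⟩
        · rw [hi, inv_inv]
        · rw [hi]
          exact fun hh => hvne hh.symm
    rw [hidx] at hmul
    have hK8 : Nat.card K = 8 := by omega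
    rw [hK8] at hK18
    omega

end Cfsg.Agent.Lib.H21.M11U
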