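import Mathlib
import Cfsg.Agent.Lib.H1.M11U.Defs
import Cfsg.Agent.Lib.H1.M11U.Base
import Cfsg.Agent.Lib.H9.M11SUB

/-!
# S0420, piece P3b (helper21): the fixed points of `Q = N(P) ∩ N(P')` on the Sylow 3-subgroups are
`P`, `P'` and `s • P'`.  Exact signature `fixed_of_Q` of `tools/blueprints/S0420_sigs.lean`.
-/

set_option autoImplicit false

universe u

namespace Cfsg.Agent.Lib.H21.M11U

open Cfsg.Agent.Lib.H1.M11U

variable {G : Type u} [Group G] [Finite G]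

/-- an element of order 3 of `N(P)` normalising `Q = N(P) ∩ N(P')` (of order 8) cannot exist -/
theorem p3b_no_order3 (h : Hyp G) {P P' : Sylow 3 G} (hadj : Adj P P') {x : G} (hx3 : orderOf x = 3)
    (hxN : x ∈ Nrm P)
    (hxQ : ∀ q ∈ Nrm P ⊓ Nrm P', x * q * x⁻¹ ∈ Nrm P ⊓ Nrm P') : False := by
  have hQ8 : Nat.card ↥(Nrm P ⊓ Nrm P') = 8 := hadj
  have h9 := card_sylow3_sub h P
  have hxP : x ∈ (P : Subgroup G) := by
    apply Cfsg.Agent.Lib.H9.M11U.mem_sylow_of_mem_nrm P hxN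
    apply IsPGroup.of_card (n := 1)
    rw [Nat.card_zpowers, hx3, pow_one]
  have hcomm : ∀ q ∈ Nrm P ⊓ Nrm P', q * x = x * q := by
    intro q hq
    have hqN : q ∈ Subgroup.normalizer ((P : Subgroup G) : Set G) := (Subgroup.mem_inf.1 hq).1
    have hcQ : x * q * x⁻¹ * q⁻¹ ∈ Nrm P ⊓ Nrm P' :=
      (Nrm P ⊓ Nrm P').mul_mem (hxQ q hq) ((Nrm P ⊓ Nrm P').inv_mem hq)
    have hcP : x * q * x⁻¹ * q⁻¹ ∈ (P : Subgroup G) := by
      have h1 : q * x⁻¹ * q⁻¹ ∈ (P : Subgroup G) :=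
        (Subgroup.mem_normalizer_iff.1 hqN x⁻¹).1 ((P : Subgroup G).inv_mem hxP)
      have h2 : x * q * x⁻¹ * q⁻¹ = x * (q * x⁻¹ * q⁻¹) := by group
      rw [h2]
      exact (P : Subgroup G).mul_mem hxP h1
    have hd8 : orderOf (x * q * x⁻¹ * q⁻¹) ∣ 8 := by
      rw [← hQ8]; exact Subgroup.orderOf_dvd_natCard _ hcQ
    have hd9 : orderOf (x * q * x⁻¹ * q⁻¹) ∣ 9 := by
      rw [← h9]; exact Subgroup.orderOf_dvd_natCard _ hcP
    have hd1 : orderOf (x * q * x⁻¹ * q⁻¹) ∣ 1 := by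
      have := Nat.dvd_gcd hd8 hd9
      simpa using this
    have hc1 : x * q * x⁻¹ * q⁻¹ = 1 := orderOf_eq_one_iff.1 (Nat.dvd_one.1 hd1)
    calc q * x = (x * q * x⁻¹ * q⁻¹)⁻¹ * (x * q) := by group
      _ = x * q := by rw [hc1]; simp
  have hle : Nrm P ⊓ Nrm P' ≤ Subgroup.centralizer ({x} : Set G) := by
    intro q hq
    rw [Subgroup.mem_centralizer_singleton_iff]
    exact hcomm q hq
  have := Subgroup.card_dvd_of_le hle
  rw [hQ8, h.cent3 x hx3] at this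
  omega

/-- (P3b) `Fix(Q) = {P, P', s • P'}`. -/
theorem fixed_of_Q (h : Hyp G) {P P' : Sylow 3 G} (hadj : Adj P P') {S : Subgroup G} (hS : S ≤ Nrm P)
    (hS16 : Nat.card S = 16) (hQS : Nrm P ⊓ Nrm P' ≤ S) {s : G} (hs : s ∈ S) (hsQ : s ∉ Nrm P')
    (X : Sylow 3 G) (hX : ∀ q ∈ Nrm P ⊓ Nrm P', q • X = X) : X = P ∨ X = P' ∨ X = s • P' := by
  by_cases hXP : X = P
  · exact Or.inl hXP
  right
  have hQ8 : Nat.card ↥(Nrm P ⊓ Nrm P') = 8 := hadj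
  -- `Q ≤ N(P) ∩ N(X)`, hence equality
  have hQle : Nrm P ⊓ Nrm P' ≤ Nrm P ⊓ Nrm X := by
    intro q hq
    exact Subgroup.mem_inf.2 ⟨(Subgroup.mem_inf.1 hq).1, (smul_eq_iff q X).1 (hX q hq)⟩
  have hPX : P ≠ X := fun e => hXP e.symm
  have hcardX : Nat.card ↥(Nrm P ⊓ Nrm X) = 8 := by
    rcases Cfsg.Agent.Lib.H9.M11U.card_inf_nrm h hPX with h8 | h4
    · exact h8
    · exfalso
      have := Subgroup.card_dvd_of_le hQle
      rw [hQ8, h4] at this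
      omega
  have hQeq : Nrm P ⊓ Nrm P' = Nrm P ⊓ Nrm X :=
    Subgroup.eq_of_le_of_card_ge hQle (by rw [hcardX, hQ8])
  have hadjX : Adj P X := hcardX
  obtain ⟨n, hnP, hnX⟩ := Cfsg.Agent.Lib.H9.M11U.adj_trans h hadj hadjX
  -- `n` normalises `Q`
  have hnQ : ∀ q, q ∈ Nrm P ⊓ Nrm P' → n * q * n⁻¹ ∈ Nrm P ⊓ Nrm P' := by
    intro q hq
    rw [hQeq]
    refine Subgroup.mem_inf.2 ⟨?_, ?_⟩
    · exact (Nrm P).mul_mem ((Nrm P).mul_mem hnP (Subgroup.mem_inf.1 hq).1) ((Nrm P).inv_mem hnP)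
    · rw [← hnX]
      exact Cfsg.Agent.Lib.H9.M11U.conj_mem_nrm_smul n (Subgroup.mem_inf.1 hq).2
  have hnQ' : ∀ q, q ∈ Nrm P ⊓ Nrm P' → n⁻¹ * q * n ∈ Nrm P ⊓ Nrm P' := by
    intro q hq
    rw [hQeq] at hq
    refine Subgroup.mem_inf.2 ⟨?_, ?_⟩
    · exact (Nrm P).mul_mem ((Nrm P).mul_mem ((Nrm P).inv_mem hnP) (Subgroup.mem_inf.1 hq).1) hnP
    · have hq2 : q ∈ Nrm (n • P') := by rw [hnX]; exact (Subgroup.mem_inf.1 hq).2
      exact Cfsg.Agent.Lib.H9.M11U.conj_mem_nrm_of_smul n hq2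
  -- `Q` has index 2 in `S`
  have hidx : ((Nrm P ⊓ Nrm P').subgroupOf S).index = 2 := by
    have hmul := Subgroup.card_mul_index ((Nrm P ⊓ Nrm P').subgroupOf S)
    have hc : Nat.card ↥((Nrm P ⊓ Nrm P').subgroupOf S) = 8 := by
      rw [Nat.card_congr (Subgroup.subgroupOfEquivOfLe hQS).toEquiv]; exact hQ8
    rw [hc, hS16] at hmul
    omega
  have hnormal : ((Nrm P ⊓ Nrm P').subgroupOf S).Normal := Subgroup.normal_of_index_eq_two hidx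
  have hSnorm : ∀ t ∈ S, ∀ q ∈ Nrm P ⊓ Nrm P', t * q * t⁻¹ ∈ Nrm P ⊓ Nrm P' := by
    intro t ht q hq
    have hqS : q ∈ S := hQS hq
    have := hnormal.conj_mem ⟨q, hqS⟩ (Subgroup.mem_subgroupOf.2 hq) ⟨t, ht⟩
    exact Subgroup.mem_subgroupOf.1 this
  -- `N = N_{N(P)}(Q)`
  have hmemN : ∀ g : G, (∀ q ∈ Nrm P ⊓ Nrm P', g * q * g⁻¹ ∈ Nrm P ⊓ Nrm P') →
      (∀ q ∈ Nrm P ⊓ Nrm P', g⁻¹ * q * g ∈ Nrm P ⊓ Nrm P') →
      g ∈ Subgroup.normalizer (((Nrm P ⊓ Nrm P' : Subgroup G)) : Set G) := by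
    intro g h1 h2
    rw [Subgroup.mem_normalizer_iff]
    intro q
    constructor
    · exact h1 q
    · intro hq
      have := h2 _ hq
      have e : g⁻¹ * (g * q * g⁻¹) * g = q := by group
      rw [e] at this
      exact this
  have hSN : S ≤ Nrm P ⊓ Subgroup.normalizer (((Nrm P ⊓ Nrm P' : Subgroup G)) : Set G) := by
    intro t ht
    refine Subgroup.mem_inf.2 ⟨hS ht, hmemN t (hSnorm t ht) ?_⟩
    intro q hq
    have := hSnorm t⁻¹ (S.inv_mem ht) q hq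
    rwa [inv_inv] at this
  have hnN : n ∈ Nrm P ⊓ Subgroup.normalizer (((Nrm P ⊓ Nrm P' : Subgroup G)) : Set G) :=
    Subgroup.mem_inf.2 ⟨hnP, hmemN n hnQ hnQ'⟩
  have hN3 : ¬ 3 ∣ Nat.card
      ↥(Nrm P ⊓ Subgroup.normalizer (((Nrm P ⊓ Nrm P' : Subgroup G)) : Set G)) := by
    intro h3
    have : Fact (Nat.Prime 3) := ⟨Nat.prime_three⟩
    obtain ⟨x, hx⟩ := exists_prime_orderOf_dvd_card'
      (G := ↥(Nrm P ⊓ Subgroup.normalizer (((Nrm P ⊓ Nrm P' : Subgroup G)) : Set G))) 3 h3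
    have hx3 : orderOf (x : G) = 3 := by rw [Subgroup.orderOf_coe]; exact hx
    have hx1 := (Subgroup.mem_inf.1 x.2).1
    have hx2 := (Subgroup.mem_inf.1 x.2).2
    refine p3b_no_order3 h hadj hx3 hx1 ?_
    intro q hq
    exact (Subgroup.mem_normalizer_iff.1 hx2 q).1 hq
  have hN16 : Nat.card
      ↥(Nrm P ⊓ Subgroup.normalizer (((Nrm P ⊓ Nrm P' : Subgroup G)) : Set G)) = 16 := by
    have hd144 : Nat.card
        ↥(Nrm P ⊓ Subgroup.normalizer (((Nrm P ⊓ Nrm P' : Subgroup G)) : Set G)) ∣ 144 := by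
      rw [← h.norm3 P]; exact Subgroup.card_dvd_of_le inf_le_left
    have hd16 : 16 ∣ Nat.card
        ↥(Nrm P ⊓ Subgroup.normalizer (((Nrm P ⊓ Nrm P' : Subgroup G)) : Set G)) := by
      rw [← hS16]; exact Subgroup.card_dvd_of_le hSN
    obtain ⟨k, hk⟩ := hd16
    rw [hk] at hd144 hN3
    have hk9 : k ∣ 9 := by
      have : 16 * k ∣ 16 * 9 := by simpa using hd144
      exact Nat.dvd_of_mul_dvd_mul_left (by norm_num) this
    have hkle : k ≤ 9 := Nat.le_of_dvd (by norm_num) hk9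
    have hk3 : ¬ 3 ∣ k := fun hh => hN3 (Dvd.dvd.mul_left hh 16)
    rw [hk]
    interval_cases k <;> omega
  have hSeq : S = Nrm P ⊓ Subgroup.normalizer (((Nrm P ⊓ Nrm P' : Subgroup G)) : Set G) :=
    Subgroup.eq_of_le_of_card_ge hSN (by rw [hN16, hS16])
  have hnS : n ∈ S := by rw [hSeq]; exact hnN
  -- `S = Q ∪ s Q`
  have hsQ' : s ∉ Nrm P ⊓ Nrm P' := fun hh => hsQ (Subgroup.mem_inf.1 hh).2
  by_cases hnQm : n ∈ Nrm P ⊓ Nrm P'
  · left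
    rw [← hnX]
    exact (smul_eq_iff n P').2 (Subgroup.mem_inf.1 hnQm).2
  · right
    have hkey := Subgroup.mul_mem_iff_of_index_two hidx (a := (⟨s, hs⟩ : ↥S)⁻¹) (b := ⟨n, hnS⟩)
    have hs1 : (⟨s, hs⟩ : ↥S)⁻¹ ∉ (Nrm P ⊓ Nrm P').subgroupOf S := by
      intro hh
      have := ((Nrm P ⊓ Nrm P').subgroupOf S).inv_mem hh
      rw [inv_inv, Subgroup.mem_subgroupOf] at this
      exact hsQ' this
    have hn1 : (⟨n, hnS⟩ : ↥S) ∉ (Nrm P ⊓ Nrm P').subgroupOf S := by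
      intro hh
      rw [Subgroup.mem_subgroupOf] at hh
      exact hnQm hh
    have hprod : (⟨s, hs⟩ : ↥S)⁻¹ * ⟨n, hnS⟩ ∈ (Nrm P ⊓ Nrm P').subgroupOf S :=
      hkey.2 ⟨fun hh => absurd hh hs1, fun hh => absurd hh hn1⟩
    rw [Subgroup.mem_subgroupOf] at hprod
    have hprod' : s⁻¹ * n ∈ Nrm P ⊓ Nrm P' := hprod
    have hfix : (s⁻¹ * n) • P' = P' := (smul_eq_iff _ P').2 (Subgroup.mem_inf.1 hprod').2
    rw [← hnX]
    rw [mul_smul] at hfix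
    calc n • P' = s • (s⁻¹ • (n • P')) := by rw [smul_inv_smul]
      _ = s • P' := by rw [hfix]

end Cfsg.Agent.Lib.H21.M11U
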