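/-
S4079 (architect helper26), piece A5 (helper21): under the homomorphism property of the `p`-th power map, the norm
formula forces `p = 3`, and produces `y` with `y ^ p ∈ Z ∖ 1`, `w = y⁻¹ σ(y)` of order dividing `p` and `w ∉ Z`.
-/
import Mathlib
import Cfsg.Agent.Lib.H26.MC3Defs
import Cfsg.Agent.Lib.H26.MC3Nm

set_option autoImplicit false
set_option linter.unusedSectionVars false
set_option linter.unusedVariables false

namespace Cfsg.Agent.Lib.H21.MC3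

open Cfsg.Agent.Lib.H26.MC3

universe u

variable {p : ℕ} [Fact p.Prime] {L : Type u} [Group L] [Finite L]

variable {σ : MulAut L}

/-- A5 -/
theorem p_eq_three (h : Hyp p L) (hm : Mov p σ) (F : Facts p L) (SF : SFacts p σ)
    (hom : ∀ g k : L, (g * k) ^ p = g ^ p * k ^ p) :
    p = 3 ∧ ∃ y : L, y ^ p ∈ Zf p σ ∧ y ^ p ≠ 1 ∧ (y⁻¹ * σ y) ^ p = 1 ∧ y⁻¹ * σ y ∉ Zf p σ := by
  have hp : p.Prime := Fact.out
  have hp2 := h.hp2
  have hp3 : 3 ≤ p := by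
    have := hp.two_le
    omega
  obtain ⟨x₀, hx₀p, hx₀σ⟩ := hm.hmv
  obtain ⟨x, hx⟩ := F.exists_pow_eq hx₀p
  -- `(g⁻¹ σ g)^p = (g^p)⁻¹ σ (g^p)`
  have hpw : ∀ g : L, (g⁻¹ * σ g) ^ p = (g ^ p)⁻¹ * σ (g ^ p) := by
    intro g
    rw [hom, inv_pow, map_pow]
  obtain ⟨y, hy⟩ : ∃ y : L, y = x⁻¹ * σ x := ⟨_, rfl⟩
  obtain ⟨w, hw⟩ : ∃ w : L, w = y⁻¹ * σ y := ⟨_, rfl⟩
  obtain ⟨u, hu⟩ : ∃ u : L, u = w⁻¹ * σ w := ⟨_, rfl⟩
  obtain ⟨c, hc⟩ : ∃ c : L, c = w⁻¹ * y⁻¹ * w * y := ⟨_, rfl⟩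
  have hyp : y ^ p = x₀⁻¹ * σ x₀ := by rw [hy, hpw, hx]
  have hz₁ : y ^ p ∈ Zf p σ := by
    rw [hyp]
    exact SF.inv_mul_sigma_mem_Zf hx₀p
  have hz₁ne : y ^ p ≠ 1 := by
    rw [hyp]
    intro e
    exact hx₀σ (inv_mul_eq_one.mp e).symm
  have hz₁fix : σ (y ^ p) = y ^ p := (Subgroup.mem_inf.mp hz₁).2
  have hwp : w ^ p = 1 := by
    rw [hw, hpw, hz₁fix, inv_mul_cancel]
  have huZ : u ∈ Zf p σ := by
    rw [hu]
    exact SF.inv_mul_sigma_mem_Zf hwp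
  have hk : y⁻¹ * w * (y⁻¹)⁻¹ * w⁻¹ ∈ Zf p σ := SF.comm_mem_Zf y⁻¹ hwp
  have hkc := Subgroup.mem_center_iff.mp (SF.Zf_le_center hk)
  have hck : c = y⁻¹ * w * (y⁻¹)⁻¹ * w⁻¹ := by
    calc c = w⁻¹ * ((y⁻¹ * w * (y⁻¹)⁻¹ * w⁻¹) * w) := by rw [hc]; group
      _ = w⁻¹ * (w * (y⁻¹ * w * (y⁻¹)⁻¹ * w⁻¹)) := by rw [hkc w]
      _ = y⁻¹ * w * (y⁻¹)⁻¹ * w⁻¹ := by group
  have hcZ : c ∈ Zf p σ := by
    rw [hck]
    exact hk
  have hcc := Subgroup.mem_center_iff.mp (SF.Zf_le_center hcZ)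
  have huc := Subgroup.mem_center_iff.mp (SF.Zf_le_center huZ)
  have hufix : σ u = u := (Subgroup.mem_inf.mp huZ).2
  have hup : u ^ p = 1 := (F.mem_Om_iff u).mp (Subgroup.mem_inf.mp huZ).1
  have hcp : c ^ p = 1 := (F.mem_Om_iff c).mp (Subgroup.mem_inf.mp hcZ).1
  -- the norm formula
  have hN := Nm_formula σ (y := y) (w := w) (u := u) (c := c)
    (by rw [hw]; group) (by rw [hu]; group) hufix (huc w) (hcc w).symm (hcc u).symm (hcc y).symm (huc y).symm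
    (by rw [hc]; group) p
  have hN1 : Nm σ p y = 1 := by
    rw [hy]
    exact Nm_eq_one_of_pow σ hm.hσ x
  rw [hN1] at hN
  have hw2 : w ^ p.choose 2 = 1 := by
    obtain ⟨k, hk⟩ := hp.dvd_choose_self (k := 2) (by norm_num) (by omega)
    rw [hk, pow_mul, hwp, one_pow]
  rw [hw2, mul_one] at hN
  have h3 : p = 3 := by
    by_contra hne
    by_cases h5 : 5 ≤ p
    · obtain ⟨k, hk⟩ := hp.dvd_choose_self (k := 3) (by norm_num) (by omega)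
      rw [hk, pow_mul, pow_mul, hup, hcp, one_pow, mul_one, mul_one] at hN
      exact hz₁ne hN.symm
    · have hp4 : p = 4 := by omega
      rw [hp4] at hp
      exact absurd hp (by norm_num)
  refine ⟨h3, y, hz₁, hz₁ne, ?_, ?_⟩
  · rw [← hw]
    exact hwp
  · rw [← hw]
    intro hwZ
    have hwfix : σ w = w := (Subgroup.mem_inf.mp hwZ).2
    have hwc := Subgroup.mem_center_iff.mp (SF.Zf_le_center hwZ)
    have hu1 : u = 1 := by rw [hu, hwfix, inv_mul_cancel]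
    have hc1 : c = 1 := by
      calc c = w⁻¹ * (y⁻¹ * w) * y := by rw [hc]; group
        _ = w⁻¹ * (w * y⁻¹) * y := by rw [hwc y⁻¹]
        _ = 1 := by group
    have h33 : p.choose 3 = 1 := by rw [h3]; rfl
    rw [h33, pow_one, pow_one, hu1, hc1, mul_one, mul_one] at hN
    exact hz₁ne hN.symm

end Cfsg.Agent.Lib.H21.MC3
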