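import Mathlib
import Cfsg.Prelude.Def_CaseTheorems

/-!
# S3806 piece "MCS AVOID" (helper21, twin): a group is not the union of `≤ p` proper subgroups containing a normal
subgroup of index `p²`
-/

set_option autoImplicit false

namespace Cfsg.Agent.Lib.H21.MCS

open scoped commutatorElement

/-- AVOID.  (each `H` has order `≤ p|Φ|`, so the union has `≤ |Φ| + p(p-1)|Φ| < p²|Φ|` elements.) -/
theorem exists_not_mem_of_card_le {T : Type*} [Group T] [Finite T] (p : ℕ) [Fact p.Prime] (Φ : Subgroup T)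
    [Φ.Normal] (hΦ : Φ.index = p ^ 2) (F : Finset (Subgroup T)) (hF : F.card ≤ p)
    (hle : ∀ H ∈ F, Φ ≤ H) (hne : ∀ H ∈ F, H ≠ ⊤) : ∃ s : T, ∀ H ∈ F, s ∉ H := by
  classical
  by_contra hcon
  push Not at hcon
  have : Fintype T := Fintype.ofFinite T
  have hp : p.Prime := Fact.out
  have hp2 : 2 ≤ p := hp.two_le
  have hcardT : Nat.card T = p ^ 2 * Nat.card Φ := by
    rw [← hΦ, mul_comm]; exact (Subgroup.card_mul_index Φ).symm
  have hΦpos : 0 < Nat.card Φ := Nat.card_pos
  -- each member has order at most `p |Φ|`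
  have hH : ∀ H ∈ F, Nat.card H ≤ p * Nat.card Φ := by
    intro H hHF
    have hdvd : H.index ∣ p ^ 2 := by rw [← hΦ]; exact Subgroup.index_dvd_of_le (hle H hHF)
    obtain ⟨j, hj, hidx⟩ := (Nat.dvd_prime_pow hp).mp hdvd
    have hj0 : j ≠ 0 := by
      rintro rfl
      rw [pow_zero] at hidx
      exact hne H hHF (Subgroup.index_eq_one.mp hidx)
    have hple : p ≤ H.index := by
      rw [hidx]
      calc p = p ^ 1 := (pow_one p).symm
        _ ≤ p ^ j := Nat.pow_le_pow_right hp.pos (Nat.one_le_iff_ne_zero.mpr hj0)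
    have hmul : Nat.card H * H.index = p ^ 2 * Nat.card Φ := by rw [Subgroup.card_mul_index, hcardT]
    have h1 : Nat.card H * p ≤ p ^ 2 * Nat.card Φ := by
      rw [← hmul]; exact Nat.mul_le_mul_left _ hple
    have h2 : Nat.card H * p ≤ (p * Nat.card Φ) * p := by
      calc Nat.card H * p ≤ p ^ 2 * Nat.card Φ := h1
        _ = (p * Nat.card Φ) * p := by ring
    exact Nat.le_of_mul_le_mul_right h2 hp.pos
  -- sizes as filters
  have hfilt : ∀ H : Subgroup T, (Finset.univ.filter (fun s : T => s ∈ H)).card = Nat.card H := by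
    intro H
    rw [Nat.card_eq_fintype_card, Fintype.card_subtype]
  have hdiff : ∀ H ∈ F, (Finset.univ.filter (fun s : T => s ∈ H ∧ s ∉ Φ)).card + Nat.card Φ = Nat.card H := by
    intro H hHF
    rw [← hfilt Φ, ← hfilt H, ← Finset.card_union_of_disjoint]
    · congr 1
      ext s
      simp only [Finset.mem_union, Finset.mem_filter, Finset.mem_univ, true_and]
      constructor
      · rintro (⟨h1, _⟩ | h1)
        · exact h1
        · exact hle H hHF h1
      · intro h1
        by_cases h2 : s ∈ Φ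
        · exact Or.inr h2
        · exact Or.inl ⟨h1, h2⟩
    · rw [Finset.disjoint_left]
      intro s h1 h2
      simp only [Finset.mem_filter, Finset.mem_univ, true_and] at h1 h2
      exact h1.2 h2
  have hcover : (Finset.univ : Finset T) ⊆ (Finset.univ.filter (fun s : T => s ∈ Φ)) ∪
      F.biUnion (fun H => Finset.univ.filter (fun s : T => s ∈ H ∧ s ∉ Φ)) := by
    intro s _
    rw [Finset.mem_union]
    by_cases h2 : s ∈ Φ
    · left; simp [h2]
    · right
      obtain ⟨H, hHF, hsH⟩ := hcon s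
      rw [Finset.mem_biUnion]
      exact ⟨H, hHF, by simp [hsH, h2]⟩
  have h1 := Finset.card_le_card hcover
  rw [Finset.card_univ, ← Nat.card_eq_fintype_card, hcardT] at h1
  have h2 := Finset.card_union_le (Finset.univ.filter (fun s : T => s ∈ Φ))
    (F.biUnion (fun H => Finset.univ.filter (fun s : T => s ∈ H ∧ s ∉ Φ)))
  have h3 := Finset.card_biUnion_le (s := F) (t := fun H => Finset.univ.filter (fun s : T => s ∈ H ∧ s ∉ Φ))
  have h4 : ∑ H ∈ F, (Finset.univ.filter (fun s : T => s ∈ H ∧ s ∉ Φ)).card ≤ ∑ _H ∈ F, (p * Nat.card Φ - Nat.card Φ) := by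
    apply Finset.sum_le_sum
    intro H hHF
    have := hdiff H hHF
    have := hH H hHF
    omega
  rw [Finset.sum_const, smul_eq_mul, hfilt Φ] at *
  have h5 : F.card * (p * Nat.card Φ - Nat.card Φ) ≤ p * (p * Nat.card Φ - Nat.card Φ) :=
    Nat.mul_le_mul_right _ hF
  have h6 : p ^ 2 * Nat.card Φ ≤ Nat.card Φ + p * (p * Nat.card Φ - Nat.card Φ) := by
    calc p ^ 2 * Nat.card Φ ≤ _ := h1
      _ ≤ _ := h2
      _ ≤ Nat.card Φ + p * (p * Nat.card Φ - Nat.card Φ) := by
        apply Nat.add_le_add_left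
        exact le_trans h3 (le_trans h4 h5)
  -- arithmetic contradiction
  obtain ⟨c, hc⟩ : ∃ c, Nat.card Φ = c := ⟨_, rfl⟩
  rw [hc] at h6 hΦpos
  have h7 : p * c - c = (p - 1) * c := by
    rw [Nat.sub_mul, one_mul]
  rw [h7] at h6
  obtain ⟨d, rfl⟩ : ∃ d, p = d + 2 := ⟨p - 2, by omega⟩
  have h8 : (d + 2) ^ 2 * c = c + (d + 2) * ((d + 2 - 1) * c) + (d + 1) * c := by
    have : d + 2 - 1 = d + 1 := by omega
    rw [this]; ring
  have h9 : 0 < (d + 1) * c := Nat.mul_pos (Nat.succ_pos _) hΦpos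
  omega

end Cfsg.Agent.Lib.H21.MCS
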