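import Mathlib
import Cfsg.Prelude.Def_CaseTheorems

/-!
# S3806 piece "MCS SEC" (helper21, twin): a section that is abelian of exponent `p` is bounded by the sectional rank
-/

set_option autoImplicit false
set_option linter.unusedVariables false

namespace Cfsg.Agent.Lib.H21.MCS

open scoped commutatorElement

/-- SEC. -/
theorem relIndex_le_of_sectionalPRankLE {S : Type*} [Group S] [Finite S] {p k : ℕ}
    (hs : Cfsg.SectionalPRankLE p k S) (H K : Subgroup S) (hKH : K ≤ H) [K.Normal]
    (hcomm : ∀ x ∈ H, ∀ y ∈ H, ⁅x, y⁆ ∈ K) (hpow : ∀ x ∈ H, x ^ p ∈ K) : K.relIndex H ≤ p ^ k := by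
  have h1 := hs H (K.subgroupOf H) (⊤ : Subgroup (↥H ⧸ K.subgroupOf H))
  have hc : IsMulCommutative (⊤ : Subgroup (↥H ⧸ K.subgroupOf H)) := by
    refine ⟨⟨?_⟩⟩
    rintro ⟨a, -⟩ ⟨b, -⟩
    apply Subtype.ext
    show a * b = b * a
    induction a using QuotientGroup.induction_on with
    | H x =>
      induction b using QuotientGroup.induction_on with
      | H y =>
        rw [← QuotientGroup.mk_mul, ← QuotientGroup.mk_mul, QuotientGroup.eq]
        rw [Subgroup.mem_subgroupOf]
        have h2 : ⁅(y : S)⁻¹, (x : S)⁻¹⁆ ∈ K := hcomm _ (inv_mem y.2) _ (inv_mem x.2)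
        have e : (((x * y)⁻¹ * (y * x) : ↥H) : S) = ⁅(y : S)⁻¹, (x : S)⁻¹⁆ := by
          rw [commutatorElement_def]
          push_cast
          group
        rw [e]
        exact h2
  have hp : ∀ a ∈ (⊤ : Subgroup (↥H ⧸ K.subgroupOf H)), a ^ p = 1 := by
    intro a _
    induction a using QuotientGroup.induction_on with
    | H x =>
      rw [← QuotientGroup.mk_pow, QuotientGroup.eq_one_iff, Subgroup.mem_subgroupOf]
      push_cast
      exact hpow _ x.2
  have h3 := h1 hc hp
  rw [Subgroup.relIndex, Subgroup.index_eq_card]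
  calc Nat.card (↥H ⧸ K.subgroupOf H) = Nat.card (⊤ : Subgroup (↥H ⧸ K.subgroupOf H)) :=
        (Nat.card_congr (Subgroup.topEquiv (G := ↥H ⧸ K.subgroupOf H)).toEquiv).symm
    _ ≤ p ^ k := h3

end Cfsg.Agent.Lib.H21.MCS
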