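/-
S4756 (architect helper23), piece STR1 (helper21): if `G'` is a `p`-group then a Sylow `p`-subgroup `P` is normal,
contains `G'`, and has an abelian complement `A` (Schur–Zassenhaus).
-/
import Mathlib

set_option autoImplicit false

namespace Cfsg.Agent.Lib.H21.MUL

/-- a subgroup containing the commutator subgroup is normal -/
theorem normal_of_commutator_le {G : Type*} [Group G] (H : Subgroup G) (h : commutator G ≤ H) : H.Normal := by
  constructor
  intro x hx g
  have h1 : g * x * g⁻¹ * x⁻¹ ∈ commutator G := by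
    have := Subgroup.commutator_mem_commutator (Subgroup.mem_top g) (Subgroup.mem_top x)
    rw [commutatorElement_def] at this
    exact this
  have h2 : g * x * g⁻¹ = g * x * g⁻¹ * x⁻¹ * x := by group
  rw [h2]
  exact H.mul_mem (h h1) hx

/-- **STR1** -/
theorem exists_sylow_complement {G : Type*} [Group G] [Finite G] (p : ℕ) [Fact p.Prime]
    (hD : IsPGroup p ↥(commutator G)) :
    ∃ (P : Sylow p G) (A : Subgroup G), (P : Subgroup G).Normal ∧ commutator G ≤ (P : Subgroup G) ∧
      A ⊔ (P : Subgroup G) = ⊤ ∧ A ⊓ (P : Subgroup G) = ⊥ ∧ (Nat.card ↥A).Coprime p ∧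
      IsMulCommutative ↥A := by
  have hpp : p.Prime := Fact.out
  obtain ⟨P, hP⟩ := hD.exists_le_sylow
  have hn : (P : Subgroup G).Normal := normal_of_commutator_le _ hP
  obtain ⟨A, hA⟩ := Subgroup.exists_left_complement'_of_coprime (N := (P : Subgroup G)) P.card_coprime_index
  refine ⟨P, A, hn, hP, hA.sup_eq_top, disjoint_iff.mp hA.disjoint, ?_, ?_⟩
  · rw [← hA.index_eq_card, Nat.coprime_comm, Nat.Prime.coprime_iff_not_dvd hpp]
    exact P.not_dvd_index
  · refine ⟨⟨fun a b => ?_⟩⟩
    have h1 : (a : G) * b * (a : G)⁻¹ * (b : G)⁻¹ ∈ commutator G := by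
      have := Subgroup.commutator_mem_commutator (Subgroup.mem_top (a : G)) (Subgroup.mem_top (b : G))
      rw [commutatorElement_def] at this
      exact this
    have h2 : (a : G) * b * (a : G)⁻¹ * (b : G)⁻¹ ∈ A :=
      A.mul_mem (A.mul_mem (A.mul_mem a.2 b.2) (A.inv_mem a.2)) (A.inv_mem b.2)
    have h3 : (a : G) * b * (a : G)⁻¹ * (b : G)⁻¹ ∈ A ⊓ (P : Subgroup G) := ⟨h2, hP h1⟩
    rw [disjoint_iff.mp hA.disjoint, Subgroup.mem_bot] at h3
    apply Subtype.ext
    show (a : G) * b = b * a
    have h4 : (a : G) * b = (a : G) * b * (a : G)⁻¹ * (b : G)⁻¹ * (b * a) := by group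
    rw [h4, h3, one_mul]

end Cfsg.Agent.Lib.H21.MUL
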