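import Mathlib

/-!
# S2140, piece FISHER: a subgroup of index `< |X|` of a 2-transitive group is transitive
-/

set_option autoImplicit false

namespace Cfsg.Agent.Lib.H21.MinIdx

open MulAction

theorem fisher_core {G X : Type*} [Group G] [MulAction G X] [Fintype X]
    [IsMultiplyPretransitive G X 2] (H : Subgroup G) [H.FiniteIndex]
    (Y : Set X) (hY : ∀ h ∈ H, ∀ x ∈ Y, h • x ∈ Y) (y₀ y₁ : X) (hy₀ : y₀ ∈ Y) (hy₁ : y₁ ∉ Y) :
    Fintype.card X ≤ H.index := by
  classical
  letI : Fintype (G ⧸ H) := Subgroup.fintypeQuotientOfFiniteIndex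
  have two_trans : ∀ {a b c d : X}, a ≠ b → c ≠ d → ∃ g : G, g • a = c ∧ g • b = d :=
    fun h h' => MulAction.is_two_pretransitive_iff.1 inferInstance h h'
  -- incidence
  let I : G → X → Prop := fun g x => g⁻¹ • x ∈ Y
  have hIH : ∀ (g h : G), h ∈ H → ∀ x, I (g * h) x ↔ I g x := by
    intro g h hh x
    show (g * h)⁻¹ • x ∈ Y ↔ g⁻¹ • x ∈ Y
    rw [mul_inv_rev, mul_smul]
    constructor
    · intro hx
      have := hY h hh _ hx
      rwa [smul_inv_smul] at this
    · intro hx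
      exact hY h⁻¹ (H.inv_mem hh) _ hx
  have hIG : ∀ (g' g : G) x, I (g' * g) (g' • x) ↔ I g x := by
    intro g' g x
    show (g' * g)⁻¹ • g' • x ∈ Y ↔ g⁻¹ • x ∈ Y
    rw [mul_inv_rev, mul_smul, inv_smul_smul]
  let A : X → G ⧸ H → ℚ := fun x ω => if I ω.out x then 1 else 0
  have hAmk : ∀ (g : G) x, A x (QuotientGroup.mk g) = if I g x then 1 else 0 := by
    intro g x
    obtain ⟨h, hh⟩ := QuotientGroup.mk_out_eq_mul H g
    show (if I (QuotientGroup.mk g : G ⧸ H).out x then (1 : ℚ) else 0) = _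
    rw [hh]
    exact if_congr (hIH g h h.2 x) rfl rfl
  have hAinv : ∀ (g : G) x ω, A (g • x) (g • ω) = A x ω := by
    intro g x ω
    obtain ⟨g₀, rfl⟩ := QuotientGroup.mk_surjective ω
    rw [MulAction.Quotient.smul_mk, hAmk, hAmk]
    exact if_congr (hIG g g₀ x) rfl rfl
  have hA01 : ∀ x ω, A x ω = 0 ∨ A x ω = 1 := by
    intro x ω
    show (if I ω.out x then (1 : ℚ) else 0) = 0 ∨ (if I ω.out x then (1 : ℚ) else 0) = 1
    split_ifs <;> simp
  have hA0 : ∀ x ω, 0 ≤ A x ω := by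
    intro x ω
    rcases hA01 x ω with h | h <;> rw [h] <;> norm_num
  let N : X → X → ℚ := fun x y => ∑ ω, A x ω * A y ω
  have hNinv : ∀ (g : G) x y, N (g • x) (g • y) = N x y := by
    intro g x y
    show ∑ ω, A (g • x) ω * A (g • y) ω = ∑ ω, A x ω * A y ω
    rw [← Equiv.sum_comp (MulAction.toPerm g : Equiv.Perm (G ⧸ H))]
    refine Finset.sum_congr rfl fun ω _ => ?_
    rw [MulAction.toPerm_apply, hAinv, hAinv]
  have hy01 : y₀ ≠ y₁ := fun h => hy₁ (h ▸ hy₀)
  set lam := N y₀ y₁ with hlam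
  have hlam0 : 0 ≤ lam := Finset.sum_nonneg fun ω _ => mul_nonneg (hA0 _ _) (hA0 _ _)
  have hN : ∀ x y, x ≠ y → N x y = lam := by
    intro x y hxy
    obtain ⟨g, hg1, hg2⟩ := two_trans hy01 hxy
    rw [← hg1, ← hg2, hNinv]
  have hd : ∀ x, 1 ≤ N x x - lam := by
    intro x
    obtain ⟨y, hxy⟩ : ∃ y, x ≠ y := by
      by_cases hx : x = y₀
      · exact ⟨y₁, hx ▸ hy01⟩
      · exact ⟨y₀, hx⟩
    rw [← hN x y hxy]
    obtain ⟨g, hg1, hg2⟩ := two_trans hy01 hxy
    show 1 ≤ ∑ ω, A x ω * A x ω - ∑ ω, A x ω * A y ω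
    rw [← Finset.sum_sub_distrib]
    have hterm : ∀ ω, 0 ≤ A x ω * A x ω - A x ω * A y ω := by
      intro ω
      rcases hA01 x ω with h | h <;> rcases hA01 y ω with h' | h' <;> rw [h, h'] <;> norm_num
    have hIx : I g x := by
      show g⁻¹ • x ∈ Y
      rw [← hg1, inv_smul_smul]; exact hy₀
    have hIy : ¬ I g y := by
      show ¬ g⁻¹ • y ∈ Y
      rw [← hg2, inv_smul_smul]; exact hy₁
    calc (1 : ℚ) = A x (QuotientGroup.mk g) * A x (QuotientGroup.mk g) -
          A x (QuotientGroup.mk g) * A y (QuotientGroup.mk g) := by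
            rw [hAmk, hAmk, if_pos hIx, if_neg hIy]; norm_num
      _ ≤ ∑ ω, (A x ω * A x ω - A x ω * A y ω) :=
          Finset.single_le_sum (f := fun ω => A x ω * A x ω - A x ω * A y ω)
            (fun ω _ => hterm ω) (Finset.mem_univ _)
  let T : (X → ℚ) →ₗ[ℚ] (G ⧸ H → ℚ) :=
    { toFun := fun c ω => ∑ x, c x * A x ω
      map_add' := by
        intro c c'; funext ω; simp [add_mul, Finset.sum_add_distrib]
      map_smul' := by
        intro s c; funext ω; simp [Finset.mul_sum, mul_assoc] }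
  have hinj : Function.Injective T := by
    rw [← LinearMap.ker_eq_bot, Submodule.eq_bot_iff]
    intro c hc
    rw [LinearMap.mem_ker] at hc
    have h1 : ∀ ω, ∑ x, c x * A x ω = 0 := fun ω => congrFun hc ω
    have h2 : ∑ ω, (∑ x, c x * A x ω) * (∑ y, c y * A y ω) = 0 := by
      simp [h1]
    have h3 : ∑ ω, (∑ x, c x * A x ω) * (∑ y, c y * A y ω) = ∑ x, ∑ y, c x * c y * N x y := by
      simp only [Finset.sum_mul_sum]
      rw [Finset.sum_comm]
      refine Finset.sum_congr rfl fun x _ => ?_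
      rw [Finset.sum_comm]
      refine Finset.sum_congr rfl fun y _ => ?_
      show _ = c x * c y * ∑ ω, A x ω * A y ω
      rw [Finset.mul_sum]
      exact Finset.sum_congr rfl fun ω _ => by ring
    have h4 : ∑ x, ∑ y, c x * c y * N x y =
        lam * (∑ x, c x) ^ 2 + ∑ x, c x ^ 2 * (N x x - lam) := by
      have hxy : ∀ x y, c x * c y * N x y =
          lam * (c x * c y) + if x = y then c x ^ 2 * (N x x - lam) else 0 := by
        intro x y
        by_cases hxy : x = y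
        · subst hxy; rw [if_pos rfl]; ring
        · rw [hN x y hxy, if_neg hxy]; ring
      simp only [hxy, Finset.sum_add_distrib, Finset.sum_ite_eq, Finset.mem_univ, if_true]
      congr 1
      rw [sq, Finset.sum_mul_sum, Finset.mul_sum]
      refine Finset.sum_congr rfl fun x _ => ?_
      rw [Finset.mul_sum]
    have h5 : ∑ x, c x ^ 2 ≤ 0 := by
      calc ∑ x, c x ^ 2 ≤ ∑ x, c x ^ 2 * (N x x - lam) :=
            Finset.sum_le_sum fun x _ => by nlinarith [hd x, sq_nonneg (c x)]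
        _ ≤ lam * (∑ x, c x) ^ 2 + ∑ x, c x ^ 2 * (N x x - lam) :=
            le_add_of_nonneg_left (mul_nonneg hlam0 (sq_nonneg _))
        _ = 0 := by rw [← h4, ← h3, h2]
    funext x
    have h6 : c x ^ 2 ≤ 0 :=
      le_trans (Finset.single_le_sum (f := fun y => c y ^ 2) (fun y _ => sq_nonneg (c y))
        (Finset.mem_univ x)) h5
    exact pow_eq_zero_iff two_ne_zero |>.1 (le_antisymm h6 (sq_nonneg _))
  have h7 := LinearMap.finrank_le_finrank_of_injective hinj
  rw [Module.finrank_fintype_fun_eq_card, Module.finrank_fintype_fun_eq_card] at h7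
  rwa [Subgroup.index_eq_card, Nat.card_eq_fintype_card]

/-- **S2140-FISHER** (abstract, no linear algebra).  Fisher's inequality: a subgroup of index `< |X|` of a group acting
2-transitively on `X` is transitive on `X`. -/
theorem fisher {G X : Type*} [Group G] [MulAction G X] [Finite X]
    [IsMultiplyPretransitive G X 2] (H : Subgroup G) (h0 : H.index ≠ 0)
    (hlt : H.index < Nat.card X) : IsPretransitive H X := by
  classical
  by_contra hnt
  haveI : Fintype X := Fintype.ofFinite X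
  haveI : H.FiniteIndex := ⟨h0⟩
  have hX : 0 < Nat.card X := lt_of_le_of_lt (Nat.zero_le _) hlt
  obtain ⟨x₀⟩ : Nonempty X := (Nat.card_pos_iff.1 hX).1
  let Y : Set X := {x | ∃ h ∈ H, h • x₀ = x}
  have hYH : ∀ h ∈ H, ∀ x ∈ Y, h • x ∈ Y := by
    rintro h hh x ⟨h', hh', rfl⟩
    exact ⟨h * h', H.mul_mem hh hh', mul_smul _ _ _⟩
  have hx₀ : x₀ ∈ Y := ⟨1, H.one_mem, one_smul _ _⟩
  have hex : ∃ y₁, y₁ ∉ Y := by
    by_contra hall
    push Not at hall
    apply hnt
    refine ⟨fun x y => ?_⟩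
    obtain ⟨h, hh, rfl⟩ := hall x
    obtain ⟨h', hh', rfl⟩ := hall y
    refine ⟨⟨h' * h⁻¹, H.mul_mem hh' (H.inv_mem hh)⟩, ?_⟩
    show (h' * h⁻¹) • h • x₀ = h' • x₀
    rw [mul_smul, inv_smul_smul]
  obtain ⟨y₁, hy₁⟩ := hex
  have := fisher_core H Y hYH x₀ y₁ hx₀ hy₁
  rw [Nat.card_eq_fintype_card] at hlt
  omega

end Cfsg.Agent.Lib.H21.MinIdx
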