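import Mathlib
import Cfsg.Agent.Lib.H21.CycC

/-!
# S4017: basic consequences of the hypothesis on mixed subgroups (helper21)
-/

set_option autoImplicit false

namespace Cfsg.Agent.Lib.H21.Mix

open Cfsg.Agent.Lib.H21.Cyc

universe u

/-- `p` divides the order of every proper subgroup that is neither a `q`-group nor a `q'`-group. -/
structure Mixed (p q : ℕ) (G : Type u) [Group G] : Prop where
  hp : p.Prime
  hq : q.Prime
  hpq : p ≠ q
  hpG : p ∣ Nat.card G
  hmix : ∀ H : Subgroup G, H ≠ ⊤ → ¬ IsPGroup q H → q ∣ Nat.card H → p ∣ Nat.card H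

section general

variable {G : Type u} [Group G] [Finite G]

theorem dvd_card_of_isPGroup_ne_bot {q : ℕ} (hq : q.Prime) {T : Subgroup G} (hT : IsPGroup q T)
    (hT1 : T ≠ ⊥) : q ∣ Nat.card T := by
  haveI : Fact q.Prime := ⟨hq⟩
  obtain ⟨k, hk⟩ := IsPGroup.iff_card.mp hT
  rw [hk]
  rcases Nat.eq_zero_or_pos k with h0 | h0
  · exfalso
    rw [h0, pow_zero] at hk
    exact hT1 (Subgroup.card_eq_one.mp hk)
  · exact dvd_pow_self q h0.ne'

theorem not_dvd_card_of_isPGroup {p q : ℕ} (hp : p.Prime) (hq : q.Prime) (hpq : p ≠ q)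
    {T : Subgroup G} (hT : IsPGroup q T) : ¬ p ∣ Nat.card T := by
  haveI : Fact q.Prime := ⟨hq⟩
  obtain ⟨k, hk⟩ := IsPGroup.iff_card.mp hT
  rw [hk]
  intro hdvd
  exact hpq ((Nat.prime_dvd_prime_iff_eq hp hq).mp (hp.dvd_of_dvd_pow hdvd))

theorem isPGroup_zpowers_of_orderOf {q k : ℕ} {x : G} (hx : orderOf x = q ^ k) :
    IsPGroup q (Subgroup.zpowers x) := by
  intro y
  refine ⟨k, ?_⟩
  obtain ⟨i, hi⟩ := Subgroup.mem_zpowers_iff.mp y.2
  apply Subtype.ext
  rw [Subgroup.coe_pow, ← hi, Subgroup.coe_one, ← zpow_natCast, ← zpow_mul, mul_comm, zpow_mul,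
    zpow_natCast, ← hx, pow_orderOf_eq_one, one_zpow]

end general

namespace Mixed

variable {p q : ℕ} {G : Type u} [Group G] [Finite G]

/-- (F1) a nontrivial `q`-subgroup normalizes no nontrivial `{p,q}'`-subgroup. -/
theorem false_of_normalizes (h : Mixed p q G) {T K : Subgroup G} (hT : IsPGroup q T)
    (hT1 : T ≠ ⊥) (hK1 : K ≠ ⊥) (hTK : T ≤ Subgroup.normalizer (K : Set G))
    (hpK : ¬ p ∣ Nat.card K) (hqK : ¬ q ∣ Nat.card K) : False := by
  have hdvd := card_sup_dvd hTK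
  have hpH : ¬ p ∣ Nat.card (T ⊔ K : Subgroup G) := by
    intro hp
    rcases (h.hp.dvd_mul).mp (hp.trans hdvd) with h1 | h1
    · exact not_dvd_card_of_isPGroup h.hp h.hq h.hpq hT h1
    · exact hpK h1
  have htop : (T ⊔ K : Subgroup G) ≠ ⊤ := by
    intro htop
    apply hpH
    rw [htop, Subgroup.card_top]
    exact h.hpG
  have hqH : q ∣ Nat.card (T ⊔ K : Subgroup G) :=
    (dvd_card_of_isPGroup_ne_bot h.hq hT hT1).trans (Subgroup.card_dvd_of_le le_sup_left)
  have hnq : ¬ IsPGroup q (T ⊔ K : Subgroup G) := by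
    intro hq
    have hK : IsPGroup q K := hq.to_le le_sup_right
    exact hqK (dvd_card_of_isPGroup_ne_bot h.hq hK hK1)
  exact hpH (h.hmix _ htop hnq hqH)

/-- (F2) an element of prime order normalizing a nontrivial `q`-subgroup has order `p` or `q`. -/
theorem prime_of_normalizes (h : Mixed p q G) {T : Subgroup G} (hT : IsPGroup q T)
    (hT1 : T ≠ ⊥) {x : G} (hx : x ∈ Subgroup.normalizer (T : Set G)) {s : ℕ} (hs : s.Prime)
    (hxs : orderOf x = s) : s = p ∨ s = q := by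
  by_contra hcon
  push Not at hcon
  obtain ⟨hsp, hsq⟩ := hcon
  have hle : Subgroup.zpowers x ≤ Subgroup.normalizer (T : Set G) := by
    rw [Subgroup.zpowers_le]; exact hx
  have hdvd := card_sup_dvd hle
  rw [Nat.card_zpowers, hxs] at hdvd
  have hpH : ¬ p ∣ Nat.card (Subgroup.zpowers x ⊔ T : Subgroup G) := by
    intro hp
    rcases (h.hp.dvd_mul).mp (hp.trans hdvd) with h1 | h1
    · exact hsp ((Nat.prime_dvd_prime_iff_eq h.hp hs).mp h1).symm
    · exact not_dvd_card_of_isPGroup h.hp h.hq h.hpq hT h1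
  have htop : (Subgroup.zpowers x ⊔ T : Subgroup G) ≠ ⊤ := by
    intro htop
    apply hpH
    rw [htop, Subgroup.card_top]
    exact h.hpG
  have hqH : q ∣ Nat.card (Subgroup.zpowers x ⊔ T : Subgroup G) :=
    (dvd_card_of_isPGroup_ne_bot h.hq hT hT1).trans (Subgroup.card_dvd_of_le le_sup_right)
  have hnq : ¬ IsPGroup q (Subgroup.zpowers x ⊔ T : Subgroup G) := by
    intro hq
    haveI : Fact q.Prime := ⟨h.hq⟩
    have hxm : x ∈ (Subgroup.zpowers x ⊔ T : Subgroup G) :=
      (le_sup_left : Subgroup.zpowers x ≤ _) (Subgroup.mem_zpowers x)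
    obtain ⟨k, hk⟩ := hq ⟨x, hxm⟩
    have h1 : x ^ q ^ k = 1 := by
      have := congrArg Subtype.val hk
      simpa using this
    have h2 : s ∣ q ^ k := by
      rw [← hxs]; exact orderOf_dvd_of_pow_eq_one h1
    exact hsq ((Nat.prime_dvd_prime_iff_eq hs h.hq).mp (hs.dvd_of_dvd_pow h2))
  exact hpH (h.hmix _ htop hnq hqH)

/-- a `q'`-element normalizing a nontrivial `q`-subgroup is a `p`-element. -/
theorem isPEl_of_normalizes (h : Mixed p q G) {T : Subgroup G} (hT : IsPGroup q T)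
    (hT1 : T ≠ ⊥) {x : G} (hx : x ∈ Subgroup.normalizer (T : Set G))
    (hxq : (orderOf x).Coprime q) : IsPEl p x := by
  have h0 : orderOf x ≠ 0 := (orderOf_pos x).ne'
  refine ⟨_, Nat.eq_prime_pow_of_unique_prime_dvd h0 ?_⟩
  intro s hs hsx
  have hxs : orderOf (x ^ (orderOf x / s)) = s := orderOf_pow_orderOf_div h0 hsx
  rcases h.prime_of_normalizes hT hT1 (Subgroup.pow_mem _ hx _) hs hxs with h1 | h1
  · exact h1
  · exfalso
    rw [h1] at hsx
    have := Nat.Coprime.eq_one_of_dvd hxq.symm hsx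
    exact h.hq.one_lt.ne' this

/-- the normalizer of a nontrivial `q`-subgroup is a `{p,q}`-group. -/
theorem prime_dvd_card_normalizer (h : Mixed p q G) {T : Subgroup G} (hT : IsPGroup q T)
    (hT1 : T ≠ ⊥) {s : ℕ} (hs : s.Prime)
    (hsN : s ∣ Nat.card (Subgroup.normalizer (T : Set G))) : s = p ∨ s = q := by
  haveI : Fact s.Prime := ⟨hs⟩
  obtain ⟨x, hx⟩ := exists_prime_orderOf_dvd_card' (G := Subgroup.normalizer (T : Set G)) s hsN
  have hxo : orderOf (x : G) = s := by rw [Subgroup.orderOf_coe]; exact hx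
  exact h.prime_of_normalizes hT hT1 x.2 hs hxo

end Mixed

end Cfsg.Agent.Lib.H21.Mix
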