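import Mathlib
import Cfsg.Agent.Lib.H21.MixA
import Cfsg.Agent.Lib.L0.FrobeniusPC

/-!
# S4017: the Frobenius case and the orbit count (helper21)
-/

set_option autoImplicit false

namespace Cfsg.Agent.Lib.H21.Mix

open Cfsg.Agent.Lib.H21.Cyc Cfsg.Agent.Lib.L0

universe u

section general

variable {G : Type u} [Group G] [Finite G]

/-- a `p`-element normalizing but not centralizing `T` has a power that acts with order `p`. -/
theorem exists_pow_not_centralizes {p : ℕ} [Fact p.Prime] {T : Subgroup G} {x : G}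
    (hxp : IsPEl p x) (hxc : x ∉ Subgroup.centralizer (T : Set G)) :
    ∃ y ∈ Subgroup.zpowers x, y ∉ Subgroup.centralizer (T : Set G) ∧
      y ^ p ∈ Subgroup.centralizer (T : Set G) := by
  classical
  obtain ⟨k, hk⟩ := hxp
  have hex : ∃ j : ℕ, x ^ p ^ j ∈ Subgroup.centralizer (T : Set G) :=
    ⟨k, by rw [← hk, pow_orderOf_eq_one]; exact Subgroup.one_mem _⟩
  have hj0 : Nat.find hex ≠ 0 := by
    intro h0
    have := Nat.find_spec hex
    rw [h0, pow_zero, pow_one] at this
    exact hxc this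
  obtain ⟨j, hj⟩ := Nat.exists_eq_succ_of_ne_zero hj0
  refine ⟨x ^ p ^ j, Subgroup.pow_mem _ (Subgroup.mem_zpowers x) _, ?_, ?_⟩
  · exact Nat.find_min hex (by omega)
  · have := Nat.find_spec hex
    rw [hj, pow_succ, pow_mul] at this
    exact this

/-- orbit counting for an element acting with order dividing `p`. -/
theorem card_modEq_fixed {p : ℕ} [Fact p.Prime] {T : Subgroup G} {y : G}
    (hy : y ∈ Subgroup.normalizer (T : Set G)) (hyp : y ^ p ∈ Subgroup.centralizer (T : Set G)) :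
    Nat.card T ≡ Nat.card (T ⊓ Subgroup.centralizer {y} : Subgroup G) [MOD p] := by
  classical
  haveI : Fintype T := Fintype.ofFinite _
  let f : Function.End T := fun t =>
    ⟨y * t.1 * y⁻¹, (Subgroup.mem_set_normalizer_iff.mp hy t.1).mp t.2⟩
  have hfk : ∀ k : ℕ, ∀ t : T, (((f ^ k) t : T) : G) = y ^ k * t.1 * (y ^ k)⁻¹ := by
    intro k
    induction k with
    | zero =>
      intro t
      rw [pow_zero, pow_zero, inv_one, one_mul, mul_one]
      rfl
    | succ k ih =>
      intro t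
      rw [pow_succ']
      show y * ((f ^ k) t : G) * y⁻¹ = _
      rw [ih t, pow_succ']; group
  have hf : f ^ p ^ 1 = 1 := by
    rw [pow_one]
    funext t
    apply Subtype.ext
    rw [hfk p t]
    have := (Subgroup.mem_centralizer_iff.mp hyp) t.1 t.2
    show y ^ p * t.1 * (y ^ p)⁻¹ = t.1
    rw [← this, mul_inv_cancel_right]
  have h1 := Equiv.Perm.card_fixedPoints_modEq hf
  rw [Nat.card_eq_fintype_card]
  refine h1.trans ?_
  have h2 : Fintype.card (Function.fixedPoints f) =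
      Nat.card (T ⊓ Subgroup.centralizer {y} : Subgroup G) := by
    rw [← Nat.card_eq_fintype_card]
    refine Nat.card_congr ⟨fun t => ⟨t.1.1, ?_⟩, fun t => ⟨⟨t.1, (Subgroup.mem_inf.mp t.2).1⟩, ?_⟩, ?_, ?_⟩
    · refine Subgroup.mem_inf.mpr ⟨t.1.2, ?_⟩
      rw [Subgroup.mem_centralizer_iff]
      intro w hw
      rw [Set.mem_singleton_iff] at hw
      subst hw
      have ht : f t.1 = t.1 := t.2
      have h3 : w * t.1.1 * w⁻¹ = t.1.1 := congrArg Subtype.val ht
      calc w * t.1.1 = (w * t.1.1 * w⁻¹) * w := by group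
        _ = t.1.1 * w := by rw [h3]
    · show f ⟨t.1, (Subgroup.mem_inf.mp t.2).1⟩ = ⟨t.1, (Subgroup.mem_inf.mp t.2).1⟩
      apply Subtype.ext
      show y * t.1 * y⁻¹ = t.1
      have := (Subgroup.mem_centralizer_iff.mp (Subgroup.mem_inf.mp t.2).2) y (Set.mem_singleton y)
      rw [this, mul_inv_cancel_right]
    · intro t; rfl
    · intro t; rfl
  rw [h2]

/-- if `p ≥ q ^ a - 1` then a `p`-element acting nontrivially on a `q`-group of order dividing
`q ^ a` forces `p = q ^ a - 1`, `|T| = q ^ a` and a fixed-point-free action. -/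
theorem fpf_of_large {p q a : ℕ} [Fact p.Prime] [Fact q.Prime] (hpq : p ≠ q) {T : Subgroup G}
    (hT : Nat.card T ∣ q ^ a) {x : G} (hx : x ∈ Subgroup.normalizer (T : Set G))
    (hxp : IsPEl p x) (hxc : x ∉ Subgroup.centralizer (T : Set G)) (hle : q ^ a - 1 ≤ p) :
    p = q ^ a - 1 ∧ Nat.card T = q ^ a ∧ ∃ y ∈ Subgroup.zpowers x,
      y ^ p ∈ Subgroup.centralizer (T : Set G) ∧ ∀ t ∈ T, y * t * y⁻¹ = t → t = 1 := by
  have hp : p.Prime := Fact.out
  have hq : q.Prime := Fact.out
  obtain ⟨y, hyx, hyc, hyp⟩ := exists_pow_not_centralizes hxp hxc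
  have hyN : y ∈ Subgroup.normalizer (T : Set G) := by
    have hle' : Subgroup.zpowers x ≤ Subgroup.normalizer (T : Set G) := by
      rw [Subgroup.zpowers_le]; exact hx
    exact hle' hyx
  obtain ⟨b, hba, hb⟩ := (Nat.dvd_prime_pow hq).mp hT
  set C : Subgroup G := T ⊓ Subgroup.centralizer {y} with hC
  have hCT : C ≤ T := inf_le_left
  obtain ⟨c, hcb, hc⟩ := (Nat.dvd_prime_pow hq).mp
    (hb ▸ Subgroup.card_dvd_of_le hCT : Nat.card C ∣ q ^ b)
  have hcb' : c ≠ b := by
    intro hcb'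
    apply hyc
    have hCeq : C = T := by
      apply Subgroup.eq_of_le_of_card_ge hCT
      rw [hc, hb, hcb']
    rw [Subgroup.mem_centralizer_iff]
    intro t ht
    have ht' : t ∈ C := by rw [hCeq]; exact ht
    have := (Subgroup.mem_centralizer_iff.mp (Subgroup.mem_inf.mp ht').2) y (Set.mem_singleton y)
    exact this.symm
  have hlt : c < b := lt_of_le_of_ne hcb hcb'
  have hmod := card_modEq_fixed (p := p) hyN hyp
  rw [← hC, hb, hc] at hmod
  have hqcb : q ^ c ≤ q ^ b := Nat.pow_le_pow_right hq.pos hcb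
  have hdvd : p ∣ q ^ b - q ^ c := (Nat.modEq_iff_dvd' hqcb).mp hmod.symm
  have hfac : q ^ b - q ^ c = q ^ c * (q ^ (b - c) - 1) := by
    rw [Nat.mul_sub, mul_one, ← pow_add, Nat.add_sub_cancel' hcb]
  rw [hfac] at hdvd
  have hpqc : ¬ p ∣ q ^ c := by
    intro h
    exact hpq ((Nat.prime_dvd_prime_iff_eq hp hq).mp (hp.dvd_of_dvd_pow h))
  have hdvd2 : p ∣ q ^ (b - c) - 1 := (hp.dvd_mul.mp hdvd).resolve_left hpqc
  have hbc1 : 1 ≤ b - c := by omega
  have hqbc : 2 ≤ q ^ (b - c) := by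
    calc 2 ≤ q := hq.two_le
      _ = q ^ 1 := (pow_one q).symm
      _ ≤ q ^ (b - c) := Nat.pow_le_pow_right hq.pos hbc1
  have hple : p ≤ q ^ (b - c) - 1 := Nat.le_of_dvd (by omega) hdvd2
  have hqa : q ^ (b - c) ≤ q ^ a := Nat.pow_le_pow_right hq.pos (by omega)
  have heq : q ^ (b - c) = q ^ a := by omega
  have hba' : b - c = a := Nat.pow_right_injective hq.two_le heq
  have hb' : b = a := by omega
  have hc0 : c = 0 := by omega
  refine ⟨by omega, by rw [hb, hb'], y, hyx, hyp, ?_⟩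
  intro t ht hfix
  have hC1 : C = ⊥ := by
    apply Subgroup.card_eq_one.mp
    rw [hc, hc0, pow_zero]
  have htC : t ∈ C := by
    refine Subgroup.mem_inf.mpr ⟨ht, ?_⟩
    rw [Subgroup.mem_centralizer_iff]
    intro w hw
    rw [Set.mem_singleton_iff] at hw
    subst hw
    calc w * t = (w * t * w⁻¹) * w := by group
      _ = t * w := by rw [hfix]
  rw [hC1] at htC
  exact Subgroup.mem_bot.mp htC

end general

namespace Mixed

variable {p q : ℕ} {G : Type u} [Group G] [Finite G]

/-- a third prime divisor excludes the Frobenius hypothesis for `q`. -/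
theorem not_frobHyp (h : Mixed p q G) (hqG : q ∣ Nat.card G) {r : ℕ} (hr : r.Prime)
    (hrG : r ∣ Nat.card G) (hrp : r ≠ p) (hrq : r ≠ q) : ¬ FrobHyp q G := by
  intro hF
  haveI : Fact q.Prime := ⟨h.hq⟩
  haveI : Fact r.Prime := ⟨hr⟩
  obtain ⟨N, hN, hqN, k, hk⟩ :=
    HasNormalPComplement.exists_normal (hasNormalPComplement_of_frobHyp hF)
  haveI := hN
  have hcard : Nat.card N * N.index = Nat.card G := N.card_mul_index
  have hrN : r ∣ Nat.card N := by
    rw [← hcard, hk] at hrG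
    rcases hr.dvd_mul.mp hrG with h1 | h1
    · exact h1
    · exfalso; exact hrq ((Nat.prime_dvd_prime_iff_eq hr h.hq).mp (hr.dvd_of_dvd_pow h1))
  let S : Sylow r N := default
  set R : Subgroup G := (S : Subgroup N).map N.subtype with hR
  have hfrat : Subgroup.normalizer (R : Set G) ⊔ N = ⊤ := Sylow.normalizer_sup_eq_top S
  have hle : Subgroup.normalizer (R : Set G) ≤ Subgroup.normalizer (N : Set G) := by
    rw [Subgroup.normalizer_eq_top (H := N)]; exact le_top
  have hdvd := card_sup_dvd hle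
  rw [hfrat, Subgroup.card_top] at hdvd
  have hqNR : q ∣ Nat.card (Subgroup.normalizer (R : Set G)) := by
    rcases h.hq.dvd_mul.mp (hqG.trans hdvd) with h1 | h1
    · exact h1
    · exact absurd h1 hqN
  obtain ⟨y, hy⟩ := exists_prime_orderOf_dvd_card' (G := Subgroup.normalizer (R : Set G)) q hqNR
  have hyo : orderOf (y : G) = q := by rw [Subgroup.orderOf_coe]; exact hy
  have hRp : IsPGroup r R := S.isPGroup'.map N.subtype
  have hR1 : R ≠ ⊥ := by
    rw [hR, Ne, Subgroup.map_eq_bot_iff_of_injective _ N.subtype_injective]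
    exact S.ne_bot_of_dvd_card hrN
  have hTq : IsPGroup q (Subgroup.zpowers (y : G)) :=
    isPGroup_zpowers_of_orderOf (k := 1) (by rw [pow_one]; exact hyo)
  have hT1 : Subgroup.zpowers (y : G) ≠ ⊥ := by
    rw [Ne, Subgroup.zpowers_eq_bot]
    intro h1
    rw [h1, orderOf_one] at hyo
    exact h.hq.one_lt.ne hyo
  have hTR : Subgroup.zpowers (y : G) ≤ Subgroup.normalizer (R : Set G) := by
    rw [Subgroup.zpowers_le]; exact y.2
  exact h.false_of_normalizes hTq hT1 hR1 hTR
    (not_dvd_card_of_isPGroup h.hp hr hrp.symm hRp) (not_dvd_card_of_isPGroup h.hq hr hrq.symm hRp)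

/-- with a third prime divisor, some `p`-element acts nontrivially on some `q`-subgroup. -/
theorem exists_acting (h : Mixed p q G) (hqG : q ∣ Nat.card G) {r : ℕ} (hr : r.Prime)
    (hrG : r ∣ Nat.card G) (hrp : r ≠ p) (hrq : r ≠ q) :
    ∃ (T : Subgroup G) (x : G), IsPGroup q T ∧ x ∈ Subgroup.normalizer (T : Set G) ∧ IsPEl p x ∧
      x ∉ Subgroup.centralizer (T : Set G) := by
  have hnF := h.not_frobHyp hqG hr hrG hrp hrq
  unfold FrobHyp at hnF
  push Not at hnF
  obtain ⟨T, hT, x, hx, hcop, hxc⟩ := hnF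
  refine ⟨T, x, hT, hx, ?_, hxc⟩
  have hT1 : T ≠ ⊥ := by
    rintro rfl
    apply hxc
    rw [Subgroup.mem_centralizer_iff]
    intro t ht
    have : t = 1 := Subgroup.mem_bot.mp ht
    rw [this, one_mul, mul_one]
  exact h.isPEl_of_normalizes hT hT1 hx hcop

/-- the `q`-part of `|G|` bounds the order of `q`-subgroups. -/
theorem card_dvd_of_isPGroup (_h : Mixed p q G) {T : Subgroup G} (hT : IsPGroup q T) :
    Nat.card T ∣ q ^ (Nat.card G).factorization q := by
  haveI : Fact q.Prime := ⟨_h.hq⟩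
  obtain ⟨Q, hQ⟩ := hT.exists_le_sylow
  rw [← Sylow.card_eq_multiplicity Q]
  exact Subgroup.card_dvd_of_le hQ

/-- **case 1**: `p > q ^ a - 1`. -/
theorem case_one (h : Mixed p q G) (hqG : q ∣ Nat.card G)
    (hlt : q ^ (Nat.card G).factorization q - 1 < p) :
    ∀ r : ℕ, r.Prime → r ∣ Nat.card G → r = p ∨ r = q := by
  intro r hr hrG
  by_contra hcon
  push Not at hcon
  haveI : Fact p.Prime := ⟨h.hp⟩
  haveI : Fact q.Prime := ⟨h.hq⟩
  obtain ⟨T, x, hT, hx, hxp, hxc⟩ := h.exists_acting hqG hr hrG hcon.1 hcon.2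
  obtain ⟨h1, -, -⟩ := fpf_of_large h.hpq (h.card_dvd_of_isPGroup hT) hx hxp hxc hlt.le
  omega

end Mixed

end Cfsg.Agent.Lib.H21.Mix
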