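import Mathlib
import Cfsg.Agent.Lib.H21.MixB

/-!
# S4017: the Mersenne case, reduction to a simple minimal counterexample (helper21)
-/

set_option autoImplicit false

namespace Cfsg.Agent.Lib.H21.Mix

open Cfsg.Agent.Lib.H21.Cyc Cfsg.Agent.Lib.L0

universe u

section general

variable {G : Type u} [Group G] [Finite G]

theorem card_comap_mk'' (K : Subgroup G) [K.Normal] (H' : Subgroup (G ⧸ K)) :
    Nat.card (H'.comap (QuotientGroup.mk' K)) = Nat.card H' * Nat.card K := by
  have hsurj := QuotientGroup.mk'_surjective K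
  have h1 : (H'.comap (QuotientGroup.mk' K)).index = H'.index :=
    Subgroup.index_comap_of_surjective H' hsurj
  have h2 := Subgroup.card_mul_index (H'.comap (QuotientGroup.mk' K))
  have h3 := Subgroup.card_mul_index H'
  have h4 : Nat.card G = Nat.card (G ⧸ K) * Nat.card K :=
    Subgroup.card_eq_card_quotient_mul_card_subgroup K
  have hidx : H'.index ≠ 0 := Subgroup.index_ne_zero_of_finite
  rw [h1] at h2
  have h5 : Nat.card (H'.comap (QuotientGroup.mk' K)) * H'.index =
      (Nat.card H' * Nat.card K) * H'.index := by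
    rw [h2, h4, ← h3]; ring
  exact Nat.eq_of_mul_eq_mul_right (Nat.pos_of_ne_zero hidx) h5

theorem card_lt_of_ne_top {H : Subgroup G} (hH : H ≠ ⊤) : Nat.card H < Nat.card G := by
  rcases (Subgroup.card_le_card_group H).lt_or_eq with h1 | h1
  · exact h1
  · exact absurd (Subgroup.eq_top_of_card_eq H h1) hH

/-- a number all of whose prime divisors are `p` or `2`, not a power of `2`, is divisible by `p` -/
theorem dvd_of_tp {n p : ℕ} (hn : n ≠ 0) (h : ∀ s : ℕ, s.Prime → s ∣ n → s = p ∨ s = 2)
    (h2 : ¬ ∃ k, n = 2 ^ k) : p ∣ n := by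
  by_contra hp
  apply h2
  refine ⟨_, Nat.eq_prime_pow_of_unique_prime_dvd hn ?_⟩
  intro s hs hsn
  rcases h s hs hsn with h1 | h1
  · exfalso; rw [h1] at hsn; exact hp hsn
  · exact h1

/-- Frattini argument, in terms of orders. -/
theorem card_dvd_frattini {s : ℕ} [Fact s.Prime] (N : Subgroup G) [N.Normal] (S : Sylow s N) :
    Nat.card G ∣ Nat.card (Subgroup.normalizer
      (((S : Subgroup N).map N.subtype : Subgroup G) : Set G)) * Nat.card N := by
  have hfrat : Subgroup.normalizer (((S : Subgroup N).map N.subtype : Subgroup G) : Set G) ⊔ N = ⊤ :=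
    Sylow.normalizer_sup_eq_top S
  have hle : Subgroup.normalizer (((S : Subgroup N).map N.subtype : Subgroup G) : Set G) ≤
      Subgroup.normalizer (N : Set G) := by
    rw [Subgroup.normalizer_eq_top (H := N)]; exact le_top
  have hdvd := card_sup_dvd hle
  rwa [hfrat, Subgroup.card_top] at hdvd

end general

namespace Mixed

variable {p q : ℕ} {G : Type u} [Group G] [Finite G]

theorem subgroup (h : Mixed p q G) {H : Subgroup G} (hH : H ≠ ⊤) (hnq : ¬ IsPGroup q H)
    (hqH : q ∣ Nat.card H) : Mixed p q H where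
  hp := h.hp
  hq := h.hq
  hpq := h.hpq
  hpG := h.hmix H hH hnq hqH
  hmix := by
    haveI : Fact q.Prime := ⟨h.hq⟩
    intro H' _ hnq' hqH'
    have hcard : Nat.card (H'.map H.subtype) = Nat.card H' :=
      Subgroup.card_map_of_injective H.subtype_injective
    rw [← hcard]
    apply h.hmix
    · intro htop
      apply hH
      rw [eq_top_iff, ← htop]
      exact Subgroup.map_subtype_le H'
    · intro hq'
      apply hnq'
      obtain ⟨n, hn⟩ := IsPGroup.iff_card.mp hq'
      exact IsPGroup.of_card (n := n) (by rw [← hcard, hn])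
    · rw [hcard]; exact hqH'

end Mixed

/-- a counterexample in the Mersenne case. -/
structure Bad (p a : ℕ) (G : Type u) [Group G] : Prop where
  mixed : Mixed p 2 G
  hpa : p + 1 = 2 ^ a
  ha : (Nat.card G).factorization 2 = a
  abel : ∀ P : Sylow p G, ∀ x ∈ (P : Subgroup G), ∀ y ∈ (P : Subgroup G), x * y = y * x
  third : ∃ r : ℕ, r.Prime ∧ r ∣ Nat.card G ∧ r ≠ p ∧ r ≠ 2

namespace Bad

variable {p a : ℕ} {G : Type u} [Group G] [Finite G]

theorem three_le (hB : Bad p a G) : 3 ≤ p := by
  have h2 := hB.mixed.hp.two_le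
  have := hB.mixed.hpq
  omega

theorem two_le_a (hB : Bad p a G) : 2 ≤ a := by
  have h3 := hB.three_le
  have := hB.hpa
  by_contra hlt
  push Not at hlt
  interval_cases a <;> omega

theorem two_dvd (hB : Bad p a G) : 2 ∣ Nat.card G := by
  apply Nat.dvd_of_factorization_pos
  rw [hB.ha]
  have := hB.two_le_a
  omega

theorem card_sylow (hB : Bad p a G) (Q : Sylow 2 G) : Nat.card Q = 2 ^ a := by
  haveI : Fact (Nat.Prime 2) := ⟨Nat.prime_two⟩
  rw [Sylow.card_eq_multiplicity Q, hB.ha]

theorem exists_fpf (hB : Bad p a G) :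
    ∃ Q : Sylow 2 G, ∃ z ∈ Subgroup.normalizer ((Q : Subgroup G) : Set G), IsPEl p z ∧
      z ^ p ∈ Subgroup.centralizer ((Q : Subgroup G) : Set G) ∧
      ∀ t ∈ (Q : Subgroup G), z * t * z⁻¹ = t → t = 1 := by
  haveI : Fact p.Prime := ⟨hB.mixed.hp⟩
  haveI : Fact (Nat.Prime 2) := ⟨Nat.prime_two⟩
  obtain ⟨r, hr, hrG, hrp, hr2⟩ := hB.third
  obtain ⟨T, x, hT, hx, hxp, hxc⟩ := hB.mixed.exists_acting hB.two_dvd hr hrG hrp hr2
  have hTa : Nat.card T ∣ 2 ^ a := by
    have := hB.mixed.card_dvd_of_isPGroup hT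
    rwa [hB.ha] at this
  have hle : 2 ^ a - 1 ≤ p := by have := hB.hpa; omega
  obtain ⟨-, hcard, y, hyx, hyp, hfix⟩ := fpf_of_large hB.mixed.hpq hTa hx hxp hxc hle
  have hcard' : Nat.card T = 2 ^ (Nat.card G).factorization 2 := by rw [hB.ha]; exact hcard
  refine ⟨Sylow.ofCard T hcard', y, ?_, hxp.of_mem_zpowers hyx, ?_, ?_⟩
  · rw [Sylow.coe_ofCard]
    have hle' : Subgroup.zpowers x ≤ Subgroup.normalizer (T : Set G) := by
      rw [Subgroup.zpowers_le]; exact hx
    exact hle' hyx
  · rw [Sylow.coe_ofCard]; exact hyp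
  · rw [Sylow.coe_ofCard]; exact hfix

theorem abel_subgroup (hB : Bad p a G) (H : Subgroup G) (P' : Sylow p H) (x y : H)
    (hx : x ∈ (P' : Subgroup H)) (hy : y ∈ (P' : Subgroup H)) : x * y = y * x := by
  haveI : Fact p.Prime := ⟨hB.mixed.hp⟩
  have hQp : IsPGroup p ((P' : Subgroup H).map H.subtype) := P'.isPGroup'.map H.subtype
  obtain ⟨P, hP⟩ := hQp.exists_le_sylow
  have hx' : x.1 ∈ (P : Subgroup G) := hP (Subgroup.mem_map.mpr ⟨x, hx, rfl⟩)
  have hy' : y.1 ∈ (P : Subgroup G) := hP (Subgroup.mem_map.mpr ⟨y, hy, rfl⟩)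
  exact Subtype.ext (hB.abel P x.1 hx' y.1 hy')

/-- in a minimal counterexample every proper subgroup of even order is a `{2,p}`-group. -/
theorem star (hB : Bad p a G)
    (hmin : ∀ (G' : Type u) [Group G'] [Finite G'], Nat.card G' < Nat.card G → ¬ Bad p a G')
    (H : Subgroup G) (hH : H ≠ ⊤) (h2H : 2 ∣ Nat.card H) :
    ∀ s : ℕ, s.Prime → s ∣ Nat.card H → s = p ∨ s = 2 := by
  haveI : Fact (Nat.Prime 2) := ⟨Nat.prime_two⟩
  intro s hs hsH
  by_cases h2 : IsPGroup 2 H
  · obtain ⟨n, hn⟩ := IsPGroup.iff_card.mp h2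
    rw [hn] at hsH
    exact Or.inr ((Nat.prime_dvd_prime_iff_eq hs Nat.prime_two).mp (hs.dvd_of_dvd_pow hsH))
  · have hM : Mixed p 2 H := hB.mixed.subgroup hH h2 h2H
    have hdvd : Nat.card H ∣ Nat.card G := Subgroup.card_subgroup_dvd_card H
    have hle : (Nat.card H).factorization 2 ≤ a := by
      rw [← hB.ha]
      exact (Nat.factorization_le_iff_dvd Nat.card_pos.ne' Nat.card_pos.ne').mpr hdvd 2
    rcases hle.lt_or_eq with hlt | heq
    · apply hM.case_one h2H _ s hs hsH
      have h1 : 2 ^ (Nat.card H).factorization 2 < 2 ^ a :=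
        Nat.pow_lt_pow_right (by norm_num) hlt
      have := hB.hpa
      have h3 : 0 < 2 ^ (Nat.card H).factorization 2 := by positivity
      omega
    · by_contra hcon
      push Not at hcon
      apply hmin H (card_lt_of_ne_top hH)
      exact
        { mixed := hM
          hpa := hB.hpa
          ha := heq
          abel := fun P' x hx y hy => hB.abel_subgroup H P' x y hx hy
          third := ⟨s, hs, hsH, hcon.1, hcon.2⟩ }

/-- a minimal counterexample has no nontrivial normal `p`-subgroup. -/
theorem no_normal_p (hB : Bad p a G)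
    (hmin : ∀ (G' : Type u) [Group G'] [Finite G'], Nat.card G' < Nat.card G → ¬ Bad p a G')
    (X : Subgroup G) [X.Normal] (hX : IsPGroup p X) : X = ⊥ := by
  haveI : Fact p.Prime := ⟨hB.mixed.hp⟩
  haveI : Fact (Nat.Prime 2) := ⟨Nat.prime_two⟩
  have hp := hB.mixed.hp
  by_contra hX1
  have hsurj := QuotientGroup.mk'_surjective X
  have hcardG : Nat.card G = Nat.card (G ⧸ X) * Nat.card X :=
    Subgroup.card_eq_card_quotient_mul_card_subgroup X
  obtain ⟨k, hk⟩ := IsPGroup.iff_card.mp hX
  have hlt : Nat.card (G ⧸ X) < Nat.card G := by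
    rw [hcardG]
    have h1 : 1 < Nat.card X := X.one_lt_card_iff_ne_bot.mpr hX1
    have h2 : 0 < Nat.card (G ⧸ X) := Nat.card_pos
    nlinarith
  have hstar := hB.star hmin
  apply hmin (G ⧸ X) hlt
  have hpG' : p ∣ Nat.card (G ⧸ X) := by
    by_contra hnd
    obtain ⟨Q, z, hzN, hzp, -, hfix⟩ := hB.exists_fpf
    have hzX : z ∈ X := by
      rw [← QuotientGroup.eq_one_iff]
      obtain ⟨j, hj⟩ := hzp
      have h1 : orderOf (z : G ⧸ X) ∣ p ^ j := by
        rw [← hj]
        exact orderOf_dvd_of_pow_eq_one (by rw [← QuotientGroup.mk_pow, pow_orderOf_eq_one]; rfl)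
      have h2 : orderOf (z : G ⧸ X) ∣ Nat.card (G ⧸ X) := orderOf_dvd_natCard _
      have h3 : (p ^ j).Coprime (Nat.card (G ⧸ X)) :=
        Nat.Coprime.pow_left j ((Nat.Prime.coprime_iff_not_dvd hp).mpr hnd)
      have h4 : orderOf (z : G ⧸ X) = 1 := Nat.eq_one_of_dvd_coprimes h3 h1 h2
      exact orderOf_eq_one_iff.mp h4
    have hdisj : Disjoint X (Q : Subgroup G) :=
      IsPGroup.disjoint_of_ne p 2 hB.mixed.hpq X Q hX Q.isPGroup'
    have hQ1 : (Q : Subgroup G) = ⊥ := by
      rw [Subgroup.eq_bot_iff_forall]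
      intro t ht
      apply hfix t ht
      have hc1 : z * t * z⁻¹ * t⁻¹ ∈ (Q : Subgroup G) :=
        Subgroup.mul_mem _ ((Subgroup.mem_set_normalizer_iff.mp hzN t).mp ht)
          (Subgroup.inv_mem _ ht)
      have hc2 : z * t * z⁻¹ * t⁻¹ ∈ X := by
        have h1 : t * z⁻¹ * t⁻¹ ∈ X :=
          (inferInstance : X.Normal).conj_mem _ (Subgroup.inv_mem _ hzX) t
        have h2 := Subgroup.mul_mem _ hzX h1
        have e : z * (t * z⁻¹ * t⁻¹) = z * t * z⁻¹ * t⁻¹ := by group
        rwa [e] at h2
      have h1 : z * t * z⁻¹ * t⁻¹ ∈ X ⊓ (Q : Subgroup G) := Subgroup.mem_inf.mpr ⟨hc2, hc1⟩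
      rw [hdisj.eq_bot, Subgroup.mem_bot] at h1
      calc z * t * z⁻¹ = (z * t * z⁻¹ * t⁻¹) * t := by group
        _ = t := by rw [h1, one_mul]
    have h1 := hB.card_sylow Q
    have h2 : Nat.card (Q : Subgroup G) = 1 := by rw [hQ1]; exact Subgroup.card_bot
    have h3 : 2 ≤ a := hB.two_le_a
    have h4 : 2 ^ 2 ≤ 2 ^ a := Nat.pow_le_pow_right (by norm_num) h3
    have h5 : Nat.card (Q : Subgroup G) = 2 ^ a := h1
    omega
  exact
    { mixed :=
        { hp := hp
          hq := Nat.prime_two
          hpq := hB.mixed.hpq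
          hpG := hpG'
          hmix := by
            intro H' hH' hn2 h2H'
            have hcard := card_comap_mk'' X H'
            set H : Subgroup G := H'.comap (QuotientGroup.mk' X) with hHdef
            have hHtop : H ≠ ⊤ := by
              intro htop
              apply hH'
              rw [eq_top_iff]
              intro y _
              obtain ⟨g, rfl⟩ := hsurj y
              have : g ∈ H := by rw [htop]; trivial
              exact this
            have h2H : 2 ∣ Nat.card H := by rw [hcard]; exact Dvd.dvd.mul_right h2H' _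
            have htp := hstar H hHtop h2H
            apply dvd_of_tp Nat.card_pos.ne'
            · intro s hs hsH'
              apply htp s hs
              rw [hcard]
              exact Dvd.dvd.mul_right hsH' _
            · rintro ⟨n, hn⟩
              exact hn2 (IsPGroup.of_card hn) }
      hpa := hB.hpa
      ha := by
        have h1 := hB.ha
        rw [hcardG, hk, Nat.factorization_mul Nat.card_pos.ne' (pow_pos hp.pos k).ne'] at h1
        have h2 : (p ^ k).factorization 2 = 0 := by
          apply Nat.factorization_eq_zero_of_not_dvd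
          intro h2
          exact hB.mixed.hpq.symm
            ((Nat.prime_dvd_prime_iff_eq Nat.prime_two hp).mp (Nat.prime_two.dvd_of_dvd_pow h2))
        rw [Finsupp.add_apply, h2, add_zero] at h1
        exact h1
      abel := by
        intro P' x' hx' y' hy'
        obtain ⟨x, rfl⟩ := hsurj x'
        obtain ⟨y, rfl⟩ := hsurj y'
        have hcard := card_comap_mk'' X (P' : Subgroup (G ⧸ X))
        obtain ⟨i, hi⟩ := IsPGroup.iff_card.mp P'.isPGroup'
        have hKp : IsPGroup p ((P' : Subgroup (G ⧸ X)).comap (QuotientGroup.mk' X)) := by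
          apply IsPGroup.of_card (n := i + k)
          rw [hcard, hi, hk, pow_add]
        obtain ⟨P, hP⟩ := hKp.exists_le_sylow
        have hx : x ∈ (P : Subgroup G) := hP (by rw [Subgroup.mem_comap]; exact hx')
        have hy : y ∈ (P : Subgroup G) := hP (by rw [Subgroup.mem_comap]; exact hy')
        have := hB.abel P x hx y hy
        rw [← map_mul, ← map_mul, this]
      third := by
        obtain ⟨r, hr, hrG, hrp, hr2⟩ := hB.third
        refine ⟨r, hr, ?_, hrp, hr2⟩
        rw [hcardG, hk] at hrG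
        rcases hr.dvd_mul.mp hrG with h1 | h1
        · exact h1
        · exact absurd ((Nat.prime_dvd_prime_iff_eq hr hp).mp (hr.dvd_of_dvd_pow h1)) hrp }

/-- a minimal counterexample is simple. -/
theorem simple (hB : Bad p a G)
    (hmin : ∀ (G' : Type u) [Group G'] [Finite G'], Nat.card G' < Nat.card G → ¬ Bad p a G') :
    IsSimpleGroup G := by
  haveI : Fact p.Prime := ⟨hB.mixed.hp⟩
  haveI : Fact (Nat.Prime 2) := ⟨Nat.prime_two⟩
  have hp := hB.mixed.hp
  haveI : Nontrivial G := by
    rw [← Finite.one_lt_card_iff_nontrivial]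
    have := Nat.le_of_dvd Nat.card_pos hB.two_dvd
    omega
  refine ⟨fun N hN => ?_⟩
  haveI := hN
  by_contra hcon
  push Not at hcon
  obtain ⟨hN1, hNt⟩ := hcon
  obtain ⟨r, hr, hrG, hrp, hr2⟩ := hB.third
  by_cases h2N : 2 ∣ Nat.card N
  · have htp := hB.star hmin N hNt h2N
    let S : Sylow 2 N := default
    have hdvd := card_dvd_frattini N S
    have hRp : IsPGroup 2 ((S : Subgroup N).map N.subtype) := S.isPGroup'.map N.subtype
    have hR1 : (S : Subgroup N).map N.subtype ≠ ⊥ := by
      rw [Ne, Subgroup.map_eq_bot_iff_of_injective _ N.subtype_injective]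
      exact S.ne_bot_of_dvd_card h2N
    rcases hr.dvd_mul.mp (hrG.trans hdvd) with h1 | h1
    · rcases hB.mixed.prime_dvd_card_normalizer hRp hR1 hr h1 with h3 | h3
      · exact hrp h3
      · exact hr2 h3
    · rcases htp r hr h1 with h3 | h3
      · exact hrp h3
      · exact hr2 h3
  · have hNp : IsPGroup p N := by
      refine IsPGroup.of_card (n := (Nat.card N).primeFactorsList.length)
        (Nat.eq_prime_pow_of_unique_prime_dvd Nat.card_pos.ne' ?_)
      intro s hs hsN
      by_contra hsp
      haveI : Fact s.Prime := ⟨hs⟩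
      have hs2 : s ≠ 2 := by rintro rfl; exact h2N hsN
      let S : Sylow s N := default
      have hdvd := card_dvd_frattini N S
      have hRp : IsPGroup s ((S : Subgroup N).map N.subtype) := S.isPGroup'.map N.subtype
      have hR1 : (S : Subgroup N).map N.subtype ≠ ⊥ := by
        rw [Ne, Subgroup.map_eq_bot_iff_of_injective _ N.subtype_injective]
        exact S.ne_bot_of_dvd_card hsN
      have h2NR : 2 ∣ Nat.card (Subgroup.normalizer
          (((S : Subgroup N).map N.subtype : Subgroup G) : Set G)) := by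
        rcases Nat.prime_two.dvd_mul.mp (hB.two_dvd.trans hdvd) with h1 | h1
        · exact h1
        · exact absurd h1 h2N
      obtain ⟨y, hy⟩ := exists_prime_orderOf_dvd_card' (G := Subgroup.normalizer
          (((S : Subgroup N).map N.subtype : Subgroup G) : Set G)) 2 h2NR
      have hyo : orderOf (y : G) = 2 := by rw [Subgroup.orderOf_coe]; exact hy
      have hTq : IsPGroup 2 (Subgroup.zpowers (y : G)) :=
        isPGroup_zpowers_of_orderOf (k := 1) (by rw [pow_one]; exact hyo)
      have hT1 : Subgroup.zpowers (y : G) ≠ ⊥ := by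
        rw [Ne, Subgroup.zpowers_eq_bot]
        intro h1
        rw [h1, orderOf_one] at hyo
        omega
      have hTR : Subgroup.zpowers (y : G) ≤ Subgroup.normalizer
          (((S : Subgroup N).map N.subtype : Subgroup G) : Set G) := by
        rw [Subgroup.zpowers_le]; exact y.2
      exact hB.mixed.false_of_normalizes hTq hT1 hR1 hTR
        (not_dvd_card_of_isPGroup hp hs (Ne.symm hsp) hRp)
        (not_dvd_card_of_isPGroup Nat.prime_two hs (Ne.symm hs2) hRp)
    exact hN1 (hB.no_normal_p hmin N hNp)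

end Bad

end Cfsg.Agent.Lib.H21.Mix
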