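import Mathlib
import Cfsg.Agent.Lib.H21.MixC
import Cfsg.Agent.Lib.H21.CycI
import Cfsg.Agent.Lib.H21.InvFriend

/-!
# S4017: general lemmas for the analysis of the simple minimal counterexample (helper21)
-/

set_option autoImplicit false

namespace Cfsg.Agent.Lib.H21.Mix

open Cfsg.Agent.Lib.H21.Cyc Cfsg.Agent.Lib.L0 Cfsg.Agent.Lib.H21.InvFriend
open scoped Pointwise

universe u

section general

variable {G : Type u} [Group G] [Finite G]

/-- `H` is a `{2,p}`-group. -/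
def TP (p : ℕ) (H : Subgroup G) : Prop :=
  ∀ s : ℕ, s.Prime → s ∣ Nat.card H → s = p ∨ s = 2

theorem TP.mono {p : ℕ} {H K : Subgroup G} (hK : TP p K) (hHK : H ≤ K) : TP p H :=
  fun s hs hsH => hK s hs (hsH.trans (Subgroup.card_dvd_of_le hHK))

theorem TP.isPEl_of_odd {p : ℕ} {H : Subgroup G} (hH : TP p H) {x : G} (hx : x ∈ H)
    (hodd : (orderOf x).Coprime 2) : IsPEl p x := by
  refine ⟨_, Nat.eq_prime_pow_of_unique_prime_dvd (orderOf_pos x).ne' ?_⟩
  intro s hs hsx
  rcases hH s hs (hsx.trans (Subgroup.orderOf_dvd_natCard H hx)) with h1 | h1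
  · exact h1
  · exfalso
    rw [h1] at hsx
    have := Nat.Coprime.eq_one_of_dvd hodd.symm hsx
    omega

theorem TP.isPEl_two {p : ℕ} (hp : p.Prime) {H : Subgroup G} (hH : TP p H) {x : G} (hx : x ∈ H)
    (hcop : (orderOf x).Coprime p) : IsPEl 2 x := by
  refine ⟨_, Nat.eq_prime_pow_of_unique_prime_dvd (orderOf_pos x).ne' ?_⟩
  intro s hs hsx
  rcases hH s hs (hsx.trans (Subgroup.orderOf_dvd_natCard H hx)) with h1 | h1
  · exfalso
    rw [h1] at hsx
    have := Nat.Coprime.eq_one_of_dvd hcop.symm hsx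
    exact hp.one_lt.ne' this
  · exact h1

theorem TP.isPGroup_of_odd {p : ℕ} {L K : Subgroup G} (hK : TP p K) (hL : L ≤ K)
    (h2 : ¬ 2 ∣ Nat.card L) : IsPGroup p L := by
  refine IsPGroup.of_card (n := (Nat.card L).primeFactorsList.length)
    (Nat.eq_prime_pow_of_unique_prime_dvd Nat.card_pos.ne' ?_)
  intro s hs hsL
  rcases (hK.mono hL) s hs hsL with h1 | h1
  · exact h1
  · exfalso; rw [h1] at hsL; exact h2 hsL

theorem TP.isPGroup_two {p : ℕ} {L K : Subgroup G} (hK : TP p K) (hL : L ≤ K)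
    (hp : ¬ p ∣ Nat.card L) : IsPGroup 2 L := by
  refine IsPGroup.of_card (n := (Nat.card L).primeFactorsList.length)
    (Nat.eq_prime_pow_of_unique_prime_dvd Nat.card_pos.ne' ?_)
  intro s hs hsL
  rcases (hK.mono hL) s hs hsL with h1 | h1
  · exfalso; rw [h1] at hsL; exact hp hsL
  · exact h1

/-- membership in a conjugate Sylow subgroup. -/
theorem mem_smul_sylow {q : ℕ} (Q : Sylow q G) (g x : G) :
    x ∈ ((g • Q : Sylow q G) : Subgroup G) ↔ g⁻¹ * x * g ∈ (Q : Subgroup G) := by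
  have h2 : ((g • Q : Sylow q G) : Subgroup G) = MulAut.conj g • (Q : Subgroup G) :=
    Sylow.pointwise_smul_def
  rw [h2, Subgroup.mem_pointwise_smul_iff_inv_smul_mem, MulAut.smul_def,
    MulAut.conj_inv_apply]

theorem conj_mem_smul_sylow {q : ℕ} (Q : Sylow q G) (g : G) {x : G} (hx : x ∈ (Q : Subgroup G)) :
    g * x * g⁻¹ ∈ ((g • Q : Sylow q G) : Subgroup G) := by
  rw [mem_smul_sylow]
  have e : g⁻¹ * (g * x * g⁻¹) * g = x := by group
  rw [e]; exact hx

theorem exists_mem_sylow {q : ℕ} [Fact q.Prime] {x : G} (hx : IsPEl q x) :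
    ∃ Q : Sylow q G, x ∈ (Q : Subgroup G) := by
  obtain ⟨k, hk⟩ := hx
  obtain ⟨Q, hQ⟩ := (isPGroup_zpowers_of_orderOf hk).exists_le_sylow
  exact ⟨Q, hQ (Subgroup.mem_zpowers x)⟩

omit [Finite G] in
theorem sylow_eq_of_le {q : ℕ} [Fact q.Prime] (P Q : Sylow q G)
    (h : (P : Subgroup G) ≤ (Q : Subgroup G)) : P = Q :=
  Sylow.ext (P.is_maximal' Q.isPGroup' h).symm

omit [Finite G] in
theorem exists_mem_not_mem_of_card_lt (Q : Subgroup G) (S : Finset G)
    (h : S.card < Nat.card Q) : ∃ w ∈ Q, w ∉ S := by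
  by_contra hcon
  push Not at hcon
  have hsub : (Q : Set G) ⊆ (S : Set G) := fun w hw => hcon w hw
  have h1 := Set.ncard_le_ncard hsub (Finset.finite_toSet S)
  rw [Set.ncard_coe_finset] at h1
  have h2 : (Q : Set G).ncard = Nat.card Q := (Nat.card_coe_set_eq _).symm
  omega

/-- if `z ^ e` and `z ^ p` lie in `K` with `e` prime to `p`, then `z ∈ K`. -/
theorem mem_of_pow_coprime_mem (K : Subgroup G) {z : G} {e p : ℕ} (hp : 1 < p)
    (hcop : e.Coprime p) (he : z ^ e ∈ K) (hzp : z ^ p ∈ K) : z ∈ K := by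
  obtain ⟨m, -, hm⟩ := Nat.exists_mul_mod_eq_one_of_coprime hcop hp
  have h1 := Nat.div_add_mod (e * m) p
  rw [hm] at h1
  have h2 : z ^ (e * m) = (z ^ p) ^ (e * m / p) * z := by
    rw [← pow_mul, ← pow_succ, h1]
  have h3 : z = ((z ^ p) ^ (e * m / p))⁻¹ * (z ^ e) ^ m := by
    rw [← pow_mul z e m, h2, inv_mul_cancel_left]
  rw [h3]
  exact Subgroup.mul_mem _ (Subgroup.inv_mem _ (Subgroup.pow_mem _ hzp _)) (Subgroup.pow_mem _ he _)

/-- failure of the Frobenius hypothesis in a subgroup, in ambient terms. -/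
theorem exists_of_not_frobHyp {q : ℕ} (H : Subgroup G) (hF : ¬ FrobHyp q H) :
    ∃ (T : Subgroup G) (x : G), T ≤ H ∧ IsPGroup q T ∧ x ∈ H ∧
      x ∈ Subgroup.normalizer (T : Set G) ∧ (orderOf x).Coprime q ∧
      x ∉ Subgroup.centralizer (T : Set G) := by
  unfold FrobHyp at hF
  push Not at hF
  obtain ⟨T', hT', g, hg, hcop, hgc⟩ := hF
  refine ⟨T'.map H.subtype, g.1, Subgroup.map_subtype_le T', hT'.map H.subtype, g.2, ?_, ?_, ?_⟩
  · apply mem_normalizer_of_conj_mem'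
    intro w hw
    obtain ⟨t, ht, rfl⟩ := Subgroup.mem_map.mp hw
    refine Subgroup.mem_map.mpr ⟨g * t * g⁻¹, ?_, by simp⟩
    exact (Subgroup.mem_set_normalizer_iff.mp hg t).mp ht
  · rw [Subgroup.orderOf_coe]; exact hcop
  · intro hc
    apply hgc
    rw [Subgroup.mem_centralizer_iff]
    intro t ht
    have := (Subgroup.mem_centralizer_iff.mp hc) t.1 (Subgroup.mem_map.mpr ⟨t, ht, rfl⟩)
    exact Subtype.ext this

/-- a `{2,p}`-number is the product of its `2`-part and its `p`-part. -/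
theorem eq_pow_mul_pow {n p : ℕ} (hp2 : p ≠ 2) (hn : n ≠ 0)
    (h : ∀ s : ℕ, s.Prime → s ∣ n → s = p ∨ s = 2) :
    n = 2 ^ n.factorization 2 * p ^ n.factorization p := by
  have h1 := Nat.prod_factorization_pow_eq_self hn
  have hsub : n.factorization.support ⊆ {2, p} := by
    intro s hs
    rw [Nat.support_factorization, Nat.mem_primeFactors] at hs
    rcases h s hs.1 hs.2.1 with h1 | h1
    · rw [h1]; simp
    · rw [h1]; simp
  rw [Finsupp.prod_of_support_subset _ hsub _ (fun i _ => pow_zero i),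
    Finset.prod_pair (Ne.symm hp2)] at h1
  exact h1.symm

end general

end Cfsg.Agent.Lib.H21.Mix
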