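import Mathlib
import Cfsg.Agent.Lib.H21.MixD

/-!
# S4017: the simple minimal counterexample, first properties (helper21)

`Q` elementary abelian, `N(Q)` transitive on `Q \ 1`.
-/

set_option autoImplicit false

namespace Cfsg.Agent.Lib.H21.Mix

open Cfsg.Agent.Lib.H21.Cyc Cfsg.Agent.Lib.L0 Cfsg.Agent.Lib.H21.InvFriend
open scoped Pointwise

universe u

/-- the simple minimal counterexample in the Mersenne case. -/
structure MC (p a : ℕ) (G : Type u) [Group G] [Finite G] : Prop where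
  bad : Bad p a G
  star : ∀ H : Subgroup G, H ≠ ⊤ → 2 ∣ Nat.card H → TP p H
  simple : IsSimpleGroup G

section aux

variable {G : Type u} [Group G]

theorem commute_of_conj_eq (A B t : G) (h : A * t * A⁻¹ = (A * B) * t * (A * B)⁻¹) :
    B * t = t * B := by
  calc B * t = A⁻¹ * ((A * B) * t * (A * B)⁻¹) * A * B := by group
    _ = A⁻¹ * (A * t * A⁻¹) * A * B := by rw [← h]
    _ = t * B := by group

theorem conj_pow_conj (z t : G) (k : ℕ) (h : z * t * z⁻¹ = t) : z ^ k * t * (z ^ k)⁻¹ = t := by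
  induction k with
  | zero => simp
  | succ k ih =>
    calc z ^ (k + 1) * t * (z ^ (k + 1))⁻¹ = z ^ k * (z * t * z⁻¹) * (z ^ k)⁻¹ := by
          rw [pow_succ]; group
      _ = t := by rw [h, ih]

end aux

namespace MC

variable {p a : ℕ} {G : Type u} [Group G] [Finite G]

theorem hp (h : MC p a G) : p.Prime := h.bad.mixed.hp

theorem hp2 (h : MC p a G) : p ≠ 2 := h.bad.mixed.hpq

theorem isPEl_coprime_two (h : MC p a G) {x : G} (hx : IsPEl p x) : (orderOf x).Coprime 2 := by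
  obtain ⟨k, hk⟩ := hx
  rw [hk]
  exact Nat.Coprime.pow_left k ((Nat.coprime_primes h.hp Nat.prime_two).mpr h.hp2)

theorem eq_one_of_two_p (h : MC p a G) {x : G} (h2 : IsPEl 2 x) (hpx : IsPEl p x) : x = 1 := by
  have h1 := h.isPEl_coprime_two hpx
  obtain ⟨k, hk⟩ := h2
  rw [hk] at h1
  rcases Nat.eq_zero_or_pos k with h0 | h0
  · rw [h0, pow_zero] at hk
    exact orderOf_eq_one_iff.mp hk
  · exfalso
    have : (2 : ℕ) ∣ 1 := by
      have := Nat.Coprime.eq_one_of_dvd h1.symm (dvd_pow_self 2 h0.ne')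
      omega
    omega

theorem isPEl_two_of_involution (_h : MC p a G) {u : G} (hu : orderOf u = 2) : IsPEl 2 u :=
  ⟨1, by rw [hu, pow_one]⟩

theorem not_isPEl_of_involution (h : MC p a G) {u : G} (hu : orderOf u = 2) : ¬ IsPEl p u :=
  fun hpu => inv_ne_one hu (h.eq_one_of_two_p (h.isPEl_two_of_involution hu) hpu)

/-- every Sylow `2`-subgroup admits a fixed-point-free `p`-element of its normalizer. -/
theorem exists_z (h : MC p a G) (Q : Sylow 2 G) :
    ∃ z ∈ Subgroup.normalizer ((Q : Subgroup G) : Set G), IsPEl p z ∧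
      z ^ p ∈ Subgroup.centralizer ((Q : Subgroup G) : Set G) ∧
      ∀ t ∈ (Q : Subgroup G), z * t * z⁻¹ = t → t = 1 := by
  haveI : Fact (Nat.Prime 2) := ⟨Nat.prime_two⟩
  obtain ⟨Q₀, z₀, hzN, hzp, hzpC, hfix⟩ := h.bad.exists_fpf
  obtain ⟨g, rfl⟩ := MulAction.exists_smul_eq G Q₀ Q
  refine ⟨g * z₀ * g⁻¹, ?_, hzp.conj g, ?_, ?_⟩
  · apply mem_normalizer_of_conj_mem'
    intro x hx
    rw [mem_smul_sylow] at hx ⊢
    have e : g⁻¹ * (g * z₀ * g⁻¹ * x * (g * z₀ * g⁻¹)⁻¹) * g = z₀ * (g⁻¹ * x * g) * z₀⁻¹ := by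
      group
    rw [e]
    exact (Subgroup.mem_set_normalizer_iff.mp hzN _).mp hx
  · rw [conj_pow, Subgroup.mem_centralizer_iff]
    intro x hx
    have hx' : g⁻¹ * x * g ∈ (Q₀ : Subgroup G) := (mem_smul_sylow Q₀ g x).mp hx
    have h1 := (Subgroup.mem_centralizer_iff.mp hzpC) _ hx'
    calc x * (g * z₀ ^ p * g⁻¹) = g * ((g⁻¹ * x * g) * z₀ ^ p) * g⁻¹ := by group
      _ = g * (z₀ ^ p * (g⁻¹ * x * g)) * g⁻¹ := by rw [h1]
      _ = g * z₀ ^ p * g⁻¹ * x := by group
  · intro t ht hfixt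
    have ht' : g⁻¹ * t * g ∈ (Q₀ : Subgroup G) := (mem_smul_sylow Q₀ g t).mp ht
    have h1 : z₀ * (g⁻¹ * t * g) * z₀⁻¹ = g⁻¹ * t * g := by
      calc z₀ * (g⁻¹ * t * g) * z₀⁻¹ = g⁻¹ * (g * z₀ * g⁻¹ * t * (g * z₀ * g⁻¹)⁻¹) * g := by group
        _ = g⁻¹ * t * g := by rw [hfixt]
    have h2 := hfix _ ht' h1
    calc t = g * (g⁻¹ * t * g) * g⁻¹ := by group
      _ = 1 := by rw [h2]; group

/-- `⟨z⟩` is transitive on `Q \ 1`. -/
theorem exists_pow_conj (h : MC p a G) (Q : Sylow 2 G) {z : G}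
    (hzN : z ∈ Subgroup.normalizer ((Q : Subgroup G) : Set G))
    (hzpC : z ^ p ∈ Subgroup.centralizer ((Q : Subgroup G) : Set G))
    (hfix : ∀ t ∈ (Q : Subgroup G), z * t * z⁻¹ = t → t = 1)
    {t w : G} (ht : t ∈ (Q : Subgroup G)) (ht1 : t ≠ 1) (hw : w ∈ (Q : Subgroup G))
    (hw1 : w ≠ 1) : ∃ i : ℕ, w = z ^ i * t * (z ^ i)⁻¹ := by
  classical
  have hp := h.hp
  have key : ∀ i j : ℕ, i < j → j < p → z ^ i * t * (z ^ i)⁻¹ ≠ z ^ j * t * (z ^ j)⁻¹ := by
    intro i j hij hjp heq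
    have hj : z ^ j = z ^ i * z ^ (j - i) := by rw [← pow_add]; congr 1; omega
    rw [hj] at heq
    have h1 := commute_of_conj_eq _ _ _ heq
    have h2 : z ^ (j - i) ∈ Subgroup.centralizer {t} :=
      Subgroup.mem_centralizer_singleton_iff.mpr h1
    have h3 : z ^ p ∈ Subgroup.centralizer {t} := by
      rw [Subgroup.mem_centralizer_singleton_iff]
      exact ((Subgroup.mem_centralizer_iff.mp hzpC) t ht).symm
    have hcop : (j - i).Coprime p :=
      ((Nat.Prime.coprime_iff_not_dvd hp).mpr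
        (Nat.not_dvd_of_pos_of_lt (by omega) (by omega))).symm
    have h4 := mem_of_pow_coprime_mem _ hp.one_lt hcop h2 h3
    rw [Subgroup.mem_centralizer_singleton_iff] at h4
    apply ht1
    apply hfix t ht
    rw [h4, mul_inv_cancel_right]
  set f : ℕ → G := fun i => z ^ i * t * (z ^ i)⁻¹ with hf
  have hinj : Set.InjOn f (Finset.range p : Set ℕ) := by
    intro i hi j hj heq
    by_contra hne
    rw [Finset.mem_coe, Finset.mem_range] at hi hj
    rcases lt_or_gt_of_ne hne with h1 | h1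
    · exact key i j h1 hj heq
    · exact key j i h1 hi heq.symm
  have hsub : f '' (Finset.range p : Set ℕ) ⊆ ((Q : Subgroup G) : Set G) \ {1} := by
    rintro _ ⟨i, -, rfl⟩
    refine ⟨?_, ?_⟩
    · exact (Subgroup.mem_set_normalizer_iff.mp (Subgroup.pow_mem _ hzN i) t).mp ht
    · intro h1
      rw [Set.mem_singleton_iff] at h1
      have h1' : z ^ i * t * (z ^ i)⁻¹ = 1 := h1
      apply ht1
      calc t = (z ^ i)⁻¹ * (z ^ i * t * (z ^ i)⁻¹) * z ^ i := by group
        _ = 1 := by rw [h1']; group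
  have hcard1 : (f '' (Finset.range p : Set ℕ)).ncard = p := by
    rw [Set.InjOn.ncard_image hinj, Set.ncard_coe_finset, Finset.card_range]
  have hcard2 : (((Q : Subgroup G) : Set G) \ {1}).ncard = p := by
    rw [Set.ncard_sdiff_singleton_of_mem (Subgroup.one_mem _)]
    have h1 : (((Q : Subgroup G) : Set G)).ncard = Nat.card (Q : Subgroup G) :=
      (Nat.card_coe_set_eq _).symm
    rw [h1, h.bad.card_sylow Q]
    have := h.bad.hpa
    omega
  have heq := Set.eq_of_subset_of_ncard_le hsub (by rw [hcard1, hcard2]) (Set.toFinite _)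
  have hwmem : w ∈ ((Q : Subgroup G) : Set G) \ {1} := ⟨hw, by simpa using hw1⟩
  rw [← heq] at hwmem
  obtain ⟨i, -, hi⟩ := hwmem
  exact ⟨i, hi.symm⟩

/-- Sylow `2`-subgroups have exponent `2`. -/
theorem sq_eq_one (h : MC p a G) (Q : Sylow 2 G) {w : G} (hw : w ∈ (Q : Subgroup G)) :
    w * w = 1 := by
  haveI : Fact (Nat.Prime 2) := ⟨Nat.prime_two⟩
  by_cases hw1 : w = 1
  · rw [hw1, mul_one]
  have h2Q : 2 ∣ Nat.card (Q : Subgroup G) := by
    rw [h.bad.card_sylow Q]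
    have := h.bad.two_le_a
    exact dvd_pow_self 2 (by omega)
  obtain ⟨t, ht⟩ := exists_prime_orderOf_dvd_card' (G := (Q : Subgroup G)) 2 h2Q
  have hto : orderOf (t : G) = 2 := by rw [Subgroup.orderOf_coe]; exact ht
  obtain ⟨z, hzN, -, hzpC, hfix⟩ := h.exists_z Q
  obtain ⟨i, hi⟩ := h.exists_pow_conj Q hzN hzpC hfix t.2 (inv_ne_one hto) hw hw1
  rw [hi]
  calc z ^ i * t * (z ^ i)⁻¹ * (z ^ i * t * (z ^ i)⁻¹) = z ^ i * ((t : G) * t) * (z ^ i)⁻¹ := by
        group
    _ = 1 := by rw [inv_mul_self hto]; group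

theorem orderOf_eq_two (h : MC p a G) (Q : Sylow 2 G) {w : G} (hw : w ∈ (Q : Subgroup G))
    (hw1 : w ≠ 1) : orderOf w = 2 :=
  orderOf_eq_two_of (h.sq_eq_one Q hw) hw1

/-- Sylow `2`-subgroups are abelian. -/
theorem comm2 (h : MC p a G) (Q : Sylow 2 G) {x y : G} (hx : x ∈ (Q : Subgroup G))
    (hy : y ∈ (Q : Subgroup G)) : x * y = y * x := by
  have h1 := h.sq_eq_one Q hx
  have h2 := h.sq_eq_one Q hy
  have h3 := h.sq_eq_one Q (Subgroup.mul_mem _ hx hy)
  calc x * y = x * ((x * y) * (x * y)) * y := by rw [h3, mul_one]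
    _ = (x * x) * (y * x) * (y * y) := by group
    _ = y * x := by rw [h1, h2, one_mul, mul_one]

theorem two_group_card_dvd (h : MC p a G) {T : Subgroup G} (hT : IsPGroup 2 T) :
    Nat.card T ∣ 2 ^ a := by
  have := h.bad.mixed.card_dvd_of_isPGroup hT
  rwa [h.bad.ha] at this

/-- (C2) a `p`-element of `N(Q)` fixing a nontrivial element of `Q` centralizes `Q`. -/
theorem centralizes_of_fix (h : MC p a G) (Q : Sylow 2 G) {y : G}
    (hyN : y ∈ Subgroup.normalizer ((Q : Subgroup G) : Set G)) (hyp : IsPEl p y) {t : G}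
    (ht : t ∈ (Q : Subgroup G)) (ht1 : t ≠ 1) (hfix : y * t * y⁻¹ = t) :
    y ∈ Subgroup.centralizer ((Q : Subgroup G) : Set G) := by
  haveI : Fact p.Prime := ⟨h.hp⟩
  haveI : Fact (Nat.Prime 2) := ⟨Nat.prime_two⟩
  by_contra hyc
  have hle : 2 ^ a - 1 ≤ p := by have := h.bad.hpa; omega
  obtain ⟨-, -, y', hy', -, hfix'⟩ :=
    fpf_of_large h.hp2 (h.two_group_card_dvd Q.isPGroup') hyN hyp hyc hle
  apply ht1
  apply hfix' t ht
  obtain ⟨k, rfl⟩ := Subgroup.mem_zpowers_iff.mp hy'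
  have hK : y ∈ Subgroup.centralizer {t} := by
    rw [Subgroup.mem_centralizer_singleton_iff]
    calc y * t = (y * t * y⁻¹) * y := by group
      _ = t * y := by rw [hfix]
  have hK' := Subgroup.zpow_mem _ hK k
  rw [Subgroup.mem_centralizer_singleton_iff] at hK'
  rw [hK', mul_inv_cancel_right]

theorem two_dvd_card_of_involution (_h : MC p a G) {H : Subgroup G} {u : G} (hu : orderOf u = 2)
    (huH : u ∈ H) : 2 ∣ Nat.card H := by
  rw [← hu]; exact Subgroup.orderOf_dvd_natCard H huH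

theorem tp_of_involution (h : MC p a G) {H : Subgroup G} (hH : H ≠ ⊤) {u : G}
    (hu : orderOf u = 2) (huH : u ∈ H) : TP p H :=
  h.star H hH (h.two_dvd_card_of_involution hu huH)

theorem tp_normalizer_two (h : MC p a G) {T : Subgroup G} (hT : IsPGroup 2 T) (hT1 : T ≠ ⊥) :
    TP p (Subgroup.normalizer (T : Set G)) :=
  fun _ hs hsN => h.bad.mixed.prime_dvd_card_normalizer hT hT1 hs hsN

theorem not_tp_top (h : MC p a G) : ¬ TP p (⊤ : Subgroup G) := by
  intro htp
  obtain ⟨r, hr, hrG, hrp, hr2⟩ := h.bad.third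
  rcases htp r hr (by rw [Subgroup.card_top]; exact hrG) with h1 | h1
  · exact hrp h1
  · exact hr2 h1

theorem centralizer_le_normalizer_zpowers (u : G) :
    Subgroup.centralizer {u} ≤ Subgroup.normalizer ((Subgroup.zpowers u : Subgroup G) : Set G) := by
  intro g hg
  apply mem_normalizer_of_conj_mem'
  intro x hx
  obtain ⟨k, rfl⟩ := Subgroup.mem_zpowers_iff.mp hx
  have hK : u ∈ Subgroup.centralizer {g} := by
    rw [Subgroup.mem_centralizer_singleton_iff]
    exact (Subgroup.mem_centralizer_singleton_iff.mp hg).symm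
  have hK' := Subgroup.zpow_mem _ hK k
  rw [Subgroup.mem_centralizer_singleton_iff] at hK'
  rw [← hK', mul_inv_cancel_right]
  exact Subgroup.zpow_mem _ (Subgroup.mem_zpowers u) k

omit [Finite G] in
theorem zpowers_involution_ne_bot {u : G} (hu : orderOf u = 2) :
    (Subgroup.zpowers u : Subgroup G) ≠ ⊥ := by
  rw [Ne, Subgroup.zpowers_eq_bot]
  exact inv_ne_one hu

/-- centralizers of involutions are `{2,p}`-groups. -/
theorem tp_centralizer (h : MC p a G) {u : G} (hu : orderOf u = 2) :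
    TP p (Subgroup.centralizer {u}) :=
  (h.tp_normalizer_two (isPGroup_zpowers_involution hu) (zpowers_involution_ne_bot hu)).mono
    (centralizer_le_normalizer_zpowers u)

theorem pgroup_ne_top (h : MC p a G) {X : Subgroup G} (hX : IsPGroup p X) : X ≠ ⊤ := by
  haveI : Fact p.Prime := ⟨h.hp⟩
  rintro rfl
  obtain ⟨k, hk⟩ := IsPGroup.iff_card.mp hX
  rw [Subgroup.card_top] at hk
  have h2 := h.bad.two_dvd
  rw [hk] at h2
  exact h.hp2 ((Nat.prime_dvd_prime_iff_eq Nat.prime_two h.hp).mp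
    (Nat.prime_two.dvd_of_dvd_pow h2)).symm

theorem normalizer_ne_top (h : MC p a G) {X : Subgroup G} (hX1 : X ≠ ⊥) (hXt : X ≠ ⊤) :
    Subgroup.normalizer (X : Set G) ≠ ⊤ := by
  haveI := h.simple
  intro htop
  rcases (Subgroup.normalizer_eq_top_iff.mp htop).eq_bot_or_eq_top with h1 | h1
  · exact hX1 h1
  · exact hXt h1

/-- normalizers of nontrivial `p`-subgroups, when of even order, are `{2,p}`-groups. -/
theorem tp_normalizer_p (h : MC p a G) {X : Subgroup G} (hX : IsPGroup p X) (hX1 : X ≠ ⊥)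
    {u : G} (hu : orderOf u = 2) (huN : u ∈ Subgroup.normalizer (X : Set G)) :
    TP p (Subgroup.normalizer (X : Set G)) :=
  h.tp_of_involution (h.normalizer_ne_top hX1 (h.pgroup_ne_top hX)) hu huN

end MC

end Cfsg.Agent.Lib.H21.Mix
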