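import Mathlib
import Cfsg.Agent.Lib.H21.MixE

/-!
# S4017: the two types of `{2,p}`-subgroups (helper21)
-/

set_option autoImplicit false

namespace Cfsg.Agent.Lib.H21.Mix

open Cfsg.Agent.Lib.H21.Cyc Cfsg.Agent.Lib.L0 Cfsg.Agent.Lib.H21.InvFriend
open scoped Pointwise

universe u

namespace MC

variable {p a : ℕ} {G : Type u} [Group G] [Finite G]

/-- a `{2,p}`-subgroup containing a Sylow `2`-subgroup `T` of `G` is the product of a Sylow
`p`-subgroup and `T`. -/
theorem exists_decomp (h : MC p a G) {H : Subgroup G} (hH : TP p H) (T : Sylow 2 G)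
    (hTH : (T : Subgroup G) ≤ H) (P' : Sylow p H) (g : H) :
    ∃ r ∈ (P' : Subgroup H), ∃ s : H, (s : G) ∈ (T : Subgroup G) ∧ r * s = g := by
  haveI : Fact p.Prime := ⟨h.hp⟩
  haveI : Fact (Nat.Prime 2) := ⟨Nat.prime_two⟩
  have hcT : Nat.card ((T : Subgroup G).subgroupOf H) = 2 ^ a := by
    rw [Nat.card_congr (Subgroup.subgroupOfEquivOfLe hTH).toEquiv]
    exact h.bad.card_sylow T
  have hcP : Nat.card (P' : Subgroup H) = p ^ (Nat.card H).factorization p :=
    Sylow.card_eq_multiplicity P'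
  have hv2 : (Nat.card H).factorization 2 = a := by
    apply le_antisymm
    · rw [← h.bad.ha]
      exact (Nat.factorization_le_iff_dvd Nat.card_pos.ne' Nat.card_pos.ne').mpr
        (Subgroup.card_subgroup_dvd_card H) 2
    · have h1 : 2 ^ a ∣ Nat.card H := by
        rw [← h.bad.card_sylow T]
        exact Subgroup.card_dvd_of_le hTH
      exact (Nat.Prime.pow_dvd_iff_le_factorization Nat.prime_two Nat.card_pos.ne').mp h1
  have hcH := eq_pow_mul_pow h.hp2 (Nat.card_pos (α := H)).ne' hH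
  rw [hv2] at hcH
  have hc : Subgroup.IsComplement' (P' : Subgroup H) ((T : Subgroup G).subgroupOf H) := by
    apply Subgroup.isComplement'_of_coprime
    · rw [hcT, hcP, mul_comm]; exact hcH.symm
    · rw [hcT, hcP]
      exact Nat.Coprime.pow _ _ ((Nat.coprime_primes h.hp Nat.prime_two).mpr h.hp2)
  obtain ⟨⟨r, s⟩, hrs⟩ := hc.2 g
  exact ⟨r.1, r.2, s.1, Subgroup.mem_subgroupOf.mp s.2, hrs⟩

/-- a Sylow `2`-subgroup of `G` inside a `{2,p}`-subgroup `H`, admitting a fixed-point-free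
`p`-element of `N_H(T)`, is normal in `H`. -/
theorem normal_of_fpf (h : MC p a G) {H : Subgroup G} (hH : TP p H) (T : Sylow 2 G)
    (hTH : (T : Subgroup G) ≤ H) {y : G} (hyH : y ∈ H)
    (hyN : y ∈ Subgroup.normalizer ((T : Subgroup G) : Set G)) (hyp : IsPEl p y)
    (hfix : ∀ t ∈ (T : Subgroup G), y * t * y⁻¹ = t → t = 1) :
    H ≤ Subgroup.normalizer ((T : Subgroup G) : Set G) := by
  haveI : Fact p.Prime := ⟨h.hp⟩
  haveI : Fact (Nat.Prime 2) := ⟨Nat.prime_two⟩
  obtain ⟨k, hk⟩ := hyp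
  have hz : IsPGroup p (Subgroup.zpowers (⟨y, hyH⟩ : H)) :=
    isPGroup_zpowers_of_orderOf (k := k) (by rw [Subgroup.orderOf_mk, hk])
  obtain ⟨P', hP'⟩ := hz.exists_le_sylow
  have hyP' : (⟨y, hyH⟩ : H) ∈ (P' : Subgroup H) := hP' (Subgroup.mem_zpowers _)
  have hyT : y • T = T := Sylow.smul_eq_iff_mem_normalizer.mpr hyN
  -- Claim A
  have hA : ∀ g ∈ H, y • (g • T) = g • T := by
    intro g hg
    obtain ⟨r, hr, s, hs, hrs⟩ := h.exists_decomp hH T hTH P' ⟨g, hg⟩
    have hg' : g = (r : G) * (s : G) := by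
      have := congrArg Subtype.val hrs
      exact this.symm
    have hsT : (s : G) • T = T :=
      Sylow.smul_eq_iff_mem_normalizer.mpr (Subgroup.le_normalizer hs)
    have hcomm : y * (r : G) = (r : G) * y := by
      have := h.bad.abel_subgroup H P' ⟨y, hyH⟩ r hyP' hr
      exact congrArg Subtype.val this
    rw [hg', mul_smul, hsT, ← mul_smul, hcomm, mul_smul, hyT]
  -- Claim B
  have hB : ∀ g ∈ H, ∀ t ∈ (T : Subgroup G), (y * t * y⁻¹ * t⁻¹) • (g • T) = g • T := by
    intro g hg t ht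
    have h1 := hA (t⁻¹ * g) (H.mul_mem (H.inv_mem (hTH ht)) hg)
    have h2 : y⁻¹ • ((t⁻¹ * g) • T) = (t⁻¹ * g) • T := by
      rw [inv_smul_eq_iff]; exact h1.symm
    have h3 : t • ((t⁻¹ * g) • T) = g • T := by
      rw [← mul_smul, mul_inv_cancel_left]
    calc (y * t * y⁻¹ * t⁻¹) • (g • T) = y • (t • (y⁻¹ • ((t⁻¹ * g) • T))) := by
          simp only [← mul_smul]; congr 1; group
      _ = g • T := by rw [h2, h3, hA g hg]
  -- Claim C
  have hC : ∀ s ∈ (T : Subgroup G), ∃ t ∈ (T : Subgroup G), s = y * t * y⁻¹ * t⁻¹ := by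
    let φ : ↥(T : Subgroup G) → ↥(T : Subgroup G) := fun t =>
      ⟨y * t.1 * y⁻¹ * t.1⁻¹, Subgroup.mul_mem _
        ((Subgroup.mem_set_normalizer_iff.mp hyN t.1).mp t.2) (Subgroup.inv_mem _ t.2)⟩
    have hinj : Function.Injective φ := by
      intro t s heq
      have heq' : y * t.1 * y⁻¹ * t.1⁻¹ = y * s.1 * y⁻¹ * s.1⁻¹ := congrArg Subtype.val heq
      have h1 : y * (s.1⁻¹ * t.1) * y⁻¹ = s.1⁻¹ * t.1 := by
        calc y * (s.1⁻¹ * t.1) * y⁻¹ = (y * s.1 * y⁻¹)⁻¹ * (y * t.1 * y⁻¹ * t.1⁻¹) * t.1 := by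
              group
          _ = (y * s.1 * y⁻¹)⁻¹ * (y * s.1 * y⁻¹ * s.1⁻¹) * t.1 := by rw [heq']
          _ = s.1⁻¹ * t.1 := by group
      have h2 := hfix _ (Subgroup.mul_mem _ (Subgroup.inv_mem _ s.2) t.2) h1
      apply Subtype.ext
      calc t.1 = s.1 * (s.1⁻¹ * t.1) := by group
        _ = s.1 := by rw [h2, mul_one]
    have hsurj := Finite.injective_iff_surjective.mp hinj
    intro s hs
    obtain ⟨t, ht⟩ := hsurj ⟨s, hs⟩
    exact ⟨t.1, t.2, (congrArg Subtype.val ht).symm⟩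
  intro g hg
  have hle : (T : Subgroup G) ≤ ((g • T : Sylow 2 G) : Subgroup G) := by
    intro s hs
    obtain ⟨t, ht, rfl⟩ := hC s hs
    have h1 := hB g hg t ht
    have h2 := Sylow.smul_eq_iff_mem_normalizer.mp h1
    exact mem_sylow_of_pEl (g • T) h2 (isPEl_of_mem_sylow T hs)
  have heq := sylow_eq_of_le T (g • T) hle
  exact Sylow.smul_eq_iff_mem_normalizer.mp heq.symm

/-- (C3) a `{2,p}`-subgroup has a normal Sylow `p`-subgroup, or contains and normalizes a Sylow
`2`-subgroup of `G`. -/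
theorem dichotomy (h : MC p a G) {H : Subgroup G} (hH : TP p H) :
    PCin p H ∨ ∃ T : Sylow 2 G, (T : Subgroup G) ≤ H ∧
      H ≤ Subgroup.normalizer ((T : Subgroup G) : Set G) := by
  haveI : Fact p.Prime := ⟨h.hp⟩
  haveI : Fact (Nat.Prime 2) := ⟨Nat.prime_two⟩
  by_cases hF : FrobHyp 2 H
  · left
    obtain ⟨L, hLH, hHL, h2L, hall⟩ := npcin_of_npc H (hasNormalPComplement_of_frobHyp hF)
    refine ⟨L, hLH, hHL, hH.isPGroup_of_odd hLH h2L, ?_⟩
    intro x hx hxp
    exact hall x hx (h.isPEl_coprime_two hxp)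
  · right
    obtain ⟨T, x, hTH, hT, hxH, hxN, hxodd, hxc⟩ := exists_of_not_frobHyp H hF
    have hT1 : T ≠ ⊥ := by
      rintro rfl
      apply hxc
      rw [Subgroup.mem_centralizer_iff]
      intro t ht
      have : t = 1 := Subgroup.mem_bot.mp ht
      rw [this, one_mul, mul_one]
    have hxp : IsPEl p x := h.bad.mixed.isPEl_of_normalizes hT hT1 hxN hxodd
    have hle : 2 ^ a - 1 ≤ p := by have := h.bad.hpa; omega
    obtain ⟨-, hcard, y, hyx, -, hfix⟩ :=
      fpf_of_large h.hp2 (h.two_group_card_dvd hT) hxN hxp hxc hle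
    have hcard' : Nat.card T = 2 ^ (Nat.card G).factorization 2 := by rw [h.bad.ha]; exact hcard
    have hyH : y ∈ H := by
      have hle' : Subgroup.zpowers x ≤ H := by rw [Subgroup.zpowers_le]; exact hxH
      exact hle' hyx
    have hyN : y ∈ Subgroup.normalizer (T : Set G) := by
      have hle' : Subgroup.zpowers x ≤ Subgroup.normalizer (T : Set G) := by
        rw [Subgroup.zpowers_le]; exact hxN
      exact hle' hyx
    refine ⟨Sylow.ofCard T hcard', ?_, ?_⟩
    · rw [Sylow.coe_ofCard]; exact hTH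
    · apply h.normal_of_fpf hH (Sylow.ofCard T hcard') (by rw [Sylow.coe_ofCard]; exact hTH) hyH
        (by rw [Sylow.coe_ofCard]; exact hyN) (hxp.of_mem_zpowers hyx)
      rw [Sylow.coe_ofCard]; exact hfix

end MC

end Cfsg.Agent.Lib.H21.Mix
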