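import Mathlib
import Cfsg.Agent.Lib.H21.MixF

/-!
# S4017: inverted `p`-elements and their Sylow subgroups (helper21)
-/

set_option autoImplicit false

namespace Cfsg.Agent.Lib.H21.Mix

open Cfsg.Agent.Lib.H21.Cyc Cfsg.Agent.Lib.L0 Cfsg.Agent.Lib.H21.InvFriend
open scoped Pointwise

universe u

namespace MC

variable {p a : ℕ} {G : Type u} [Group G] [Finite G]

theorem eq_one_of_sq (h : MC p a G) {d : G} (hd : IsPEl p d) (h2 : d * d = 1) : d = 1 := by
  apply h.eq_one_of_two_p _ hd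
  have h1 : orderOf d ∣ 2 := orderOf_dvd_of_pow_eq_one (by rw [pow_two]; exact h2)
  rcases (Nat.dvd_prime Nat.prime_two).mp h1 with h3 | h3
  · exact ⟨0, by rw [h3, pow_zero]⟩
  · exact ⟨1, by rw [h3, pow_one]⟩

theorem exists_involution_mem (h : MC p a G) (Q : Sylow 2 G) :
    ∃ t ∈ (Q : Subgroup G), orderOf t = 2 := by
  haveI : Fact (Nat.Prime 2) := ⟨Nat.prime_two⟩
  have h2Q : 2 ∣ Nat.card (Q : Subgroup G) := by
    rw [h.bad.card_sylow Q]
    have := h.bad.two_le_a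
    exact dvd_pow_self 2 (by omega)
  obtain ⟨t, ht⟩ := exists_prime_orderOf_dvd_card' (G := (Q : Subgroup G)) 2 h2Q
  exact ⟨t.1, t.2, by rw [Subgroup.orderOf_coe]; exact ht⟩

theorem sylow_two_ne_bot (h : MC p a G) (Q : Sylow 2 G) : (Q : Subgroup G) ≠ ⊥ := by
  obtain ⟨t, ht, hto⟩ := h.exists_involution_mem Q
  intro hb
  rw [hb, Subgroup.mem_bot] at ht
  exact inv_ne_one hto ht

theorem sylow_two_ne_top (h : MC p a G) (Q : Sylow 2 G) : (Q : Subgroup G) ≠ ⊤ := by
  intro ht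
  apply h.not_tp_top
  rw [← ht]
  intro s hs hsQ
  rw [h.bad.card_sylow Q] at hsQ
  exact Or.inr ((Nat.prime_dvd_prime_iff_eq hs Nat.prime_two).mp (hs.dvd_of_dvd_pow hsQ))

/-- a `p`-element of a `p`-group `R` normalizing `Q`, and `t ∈ Q` normalizing `R`, commute. -/
theorem commute_of_normalizes_each (h : MC p a G) {R : Subgroup G} (hR : IsPGroup p R)
    (Q : Sylow 2 G) {y t : G} (hy : y ∈ R) (ht : t ∈ (Q : Subgroup G))
    (hyN : y ∈ Subgroup.normalizer ((Q : Subgroup G) : Set G))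
    (htN : t ∈ Subgroup.normalizer (R : Set G)) : y * t * y⁻¹ = t := by
  haveI : Fact p.Prime := ⟨h.hp⟩
  haveI : Fact (Nat.Prime 2) := ⟨Nat.prime_two⟩
  have hdisj : Disjoint R (Q : Subgroup G) :=
    IsPGroup.disjoint_of_ne p 2 h.hp2 R Q hR Q.isPGroup'
  have hc1 : y * t * y⁻¹ * t⁻¹ ∈ (Q : Subgroup G) :=
    Subgroup.mul_mem _ ((Subgroup.mem_set_normalizer_iff.mp hyN t).mp ht) (Subgroup.inv_mem _ ht)
  have hc2 : y * t * y⁻¹ * t⁻¹ ∈ R := by
    have h1 : t * y⁻¹ * t⁻¹ ∈ R :=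
      (Subgroup.mem_set_normalizer_iff.mp htN _).mp (Subgroup.inv_mem _ hy)
    have h2 := Subgroup.mul_mem _ hy h1
    have e : y * (t * y⁻¹ * t⁻¹) = y * t * y⁻¹ * t⁻¹ := by group
    rwa [e] at h2
  have h1 : y * t * y⁻¹ * t⁻¹ ∈ R ⊓ (Q : Subgroup G) := Subgroup.mem_inf.mpr ⟨hc2, hc1⟩
  rw [hdisj.eq_bot, Subgroup.mem_bot] at h1
  calc y * t * y⁻¹ = (y * t * y⁻¹ * t⁻¹) * t := by group
    _ = t := by rw [h1, one_mul]

theorem abel (h : MC p a G) (P : Sylow p G) {x y : G} (hx : x ∈ (P : Subgroup G))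
    (hy : y ∈ (P : Subgroup G)) : x * y = y * x := h.bad.abel P x hx y hy

/-- elements of a `p`-subgroup commute. -/
theorem comm_of_pgroup (h : MC p a G) {R : Subgroup G} (hR : IsPGroup p R) {x y : G}
    (hx : x ∈ R) (hy : y ∈ R) : x * y = y * x := by
  haveI : Fact p.Prime := ⟨h.hp⟩
  obtain ⟨P, hP⟩ := hR.exists_le_sylow
  exact h.abel P (hP hx) (hP hy)

theorem sylow_le_normalizer_zpowers (h : MC p a G) (P : Sylow p G) {x : G}
    (hx : x ∈ (P : Subgroup G)) :
    (P : Subgroup G) ≤ Subgroup.normalizer ((Subgroup.zpowers x : Subgroup G) : Set G) := by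
  intro y hy
  apply centralizer_le_normalizer_zpowers x
  rw [Subgroup.mem_centralizer_singleton_iff]
  exact h.abel P hy hx

/-- (G1) if `N(⟨x⟩)` has a normal Sylow `p`-subgroup, then `x` lies in a unique Sylow
`p`-subgroup `P` of `G`, and `N(⟨x⟩) ≤ N(P)`. -/
theorem sylow_of_typeI (h : MC p a G) {x : G}
    (hPC : PCin p (Subgroup.normalizer ((Subgroup.zpowers x : Subgroup G) : Set G)))
    (P : Sylow p G) (hxP : x ∈ (P : Subgroup G)) :
    Subgroup.normalizer ((Subgroup.zpowers x : Subgroup G) : Set G) ≤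
      Subgroup.normalizer ((P : Subgroup G) : Set G) ∧
    ∀ P' : Sylow p G, x ∈ (P' : Subgroup G) → P' = P := by
  haveI : Fact p.Prime := ⟨h.hp⟩
  obtain ⟨R, -, hHR, hRp, hall⟩ := hPC
  have key : ∀ P' : Sylow p G, x ∈ (P' : Subgroup G) → R = (P' : Subgroup G) := by
    intro P' hxP'
    have hle : (P' : Subgroup G) ≤ R := by
      intro y hy
      exact hall y (h.sylow_le_normalizer_zpowers P' hxP' hy) (isPEl_of_mem_sylow P' hy)
    exact P'.is_maximal' hRp hle
  have hRP := key P hxP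
  refine ⟨?_, ?_⟩
  · rw [← hRP]; exact hHR
  · intro P' hxP'
    apply Sylow.ext
    rw [← hRP, ← key P' hxP']

/-- (G2) if `N(⟨x⟩)` contains and normalizes a Sylow `2`-subgroup `T`, then `x` centralizes `T`. -/
theorem centralizes_of_typeII (h : MC p a G) {x : G} (hx : IsPEl p x) (T : Sylow 2 G)
    (hTH : (T : Subgroup G) ≤
      Subgroup.normalizer ((Subgroup.zpowers x : Subgroup G) : Set G))
    (hHT : Subgroup.normalizer ((Subgroup.zpowers x : Subgroup G) : Set G) ≤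
      Subgroup.normalizer ((T : Subgroup G) : Set G)) :
    x ∈ Subgroup.centralizer ((T : Subgroup G) : Set G) := by
  haveI : Fact p.Prime := ⟨h.hp⟩
  haveI : Fact (Nat.Prime 2) := ⟨Nat.prime_two⟩
  rw [Subgroup.mem_centralizer_iff]
  intro t ht
  have hxN : x ∈ Subgroup.normalizer ((T : Subgroup G) : Set G) :=
    hHT (Subgroup.le_normalizer (Subgroup.mem_zpowers x))
  have h1 : t * x * t⁻¹ ∈ Subgroup.zpowers x :=
    (Subgroup.mem_set_normalizer_iff.mp (hTH ht) x).mp (Subgroup.mem_zpowers x)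
  have h2 : t * x * t⁻¹ * x⁻¹ ∈ Subgroup.zpowers x :=
    Subgroup.mul_mem _ h1 (Subgroup.inv_mem _ (Subgroup.mem_zpowers x))
  have h3 : t * x * t⁻¹ * x⁻¹ ∈ (T : Subgroup G) := by
    have h4 : x * t⁻¹ * x⁻¹ ∈ (T : Subgroup G) :=
      (Subgroup.mem_set_normalizer_iff.mp hxN _).mp (Subgroup.inv_mem _ ht)
    have h5 := Subgroup.mul_mem _ ht h4
    have e : t * (x * t⁻¹ * x⁻¹) = t * x * t⁻¹ * x⁻¹ := by group
    rwa [e] at h5
  have h6 := h.eq_one_of_two_p (isPEl_of_mem_sylow T h3) (hx.of_mem_zpowers h2)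
  calc t * x = (t * x * t⁻¹ * x⁻¹) * x * t := by group
    _ = x * t := by rw [h6, one_mul]

theorem exists_noncommuting (h : MC p a G) :
    ∃ u u' : G, orderOf u = 2 ∧ orderOf u' = 2 ∧ u * u' ≠ u' * u := by
  haveI : Fact (Nat.Prime 2) := ⟨Nat.prime_two⟩
  by_contra hcon
  push Not at hcon
  let Q : Sylow 2 G := default
  apply h.normalizer_ne_top (h.sylow_two_ne_bot Q) (h.sylow_two_ne_top Q)
  rw [eq_top_iff]
  intro g _
  have hle : (Q : Subgroup G) ≤ ((g • Q : Sylow 2 G) : Subgroup G) := by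
    intro s hs
    apply mem_sylow_of_pEl (g • Q) _ (isPEl_of_mem_sylow Q hs)
    apply Subgroup.centralizer_le_normalizer
    rw [Subgroup.mem_centralizer_iff]
    intro x hx
    by_cases hs1 : s = 1
    · rw [hs1, one_mul, mul_one]
    by_cases hx1 : x = 1
    · rw [hx1, one_mul, mul_one]
    exact hcon x s (h.orderOf_eq_two (g • Q) hx hx1) (h.orderOf_eq_two Q hs hs1)
  have heq := sylow_eq_of_le Q (g • Q) hle
  exact Sylow.smul_eq_iff_mem_normalizer.mp heq.symm

/-- (C4) some involution inverts a nontrivial `p`-element. -/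
theorem exists_inverted (h : MC p a G) :
    ∃ u d : G, orderOf u = 2 ∧ IsPEl p d ∧ d ≠ 1 ∧ u * d * u⁻¹ = d⁻¹ := by
  haveI : Fact (Nat.Prime 2) := ⟨Nat.prime_two⟩
  obtain ⟨u, u', hu, hu', hne⟩ := h.exists_noncommuting
  obtain ⟨e, he⟩ : ∃ e, e = u * u' := ⟨_, rfl⟩
  have hinv : u * e * u⁻¹ = e⁻¹ := by
    rw [he, mul_inv_rev, inv_inv_eq hu, inv_inv_eq hu', ← mul_assoc u u u', inv_mul_self hu,
      one_mul]
  have hinvk : ∀ x ∈ Subgroup.zpowers e, u * x * u⁻¹ = x⁻¹ := by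
    intro x hx
    obtain ⟨k, rfl⟩ := Subgroup.mem_zpowers_iff.mp hx
    rw [← conj_zpow, hinv, inv_zpow]
  have huN : u ∈ Subgroup.normalizer ((Subgroup.zpowers e : Subgroup G) : Set G) := by
    apply mem_normalizer_of_conj_mem'
    intro x hx
    rw [hinvk x hx]; exact Subgroup.inv_mem _ hx
  have hu'e : u' = u * e := by
    rw [he, ← mul_assoc, inv_mul_self hu, one_mul]
  have he1 : e ≠ 1 := by
    intro h1
    apply hne
    rw [hu'e, h1, mul_one]
  have hcomm_of : u * e = e * u → False := by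
    intro hc
    apply hne
    rw [hu'e, mul_assoc, ← hc]
  have hetop : (Subgroup.zpowers e : Subgroup G) ≠ ⊤ := by
    intro htop
    apply hcomm_of
    have hu1 : u ∈ Subgroup.zpowers e := by rw [htop]; trivial
    obtain ⟨i, hi⟩ := Subgroup.mem_zpowers_iff.mp hu1
    have hc : e ^ i * e = e * e ^ i := by
      rw [← zpow_add_one, ← zpow_one_add, add_comm]
    rwa [hi] at hc
  have hNtop := h.normalizer_ne_top (by rw [Ne, Subgroup.zpowers_eq_bot]; exact he1) hetop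
  have hTP := h.tp_of_involution hNtop hu huN
  obtain ⟨a', b, -, hb, hab, h2a, hbodd⟩ := exists_pdecomp 2 e
  have hbp : IsPEl p b := hTP.isPEl_of_odd (Subgroup.le_normalizer hb) hbodd
  refine ⟨u, b, hu, hbp, ?_, hinvk b hb⟩
  intro hb1
  rw [hb1, mul_one] at hab
  rw [← hab] at h2a
  obtain ⟨k, hk⟩ := h2a
  have h2e : IsPGroup 2 (Subgroup.zpowers e) := isPGroup_zpowers_of_orderOf hk
  have hsup : IsPGroup 2 (Subgroup.zpowers u ⊔ Subgroup.zpowers e : Subgroup G) :=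
    IsPGroup.to_sup_of_normal_right' (isPGroup_zpowers_involution hu) h2e
      (by rw [Subgroup.zpowers_le]; exact huN)
  obtain ⟨Q, hQ⟩ := hsup.exists_le_sylow
  have huQ : u ∈ (Q : Subgroup G) :=
    hQ ((le_sup_left : Subgroup.zpowers u ≤ _) (Subgroup.mem_zpowers u))
  have heQ : e ∈ (Q : Subgroup G) :=
    hQ ((le_sup_right : Subgroup.zpowers e ≤ _) (Subgroup.mem_zpowers e))
  exact hcomm_of (h.comm2 Q huQ heQ)

theorem zpowers_isPGroup (_h : MC p a G) {x : G} (hx : IsPEl p x) :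
    IsPGroup p (Subgroup.zpowers x) := by
  obtain ⟨k, hk⟩ := hx
  exact isPGroup_zpowers_of_orderOf hk

omit [Finite G] in
theorem inverts_zpowers {u d : G} (hinv : u * d * u⁻¹ = d⁻¹) :
    ∀ x ∈ Subgroup.zpowers d, u * x * u⁻¹ = x⁻¹ := by
  intro x hx
  obtain ⟨k, rfl⟩ := Subgroup.mem_zpowers_iff.mp hx
  rw [← conj_zpow, hinv, inv_zpow]

theorem mem_normalizer_zpowers_of_inverts {u d : G} (hinv : u * d * u⁻¹ = d⁻¹) :
    u ∈ Subgroup.normalizer ((Subgroup.zpowers d : Subgroup G) : Set G) := by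
  apply mem_normalizer_of_conj_mem'
  intro x hx
  rw [inverts_zpowers hinv x hx]; exact Subgroup.inv_mem _ hx

/-- (G4) a nontrivial `p`-element inverted by an involution `u` lies in a unique Sylow
`p`-subgroup, which `u` normalizes. -/
theorem sylow_of_inverted (h : MC p a G) {u d : G} (hu : orderOf u = 2) (hd : IsPEl p d)
    (hd1 : d ≠ 1) (hinv : u * d * u⁻¹ = d⁻¹) (P : Sylow p G) (hdP : d ∈ (P : Subgroup G)) :
    u ∈ Subgroup.normalizer ((P : Subgroup G) : Set G) ∧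
      ∀ P' : Sylow p G, d ∈ (P' : Subgroup G) → P' = P := by
  haveI : Fact (Nat.Prime 2) := ⟨Nat.prime_two⟩
  have huN := mem_normalizer_zpowers_of_inverts hinv
  have hTP := h.tp_normalizer_p (h.zpowers_isPGroup hd)
    (by rw [Ne, Subgroup.zpowers_eq_bot]; exact hd1) hu huN
  rcases h.dichotomy hTP with hI | ⟨T, hTH, hHT⟩
  · obtain ⟨h1, h2⟩ := h.sylow_of_typeI hI P hdP
    exact ⟨h1 huN, h2⟩
  · exfalso
    have hdc := h.centralizes_of_typeII hd T hTH hHT
    have huT : u ∈ (T : Subgroup G) :=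
      mem_sylow_of_pEl T (hHT huN) (h.isPEl_two_of_involution hu)
    have hcomm := (Subgroup.mem_centralizer_iff.mp hdc) u huT
    have h1 : d = d⁻¹ := by
      rw [← hinv, hcomm, mul_inv_cancel_right]
    apply hd1
    apply h.eq_one_of_sq hd
    calc d * d = d * d⁻¹ := by rw [← h1]
      _ = 1 := mul_inv_cancel d

/-- an involution normalizing a `p`-subgroup without nontrivial fixed points inverts it. -/
theorem inverts_of_fpf (h : MC p a G) {R : Subgroup G} (hR : IsPGroup p R) {u : G}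
    (hu : orderOf u = 2) (huN : u ∈ Subgroup.normalizer (R : Set G))
    (hfp : ∀ x ∈ R, u * x = x * u → x = 1) {c : G} (hc : c ∈ R) :
    u * c * u⁻¹ = c⁻¹ := by
  have hc' : u * c * u⁻¹ ∈ R := (Subgroup.mem_set_normalizer_iff.mp huN c).mp hc
  have hw : c * (u * c * u⁻¹) ∈ R := Subgroup.mul_mem _ hc hc'
  have hfix : u * (c * (u * c * u⁻¹)) = (c * (u * c * u⁻¹)) * u := by
    have h1 : u * (c * (u * c * u⁻¹)) * u⁻¹ = (u * c * u⁻¹) * c := by
      calc u * (c * (u * c * u⁻¹)) * u⁻¹ = (u * c * u⁻¹) * ((u * u) * c * (u * u)⁻¹) := by group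
        _ = (u * c * u⁻¹) * c := by rw [inv_mul_self hu]; group
    have h2 : (u * c * u⁻¹) * c = c * (u * c * u⁻¹) := h.comm_of_pgroup hR hc' hc
    calc u * (c * (u * c * u⁻¹)) = (u * (c * (u * c * u⁻¹)) * u⁻¹) * u := by group
      _ = (c * (u * c * u⁻¹)) * u := by rw [h1, h2]
  have h1 := hfp _ hw hfix
  exact (eq_inv_of_mul_eq_one_right h1)

end MC

end Cfsg.Agent.Lib.H21.Mix
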