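import Mathlib
import Cfsg.Agent.Lib.H21.MixG

/-!
# S4017: `p`-elements centralizing a Sylow `2`-subgroup; case A (helper21)
-/

set_option autoImplicit false

namespace Cfsg.Agent.Lib.H21.Mix

open Cfsg.Agent.Lib.H21.Cyc Cfsg.Agent.Lib.L0 Cfsg.Agent.Lib.H21.InvFriend
open scoped Pointwise

universe u

namespace MC

variable {p a : ℕ} {G : Type u} [Group G] [Finite G]

theorem sylow_two_le_of_le_normalizer (_h : MC p a G) (Q T : Sylow 2 G)
    (hle : (Q : Subgroup G) ≤ Subgroup.normalizer ((T : Subgroup G) : Set G)) : Q = T := by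
  haveI : Fact (Nat.Prime 2) := ⟨Nat.prime_two⟩
  apply sylow_eq_of_le
  intro s hs
  exact mem_sylow_of_pEl T (hle hs) (isPEl_of_mem_sylow Q hs)

/-- (G5) if a nontrivial `p`-element `c` centralizes the Sylow `2`-subgroup `Q`, then
`N(⟨c⟩) ≤ N(Q)`. -/
theorem normalizer_zpowers_le (h : MC p a G) (Q : Sylow 2 G) {c : G} (hc : IsPEl p c)
    (hc1 : c ≠ 1) (hcQ : c ∈ Subgroup.centralizer ((Q : Subgroup G) : Set G)) :
    Subgroup.normalizer ((Subgroup.zpowers c : Subgroup G) : Set G) ≤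
      Subgroup.normalizer ((Q : Subgroup G) : Set G) := by
  haveI : Fact p.Prime := ⟨h.hp⟩
  haveI : Fact (Nat.Prime 2) := ⟨Nat.prime_two⟩
  have hQH : (Q : Subgroup G) ≤
      Subgroup.normalizer ((Subgroup.zpowers c : Subgroup G) : Set G) := by
    intro t ht
    apply centralizer_le_normalizer_zpowers c
    rw [Subgroup.mem_centralizer_singleton_iff]
    exact (Subgroup.mem_centralizer_iff.mp hcQ) t ht
  obtain ⟨t₀, ht₀, ht₀o⟩ := h.exists_involution_mem Q
  have hTP := h.tp_normalizer_p (h.zpowers_isPGroup hc)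
    (by rw [Ne, Subgroup.zpowers_eq_bot]; exact hc1) ht₀o (hQH ht₀)
  have hcM : c ∈ Subgroup.normalizer ((Q : Subgroup G) : Set G) :=
    Subgroup.centralizer_le_normalizer _ hcQ
  obtain ⟨z, hzN, hzp, -, hfix⟩ := h.exists_z Q
  -- Sylow theory inside `M = N(Q)`
  obtain ⟨k, hk⟩ := hc
  have hcz : IsPGroup p (Subgroup.zpowers
      (⟨c, hcM⟩ : Subgroup.normalizer ((Q : Subgroup G) : Set G))) :=
    isPGroup_zpowers_of_orderOf (k := k) (by rw [Subgroup.orderOf_mk, hk])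
  obtain ⟨PM, hPM⟩ := hcz.exists_le_sylow
  obtain ⟨k', hk'⟩ := hzp
  have hz' : IsPEl p (⟨z, hzN⟩ : Subgroup.normalizer ((Q : Subgroup G) : Set G)) :=
    ⟨k', by rw [Subgroup.orderOf_mk, hk']⟩
  obtain ⟨g, hg⟩ := exists_conj_mem_sylow PM hz'
  have hyc : (g : G) * z * (g : G)⁻¹ * c = c * ((g : G) * z * (g : G)⁻¹) := by
    have := h.bad.abel_subgroup _ PM _ ⟨c, hcM⟩ hg (hPM (Subgroup.mem_zpowers _))
    exact congrArg Subtype.val this
  have hyN : (g : G) * z * (g : G)⁻¹ ∈ Subgroup.normalizer ((Q : Subgroup G) : Set G) :=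
    Subgroup.mul_mem _ (Subgroup.mul_mem _ g.2 hzN) (Subgroup.inv_mem _ g.2)
  have hyp : IsPEl p ((g : G) * z * (g : G)⁻¹) := IsPEl.conj ⟨k', hk'⟩ _
  have hyfix : ∀ t ∈ (Q : Subgroup G),
      ((g : G) * z * (g : G)⁻¹) * t * ((g : G) * z * (g : G)⁻¹)⁻¹ = t → t = 1 := by
    intro t ht hfixt
    have ht' : (g : G)⁻¹ * t * (g : G)⁻¹⁻¹ ∈ (Q : Subgroup G) :=
      (Subgroup.mem_set_normalizer_iff.mp (Subgroup.inv_mem _ g.2) t).mp ht
    have h1 : z * ((g : G)⁻¹ * t * (g : G)⁻¹⁻¹) * z⁻¹ = (g : G)⁻¹ * t * (g : G)⁻¹⁻¹ := by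
      calc z * ((g : G)⁻¹ * t * (g : G)⁻¹⁻¹) * z⁻¹
          = (g : G)⁻¹ * (((g : G) * z * (g : G)⁻¹) * t * ((g : G) * z * (g : G)⁻¹)⁻¹) * (g : G) := by
            group
        _ = (g : G)⁻¹ * t * (g : G)⁻¹⁻¹ := by rw [hfixt, inv_inv]
    have h2 := hfix _ ht' h1
    calc t = (g : G) * ((g : G)⁻¹ * t * (g : G)⁻¹⁻¹) * (g : G)⁻¹ := by group
      _ = 1 := by rw [h2]; group
  have hyH : (g : G) * z * (g : G)⁻¹ ∈
      Subgroup.normalizer ((Subgroup.zpowers c : Subgroup G) : Set G) := by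
    apply centralizer_le_normalizer_zpowers c
    rw [Subgroup.mem_centralizer_singleton_iff]
    exact hyc
  rcases h.dichotomy hTP with ⟨R, -, hHR, hRp, hall⟩ | ⟨T, hTH, hHT⟩
  · exfalso
    have hyR := hall _ hyH hyp
    apply h.sylow_two_ne_bot Q
    rw [Subgroup.eq_bot_iff_forall]
    intro t ht
    exact hyfix t ht (h.commute_of_normalizes_each hRp Q hyR ht hyN (hHR (hQH ht)))
  · have hQT := h.sylow_two_le_of_le_normalizer Q T (hQH.trans hHT)
    rw [hQT]; exact hHT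

theorem conj_mem_centralizer_smul (_h : MC p a G) (Q : Sylow 2 G) (g : G) {c : G}
    (hcQ : c ∈ Subgroup.centralizer ((Q : Subgroup G) : Set G)) :
    g * c * g⁻¹ ∈ Subgroup.centralizer (((g • Q : Sylow 2 G) : Subgroup G) : Set G) := by
  rw [Subgroup.mem_centralizer_iff]
  intro x hx
  have hx' : g⁻¹ * x * g ∈ (Q : Subgroup G) := (mem_smul_sylow Q g x).mp hx
  have h1 := (Subgroup.mem_centralizer_iff.mp hcQ) _ hx'
  calc x * (g * c * g⁻¹) = g * ((g⁻¹ * x * g) * c) * g⁻¹ := by group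
    _ = g * (c * (g⁻¹ * x * g)) * g⁻¹ := by rw [h1]
    _ = g * c * g⁻¹ * x := by group

omit [Finite G] in
theorem conj_ne_one {c : G} (hc1 : c ≠ 1) (g : G) : g * c * g⁻¹ ≠ 1 := by
  intro h1
  apply hc1
  calc c = g⁻¹ * (g * c * g⁻¹) * g := by group
    _ = 1 := by rw [h1]; group

/-- an inverted pair with `d` in a prescribed Sylow `p`-subgroup. -/
theorem exists_inverted_in (h : MC p a G) (P : Sylow p G) :
    ∃ u d : G, orderOf u = 2 ∧ d ∈ (P : Subgroup G) ∧ d ≠ 1 ∧ u * d * u⁻¹ = d⁻¹ ∧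
      u ∈ Subgroup.normalizer ((P : Subgroup G) : Set G) := by
  haveI : Fact p.Prime := ⟨h.hp⟩
  obtain ⟨u, d, hu, hd, hd1, hinv⟩ := h.exists_inverted
  obtain ⟨g, hg⟩ := exists_conj_mem_sylow P hd
  have hinv' : (g * u * g⁻¹) * (g * d * g⁻¹) * (g * u * g⁻¹)⁻¹ = (g * d * g⁻¹)⁻¹ := by
    calc (g * u * g⁻¹) * (g * d * g⁻¹) * (g * u * g⁻¹)⁻¹ = g * (u * d * u⁻¹) * g⁻¹ := by group
      _ = (g * d * g⁻¹)⁻¹ := by rw [hinv]; group
  have hu' : orderOf (g * u * g⁻¹) = 2 := by rw [orderOf_conj', hu]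
  refine ⟨g * u * g⁻¹, g * d * g⁻¹, hu', hg, conj_ne_one hd1 g, hinv', ?_⟩
  exact (h.sylow_of_inverted hu' (hd.conj g) (conj_ne_one hd1 g) hinv' P hg).1

/-- **case A**: no nontrivial `p`-element centralizes a Sylow `2`-subgroup. -/
theorem caseA (h : MC p a G) (Q : Sylow 2 G) {c : G} (hc : IsPEl p c) (hc1 : c ≠ 1)
    (hcQ : c ∈ Subgroup.centralizer ((Q : Subgroup G) : Set G)) : False := by
  haveI : Fact p.Prime := ⟨h.hp⟩
  haveI : Fact (Nat.Prime 2) := ⟨Nat.prime_two⟩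
  have hall : ∀ Q' : Sylow 2 G, ∃ c' : G, IsPEl p c' ∧ c' ≠ 1 ∧
      c' ∈ Subgroup.centralizer ((Q' : Subgroup G) : Set G) := by
    intro Q'
    obtain ⟨g, rfl⟩ := MulAction.exists_smul_eq G Q Q'
    exact ⟨g * c * g⁻¹, hc.conj g, conj_ne_one hc1 g, h.conj_mem_centralizer_smul Q g hcQ⟩
  obtain ⟨P, hcP⟩ := exists_mem_sylow hc
  obtain ⟨u, d, hu, hdP, hd1, hinv, huN⟩ := h.exists_inverted_in P
  by_cases hfp : ∃ x ∈ (P : Subgroup G), x ≠ 1 ∧ u * x = x * u
  · obtain ⟨x, hxP, hx1, hux⟩ := hfp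
    have hxp : IsPEl p x := isPEl_of_mem_sylow P hxP
    obtain ⟨Qu, huQu⟩ := exists_mem_sylow (h.isPEl_two_of_involution hu)
    have hxC : x ∈ Subgroup.centralizer {u} := by
      rw [Subgroup.mem_centralizer_singleton_iff]; exact hux.symm
    have hfixu : x * u * x⁻¹ = u := by rw [← hux, mul_inv_cancel_right]
    have hQuC : (Qu : Subgroup G) ≤ Subgroup.centralizer {u} := by
      intro s hs
      rw [Subgroup.mem_centralizer_singleton_iff]
      exact h.comm2 Qu hs huQu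
    -- `x` centralizes `Qu`
    have hxQu : x ∈ Subgroup.centralizer ((Qu : Subgroup G) : Set G) := by
      rcases h.dichotomy (h.tp_centralizer hu) with ⟨L, -, -, hLp, hLall⟩ | ⟨T, -, hHT⟩
      · obtain ⟨c', hc', hc'1, hc'Q⟩ := hall Qu
        have hc'C : c' ∈ Subgroup.centralizer {u} := by
          rw [Subgroup.mem_centralizer_singleton_iff]
          exact ((Subgroup.mem_centralizer_iff.mp hc'Q) u huQu).symm
        have hc'L := hLall c' hc'C hc'
        have hxL := hLall x hxC hxp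
        have hcomm := h.comm_of_pgroup hLp hxL hc'L
        have hxN : x ∈ Subgroup.normalizer ((Qu : Subgroup G) : Set G) := by
          apply h.normalizer_zpowers_le Qu hc' hc'1 hc'Q
          apply centralizer_le_normalizer_zpowers c'
          rw [Subgroup.mem_centralizer_singleton_iff]
          exact hcomm
        exact h.centralizes_of_fix Qu hxN hxp huQu (inv_ne_one hu) hfixu
      · have hQT := h.sylow_two_le_of_le_normalizer Qu T (hQuC.trans hHT)
        have hxN : x ∈ Subgroup.normalizer ((Qu : Subgroup G) : Set G) := by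
          rw [hQT]; exact hHT hxC
        exact h.centralizes_of_fix Qu hxN hxp huQu (inv_ne_one hu) hfixu
    have hPN : (P : Subgroup G) ≤ Subgroup.normalizer ((Qu : Subgroup G) : Set G) :=
      (h.sylow_le_normalizer_zpowers P hxP).trans (h.normalizer_zpowers_le Qu hxp hx1 hxQu)
    have h1 := h.commute_of_normalizes_each P.isPGroup' Qu hdP huQu (hPN hdP) huN
    -- `d u d⁻¹ = u`, so `u d u⁻¹ = d`
    have h2 : u * d * u⁻¹ = d := by
      calc u * d * u⁻¹ = (d * u * d⁻¹) * d * u⁻¹ := by rw [h1]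
        _ = d := by group
    apply hd1
    apply h.eq_one_of_sq (isPEl_of_mem_sylow P hdP)
    calc d * d = d * (u * d * u⁻¹) := by rw [h2]
      _ = d * d⁻¹ := by rw [hinv]
      _ = 1 := mul_inv_cancel d
  · push Not at hfp
    have hfp' : ∀ x ∈ (P : Subgroup G), u * x = x * u → x = 1 := by
      intro x hx hux
      by_contra hx1
      exact hfp x hx hx1 hux
    have hinvc := h.inverts_of_fpf P.isPGroup' hu huN hfp' hcP
    have huNc := mem_normalizer_zpowers_of_inverts hinvc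
    have huNQ := h.normalizer_zpowers_le Q hc hc1 hcQ huNc
    have huQ : u ∈ (Q : Subgroup G) := mem_sylow_of_pEl Q huNQ (h.isPEl_two_of_involution hu)
    have hcomm := (Subgroup.mem_centralizer_iff.mp hcQ) u huQ
    apply hc1
    apply h.eq_one_of_sq hc
    have h2 : u * c * u⁻¹ = c := by rw [hcomm, mul_inv_cancel_right]
    calc c * c = c * (u * c * u⁻¹) := by rw [h2]
      _ = c * c⁻¹ := by rw [hinvc]
      _ = 1 := mul_inv_cancel c

end MC

end Cfsg.Agent.Lib.H21.Mix
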