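import Mathlib
import Cfsg.Agent.Lib.H21.MixH

/-!
# S4017: case B, a nontrivial `p`-element commuting with an involution (helper21)
-/

set_option autoImplicit false

namespace Cfsg.Agent.Lib.H21.Mix

open Cfsg.Agent.Lib.H21.Cyc Cfsg.Agent.Lib.L0 Cfsg.Agent.Lib.H21.InvFriend
open scoped Pointwise

universe u

/-- case B: no nontrivial `p`-element centralizes a Sylow `2`-subgroup. -/
def HB (p : ℕ) (G : Type u) [Group G] : Prop :=
  ∀ Q : Sylow 2 G, ∀ c : G, IsPEl p c → c ∈ Subgroup.centralizer ((Q : Subgroup G) : Set G) → c = 1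

/-- the configuration of case B1. -/
structure B1 (p : ℕ) (G : Type u) [Group G] (u₀ : G) (Q : Sylow 2 G) (L : Subgroup G)
    (P₁ : Sylow p G) : Prop where
  hu₀ : orderOf u₀ = 2
  hu₀Q : u₀ ∈ (Q : Subgroup G)
  hLC : L ≤ Subgroup.centralizer {u₀}
  hCL : Subgroup.centralizer {u₀} ≤ Subgroup.normalizer (L : Set G)
  hLp : IsPGroup p L
  hall : ∀ x ∈ Subgroup.centralizer {u₀}, IsPEl p x → x ∈ L
  hL1 : L ≠ ⊥
  hLP : L ≤ (P₁ : Subgroup G)

theorem isPEl_of_mem_pgroup {p : ℕ} [Fact p.Prime] {G : Type u} [Group G] {R : Subgroup G}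
    (hR : IsPGroup p R) {x : G} (hx : x ∈ R) : IsPEl p x := by
  obtain ⟨n, hn⟩ := hR ⟨x, hx⟩
  have h1 : orderOf x ∣ p ^ n := by
    apply orderOf_dvd_of_pow_eq_one
    have := congrArg Subtype.val hn
    simpa using this
  obtain ⟨j, _, hj⟩ := (Nat.dvd_prime_pow Fact.out).mp h1
  exact ⟨j, hj⟩

namespace MC

variable {p a : ℕ} {G : Type u} [Group G] [Finite G]

/-- in case B, a nontrivial `p`-element commuting with an involution lies in a unique Sylow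
`p`-subgroup `P`, and `N(⟨x⟩) ≤ N(P)`. -/
theorem sylow_of_commuting (h : MC p a G) (hB : HB p G) {x v : G} (hx : IsPEl p x) (hx1 : x ≠ 1)
    (hv : orderOf v = 2) (hvx : v * x = x * v) (P : Sylow p G) (hxP : x ∈ (P : Subgroup G)) :
    Subgroup.normalizer ((Subgroup.zpowers x : Subgroup G) : Set G) ≤
      Subgroup.normalizer ((P : Subgroup G) : Set G) ∧
    ∀ P' : Sylow p G, x ∈ (P' : Subgroup G) → P' = P := by
  have hvN : v ∈ Subgroup.normalizer ((Subgroup.zpowers x : Subgroup G) : Set G) := by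
    apply centralizer_le_normalizer_zpowers x
    rw [Subgroup.mem_centralizer_singleton_iff]; exact hvx
  have hTP := h.tp_normalizer_p (h.zpowers_isPGroup hx)
    (by rw [Ne, Subgroup.zpowers_eq_bot]; exact hx1) hv hvN
  rcases h.dichotomy hTP with hI | ⟨T, hTH, hHT⟩
  · exact h.sylow_of_typeI hI P hxP
  · exact absurd (hB T x hx (h.centralizes_of_typeII hx T hTH hHT)) hx1

/-- the configuration of case B1 exists as soon as a nontrivial `p`-element commutes with an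
involution. -/
theorem exists_B1 (h : MC p a G) (hB : HB p G) {u₀ c : G} (hu₀ : orderOf u₀ = 2)
    (hc : IsPEl p c) (hc1 : c ≠ 1) (hcomm : u₀ * c = c * u₀) :
    ∃ (Q : Sylow 2 G) (L : Subgroup G) (P₁ : Sylow p G), B1 p G u₀ Q L P₁ := by
  haveI : Fact p.Prime := ⟨h.hp⟩
  haveI : Fact (Nat.Prime 2) := ⟨Nat.prime_two⟩
  obtain ⟨Q, hu₀Q⟩ := exists_mem_sylow (h.isPEl_two_of_involution hu₀)
  have hcC : c ∈ Subgroup.centralizer {u₀} := by
    rw [Subgroup.mem_centralizer_singleton_iff]; exact hcomm.symm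
  have hQC : (Q : Subgroup G) ≤ Subgroup.centralizer {u₀} := by
    intro s hs
    rw [Subgroup.mem_centralizer_singleton_iff]
    exact h.comm2 Q hs hu₀Q
  rcases h.dichotomy (h.tp_centralizer hu₀) with ⟨L, hLC, hCL, hLp, hLall⟩ | ⟨T, -, hHT⟩
  · obtain ⟨P₁, hP₁⟩ := hLp.exists_le_sylow
    refine ⟨Q, L, P₁, hu₀, hu₀Q, hLC, hCL, hLp, hLall, ?_, hP₁⟩
    intro hb
    have := hLall c hcC hc
    rw [hb, Subgroup.mem_bot] at this
    exact hc1 this
  · exfalso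
    have hQT := h.sylow_two_le_of_le_normalizer Q T (hQC.trans hHT)
    have hcN : c ∈ Subgroup.normalizer ((Q : Subgroup G) : Set G) := by
      rw [hQT]; exact hHT hcC
    have hfix : c * u₀ * c⁻¹ = u₀ := by rw [← hcomm, mul_inv_cancel_right]
    exact hc1 (hB Q c hc (h.centralizes_of_fix Q hcN hc hu₀Q (inv_ne_one hu₀) hfix))

end MC

namespace B1

variable {p a : ℕ} {G : Type u} [Group G] [Finite G] {u₀ : G} {Q : Sylow 2 G} {L : Subgroup G}
  {P₁ : Sylow p G}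

theorem Q_le_C (d : B1 p G u₀ Q L P₁) (h : MC p a G) :
    (Q : Subgroup G) ≤ Subgroup.centralizer {u₀} := by
  intro s hs
  rw [Subgroup.mem_centralizer_singleton_iff]
  exact h.comm2 Q hs d.hu₀Q

/-- elements of `P₁` commuting with an involution determine `P₁`. -/
theorem eq_of_mem (_d : B1 p G u₀ Q L P₁) (h : MC p a G) (hB : HB p G) {x v : G}
    (hx : x ∈ (P₁ : Subgroup G)) (hx1 : x ≠ 1) (hv : orderOf v = 2) (hvx : v * x = x * v)
    (P' : Sylow p G) (hxP' : x ∈ (P' : Subgroup G)) : P' = P₁ := by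
  haveI : Fact p.Prime := ⟨h.hp⟩
  exact (h.sylow_of_commuting hB (isPEl_of_mem_sylow P₁ hx) hx1 hv hvx P₁ hx).2 P' hxP'

theorem exists_c (d : B1 p G u₀ Q L P₁) : ∃ c ∈ L, c ≠ 1 := by
  by_contra hcon
  push Not at hcon
  apply d.hL1
  rw [Subgroup.eq_bot_iff_forall]
  exact hcon

/-- `Q` normalizes `P₁`. -/
theorem Q_le_N (d : B1 p G u₀ Q L P₁) (h : MC p a G) (hB : HB p G) :
    (Q : Subgroup G) ≤ Subgroup.normalizer ((P₁ : Subgroup G) : Set G) := by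
  haveI : Fact p.Prime := ⟨h.hp⟩
  obtain ⟨c, hcL, hc1⟩ := d.exists_c
  intro t ht
  have htN : t ∈ Subgroup.normalizer (L : Set G) := d.hCL (d.Q_le_C h ht)
  have h1 : t * c * t⁻¹ ∈ L := (Subgroup.mem_set_normalizer_iff.mp htN c).mp hcL
  have h2 : t * c * t⁻¹ ∈ ((t • P₁ : Sylow p G) : Subgroup G) :=
    conj_mem_smul_sylow P₁ t (d.hLP hcL)
  have h3 : u₀ * (t * c * t⁻¹) = (t * c * t⁻¹) * u₀ :=
    (Subgroup.mem_centralizer_singleton_iff.mp (d.hLC h1)).symm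
  have h4 := d.eq_of_mem h hB (d.hLP h1) (MC.conj_ne_one hc1 t) d.hu₀ h3 (t • P₁) h2
  exact Sylow.smul_eq_iff_mem_normalizer.mp h4

/-- (Z) an involution of `Q` other than `u₀` acts fixed-point-freely on `P₁`. -/
theorem false_of_commute (d : B1 p G u₀ Q L P₁) (h : MC p a G) (hB : HB p G) {w x : G}
    (hw : w ∈ (Q : Subgroup G)) (hw1 : w ≠ 1) (hwu : w ≠ u₀) (hx : x ∈ (P₁ : Subgroup G))
    (hx1 : x ≠ 1) (hwx : w * x = x * w) : False := by
  haveI : Fact p.Prime := ⟨h.hp⟩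
  haveI : Fact (Nat.Prime 2) := ⟨Nat.prime_two⟩
  have hp := h.hp
  obtain ⟨z, hzN, hzp, hzpC, hfix⟩ := h.exists_z Q
  have hzp1 : z ^ p = 1 :=
    hB Q (z ^ p) (hzp.of_mem_zpowers (Subgroup.pow_mem _ (Subgroup.mem_zpowers z) p)) hzpC
  obtain ⟨i, hi⟩ := h.exists_pow_conj Q hzN hzpC hfix d.hu₀Q (inv_ne_one d.hu₀) hw hw1
  obtain ⟨g, hg⟩ : ∃ g, g = z ^ i := ⟨_, rfl⟩
  rw [← hg] at hi
  have hgp : IsPEl p g := by
    rw [hg]; exact hzp.of_mem_zpowers (Subgroup.pow_mem _ (Subgroup.mem_zpowers z) i)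
  have hxp : IsPEl p x := isPEl_of_mem_sylow P₁ hx
  have hc'p : IsPEl p (g⁻¹ * x * g) := by
    have := hxp.conj g⁻¹
    rwa [inv_inv] at this
  have hc'C : g⁻¹ * x * g ∈ Subgroup.centralizer {u₀} := by
    rw [Subgroup.mem_centralizer_singleton_iff]
    calc (g⁻¹ * x * g) * u₀ = g⁻¹ * (x * (g * u₀ * g⁻¹)) * g := by group
      _ = g⁻¹ * ((g * u₀ * g⁻¹) * x) * g := by rw [← hi, hwx]
      _ = u₀ * (g⁻¹ * x * g) := by group
  have hc'L := d.hall _ hc'C hc'p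
  have hxg : x ∈ ((g • P₁ : Sylow p G) : Subgroup G) := by
    have := conj_mem_smul_sylow P₁ g (d.hLP hc'L)
    have e : g * (g⁻¹ * x * g) * g⁻¹ = x := by group
    rwa [e] at this
  have h4 := d.eq_of_mem h hB hx hx1 (h.orderOf_eq_two Q hw hw1) hwx (g • P₁) hxg
  have hgN : g ∈ Subgroup.normalizer ((P₁ : Subgroup G) : Set G) :=
    Sylow.smul_eq_iff_mem_normalizer.mp h4
  have hgP : g ∈ (P₁ : Subgroup G) := mem_sylow_of_pEl P₁ hgN hgp
  have hcop : i.Coprime p := by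
    apply Nat.Coprime.symm
    rw [Nat.Prime.coprime_iff_not_dvd hp]
    rintro ⟨j, rfl⟩
    apply hwu
    rw [hi, hg, pow_mul, hzp1, one_pow, one_mul, inv_one, mul_one]
  have hzP : z ∈ (P₁ : Subgroup G) :=
    mem_of_pow_coprime_mem _ hp.one_lt hcop (hg ▸ hgP) (by rw [hzp1]; exact Subgroup.one_mem _)
  apply h.sylow_two_ne_bot Q
  rw [Subgroup.eq_bot_iff_forall]
  intro t ht
  exact hfix t ht
    (h.commute_of_normalizes_each P₁.isPGroup' Q hzP ht hzN (d.Q_le_N h hB ht))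

/-- case B1 is impossible when `a ≥ 3`. -/
theorem false_of_three_le (d : B1 p G u₀ Q L P₁) (h : MC p a G) (hB : HB p G) (ha : 3 ≤ a) :
    False := by
  classical
  haveI : Fact p.Prime := ⟨h.hp⟩
  have hcard : 8 ≤ Nat.card (Q : Subgroup G) := by
    rw [h.bad.card_sylow Q]
    calc 8 = 2 ^ 3 := by norm_num
      _ ≤ 2 ^ a := Nat.pow_le_pow_right (by norm_num) ha
  obtain ⟨w₁, hw₁, hw₁n⟩ := exists_mem_not_mem_of_card_lt (Q : Subgroup G) {1, u₀}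
    (lt_of_le_of_lt (Finset.card_le_two) (by omega))
  obtain ⟨w₂, hw₂, hw₂n⟩ := exists_mem_not_mem_of_card_lt (Q : Subgroup G) {1, u₀, w₁, u₀ * w₁}
    (lt_of_le_of_lt (Finset.card_le_four) (by omega))
  simp only [Finset.mem_insert, Finset.mem_singleton, not_or] at hw₁n hw₂n
  obtain ⟨hw₁1, hw₁u⟩ := hw₁n
  obtain ⟨hw₂1, hw₂u, hw₂w, hw₂uw⟩ := hw₂n
  have hsq₁ := h.sq_eq_one Q hw₁
  have hw₃ : w₁ * w₂ ∈ (Q : Subgroup G) := Subgroup.mul_mem _ hw₁ hw₂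
  have hw₃1 : w₁ * w₂ ≠ 1 := by
    intro h1
    apply hw₂w
    calc w₂ = (w₁ * w₁) * w₂ := by rw [hsq₁, one_mul]
      _ = w₁ * (w₁ * w₂) := by group
      _ = w₁ := by rw [h1, mul_one]
  have hw₃u : w₁ * w₂ ≠ u₀ := by
    intro h1
    apply hw₂uw
    calc w₂ = (w₁ * w₁) * w₂ := by rw [hsq₁, one_mul]
      _ = w₁ * (w₁ * w₂) := by group
      _ = w₁ * u₀ := by rw [h1]
      _ = u₀ * w₁ := h.comm2 Q hw₁ d.hu₀Q
  have hfpf : ∀ w ∈ (Q : Subgroup G), w ≠ 1 → w ≠ u₀ → ∀ x ∈ L, w * x = x * w → x = 1 := by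
    intro w hw hw1 hwu x hx hwx
    by_contra hx1
    exact d.false_of_commute h hB hw hw1 hwu (d.hLP hx) hx1 hwx
  have hinv : ∀ w ∈ (Q : Subgroup G), w ≠ 1 → w ≠ u₀ → ∀ c ∈ L, w * c * w⁻¹ = c⁻¹ := by
    intro w hw hw1 hwu c hc
    exact h.inverts_of_fpf d.hLp (h.orderOf_eq_two Q hw hw1) (d.hCL (d.Q_le_C h hw))
      (hfpf w hw hw1 hwu) hc
  obtain ⟨c, hcL, hc1⟩ := d.exists_c
  have h1 := hinv w₁ hw₁ hw₁1 hw₁u c hcL
  have h2 := hinv w₂ hw₂ hw₂1 hw₂u c hcL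
  have h3 := hinv (w₁ * w₂) hw₃ hw₃1 hw₃u c hcL
  have h4 : (w₁ * w₂) * c * (w₁ * w₂)⁻¹ = c := by
    calc (w₁ * w₂) * c * (w₁ * w₂)⁻¹ = w₁ * (w₂ * c * w₂⁻¹) * w₁⁻¹ := by group
      _ = (w₁ * c * w₁⁻¹)⁻¹ := by rw [h2]; group
      _ = c := by rw [h1, inv_inv]
  apply hc1
  apply h.eq_one_of_sq (isPEl_of_mem_pgroup d.hLp hcL)
  calc c * c = c * ((w₁ * w₂) * c * (w₁ * w₂)⁻¹) := by rw [h4]
    _ = c * c⁻¹ := by rw [h3]
    _ = 1 := mul_inv_cancel c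

end B1

end Cfsg.Agent.Lib.H21.Mix
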