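import Mathlib
import Cfsg.Agent.Lib.H21.MixI
import Cfsg.Agent.S4018

/-!
# S4017: case B1 with `a = 2`, reduction to S4018 (helper21)
-/

set_option autoImplicit false

namespace Cfsg.Agent.Lib.H21.Mix

open Cfsg.Agent.Lib.H21.Cyc Cfsg.Agent.Lib.L0 Cfsg.Agent.Lib.H21.InvFriend
open scoped Pointwise

universe u

namespace B1

variable {G : Type u} [Group G] [Finite G] {u₀ : G} {Q : Sylow 2 G} {L : Subgroup G}
  {P₁ : Sylow 3 G}

/-- when `a = 2`, the involution `u₀` centralizes `P₁` while the other involutions of `Q`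
invert it. -/
theorem exists_v (d : B1 3 G u₀ Q L P₁) (h : MC 3 2 G) (hB : HB 3 G) :
    ∃ v ∈ (Q : Subgroup G), orderOf v = 2 ∧
      (∀ x ∈ (P₁ : Subgroup G), v * x * v⁻¹ = x⁻¹) ∧
      (∀ x ∈ (P₁ : Subgroup G), u₀ * x = x * u₀) := by
  classical
  have hcard : Nat.card (Q : Subgroup G) = 4 := by
    rw [h.bad.card_sylow Q]; norm_num
  obtain ⟨v, hv, hvn⟩ := exists_mem_not_mem_of_card_lt (Q : Subgroup G) {1, u₀}
    (lt_of_le_of_lt (Finset.card_le_two) (by omega))
  simp only [Finset.mem_insert, Finset.mem_singleton, not_or] at hvn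
  obtain ⟨hv1, hvu⟩ := hvn
  have hsqv := h.sq_eq_one Q hv
  have hsqu := inv_mul_self d.hu₀
  have hv' : u₀ * v ∈ (Q : Subgroup G) := Subgroup.mul_mem _ d.hu₀Q hv
  have hv'1 : u₀ * v ≠ 1 := by
    intro h1
    apply hvu
    calc v = (u₀ * u₀) * v := by rw [hsqu, one_mul]
      _ = u₀ * (u₀ * v) := by group
      _ = u₀ := by rw [h1, mul_one]
  have hv'u : u₀ * v ≠ u₀ := by
    intro h1
    apply hv1
    calc v = u₀⁻¹ * (u₀ * v) := by group
      _ = 1 := by rw [h1]; group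
  have hinv : ∀ w ∈ (Q : Subgroup G), w ≠ 1 → w ≠ u₀ →
      ∀ c ∈ (P₁ : Subgroup G), w * c * w⁻¹ = c⁻¹ := by
    intro w hw hw1 hwu c hc
    refine h.inverts_of_fpf P₁.isPGroup' (h.orderOf_eq_two Q hw hw1) (d.Q_le_N h hB hw) ?_ hc
    intro x hx hwx
    by_contra hx1
    exact d.false_of_commute h hB hw hw1 hwu hx hx1 hwx
  refine ⟨v, hv, h.orderOf_eq_two Q hv hv1, hinv v hv hv1 hvu, ?_⟩
  intro x hx
  have h1 := hinv v hv hv1 hvu x hx
  have h2 := hinv (u₀ * v) hv' hv'1 hv'u x⁻¹ (Subgroup.inv_mem _ hx)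
  have h3 : u₀ * x * u₀⁻¹ = x := by
    calc u₀ * x * u₀⁻¹ = (u₀ * v) * (v⁻¹ * x * v) * (u₀ * v)⁻¹ := by group
      _ = (u₀ * v) * (v * x * v⁻¹) * (u₀ * v)⁻¹ := by
          rw [inv_inv_eq (h.orderOf_eq_two Q hv hv1)]
      _ = x := by rw [h1, h2, inv_inv]
  calc u₀ * x = (u₀ * x * u₀⁻¹) * u₀ := by group
    _ = x * u₀ := by rw [h3]

/-- case B1 is impossible when `a = 2`: this is the configuration of S4018. -/
theorem false_of_eq_two (d : B1 3 G u₀ Q L P₁) (h : MC 3 2 G) (hB : HB 3 G) : False := by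
  haveI : Fact (Nat.Prime 3) := ⟨Nat.prime_three⟩
  haveI : Fact (Nat.Prime 2) := ⟨Nat.prime_two⟩
  obtain ⟨v, hvQ, hv, hvinv, hu₀c⟩ := d.exists_v h hB
  have hu₀ := d.hu₀
  -- `L = P₁`
  have hPC : (P₁ : Subgroup G) ≤ Subgroup.centralizer {u₀} := by
    intro x hx
    rw [Subgroup.mem_centralizer_singleton_iff]
    exact (hu₀c x hx).symm
  have hLeq : L = (P₁ : Subgroup G) :=
    le_antisymm d.hLP (fun x hx => d.hall x (hPC hx) (isPEl_of_mem_sylow P₁ hx))
  have hCN : Subgroup.centralizer {u₀} ≤ Subgroup.normalizer ((P₁ : Subgroup G) : Set G) := by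
    rw [← hLeq]; exact d.hCL
  have hP1 : (P₁ : Subgroup G) ≠ ⊥ := by rw [← hLeq]; exact d.hL1
  obtain ⟨x₀, hx₀, hx₀1⟩ : ∃ x ∈ (P₁ : Subgroup G), x ≠ 1 := by
    by_contra hcon
    push Not at hcon
    exact hP1 ((Subgroup.eq_bot_iff_forall _).mpr hcon)
  have hu₀N : u₀ ∈ Subgroup.normalizer ((P₁ : Subgroup G) : Set G) :=
    hCN (Subgroup.mem_centralizer_singleton_iff.mpr rfl)
  have hTPN := h.tp_normalizer_p P₁.isPGroup' hP1 hu₀ hu₀N
  have hcP : Nat.card (P₁ : Subgroup G) = 3 ^ (Nat.card G).factorization 3 :=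
    Sylow.card_eq_multiplicity P₁
  have hcQ : Nat.card (Q : Subgroup G) = 4 := by rw [h.bad.card_sylow Q]; norm_num
  have hv2G : (Nat.card G).factorization 2 = 2 := h.bad.ha
  -- a general bound for `{2,3}`-subgroups
  have hbound : ∀ H : Subgroup G, TP 3 H → Nat.card H ∣ 4 * Nat.card (P₁ : Subgroup G) := by
    intro H hH
    have hcH := eq_pow_mul_pow (by norm_num : (3 : ℕ) ≠ 2) (Nat.card_pos (α := H)).ne' hH
    have hdvd : Nat.card H ∣ Nat.card G := Subgroup.card_subgroup_dvd_card H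
    have hle := (Nat.factorization_le_iff_dvd Nat.card_pos.ne' Nat.card_pos.ne').mpr hdvd
    have h2 : (Nat.card H).factorization 2 ≤ 2 := by
      have := hle 2
      rwa [hv2G] at this
    have h3 := hle 3
    rw [hcH, hcP]
    exact Nat.mul_dvd_mul (by
      calc 2 ^ (Nat.card H).factorization 2 ∣ 2 ^ 2 := pow_dvd_pow 2 h2
        _ = 4 := by norm_num) (pow_dvd_pow 3 h3)
  -- `|N(P₁)| = 4 |P₁|`
  have hN : Nat.card (Subgroup.normalizer ((P₁ : Subgroup G) : Set G)) =
      4 * Nat.card (P₁ : Subgroup G) := by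
    apply Nat.dvd_antisymm (hbound _ hTPN)
    apply Nat.Coprime.mul_dvd_of_dvd_of_dvd
    · rw [hcP]
      exact Nat.Coprime.pow_right _ (by norm_num)
    · rw [← hcQ]; exact Subgroup.card_dvd_of_le (d.Q_le_N h hB)
    · exact Subgroup.card_dvd_of_le Subgroup.le_normalizer
  -- `C(P₁)`
  have hPleC : (P₁ : Subgroup G) ≤ Subgroup.centralizer ((P₁ : Subgroup G) : Set G) := by
    intro x hx
    rw [Subgroup.mem_centralizer_iff]
    intro y hy
    exact h.abel P₁ hy hx
  have hu₀C : u₀ ∈ Subgroup.centralizer ((P₁ : Subgroup G) : Set G) := by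
    rw [Subgroup.mem_centralizer_iff]
    intro y hy
    exact (hu₀c y hy).symm
  have hvC : v ∉ Subgroup.centralizer ((P₁ : Subgroup G) : Set G) := by
    intro hvC
    have h1 := (Subgroup.mem_centralizer_iff.mp hvC) x₀ hx₀
    have h2 := hvinv x₀ hx₀
    apply hx₀1
    apply h.eq_one_of_sq (isPEl_of_mem_sylow P₁ hx₀)
    have h3 : v * x₀ * v⁻¹ = x₀ := by rw [← h1, mul_inv_cancel_right]
    calc x₀ * x₀ = x₀ * (v * x₀ * v⁻¹) := by rw [h3]
      _ = x₀ * x₀⁻¹ := by rw [h2]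
      _ = 1 := mul_inv_cancel x₀
  have hCleN : Subgroup.centralizer ((P₁ : Subgroup G) : Set G) ≤
      Subgroup.normalizer ((P₁ : Subgroup G) : Set G) := Subgroup.centralizer_le_normalizer _
  have hC : Nat.card (Subgroup.centralizer ((P₁ : Subgroup G) : Set G)) =
      2 * Nat.card (P₁ : Subgroup G) := by
    have h1 : 2 * Nat.card (P₁ : Subgroup G) ∣
        Nat.card (Subgroup.centralizer ((P₁ : Subgroup G) : Set G)) := by
      apply Nat.Coprime.mul_dvd_of_dvd_of_dvd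
      · rw [hcP]
        exact Nat.Coprime.pow_right _ (by norm_num)
      · rw [← hu₀]; exact Subgroup.orderOf_dvd_natCard _ hu₀C
      · exact Subgroup.card_dvd_of_le hPleC
    have h2 : Nat.card (Subgroup.centralizer ((P₁ : Subgroup G) : Set G)) ∣
        4 * Nat.card (P₁ : Subgroup G) := by
      rw [← hN]; exact Subgroup.card_dvd_of_le hCleN
    obtain ⟨m, hm⟩ := h1
    have hpos : 0 < Nat.card (P₁ : Subgroup G) := Nat.card_pos
    have hm2 : m ∣ 2 := by
      rw [hm] at h2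
      have h3 : 2 * Nat.card (P₁ : Subgroup G) * m ∣ 2 * Nat.card (P₁ : Subgroup G) * 2 := by
        have e : 4 * Nat.card (P₁ : Subgroup G) = 2 * Nat.card (P₁ : Subgroup G) * 2 := by ring
        rwa [e] at h2
      exact (Nat.mul_dvd_mul_iff_left (by positivity)).mp h3
    rcases (Nat.dvd_prime Nat.prime_two).mp hm2 with hm1 | hm1
    · rw [hm, hm1, mul_one]
    · exfalso
      apply hvC
      have heq : Subgroup.centralizer ((P₁ : Subgroup G) : Set G) =
          Subgroup.normalizer ((P₁ : Subgroup G) : Set G) := by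
        apply Subgroup.eq_of_le_of_card_ge hCleN
        rw [hN, hm, hm1]; omega
      rw [heq]
      exact d.Q_le_N h hB hvQ
  -- uniqueness of the involution of `C(P₁)`
  have huniq : ∀ t ∈ Subgroup.centralizer ((P₁ : Subgroup G) : Set G), orderOf t = 2 → t = u₀ := by
    intro t htC hto
    have hidx : ((P₁ : Subgroup G).subgroupOf
        (Subgroup.centralizer ((P₁ : Subgroup G) : Set G))).index = 2 := by
      have h1 := Cfsg.Agent.S4018.card_eq_card_mul_relIndex' hPleC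
      rw [hC] at h1
      have hpos : 0 < Nat.card (P₁ : Subgroup G) := Nat.card_pos
      have h2 : Nat.card (P₁ : Subgroup G) * 2 = Nat.card (P₁ : Subgroup G) *
          (P₁ : Subgroup G).relIndex (Subgroup.centralizer ((P₁ : Subgroup G) : Set G)) := by
        rw [← h1]; ring
      exact (Nat.eq_of_mul_eq_mul_left hpos h2).symm
    have htP : t ∉ (P₁ : Subgroup G) := fun hh =>
      h.not_isPEl_of_involution hto (isPEl_of_mem_sylow P₁ hh)
    have huP : u₀ ∉ (P₁ : Subgroup G) := fun hh =>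
      h.not_isPEl_of_involution hu₀ (isPEl_of_mem_sylow P₁ hh)
    have hmem : (⟨t, htC⟩ * ⟨u₀, hu₀C⟩ : Subgroup.centralizer ((P₁ : Subgroup G) : Set G)) ∈
        (P₁ : Subgroup G).subgroupOf (Subgroup.centralizer ((P₁ : Subgroup G) : Set G)) := by
      rw [Subgroup.mul_mem_iff_of_index_two hidx, Subgroup.mem_subgroupOf, Subgroup.mem_subgroupOf]
      exact ⟨fun hh => absurd hh htP, fun hh => absurd hh huP⟩
    rw [Subgroup.mem_subgroupOf] at hmem
    have hy : t * u₀ ∈ (P₁ : Subgroup G) := hmem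
    have hcomm : u₀ * (t * u₀) = (t * u₀) * u₀ := hu₀c _ hy
    have hsq : (t * u₀) * (t * u₀) = 1 := by
      calc (t * u₀) * (t * u₀) = t * (u₀ * (t * u₀)) := by group
        _ = t * ((t * u₀) * u₀) := by rw [hcomm]
        _ = (t * t) * (u₀ * u₀) := by group
        _ = 1 := by rw [inv_mul_self hto, inv_mul_self hu₀, one_mul]
    have h1 := h.eq_one_of_sq (isPEl_of_mem_sylow P₁ hy) hsq
    calc t = (t * u₀) * u₀⁻¹ := by group
      _ = u₀ := by rw [h1, one_mul, inv_inv_eq hu₀]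
  -- `N(P₁) ≤ N(C(P₁))`
  have hNNC : Subgroup.normalizer ((P₁ : Subgroup G) : Set G) ≤ Subgroup.normalizer
      ((Subgroup.centralizer ((P₁ : Subgroup G) : Set G) : Subgroup G) : Set G) := by
    intro g hg
    apply mem_normalizer_of_conj_mem'
    intro y hy
    rw [Subgroup.mem_centralizer_iff]
    intro t ht
    have ht' : g⁻¹ * t * g⁻¹⁻¹ ∈ (P₁ : Subgroup G) :=
      (Subgroup.mem_set_normalizer_iff.mp (Subgroup.inv_mem _ hg) t).mp ht
    have h1 := (Subgroup.mem_centralizer_iff.mp hy) _ ht'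
    calc t * (g * y * g⁻¹) = g * ((g⁻¹ * t * g⁻¹⁻¹) * y) * g⁻¹ := by group
      _ = g * (y * (g⁻¹ * t * g⁻¹⁻¹)) * g⁻¹ := by rw [h1]
      _ = g * y * g⁻¹ * t := by group
  -- the TI property
  have hTI : Cfsg.IsTISubset
      ((Subgroup.centralizer ((P₁ : Subgroup G) : Set G) : Subgroup G) : Set G) := by
    intro g hg x hx hgx
    by_contra hx1
    apply hg
    apply hNNC
    have hxC : x ∈ Subgroup.centralizer ((P₁ : Subgroup G) : Set G) := hx
    have hgxC : g * x * g⁻¹ ∈ Subgroup.centralizer ((P₁ : Subgroup G) : Set G) := hgx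
    by_cases hodd : (orderOf x).Coprime 2
    · have hxp : IsPEl 3 x := hTPN.isPEl_of_odd (hCleN hxC) hodd
      have hxP : x ∈ (P₁ : Subgroup G) := mem_sylow_of_pEl P₁ (hCleN hxC) hxp
      have hgxP : g * x * g⁻¹ ∈ (P₁ : Subgroup G) :=
        mem_sylow_of_pEl P₁ (hCleN hgxC) (hxp.conj g)
      have h1 := d.eq_of_mem h hB hgxP (MC.conj_ne_one hx1 g) hu₀ (hu₀c _ hgxP) (g • P₁)
        (conj_mem_smul_sylow P₁ g hxP)
      exact Sylow.smul_eq_iff_mem_normalizer.mp h1
    · have h2 : 2 ∣ orderOf x := by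
        by_contra hnd
        exact hodd ((Nat.Prime.coprime_iff_not_dvd Nat.prime_two).mpr hnd).symm
      have hto : orderOf (x ^ (orderOf x / 2)) = 2 :=
        orderOf_pow_orderOf_div (orderOf_pos x).ne' h2
      have ht1 := huniq _ (Subgroup.pow_mem _ hxC _) hto
      have hto' : orderOf ((g * x * g⁻¹) ^ (orderOf x / 2)) = 2 := by
        rw [conj_pow, orderOf_conj', hto]
      have ht2 := huniq _ (Subgroup.pow_mem _ hgxC _) hto'
      rw [conj_pow, ht1] at ht2
      apply hCN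
      rw [Subgroup.mem_centralizer_singleton_iff]
      calc g * u₀ = (g * u₀ * g⁻¹) * g := by group
        _ = u₀ * g := by rw [ht2]
  -- S4018
  have hab : IsMulCommutative P₁ := ⟨⟨fun x y => Subtype.ext (h.abel P₁ x.2 y.2)⟩⟩
  have heven : ∀ H : Subgroup G, H ≠ ⊤ → 2 ∣ Nat.card H → Nat.card H ∣ 4 * Nat.card P₁ :=
    fun H hH h2 => hbound H (h.star H hH h2)
  exact Cfsg.Agent.S4018.result P₁ hab hN hC hTI heven h.simple

end B1

end Cfsg.Agent.Lib.H21.Mix
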