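import Mathlib
import Cfsg.Agent.Lib.H21.MixI
import Cfsg.Agent.Lib.H21.ClassSize

/-!
# S4017: case B0, structure (helper21)

No nontrivial `p`-element commutes with an involution.
-/

set_option autoImplicit false

namespace Cfsg.Agent.Lib.H21.Mix

open Cfsg.Agent.Lib.H21.Cyc Cfsg.Agent.Lib.L0 Cfsg.Agent.Lib.H21.InvFriend
open scoped Pointwise

universe u

/-- case B0: no nontrivial `p`-element commutes with an involution. -/
def HB0 (p : ℕ) (G : Type u) [Group G] : Prop :=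
  ∀ u c : G, orderOf u = 2 → IsPEl p c → u * c = c * u → c = 1

namespace MC

variable {p a : ℕ} {G : Type u} [Group G] [Finite G]

/-- in case B0 the centralizer of an involution is the Sylow `2`-subgroup containing it. -/
theorem centralizer_eq (h : MC p a G) (h0 : HB0 p G) {u : G} (hu : orderOf u = 2)
    (Q : Sylow 2 G) (huQ : u ∈ (Q : Subgroup G)) :
    Subgroup.centralizer {u} = (Q : Subgroup G) := by
  haveI : Fact p.Prime := ⟨h.hp⟩
  haveI : Fact (Nat.Prime 2) := ⟨Nat.prime_two⟩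
  have hQC : (Q : Subgroup G) ≤ Subgroup.centralizer {u} := by
    intro s hs
    rw [Subgroup.mem_centralizer_singleton_iff]
    exact h.comm2 Q hs huQ
  have hnp : ¬ p ∣ Nat.card (Subgroup.centralizer {u}) := by
    intro hdvd
    obtain ⟨x, hx⟩ := exists_prime_orderOf_dvd_card' (G := Subgroup.centralizer {u}) p hdvd
    have hxo : orderOf (x : G) = p := by rw [Subgroup.orderOf_coe]; exact hx
    have hcomm : u * (x : G) = (x : G) * u :=
      (Subgroup.mem_centralizer_singleton_iff.mp x.2).symm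
    have h1 := h0 u x hu ⟨1, by rw [hxo, pow_one]⟩ hcomm
    rw [h1, orderOf_one] at hxo
    exact h.hp.one_lt.ne hxo
  have hC2 : IsPGroup 2 (Subgroup.centralizer {u}) :=
    (h.tp_centralizer hu).isPGroup_two le_rfl hnp
  exact Q.is_maximal' hC2 hQC

theorem centralizer_comm (h : MC p a G) (h0 : HB0 p G) {t x y : G} (ht : orderOf t = 2)
    (hx : x * t = t * x) (hy : y * t = t * y) : x * y = y * x := by
  haveI : Fact (Nat.Prime 2) := ⟨Nat.prime_two⟩
  obtain ⟨Q, htQ⟩ := exists_mem_sylow (h.isPEl_two_of_involution ht)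
  have hC := h.centralizer_eq h0 ht Q htQ
  have hxQ : x ∈ (Q : Subgroup G) := by
    rw [← hC, Subgroup.mem_centralizer_singleton_iff]; exact hx
  have hyQ : y ∈ (Q : Subgroup G) := by
    rw [← hC, Subgroup.mem_centralizer_singleton_iff]; exact hy
  exact h.comm2 Q hxQ hyQ

theorem card_centralizer (h : MC p a G) (h0 : HB0 p G) {u : G} (hu : orderOf u = 2) :
    Nat.card (Subgroup.centralizer {u}) = 2 ^ a := by
  haveI : Fact (Nat.Prime 2) := ⟨Nat.prime_two⟩
  obtain ⟨Q, huQ⟩ := exists_mem_sylow (h.isPEl_two_of_involution hu)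
  rw [h.centralizer_eq h0 hu Q huQ]
  exact h.bad.card_sylow Q

/-- in case B0 the product of two non-commuting involutions is a nontrivial `p`-element,
inverted by both. -/
theorem mul_involutions (h : MC p a G) (h0 : HB0 p G) {u u' : G} (hu : orderOf u = 2)
    (hu' : orderOf u' = 2) (hne : u * u' ≠ u' * u) :
    IsPEl p (u * u') ∧ u * u' ≠ 1 ∧ u * (u * u') * u⁻¹ = (u * u')⁻¹ ∧
      u' * (u * u') * u'⁻¹ = (u * u')⁻¹ := by
  haveI : Fact (Nat.Prime 2) := ⟨Nat.prime_two⟩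
  obtain ⟨e, he⟩ : ∃ e, e = u * u' := ⟨_, rfl⟩
  rw [← he]
  have hinv : u * e * u⁻¹ = e⁻¹ := by
    rw [he, mul_inv_rev, inv_inv_eq hu, inv_inv_eq hu', ← mul_assoc u u u', inv_mul_self hu,
      one_mul]
  have hinv' : u' * e * u'⁻¹ = e⁻¹ := by
    rw [he, mul_inv_rev, inv_inv_eq hu, inv_inv_eq hu', mul_assoc u' (u * u') u',
      mul_assoc u u' u', inv_mul_self hu', mul_one]
  have huN := mem_normalizer_zpowers_of_inverts hinv
  have hu'e : u' = u * e := by
    rw [he, ← mul_assoc, inv_mul_self hu, one_mul]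
  have he1 : e ≠ 1 := by
    intro h1
    apply hne
    rw [hu'e, h1, mul_one]
  have hetop : (Subgroup.zpowers e : Subgroup G) ≠ ⊤ := by
    intro htop
    apply hne
    have hu1 : u ∈ Subgroup.zpowers e := by rw [htop]; trivial
    obtain ⟨i, hi⟩ := Subgroup.mem_zpowers_iff.mp hu1
    have hc : e ^ i * e = e * e ^ i := by
      rw [← zpow_add_one, ← zpow_one_add, add_comm]
    rw [hi] at hc
    rw [hu'e, mul_assoc, ← hc]
  have hNtop := h.normalizer_ne_top (by rw [Ne, Subgroup.zpowers_eq_bot]; exact he1) hetop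
  have hTP := h.tp_of_involution hNtop hu huN
  refine ⟨?_, he1, hinv, hinv'⟩
  by_cases hodd : (orderOf e).Coprime 2
  · exact hTP.isPEl_of_odd (Subgroup.le_normalizer (Subgroup.mem_zpowers e)) hodd
  · exfalso
    have h2 : 2 ∣ orderOf e := by
      by_contra hnd
      exact hodd ((Nat.Prime.coprime_iff_not_dvd Nat.prime_two).mpr hnd).symm
    have hto : orderOf (e ^ (orderOf e / 2)) = 2 :=
      orderOf_pow_orderOf_div (orderOf_pos e).ne' h2
    obtain ⟨t, ht⟩ : ∃ t, t = e ^ (orderOf e / 2) := ⟨_, rfl⟩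
    rw [← ht] at hto
    have htz : t ∈ Subgroup.zpowers e := by
      rw [ht]; exact Subgroup.pow_mem _ (Subgroup.mem_zpowers e) _
    have hut : u * t = t * u := by
      have h1 := inverts_zpowers hinv t htz
      rw [inv_inv_eq hto] at h1
      calc u * t = (u * t * u⁻¹) * u := by group
        _ = t * u := by rw [h1]
    have het : e * t = t * e := by
      rw [ht, ← pow_succ', ← pow_succ]
    have hu't : u' * t = t * u' := by
      rw [hu'e, mul_assoc, het, ← mul_assoc, hut, mul_assoc]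
    exact hne (h.centralizer_comm h0 hto hut hu't)

/-- all involutions are conjugate. -/
theorem isConj_involutions (h : MC p a G) {u₀ u : G} (hu₀ : orderOf u₀ = 2)
    (hu : orderOf u = 2) : IsConj u₀ u := by
  haveI : Fact (Nat.Prime 2) := ⟨Nat.prime_two⟩
  obtain ⟨Q₀, hu₀Q⟩ := exists_mem_sylow (h.isPEl_two_of_involution hu₀)
  obtain ⟨Q, huQ⟩ := exists_mem_sylow (h.isPEl_two_of_involution hu)
  obtain ⟨g, rfl⟩ := MulAction.exists_smul_eq G Q₀ Q
  have hu' : g⁻¹ * u * g ∈ (Q₀ : Subgroup G) := (mem_smul_sylow Q₀ g u).mp huQ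
  have hu'1 : g⁻¹ * u * g ≠ 1 := by
    have := conj_ne_one (inv_ne_one hu) g⁻¹
    rwa [inv_inv] at this
  obtain ⟨z, hzN, -, hzpC, hfix⟩ := h.exists_z Q₀
  obtain ⟨i, hi⟩ := h.exists_pow_conj Q₀ hzN hzpC hfix hu₀Q (inv_ne_one hu₀) hu' hu'1
  rw [isConj_iff]
  refine ⟨g * z ^ i, ?_⟩
  calc g * z ^ i * u₀ * (g * z ^ i)⁻¹ = g * (z ^ i * u₀ * (z ^ i)⁻¹) * g⁻¹ := by group
    _ = g * (g⁻¹ * u * g) * g⁻¹ := by rw [hi]
    _ = u := by group

/-- the number of involutions. -/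
theorem card_involutions (h : MC p a G) (h0 : HB0 p G) :
    Nat.card {u : G // orderOf u = 2} * 2 ^ a = Nat.card G := by
  obtain ⟨u₀, -, hu₀⟩ := h.exists_involution_mem (default : Sylow 2 G)
  have h1 := Cfsg.Agent.Lib.H21.card_conj_mul_card_centralizer u₀
  rw [h.card_centralizer h0 hu₀] at h1
  rw [← h1]
  congr 1
  apply Nat.card_congr
  apply Equiv.subtypeEquivRight
  intro x
  constructor
  · intro hx; exact (h.isConj_involutions hu₀ hx)
  · intro hx
    obtain ⟨c, rfl⟩ := isConj_iff.mp hx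
    rw [orderOf_conj', hu₀]

theorem sylow_p_ne_bot (h : MC p a G) (P : Sylow p G) : (P : Subgroup G) ≠ ⊥ := by
  haveI : Fact p.Prime := ⟨h.hp⟩
  exact P.ne_bot_of_dvd_card h.bad.mixed.hpG

/-- in case B0 the product of two involutions of `N(P)` lies in `P`. -/
theorem mul_mem_of_normalizer (h : MC p a G) (h0 : HB0 p G) (P : Sylow p G) {u₁ u₂ : G}
    (hu₁ : orderOf u₁ = 2) (hu₂ : orderOf u₂ = 2)
    (h₁N : u₁ ∈ Subgroup.normalizer ((P : Subgroup G) : Set G))
    (h₂N : u₂ ∈ Subgroup.normalizer ((P : Subgroup G) : Set G)) :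
    u₁ * u₂ ∈ (P : Subgroup G) := by
  haveI : Fact p.Prime := ⟨h.hp⟩
  have hinv : ∀ u : G, orderOf u = 2 → u ∈ Subgroup.normalizer ((P : Subgroup G) : Set G) →
      ∀ c ∈ (P : Subgroup G), u * c * u⁻¹ = c⁻¹ := by
    intro u hu huN c hc
    exact h.inverts_of_fpf P.isPGroup' hu huN
      (fun x hx hux => h0 u x hu (isPEl_of_mem_sylow P hx) hux) hc
  by_cases hc : u₁ * u₂ = u₂ * u₁
  · by_cases hw1 : u₁ * u₂ = 1
    · rw [hw1]; exact Subgroup.one_mem _
    exfalso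
    have hsq : (u₁ * u₂) * (u₁ * u₂) = 1 := by
      calc (u₁ * u₂) * (u₁ * u₂) = u₁ * (u₂ * u₁) * u₂ := by group
        _ = u₁ * (u₁ * u₂) * u₂ := by rw [hc]
        _ = (u₁ * u₁) * (u₂ * u₂) := by group
        _ = 1 := by rw [inv_mul_self hu₁, inv_mul_self hu₂, one_mul]
    have hwo : orderOf (u₁ * u₂) = 2 := orderOf_eq_two_of hsq hw1
    obtain ⟨x₀, hx₀, hx₀1⟩ : ∃ x ∈ (P : Subgroup G), x ≠ 1 := by
      by_contra hcon
      push Not at hcon
      exact h.sylow_p_ne_bot P ((Subgroup.eq_bot_iff_forall _).mpr hcon)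
    have h1 := hinv u₁ hu₁ h₁N x₀⁻¹ (Subgroup.inv_mem _ hx₀)
    have h2 := hinv u₂ hu₂ h₂N x₀ hx₀
    have h3 : (u₁ * u₂) * x₀ * (u₁ * u₂)⁻¹ = x₀ := by
      calc (u₁ * u₂) * x₀ * (u₁ * u₂)⁻¹ = u₁ * (u₂ * x₀ * u₂⁻¹) * u₁⁻¹ := by group
        _ = x₀ := by rw [h2, h1, inv_inv]
    have h4 : (u₁ * u₂) * x₀ = x₀ * (u₁ * u₂) := by
      calc (u₁ * u₂) * x₀ = ((u₁ * u₂) * x₀ * (u₁ * u₂)⁻¹) * (u₁ * u₂) := by group
        _ = x₀ * (u₁ * u₂) := by rw [h3]
    exact hx₀1 (h0 _ x₀ hwo (isPEl_of_mem_sylow P hx₀) h4)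
  · obtain ⟨hp', -, -, -⟩ := h.mul_involutions h0 hu₁ hu₂ hc
    exact mem_sylow_of_pEl P (Subgroup.mul_mem _ h₁N h₂N) hp'

/-- in case B0 the normalizer of a Sylow `p`-subgroup contains exactly `|P|` involutions. -/
theorem card_involutions_normalizer (h : MC p a G) (h0 : HB0 p G) (P : Sylow p G) :
    Nat.card {u : G // orderOf u = 2 ∧ u ∈ Subgroup.normalizer ((P : Subgroup G) : Set G)} =
      Nat.card (P : Subgroup G) := by
  haveI : Fact p.Prime := ⟨h.hp⟩
  obtain ⟨u₁, -, hu₁, -, -, -, h₁N⟩ := h.exists_inverted_in P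
  have hinv : ∀ c ∈ (P : Subgroup G), u₁ * c * u₁⁻¹ = c⁻¹ := by
    intro c hc
    exact h.inverts_of_fpf P.isPGroup' hu₁ h₁N
      (fun x hx hux => h0 u₁ x hu₁ (isPEl_of_mem_sylow P hx) hux) hc
  symm
  refine Nat.card_congr ⟨fun y => ⟨u₁ * y.1, ?_, ?_⟩, fun u => ⟨u₁ * u.1, ?_⟩, ?_, ?_⟩
  · apply orderOf_eq_two_of
    · have h1 := hinv y.1 y.2
      calc u₁ * y.1 * (u₁ * y.1) = (u₁ * y.1 * u₁⁻¹) * (u₁ * u₁) * y.1 := by group
        _ = 1 := by rw [h1, inv_mul_self hu₁, mul_one, inv_mul_cancel]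
    · intro h1
      have h2 : u₁ = (y.1)⁻¹ := eq_inv_of_mul_eq_one_left h1
      apply h.not_isPEl_of_involution hu₁
      rw [h2]
      exact isPEl_of_mem_sylow P (Subgroup.inv_mem _ y.2)
  · exact Subgroup.mul_mem _ h₁N (Subgroup.le_normalizer y.2)
  · exact h.mul_mem_of_normalizer h0 P hu₁ u.2.1 h₁N u.2.2
  · intro y
    apply Subtype.ext
    show u₁ * (u₁ * y.1) = y.1
    rw [← mul_assoc, inv_mul_self hu₁, one_mul]
  · intro u
    apply Subtype.ext
    show u₁ * (u₁ * u.1) = u.1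
    rw [← mul_assoc, inv_mul_self hu₁, one_mul]

end MC

end Cfsg.Agent.Lib.H21.Mix
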