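import Mathlib
import Cfsg.Agent.Lib.H21.MixK

/-!
# S4017: case B0, the count (helper21)

Counting pairs of non-commuting involutions in two ways.
-/

set_option autoImplicit false

namespace Cfsg.Agent.Lib.H21.Mix

open Cfsg.Agent.Lib.H21.Cyc Cfsg.Agent.Lib.L0 Cfsg.Agent.Lib.H21.InvFriend
open scoped Pointwise

universe u

/-- the final arithmetic contradiction. -/
theorem count_arith {p k m n : ℕ} (hp : p.Prime) (hk : 1 ≤ k) (hcm : p ^ k ∣ m) (hpm : p ≤ m)
    (hn : n ≡ 1 [MOD p]) (heq : m * (m - p) = n * (p ^ k * p ^ k - p ^ k)) : False := by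
  have hc0 : 0 < p ^ k := pow_pos hp.pos k
  have hpc : p ∣ p ^ k := dvd_pow_self p (by omega)
  have hpm' : p ∣ m := hpc.trans hcm
  have hpmp : p ∣ m - p := Nat.dvd_sub hpm' (dvd_refl p)
  obtain ⟨m', hm'⟩ := hcm
  obtain ⟨q, hq⟩ := hpmp
  have h1 : p ^ k * p ^ k - p ^ k = p ^ k * (p ^ k - 1) := (Nat.mul_sub_one _ _).symm
  rw [h1, hq, hm'] at heq
  have h2 : p ^ k * (m' * p * q) = p ^ k * (n * (p ^ k - 1)) := by
    calc p ^ k * (m' * p * q) = p ^ k * m' * (p * q) := by ring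
      _ = n * (p ^ k * (p ^ k - 1)) := heq
      _ = p ^ k * (n * (p ^ k - 1)) := by ring
  have h3 : m' * p * q = n * (p ^ k - 1) := Nat.eq_of_mul_eq_mul_left hc0 h2
  have h4 : p ∣ n * (p ^ k - 1) := by
    rw [← h3]; exact ⟨m' * q, by ring⟩
  rcases hp.dvd_mul.mp h4 with h5 | h5
  · have h6 : n % p = 1 % p := hn
    rw [Nat.mod_eq_zero_of_dvd h5, Nat.mod_eq_of_lt hp.one_lt] at h6
    omega
  · have h6 : p ∣ p ^ k - (p ^ k - 1) := Nat.dvd_sub hpc h5
    have h7 : p ^ k - (p ^ k - 1) = 1 := by omega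
    rw [h7] at h6
    exact hp.one_lt.ne' (Nat.dvd_one.mp h6)

namespace MC

variable {p a : ℕ} {G : Type u} [Group G] [Finite G]

open scoped Classical in
/-- **case B0** is impossible. -/
theorem false_of_HB0 (h : MC p a G) (h0 : HB0 p G) : False := by
  haveI : Fintype G := Fintype.ofFinite G
  haveI : Fintype (Sylow p G) := Fintype.ofFinite _
  haveI : Fact p.Prime := ⟨h.hp⟩
  haveI : Fact (Nat.Prime 2) := ⟨Nat.prime_two⟩
  have hp := h.hp
  obtain ⟨J, hJ⟩ : ∃ J : Finset G, ∀ u, u ∈ J ↔ orderOf u = 2 :=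
    ⟨Finset.univ.filter (fun u => orderOf u = 2), by simp⟩
  have hm : J.card * 2 ^ a = Nat.card G := by
    rw [← h.card_involutions h0, Nat.subtype_card J hJ]
  -- commuting involutions
  have hcc : ∀ u ∈ J, (J.filter (fun u' => u * u' = u' * u)).card = p := by
    intro u hu
    have huo := (hJ u).mp hu
    obtain ⟨Q, huQ⟩ := exists_mem_sylow (h.isPEl_two_of_involution huo)
    have hC := h.centralizer_eq h0 huo Q huQ
    have hset : ∀ x, x ∈ J.filter (fun u' => u * u' = u' * u) ↔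
        x ∈ ((Q : Subgroup G) : Set G) \ {1} := by
      intro x
      rw [Finset.mem_filter, hJ]
      constructor
      · rintro ⟨hxo, hcomm⟩
        refine ⟨?_, ?_⟩
        · show x ∈ (Q : Subgroup G)
          rw [← hC, Subgroup.mem_centralizer_singleton_iff]; exact hcomm.symm
        · simpa using inv_ne_one hxo
      · rintro ⟨hxQ, hx1⟩
        have hx1' : x ≠ 1 := by simpa using hx1
        exact ⟨h.orderOf_eq_two Q hxQ hx1', h.comm2 Q huQ hxQ⟩
    have h1 : (J.filter (fun u' => u * u' = u' * u)).card =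
        (((Q : Subgroup G) : Set G) \ {1}).ncard := by
      rw [← Set.ncard_coe_finset]; congr 1; ext x; exact hset x
    rw [h1, Set.ncard_sdiff_singleton_of_mem (Subgroup.one_mem _)]
    have h2 : (((Q : Subgroup G) : Set G)).ncard = Nat.card (Q : Subgroup G) :=
      (Nat.card_coe_set_eq _).symm
    rw [h2, h.bad.card_sylow Q]
    have := h.bad.hpa; omega
  have hnc : ∀ u ∈ J, (J.filter (fun u' => ¬ (u * u' = u' * u))).card = J.card - p := by
    intro u hu
    have h1 := Finset.card_filter_add_card_filter_not (s := J)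
      (fun u' => u * u' = u' * u)
    rw [hcc u hu] at h1
    omega
  -- the set of non-commuting pairs
  obtain ⟨NN, hNN⟩ : ∃ NN : Finset (G × G),
      NN = (J ×ˢ J).filter (fun x => ¬ (x.1 * x.2 = x.2 * x.1)) := ⟨_, rfl⟩
  have hNNmem : ∀ x : G × G, x ∈ NN ↔
      (orderOf x.1 = 2 ∧ orderOf x.2 = 2) ∧ ¬ (x.1 * x.2 = x.2 * x.1) := by
    intro x
    rw [hNN, Finset.mem_filter, Finset.mem_product, hJ, hJ]
  have hNcard : NN.card = J.card * (J.card - p) := by
    rw [hNN, Finset.card_filter, Finset.sum_product]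
    have h1 : ∀ u ∈ J, (∑ u' ∈ J, if ¬ ((u, u').1 * (u, u').2 = (u, u').2 * (u, u').1)
        then 1 else 0) = J.card - p := by
      intro u hu
      rw [← hnc u hu, Finset.card_filter]
    rw [Finset.sum_congr rfl h1, Finset.sum_const, smul_eq_mul]
  -- the Sylow side
  obtain ⟨k, hk⟩ : ∃ k, k = (Nat.card G).factorization p := ⟨_, rfl⟩
  have hcP : ∀ P' : Sylow p G, Nat.card (P' : Subgroup G) = p ^ k := by
    intro P'; rw [hk]; exact Sylow.card_eq_multiplicity P'
  obtain ⟨r, hr⟩ : ∃ r : G × G → Sylow p G → Prop, r = fun (x : G × G) (P' : Sylow p G) =>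
      x.1 ∈ Subgroup.normalizer ((P' : Subgroup G) : Set G) ∧
      x.2 ∈ Subgroup.normalizer ((P' : Subgroup G) : Set G) := ⟨_, rfl⟩
  have hdc := Finset.sum_card_bipartiteAbove_eq_sum_card_bipartiteBelow (s := NN)
    (t := (Finset.univ : Finset (Sylow p G))) (r := r)
  have hL : ∀ x ∈ NN, ((Finset.univ : Finset (Sylow p G)).bipartiteAbove r x).card = 1 := by
    intro x hx
    obtain ⟨⟨hu, hu'⟩, hne⟩ := (hNNmem x).mp hx
    obtain ⟨hdp, hd1, hinv, hinv'⟩ := h.mul_involutions h0 hu hu' hne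
    obtain ⟨P, hdP⟩ := exists_mem_sylow hdp
    obtain ⟨huN, huniq⟩ := h.sylow_of_inverted hu hdp hd1 hinv P hdP
    obtain ⟨hu'N, -⟩ := h.sylow_of_inverted hu' hdp hd1 hinv' P hdP
    rw [Finset.card_eq_one]
    refine ⟨P, ?_⟩
    ext P'
    rw [Finset.mem_bipartiteAbove, Finset.mem_singleton, hr]
    constructor
    · rintro ⟨-, h1, h2⟩
      apply huniq
      exact mem_sylow_of_pEl P' (Subgroup.mul_mem _ h1 h2) hdp
    · rintro rfl
      exact ⟨Finset.mem_univ _, huN, hu'N⟩
  have hR : ∀ P' ∈ (Finset.univ : Finset (Sylow p G)),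
      (NN.bipartiteBelow r P').card = p ^ k * p ^ k - p ^ k := by
    intro P' _
    obtain ⟨S, hS⟩ : ∃ S : Finset G, ∀ u, u ∈ S ↔
        (orderOf u = 2 ∧ u ∈ Subgroup.normalizer ((P' : Subgroup G) : Set G)) :=
      ⟨Finset.univ.filter (fun u => orderOf u = 2 ∧
        u ∈ Subgroup.normalizer ((P' : Subgroup G) : Set G)), by simp⟩
    have hScard : S.card = p ^ k := by
      rw [← Nat.subtype_card S hS, h.card_involutions_normalizer h0 P', hcP P']
    have hEq : NN.bipartiteBelow r P' = S.offDiag := by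
      ext x
      rw [Finset.mem_bipartiteBelow, Finset.mem_offDiag, hNNmem, hS, hS, hr]
      constructor
      · rintro ⟨⟨⟨hu, hu'⟩, hne⟩, h1, h2⟩
        refine ⟨⟨hu, h1⟩, ⟨hu', h2⟩, ?_⟩
        intro heq; apply hne; rw [heq]
      · rintro ⟨⟨hu, h1⟩, ⟨hu', h2⟩, hne⟩
        refine ⟨⟨⟨hu, hu'⟩, ?_⟩, h1, h2⟩
        intro hcomm
        have hw := h.mul_mem_of_normalizer h0 P' hu hu' h1 h2
        have hw1 : x.1 * x.2 ≠ 1 := by
          intro hh
          apply hne
          have h3 : x.2 = x.1⁻¹ := eq_inv_of_mul_eq_one_right hh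
          rw [h3, inv_inv_eq hu]
        have hsq : (x.1 * x.2) * (x.1 * x.2) = 1 := by
          calc (x.1 * x.2) * (x.1 * x.2) = x.1 * (x.2 * x.1) * x.2 := by group
            _ = x.1 * (x.1 * x.2) * x.2 := by rw [hcomm]
            _ = (x.1 * x.1) * (x.2 * x.2) := by group
            _ = 1 := by rw [inv_mul_self hu, inv_mul_self hu', one_mul]
        exact h.not_isPEl_of_involution (orderOf_eq_two_of hsq hw1) (isPEl_of_mem_sylow P' hw)
    rw [hEq, Finset.offDiag_card, hScard]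
  rw [Finset.sum_congr rfl hL, Finset.sum_congr rfl hR, Finset.sum_const, Finset.sum_const,
    smul_eq_mul, smul_eq_mul, mul_one, hNcard, Finset.card_univ, ← Nat.card_eq_fintype_card] at hdc
  -- arithmetic
  have hk1 : 1 ≤ k := by
    rw [hk]
    exact Nat.Prime.factorization_pos_of_dvd hp Nat.card_pos.ne' h.bad.mixed.hpG
  have hcm : p ^ k ∣ J.card := by
    have h1 : p ^ k ∣ Nat.card G := by rw [hk]; exact Nat.ordProj_dvd _ _
    rw [← hm] at h1
    refine Nat.Coprime.dvd_of_dvd_mul_right ?_ h1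
    exact Nat.Coprime.pow _ _ ((Nat.coprime_primes hp Nat.prime_two).mpr h.hp2)
  have hpm : p ≤ J.card := by
    obtain ⟨u₀, -, hu₀⟩ := h.exists_involution_mem (default : Sylow 2 G)
    rw [← hcc u₀ ((hJ u₀).mpr hu₀)]
    exact Finset.card_filter_le _ _
  exact count_arith hp hk1 hcm hpm (card_sylow_modEq_one p G) hdc

end MC

end Cfsg.Agent.Lib.H21.Mix
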