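import Mathlib
import Cfsg.Agent.Lib.H21.MixJ
import Cfsg.Agent.Lib.H21.MixL

/-!
# S4017: assembly (helper21)
-/

set_option autoImplicit false

namespace Cfsg.Agent.Lib.H21.Mix

open Cfsg.Agent.Lib.H21.Cyc Cfsg.Agent.Lib.L0 Cfsg.Agent.Lib.H21.InvFriend

universe u

/-- the simple minimal counterexample does not exist. -/
theorem MC.false {p a : ℕ} {G : Type u} [Group G] [Finite G] (h : MC p a G) : False := by
  by_cases hA : ∃ (Q : Sylow 2 G) (c : G), IsPEl p c ∧ c ≠ 1 ∧
      c ∈ Subgroup.centralizer ((Q : Subgroup G) : Set G)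
  · obtain ⟨Q, c, hc, hc1, hcQ⟩ := hA
    exact h.caseA Q hc hc1 hcQ
  · have hB : HB p G := by
      intro Q c hc hcQ
      by_contra hc1
      exact hA ⟨Q, c, hc, hc1, hcQ⟩
    by_cases h1 : ∃ u c : G, orderOf u = 2 ∧ IsPEl p c ∧ c ≠ 1 ∧ u * c = c * u
    · obtain ⟨u₀, c, hu₀, hc, hc1, hcomm⟩ := h1
      obtain ⟨Q, L, P₁, d⟩ := h.exists_B1 hB hu₀ hc hc1 hcomm
      rcases (h.bad.two_le_a).eq_or_lt with ha | ha
      · have hp3 : p = 3 := by
          have := h.bad.hpa
          rw [← ha] at this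
          omega
        subst ha
        subst hp3
        exact d.false_of_eq_two h hB
      · exact d.false_of_three_le h hB ha
    · have h0 : HB0 p G := by
        intro u c hu hc hcomm
        by_contra hc1
        exact h1 ⟨u, c, hu, hc, hc1, hcomm⟩
      exact h.false_of_HB0 h0

/-- there is no counterexample in the Mersenne case. -/
theorem bad_false_aux (p a : ℕ) : ∀ n : ℕ, ∀ (G : Type u) [Group G] [Finite G],
    Nat.card G = n → ¬ Bad p a G := by
  intro n
  induction n using Nat.strong_induction_on with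
  | _ n ih =>
    intro G _ _ hn hB
    have hmin : ∀ (G' : Type u) [Group G'] [Finite G'], Nat.card G' < Nat.card G →
        ¬ Bad p a G' := by
      intro G' _ _ hlt
      exact ih _ (hn ▸ hlt) G' rfl
    exact MC.false ⟨hB, fun H hH h2 => hB.star hmin H hH h2, hB.simple hmin⟩

/-- **S4017** -/
theorem main {G : Type u} [Group G] [Finite G] {p q : ℕ} (hp : p.Prime) (hq : q.Prime)
    (hpq : p ≠ q) (hp2 : p ≠ 2) (hpG : p ∣ Nat.card G) (hqG : q ∣ Nat.card G)
    (hmix : ∀ H : Subgroup G, H ≠ ⊤ → ¬ IsPGroup q H → q ∣ Nat.card H → p ∣ Nat.card H)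
    (hlarge : q ^ (Nat.card G).factorization q - 1 < p ∨
      (p = q ^ (Nat.card G).factorization q - 1 ∧ ∀ P : Sylow p G, IsMulCommutative P)) :
    ∀ r : ℕ, r.Prime → r ∣ Nat.card G → r = p ∨ r = q := by
  have hM : Mixed p q G := ⟨hp, hq, hpq, hpG, hmix⟩
  rcases hlarge with hlt | ⟨heq, hab⟩
  · exact hM.case_one hqG hlt
  · have ha1 : 1 ≤ (Nat.card G).factorization q :=
      Nat.Prime.factorization_pos_of_dvd hq Nat.card_pos.ne' hqG
    have hqa : 2 ≤ q ^ (Nat.card G).factorization q := by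
      calc 2 ≤ q := hq.two_le
        _ = q ^ 1 := (pow_one q).symm
        _ ≤ q ^ (Nat.card G).factorization q := Nat.pow_le_pow_right hq.pos ha1
    have hpa : p + 1 = q ^ (Nat.card G).factorization q := by omega
    have hq2 : q = 2 := by
      have hodd : Odd p := (hp.eq_two_or_odd').resolve_left hp2
      have h2 : 2 ∣ q ^ (Nat.card G).factorization q := by
        rw [← hpa]
        obtain ⟨j, hj⟩ := hodd
        exact ⟨j + 1, by omega⟩
      exact ((Nat.prime_dvd_prime_iff_eq Nat.prime_two hq).mp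
        (Nat.prime_two.dvd_of_dvd_pow h2)).symm
    subst hq2
    intro r hr hrG
    by_contra hcon
    push Not at hcon
    refine bad_false_aux p ((Nat.card G).factorization 2) _ G rfl
      ⟨hM, hpa, rfl, ?_, ⟨r, hr, hrG, hcon.1, hcon.2⟩⟩
    intro P x hx y hy
    exact congrArg Subtype.val ((hab P).is_comm.comm ⟨x, hx⟩ ⟨y, hy⟩)

end Cfsg.Agent.Lib.H21.Mix
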