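import Mathlib
import Cfsg.Agent.Lib.H21.NormMax

/-!
# `NormMax` for a direct product with a coprime abelian group
-/

set_option autoImplicit false

namespace Cfsg.Agent.Lib.H21.NormMax

variable {K S : Type*} [Group K] [CommGroup S] [Finite K] [Finite S]

/-- in a subgroup of a direct product of groups of coprime orders, the components of an element
belong to the subgroup -/
theorem fst_mem_of_coprime (hKS : (Nat.card K).Coprime (Nat.card S)) (H : Subgroup (K × S))
    {k : K} {s : S} (h : (k, s) ∈ H) : ((k, 1) : K × S) ∈ H := by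
  have h1 : ((k, s) : K × S) ^ Nat.card S ∈ H := H.pow_mem h _
  have h2 : (((k, s) : K × S) ^ Nat.card S) ^ ((Nat.card K).gcdB (Nat.card S)) ∈ H :=
    H.zpow_mem h1 _
  have h3 : (((k, s) : K × S) ^ Nat.card S) ^ ((Nat.card K).gcdB (Nat.card S)) = (k, 1) := by
    apply Prod.ext
    · rw [Prod.pow_fst, Prod.pow_fst]
      exact (powCoprime hKS).symm_apply_apply k
    · rw [Prod.pow_snd, Prod.pow_snd]
      show (s ^ Nat.card S) ^ _ = 1
      rw [pow_card_eq_one', one_zpow]
  rwa [h3] at h2

theorem snd_mem_of_coprime (hKS : (Nat.card K).Coprime (Nat.card S)) (H : Subgroup (K × S))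
    {k : K} {s : S} (h : (k, s) ∈ H) : ((1, s) : K × S) ∈ H := by
  have h1 := fst_mem_of_coprime hKS H h
  have h2 := H.mul_mem (H.inv_mem h1) h
  have : ((k, 1) : K × S)⁻¹ * (k, s) = (1, s) := by
    apply Prod.ext <;> simp
  rwa [this] at h2

/-- `NormMax` passes to the direct product with an abelian group of coprime order -/
theorem normMax_prod (hKS : (Nat.card K).Coprime (Nat.card S)) (h : NormMax K) :
    NormMax (K × S) := by
  apply normMax_of_surjective (MonoidHom.fst K S) (fun k => ⟨(k, 1), rfl⟩) _ h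
  intro H g hg
  apply mem_normalizer_of_forall_conj_mem
  rintro ⟨k, s⟩ hx
  have hk := fst_mem_of_coprime hKS H hx
  have hs := snd_mem_of_coprime hKS H hx
  have h1 : g * (k, 1) * g⁻¹ ∈ H ⊔ (MonoidHom.fst K S).ker :=
    (Subgroup.mem_normalizer_iff.mp hg _).mp (Subgroup.mem_sup_left hk)
  rw [← Subgroup.comap_map_eq, Subgroup.mem_comap, Subgroup.mem_map] at h1
  obtain ⟨⟨u, v⟩, huv, h2⟩ := h1
  have hu := fst_mem_of_coprime hKS H huv
  have h3 : u = g.1 * k * g.1⁻¹ := by
    simpa using h2
  have h4 : g * (k, s) * g⁻¹ = (u, 1) * (1, s) := by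
    apply Prod.ext
    · simp [h3]
    · simp
  rw [h4]
  exact H.mul_mem hu hs

end Cfsg.Agent.Lib.H21.NormMax
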