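import Mathlib
import Cfsg.Agent.Lib.H21.NormMax
import Cfsg.Agent.Lib.H5.PSL2Torus

/-!
# `NormMax` passes from `PSL₂(F)` to `SL₂(F)` (odd characteristic)
-/

set_option autoImplicit false

namespace Cfsg.Agent.Lib.H21.NormMax

open Matrix Cfsg.Agent.Lib.H12 Cfsg.Agent.Lib.H5.PSL2Torus

variable {F : Type*} [Field F]

local notation "SL2" => Matrix.SpecialLinearGroup (Fin 2) F
local notation "PSL2" => Matrix.ProjectiveSpecialLinearGroup (Fin 2) F

theorem normMax_sl2 [Finite F] (h2 : (2 : F) ≠ 0) (h : NormMax PSL2) : NormMax SL2 := by
  apply normMax_of_surjective (pr (F := F)) pr_surjective _ h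
  intro H g hg
  have hker : (pr (F := F)).ker = Subgroup.center SL2 := QuotientGroup.ker_mk' _
  rw [hker] at hg
  refine mem_normalizer_of_sup_central (Z := Subgroup.center SL2) le_rfl ?_ ?_ hg
  · intro z hz
    rcases sl2_center_cases z hz with rfl | rfl
    · rw [mul_one]
    · rw [neg_mul_neg, mul_one]
  · by_cases hodd : Odd (Nat.card H)
    · exact Or.inr hodd
    · left
      have heven : 2 ∣ Nat.card H := by
        rcases Nat.even_or_odd (Nat.card H) with he | ho
        · exact he.two_dvd
        · exact absurd ho hodd
      haveI : Fact (Nat.Prime 2) := ⟨Nat.prime_two⟩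
      obtain ⟨x, hx⟩ := exists_prime_orderOf_dvd_card' 2 heven
      have hx2 : (x : SL2) * (x : SL2) = 1 := by
        have : x ^ 2 = 1 := by
          have h3 := pow_orderOf_eq_one x
          rwa [hx] at h3
        have := congrArg Subtype.val this
        rwa [pow_two] at this
      have hx1 : (x : SL2) ≠ 1 := by
        intro h1
        have : x = 1 := Subtype.ext h1
        rw [this, orderOf_one] at hx
        norm_num at hx
      have hxn : (x : SL2) = -1 := by
        rcases (sl2_mul_self_eq_one_iff h2 _).mp hx2 with h1 | h1
        · exact absurd h1 hx1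
        · exact h1
      intro z hz
      rcases sl2_center_cases z hz with rfl | rfl
      · exact H.one_mem
      · rw [← hxn]; exact x.2

end Cfsg.Agent.Lib.H21.NormMax
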