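import Mathlib

/-!
# S0977, piece (ARITH): the arithmetic case check for order 4320 (helper21)

`arith_false` in the exact signature of `tools/blueprints/S0977_sigs.lean`.
Method: a per-index classification lemma (`kind_of`) puts every `(d i, ε i, v i)` into one of seven
kinds `(4,-1) (6,1) (9,-1) (16,1) (24,-1) (36,1) (54,-1)` with `v i = 2 a - c`, `a ≤ c`; the remaining
bounded statement (`core`) is decided by the kernel.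
-/

set_option autoImplicit false
set_option linter.unusedVariables false

namespace Cfsg.Agent.Lib.H21.O4320

open scoped BigOperators

/-- degrees of the seven kinds -/
def kD : ℕ → ℕ
  | 0 => 4 | 1 => 6 | 2 => 9 | 3 => 16 | 4 => 24 | 5 => 36 | _ => 54

/-- signs of the seven kinds -/
def kE : ℕ → ℤ
  | 0 => -1 | 1 => 1 | 2 => -1 | 3 => 1 | 4 => -1 | 5 => 1 | _ => -1

/-- `(d + 4 ε) / 5` for the seven kinds -/
def kC : ℕ → ℕ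
  | 0 => 0 | 1 => 2 | 2 => 1 | 3 => 4 | 4 => 4 | 5 => 8 | _ => 10

/-- `4320 / d` for the seven kinds -/
def kQ : ℕ → ℤ
  | 0 => 1080 | 1 => 720 | 2 => 480 | 3 => 270 | 4 => 180 | 5 => 120 | _ => 80

/-- the value `n₊ - n₋` with `n₊ = a`, `n₊ + n₋ = c` -/
def kV (k a : ℕ) : ℤ := 2 * (a : ℤ) - (kC k : ℤ)

/-- innermost layer: no `ct < 84` with `5 ct² = T` and `S ≤ ct` -/
def P3 (k0 k1 k2 k3 a0 a1 a2 a3 : ℕ) : Prop :=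
  ∀ ct : ℕ, ct < 84 →
    ¬ (5 * (ct : ℤ) ^ 2 = 4320 + (kE k0 * kV k0 a0 ^ 2 * kQ k0 + kE k1 * kV k1 a1 ^ 2 * kQ k1 +
      kE k2 * kV k2 a2 ^ 2 * kQ k2 + kE k3 * kV k3 a3 ^ 2 * kQ k3) ∧
    1 + (kV k0 a0 ^ 2 + kV k1 a1 ^ 2 + kV k2 a2 ^ 2 + kV k3 a3 ^ 2) ≤ (ct : ℤ))

instance (k0 k1 k2 k3 a0 a1 a2 a3 : ℕ) : Decidable (P3 k0 k1 k2 k3 a0 a1 a2 a3) := by
  unfold P3; infer_instance

/-- middle layer: all admissible values -/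
def P2 (k0 k1 k2 k3 : ℕ) : Prop :=
  ∀ a0 < kC k0 + 1, ∀ a1 < kC k1 + 1, ∀ a2 < kC k2 + 1, ∀ a3 < kC k3 + 1,
    1 + (kE k0 * kV k0 a0 + kE k1 * kV k1 a1 + kE k2 * kV k2 a2 + kE k3 * kV k3 a3) = 0 →
    P3 k0 k1 k2 k3 a0 a1 a2 a3

instance (k0 k1 k2 k3 : ℕ) : Decidable (P2 k0 k1 k2 k3) := by
  unfold P2; infer_instance

/-- outer layer: all degree patterns -/
def P1 : Prop :=
  ∀ k0 < 7, ∀ k1 < 7, ∀ k2 < 7, ∀ k3 < 7,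
    (1 + (kE k0 * (kD k0 : ℤ) + kE k1 * (kD k1 : ℤ) + kE k2 * (kD k2 : ℤ) + kE k3 * (kD k3 : ℤ)) = 0 ∧
    1 + (kD k0 ^ 2 + kD k1 ^ 2 + kD k2 ^ 2 + kD k3 ^ 2) ≤ 4320) →
    P2 k0 k1 k2 k3

instance : Decidable P1 := by
  unfold P1; infer_instance

theorem core : P1 := by
  decide +kernel

/-- a priori bound for the positive contributions -/
theorem term_le : ∀ k < 7, ∀ a < kC k + 1, kE k * kV k a ^ 2 * kQ k ≤ 7680 := by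
  decide +kernel

/-- one index of a given kind -/
theorem kind_mk (k : ℕ) (hk : k < 7) (d : ℕ) (ε v : ℤ) (np nm : ℕ) (hd : d = kD k) (he : ε = kE k)
    (hnp : (5 : ℤ) * ((np : ℤ) + nm) = d + 4 * ε) (hv : v = (np : ℤ) - nm) :
    ∃ k < 7, ∃ a < kC k + 1, d = kD k ∧ ε = kE k ∧ v = kV k a ∧
      ∀ x : ℚ, (4320 : ℚ) * ((ε : ℚ) * x / (d : ℚ)) = (kE k : ℚ) * x * (kQ k : ℚ) := by
  subst hd he
  interval_cases k <;> simp only [kD, kE] at hnp <;>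
    refine ⟨_, hk, np, by simp only [kC]; omega, rfl, rfl, by simp only [kV, kC]; omega, ?_⟩ <;>
    intro x <;> simp only [kD, kE, kQ] <;> push_cast <;> ring

/-- classification of one index -/
theorem kind_of (d : ℕ) (ε v : ℤ) (np nm : ℕ) (hε : ε = 1 ∨ ε = -1) (hd : d ∣ 4320) (hd1 : d ≠ 1)
    (hle : d ≤ 65) (hnp : (5 : ℤ) * ((np : ℤ) + nm) = d + 4 * ε) (hv : v = (np : ℤ) - nm) :
    ∃ k < 7, ∃ a < kC k + 1, d = kD k ∧ ε = kE k ∧ v = kV k a ∧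
      ∀ x : ℚ, (4320 : ℚ) * ((ε : ℚ) * x / (d : ℚ)) = (kE k : ℚ) * x * (kQ k : ℚ) := by
  interval_cases d <;> rcases hε with rfl | rfl <;>
    first
    | omega
    | exact kind_mk 0 (by decide) _ _ _ _ _ rfl rfl hnp hv
    | exact kind_mk 1 (by decide) _ _ _ _ _ rfl rfl hnp hv
    | exact kind_mk 2 (by decide) _ _ _ _ _ rfl rfl hnp hv
    | exact kind_mk 3 (by decide) _ _ _ _ _ rfl rfl hnp hv
    | exact kind_mk 4 (by decide) _ _ _ _ _ rfl rfl hnp hv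
    | exact kind_mk 5 (by decide) _ _ _ _ _ rfl rfl hnp hv
    | exact kind_mk 6 (by decide) _ _ _ _ _ rfl rfl hnp hv

/-- (ARITH) the arithmetic conditions have no solution. -/
theorem arith_false (d : Fin 4 → ℕ) (ε v : Fin 4 → ℤ) (np nm : Fin 4 → ℕ) (ct : ℕ)
    (hε : ∀ i, ε i = 1 ∨ ε i = -1) (hd : ∀ i, d i ∣ 4320) (hd1 : ∀ i, d i ≠ 1)
    (hnp : ∀ i, (5 : ℤ) * ((np i : ℤ) + nm i) = d i + 4 * ε i)
    (hv : ∀ i, v i = (np i : ℤ) - nm i)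
    (hdeg : 1 + ∑ i, ε i * (d i : ℤ) = 0) (hsq : 1 + ∑ i, (d i) ^ 2 ≤ 4320)
    (hlin : 1 + ∑ i, ε i * v i = 0) (hct : ct ∣ 4320) (hbound : 1 + ∑ i, (v i) ^ 2 ≤ (ct : ℤ))
    (hclass : (5 : ℚ) * (ct : ℚ) ^ 2 = 4320 * (1 + ∑ i, (ε i : ℚ) * (v i : ℚ) ^ 2 / (d i : ℚ))) :
    False := by
  have hle : ∀ i, d i ≤ 65 := by
    intro i
    have h1 : (d i) ^ 2 ≤ ∑ j, (d j) ^ 2 :=
      Finset.single_le_sum (f := fun j => (d j) ^ 2) (fun _ _ => Nat.zero_le _) (Finset.mem_univ i)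
    by_contra hcon
    have h2 : 66 ^ 2 ≤ (d i) ^ 2 := Nat.pow_le_pow_left (not_le.1 hcon) 2
    omega
  obtain ⟨k0, hk0, a0, ha0, e0, f0, g0, q0⟩ :=
    kind_of (d 0) (ε 0) (v 0) (np 0) (nm 0) (hε 0) (hd 0) (hd1 0) (hle 0) (hnp 0) (hv 0)
  obtain ⟨k1, hk1, a1, ha1, e1, f1, g1, q1⟩ :=
    kind_of (d 1) (ε 1) (v 1) (np 1) (nm 1) (hε 1) (hd 1) (hd1 1) (hle 1) (hnp 1) (hv 1)
  obtain ⟨k2, hk2, a2, ha2, e2, f2, g2, q2⟩ :=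
    kind_of (d 2) (ε 2) (v 2) (np 2) (nm 2) (hε 2) (hd 2) (hd1 2) (hle 2) (hnp 2) (hv 2)
  obtain ⟨k3, hk3, a3, ha3, e3, f3, g3, q3⟩ :=
    kind_of (d 3) (ε 3) (v 3) (np 3) (nm 3) (hε 3) (hd 3) (hd1 3) (hle 3) (hnp 3) (hv 3)
  rw [Fin.sum_univ_four] at hdeg hsq hlin hbound hclass
  -- the class equation over `ℤ`
  have hclassZ : 5 * (ct : ℤ) ^ 2 = 4320 + (kE k0 * kV k0 a0 ^ 2 * kQ k0 +
      kE k1 * kV k1 a1 ^ 2 * kQ k1 + kE k2 * kV k2 a2 ^ 2 * kQ k2 +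
      kE k3 * kV k3 a3 ^ 2 * kQ k3) := by
    have h : (5 : ℚ) * (ct : ℚ) ^ 2 = 4320 + ((kE k0 : ℚ) * (v 0 : ℚ) ^ 2 * (kQ k0 : ℚ) +
        (kE k1 : ℚ) * (v 1 : ℚ) ^ 2 * (kQ k1 : ℚ) + (kE k2 : ℚ) * (v 2 : ℚ) ^ 2 * (kQ k2 : ℚ) +
        (kE k3 : ℚ) * (v 3 : ℚ) ^ 2 * (kQ k3 : ℚ)) := by
      rw [hclass, ← q0, ← q1, ← q2, ← q3]
      ring
    rw [g0, g1, g2, g3] at h
    exact_mod_cast h
  rw [f0, f1, f2, f3, e0, e1, e2, e3] at hdeg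
  rw [e0, e1, e2, e3] at hsq
  rw [f0, f1, f2, f3, g0, g1, g2, g3] at hlin
  rw [g0, g1, g2, g3] at hbound
  -- a priori bound for `ct`
  have hct84 : ct < 84 := by
    have t0 := term_le k0 hk0 a0 ha0
    have t1 := term_le k1 hk1 a1 ha1
    have t2 := term_le k2 hk2 a2 ha2
    have t3 := term_le k3 hk3 a3 ha3
    by_contra hcon
    have h1 : (84 : ℤ) ≤ (ct : ℤ) := by exact_mod_cast not_lt.1 hcon
    have h2 : (84 : ℤ) ^ 2 ≤ (ct : ℤ) ^ 2 := pow_le_pow_left₀ (by norm_num) h1 2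
    linarith
  exact core k0 hk0 k1 hk1 k2 hk2 k3 hk3 ⟨hdeg, hsq⟩ a0 ha0 a1 ha1 a2 ha2 a3 ha3 hlin ct hct84
    ⟨hclassZ, hbound⟩

end Cfsg.Agent.Lib.H21.O4320
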