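import Mathlib
import Cfsg.Prelude.Def_KGroupFacts
import Cfsg.Prelude.Def_Classical
import Cfsg.Agent.Lib.H28.O73M.Words
import Cfsg.Agent.Lib.H28.TitsM.Steinberg
import Cfsg.Agent.Lib.H1.CExt4
import Cfsg.Agent.Lib.H18.StemCompose

set_option autoImplicit false

/-!
# S2095 piece L4 (helper21): elements with the Steinberg relations of `SL_n(3)` (`n ≥ 4`, in particular the twelve of
`SL₄(3)`) lift through any central extension
-/

namespace Cfsg.Agent.Lib.H21.O73M

open Cfsg.Agent.Lib.H28.O73M Cfsg.Agent.Lib.H28.TitsM Cfsg.Agent.Lib.H1.StSL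

/-- the homomorphism from the Steinberg group `St_n(𝔽₃)` (`exists_hom_St` of helper28 with `n` in place of `3`) -/
theorem exists_hom_St_n {G : Type*} [Group G] {n : ℕ} (y : Fin n → Fin n → G) (h3 : ∀ a b, a ≠ b → y a b ^ 3 = 1)
    (hcomm : ∀ a b c d, a ≠ b → c ≠ d → a ≠ d → b ≠ c → Commute (y a b) (y c d))
    (hst : ∀ a b c, a ≠ b → b ≠ c → a ≠ c → y a b * y b c * (y a b)⁻¹ * (y b c)⁻¹ = y a c) :
    ∃ f : St (ZMod 3) n →* G, ∀ (a : Idx n) (t : ZMod 3), f (PresentedGroup.of (a, t)) = y a.1.1 a.1.2 ^ t.val := by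
  let g : Idx n × ZMod 3 → G := fun p => y p.1.1.1 p.1.1.2 ^ p.2.val
  have hpow : ∀ (a : Idx n) (m k : ℕ), m % 3 = k % 3 → y a.1.1 a.1.2 ^ m = y a.1.1 a.1.2 ^ k := by
    intro a m k hmk
    have hd : orderOf (y a.1.1 a.1.2) ∣ 3 := orderOf_dvd_of_pow_eq_one (h3 _ _ a.2)
    rw [← pow_mod_orderOf, ← pow_mod_orderOf (n := k)]
    congr 1
    have h1 : m % orderOf (y a.1.1 a.1.2) = (m % 3) % orderOf (y a.1.1 a.1.2) := (Nat.mod_mod_of_dvd m hd).symm
    have h2 : k % orderOf (y a.1.1 a.1.2) = (k % 3) % orderOf (y a.1.1 a.1.2) := (Nat.mod_mod_of_dvd k hd).symm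
    rw [h1, h2, hmk]
  have hrel : ∀ r ∈ rels (ZMod 3) n, FreeGroup.lift g r = 1 := by
    intro r hr
    rcases hr with (⟨a, t, u, rfl⟩ | ⟨a, b, t, u, had, hbc, rfl⟩) | ⟨a, b, hac, t, u, hab, rfl⟩
    · simp only [map_mul, map_inv, FreeGroup.lift_apply_of, g]
      rw [← pow_add, mul_inv_eq_one]
      apply hpow
      rw [ZMod.val_add, Nat.mod_mod]
    · simp only [map_mul, map_inv, FreeGroup.lift_apply_of, g]
      have hc : Commute (y a.1.1 a.1.2 ^ t.val) (y b.1.1 b.1.2 ^ u.val) :=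
        (hcomm _ _ _ _ a.2 b.2 had hbc).pow_pow _ _
      rw [hc.eq]
      group
    · simp only [map_mul, map_inv, FreeGroup.lift_apply_of, g]
      have hbc : a.1.2 ≠ b.1.2 := by rw [hab]; exact b.2
      have hz1 : Commute (y a.1.1 b.1.2) (y a.1.1 a.1.2) := hcomm _ _ _ _ hac a.2 a.2 hac.symm
      have hz2 : Commute (y a.1.1 b.1.2) (y a.1.2 b.1.2) := hcomm _ _ _ _ hac hbc hac hbc.symm
      have hs := hst a.1.1 a.1.2 b.1.2 a.2 hbc hac
      have key := comm_pow_pow hs hz1 hz2 t.val u.val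
      rw [mul_inv_eq_one]
      have e : y b.1.1 b.1.2 = y a.1.2 b.1.2 := by rw [hab]
      rw [e, key]
      apply hpow ⟨(a.1.1, b.1.2), hac⟩
      rw [ZMod.val_mul, Nat.mod_mod]
  refine ⟨PresentedGroup.toGroup hrel, ?_⟩
  intro a t
  exact PresentedGroup.toGroup.of hrel

/-- the condition of helper1's theorem for `St₄(𝔽₃)` -/
theorem fieldCond_four : Cfsg.Agent.Lib.H1.CExt.FieldCond (ZMod 3) 4 :=
  Or.inr (Or.inl ⟨rfl, Or.inl (by decide)⟩)

/-- the root elements `x_ab(1)` of `St_n(𝔽₃)` satisfy the Steinberg relations -/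
theorem stRel_X (n : ℕ) : StRel n (fun a b => (X a b (1 : ZMod 3) : St (ZMod 3) n)) where
  cube := fun a b _ => by
    show (X a b (1 : ZMod 3) : St (ZMod 3) n) ^ 3 = 1
    rw [pow_succ, pow_two, X_add, X_add]
    rw [show ((1 : ZMod 3) + 1 + 1) = 0 by decide, X_zero]
  comm := fun a b c d _ _ had hbc => X_comm had hbc _ _
  st := fun a b c hab hbc hac => by
    have h := X_comm_mul (K := ZMod 3) hab hbc hac 1 1
    rwa [mul_one] at h

/-- the Steinberg relations are preserved by homomorphisms -/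
theorem StRel.map {G H : Type*} [Group G] [Group H] (ψ : G →* H) {n : ℕ} {y : Fin n → Fin n → G}
    (h : StRel n y) : StRel n (fun a b => ψ (y a b)) where
  cube := fun a b hab => by
    show ψ (y a b) ^ 3 = 1
    rw [← map_pow, h.cube a b hab, map_one]
  comm := fun a b c d hab hcd had hbc => by
    show ψ (y a b) * ψ (y c d) = ψ (y c d) * ψ (y a b)
    rw [← map_mul, h.comm a b c d hab hcd had hbc, map_mul]
  st := fun a b c hab hbc hac => by
    show ψ (y a b) * ψ (y b c) * (ψ (y a b))⁻¹ * (ψ (y b c))⁻¹ = ψ (y a c)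
    rw [← h.st a b c hab hbc hac]
    simp only [map_mul, map_inv]

/-- elements with the Steinberg relations of `SL_n(3)` lift through a central extension, as soon as
helper1's condition holds for `n` -/
theorem stRel_exists_lift {n : ℕ} (hn : Cfsg.Agent.Lib.H1.CExt.FieldCond (ZMod 3) n)
    {G Γ : Type*} [Group G] [Group Γ] (σ : Γ →* G) (hs : Function.Surjective σ)
    (hc : σ.ker ≤ Subgroup.center Γ) {y : Fin n → Fin n → G} (h : StRel n y) :
    ∃ y' : Fin n → Fin n → Γ, StRel n y' ∧ ∀ a b, a ≠ b → σ (y' a b) = y a b := by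
  obtain ⟨f, hf⟩ := exists_hom_St_n y h.cube (fun a b c d hab hcd had hbc => h.comm a b c d hab hcd had hbc) h.st
  have hce : Cfsg.Agent.Lib.H1.CExt.IsCE (Cfsg.Agent.Lib.H18.StemCompose.pullSnd σ f) :=
    ⟨Cfsg.Agent.Lib.H18.StemCompose.pullSnd_surjective hs,
      Cfsg.Agent.Lib.H18.StemCompose.ker_pullSnd_le_center hc⟩
  obtain ⟨φ, hφ⟩ := Cfsg.Agent.Lib.H1.CExt.exists_section hn hce
  let ψ : St (ZMod 3) n →* Γ := (Cfsg.Agent.Lib.H18.StemCompose.pullFst σ f).comp φ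
  have hσψ : ∀ s, σ (ψ s) = f s := by
    intro s
    have h1 : σ (φ s).1.1 = f (φ s).1.2 := (Cfsg.Agent.Lib.H18.StemCompose.mem_pull σ f).mp (φ s).2
    have h2 : (φ s).1.2 = s := hφ s
    show σ (φ s).1.1 = f s
    rw [h1, h2]
  refine ⟨fun a b => ψ (X a b 1), StRel.map ψ (stRel_X n), ?_⟩
  intro a b hab
  show σ (ψ (X a b 1)) = y a b
  rw [hσψ, X_of hab, hf]
  show y a b ^ (1 : ZMod 3).val = _
  rw [show (1 : ZMod 3).val = 1 from rfl, pow_one]

/-- **L4**: twelve elements with the Steinberg relations of `SL₄(3)` lift through a central extension -/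
theorem stRel4_exists_lift {G Γ : Type*} [Group G] [Group Γ] (σ : Γ →* G) (hs : Function.Surjective σ)
    (hc : σ.ker ≤ Subgroup.center Γ) {y : Fin 4 → Fin 4 → G} (h : StRel 4 y) :
    ∃ y' : Fin 4 → Fin 4 → Γ, StRel 4 y' ∧ ∀ a b, a ≠ b → σ (y' a b) = y a b :=
  stRel_exists_lift fieldCond_four σ hs hc h

end Cfsg.Agent.Lib.H21.O73M
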