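import Mathlib
import Cfsg.Agent.Lib.H5.AutIndex
import Cfsg.Agent.Lib.H5.Ord.Ord1440a
/-!
S0983 filler (helper26's plan, tools/blueprints/S0983.md), Lemma L396 (helper21):
a group of order 396 does not have exactly 12 Sylow 11-subgroups.
(`N(P) = C(P)` of order 33, Burnside complement `K` of order 36, Frattini for a Sylow 3 `T` of `K`,
`|N(T) : C(T)|` divides `9!`, so an element of order 11 centralises `T` and `9 ∣ 33`.)
-/
set_option autoImplicit false
namespace Cfsg.Agent.Lib.H21.O983
open Subgroup

/-- product formula when `N` is normal. -/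
theorem card_sup_mul_card_inf_normal {H : Type*} [Group H] [Finite H] (A N : Subgroup H)
    [N.Normal] :
    Nat.card (A ⊔ N : Subgroup H) * Nat.card (A ⊓ N : Subgroup H) = Nat.card A * Nat.card N := by
  have h : A ≤ normalizer (N : Set H) := by
    rw [normalizer_eq_top]; exact le_top
  have := Subgroup.normal_subgroupOf_of_le_normalizer h
  have := Subgroup.normal_subgroupOf_sup_of_le_normalizer h
  have h0 : N.relIndex (A ⊔ N) = N.relIndex A := by
    unfold Subgroup.relIndex Subgroup.index
    exact (Nat.card_congr (QuotientGroup.quotientInfEquivProdNormalizerQuotient A N h).toEquiv).symm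
  have h1 : Nat.card N * N.relIndex (A ⊔ N) = Nat.card (A ⊔ N : Subgroup H) :=
    Cfsg.Agent.Lib.H5.SylPrime.card_mul_relIndex_of_le le_sup_right
  have h2 : Nat.card (A ⊓ N : Subgroup H) * (A ⊓ N).relIndex A = Nat.card A :=
    Cfsg.Agent.Lib.H5.SylPrime.card_mul_relIndex_of_le inf_le_left
  have h3 : (A ⊓ N).relIndex A = N.relIndex A := by
    rw [inf_comm]; exact Subgroup.inf_relIndex_right N A
  rw [← h1, ← h2, h0, h3]
  ring

theorem L396 {H : Type*} [Group H] [Finite H] (hH : Nat.card H = 396)
    (h12 : Nat.card (Sylow 11 H) = 12) : False := by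
  have : Fact (Nat.Prime 11) := ⟨by norm_num⟩
  have : Fact (Nat.Prime 3) := ⟨by norm_num⟩
  -- every Sylow 11-subgroup has a normalizer of order 33
  have hN33 : ∀ Q : Sylow 11 H, Nat.card (normalizer ((Q : Subgroup H) : Set H)) = 33 := by
    intro Q
    have h1 : Nat.card (Sylow 11 H) = (normalizer ((Q : Subgroup H) : Set H)).index :=
      Sylow.card_eq_index_normalizer Q
    have h2 := (normalizer ((Q : Subgroup H) : Set H)).card_mul_index
    rw [← h1, h12, hH] at h2
    omega
  let P : Sylow 11 H := default
  have hP : Nat.card (P : Subgroup H) = 11 := by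
    have := (Cfsg.Agent.Lib.H5.sylow_card_and_index P (k := 1) (m := 36) (by rw [hH]; norm_num) (by norm_num)).1
    simpa using this
  -- N = C
  have hPC : (P : Subgroup H) ≤ centralizer ((P : Subgroup H) : Set H) :=
    Cfsg.Agent.Lib.H5.SylPrime.le_centralizer_of_card_prime (P : Subgroup H) hP
  have hCN : centralizer ((P : Subgroup H) : Set H) ≤ normalizer ((P : Subgroup H) : Set H) :=
    centralizer_le_normalizer _
  have hr10 := Cfsg.Agent.Lib.H5.relIndex_centralizer_normalizer_dvd_of_card_prime (P : Subgroup H) hP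
  have hcr := Cfsg.Agent.Lib.H5.SylPrime.card_mul_relIndex_of_le hCN
  rw [hN33 P] at hcr
  have h11C : 11 ∣ Nat.card (centralizer ((P : Subgroup H) : Set H)) := by
    have := card_dvd_of_le hPC
    rwa [hP] at this
  have hr1 : (centralizer ((P : Subgroup H) : Set H)).relIndex
      (normalizer ((P : Subgroup H) : Set H)) = 1 := by
    set r := (centralizer ((P : Subgroup H) : Set H)).relIndex
      (normalizer ((P : Subgroup H) : Set H))
    set c := Nat.card (centralizer ((P : Subgroup H) : Set H))
    obtain ⟨k, hk⟩ := h11C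
    have hr : r ≤ 10 := Nat.le_of_dvd (by norm_num) hr10
    rw [hk] at hcr
    have hk3 : k * r = 3 := by nlinarith
    have : r ∣ 3 := Dvd.intro_left k hk3
    have hr3 : r ≤ 3 := Nat.le_of_dvd (by norm_num) this
    interval_cases r <;> omega
  have hNC : normalizer ((P : Subgroup H) : Set H) ≤ centralizer ((P : Subgroup H) : Set H) :=
    relIndex_eq_one.mp hr1
  -- Burnside's complement
  have hcomp := MonoidHom.ker_transferSylow_isComplement' P hNC
  set K : Subgroup H := (MonoidHom.transferSylow P hNC).ker with hK
  have hKc : Nat.card K = 36 := by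
    have := hcomp.card_mul_card
    rw [hP, hH] at this
    omega
  -- a Sylow 3-subgroup of K
  let T : Sylow 3 K := default
  have hT : Nat.card (T : Subgroup K) = 9 := by
    have := (Cfsg.Agent.Lib.H5.sylow_card_and_index T (k := 2) (m := 4) (by rw [hKc]; norm_num) (by norm_num)).1
    simpa using this
  set T' : Subgroup H := (T : Subgroup K).map K.subtype with hT'
  have hT'c : Nat.card T' = 9 := by
    rw [hT', Subgroup.card_map_of_injective K.subtype_injective]
    exact hT
  have hfrat : normalizer (T' : Set H) ⊔ K = ⊤ := Sylow.normalizer_sup_eq_top T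
  have h11N : 11 ∣ Nat.card (normalizer (T' : Set H)) := by
    have h1 := card_sup_mul_card_inf_normal (normalizer (T' : Set H)) K
    rw [hfrat, Subgroup.card_top, hH, hKc] at h1
    have : (11 : ℕ) ∣ Nat.card (normalizer (T' : Set H)) * 36 :=
      ⟨36 * Nat.card (normalizer (T' : Set H) ⊓ K : Subgroup H), by rw [← h1]; ring⟩
    exact (Nat.Coprime.dvd_mul_right (by norm_num : Nat.Coprime 11 36)).mp this
  have hfac := Cfsg.Agent.Lib.H5.relIndex_centralizer_normalizer_dvd_factorial T'
  rw [hT'c] at hfac
  have hcr' := Cfsg.Agent.Lib.H5.SylPrime.card_mul_relIndex_of_le (centralizer_le_normalizer (T' : Set H))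
  have h11C' : 11 ∣ Nat.card (centralizer (T' : Set H)) := by
    rw [← hcr'] at h11N
    have hcop : Nat.Coprime 11 ((centralizer (T' : Set H)).relIndex (normalizer (T' : Set H))) := by
      apply Nat.Coprime.coprime_dvd_right hfac
      decide
    exact hcop.dvd_of_dvd_mul_right h11N
  obtain ⟨g, hg⟩ := exists_prime_orderOf_dvd_card' (G := centralizer (T' : Set H)) 11 h11C'
  -- the subgroup generated by g is a Sylow 11-subgroup
  have hg' : orderOf (g : H) = 11 := by rw [Subgroup.orderOf_coe]; exact hg
  have hQc : Nat.card (zpowers (g : H)) = 11 := by rw [Nat.card_zpowers]; exact hg'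
  let Q : Sylow 11 H := Sylow.ofCard (zpowers (g : H)) (by
    rw [hQc, hH]
    have : (396 : ℕ).factorization 11 = 1 := by
      rw [show (396 : ℕ) = 11 ^ 1 * 36 by norm_num,
        Nat.factorization_mul (by norm_num) (by norm_num), Finsupp.coe_add, Pi.add_apply,
        Nat.Prime.factorization_pow (by norm_num : Nat.Prime 11),
        Nat.factorization_eq_zero_of_not_dvd (by norm_num : ¬ 11 ∣ 36)]
      simp
    rw [this]; norm_num)
  have hQ : (Q : Subgroup H) = zpowers (g : H) := rfl
  have hTN : T' ≤ normalizer ((Q : Subgroup H) : Set H) := by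
    intro t ht
    apply centralizer_le_normalizer
    rw [hQ, mem_centralizer_iff]
    intro x hx
    obtain ⟨k, rfl⟩ := mem_zpowers_iff.mp hx
    have hc : (g : H) * t = t * (g : H) := (mem_centralizer_iff.mp g.2 t ht).symm
    exact ((Commute.zpow_left (show Commute (g : H) t from hc) k).eq)
  have := card_dvd_of_le hTN
  rw [hT'c, hN33 Q] at this
  omega

end Cfsg.Agent.Lib.H21.O983
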