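import Mathlib
import Cfsg.Agent.Lib.H5.Ord.GenTests
/-!
S0983 filler (helper26's plan, tools/blueprints/S0983.md), shared middle step (helper21):
the centraliser `H = C_G(y)` of an element `y` of prime order `q` centralising a Sylow `p`-subgroup
`P` of prime order: `n_p(H) ≡ 1 (mod p)`, `|H| = n_p(H) ν` with `p q ∣ ν ∣ |N_G(P)|`.
-/
set_option autoImplicit false
namespace Cfsg.Agent.Lib.H21.O983
open Subgroup

/-- in a non-abelian simple group the centraliser of a nontrivial element is proper. -/
theorem centralizer_singleton_ne_top' {G : Type*} [Group G] [IsSimpleGroup G]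
    (hnc : ¬ IsMulCommutative G) {y : G} (hy : y ≠ 1) : centralizer ({y} : Set G) ≠ ⊤ := by
  intro htop
  have hyc : y ∈ center G := by
    rw [mem_center_iff]
    intro g
    have : g ∈ centralizer ({y} : Set G) := htop ▸ mem_top g
    exact (mem_centralizer_iff.mp this y rfl).symm
  rcases IsSimpleGroup.eq_bot_or_eq_top_of_normal (center G) inferInstance with h | h
  · rw [h, mem_bot] at hyc
    exact hy hyc
  · apply hnc
    refine ⟨⟨fun a b => ?_⟩⟩
    have : b ∈ center G := h ▸ mem_top b
    exact (mem_center_iff.mp this a)

/-- the centraliser of an element of prime order `q` in `C(P)`, `|P| = p`. -/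
theorem mid {G : Type*} [Group G] [Finite G] {p q : ℕ} [Fact p.Prime] [Fact q.Prime] (hpq : p ≠ q)
    (P : Sylow p G) (hP : Nat.card (P : Subgroup G) = p) (y : G) (hy : orderOf y = q)
    (hyP : y ∈ centralizer ((P : Subgroup G) : Set G)) :
    Nat.card (Sylow p (centralizer ({y} : Set G))) % p = 1 ∧
    ∃ ν, Nat.card (centralizer ({y} : Set G)) =
        Nat.card (Sylow p (centralizer ({y} : Set G))) * ν ∧
      p * q ∣ ν ∧ ν ∣ Nat.card (normalizer ((P : Subgroup G) : Set G)) := by
  have hp : p.Prime := Fact.out
  have hq : q.Prime := Fact.out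
  set H := centralizer ({y} : Set G) with hH
  have hPH : (P : Subgroup G) ≤ H := by
    intro x hx
    rw [hH, mem_centralizer_iff]
    intro h hh
    rw [Set.mem_singleton_iff] at hh
    subst hh
    exact (mem_centralizer_iff.mp hyP x hx).symm
  let PH : Sylow p H := P.subtype hPH
  have hPHcoe : (PH : Subgroup H) = (P : Subgroup G).subgroupOf H := Sylow.coe_subtype P hPH
  refine ⟨?_, Nat.card (normalizer ((PH : Subgroup H) : Set H)), ?_, ?_, ?_⟩
  · have := card_sylow_modEq_one p H
    rw [Nat.ModEq, Nat.mod_eq_of_lt hp.one_lt] at this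
    exact this
  · have h1 : Nat.card (Sylow p H) = (normalizer ((PH : Subgroup H) : Set H)).index :=
      Sylow.card_eq_index_normalizer PH
    rw [h1, mul_comm]
    exact (card_mul_index _).symm
  · have hpd : p ∣ Nat.card (normalizer ((PH : Subgroup H) : Set H)) := by
      have h1 : Nat.card (PH : Subgroup H) = p := by
        rw [hPHcoe, Nat.card_congr (Subgroup.subgroupOfEquivOfLe hPH).toEquiv]
        exact hP
      have h2 := card_dvd_of_le (le_normalizer (H := (PH : Subgroup H)))
      rwa [h1] at h2
    have hqd : q ∣ Nat.card (normalizer ((PH : Subgroup H) : Set H)) := by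
      have hyH : y ∈ H := by
        rw [hH, mem_centralizer_iff]
        intro h hh
        rw [Set.mem_singleton_iff] at hh
        subst hh
        rfl
      have hmem : (⟨y, hyH⟩ : H) ∈ normalizer ((PH : Subgroup H) : Set H) := by
        rw [mem_normalizer_iff]
        intro h
        have hc : (⟨y, hyH⟩ : H) * h * (⟨y, hyH⟩ : H)⁻¹ = h := by
          apply Subtype.ext
          have := mem_centralizer_iff.mp h.2 y rfl
          simp only [Subgroup.coe_mul, Subgroup.coe_inv]
          rw [this, mul_inv_cancel_right]
        rw [hc]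
      have := Subgroup.orderOf_dvd_natCard _ hmem
      rwa [Subgroup.orderOf_mk, hy] at this
    exact Nat.Coprime.mul_dvd_of_dvd_of_dvd ((Nat.coprime_primes hp hq).mpr hpq) hpd hqd
  · have hle : (normalizer ((PH : Subgroup H) : Set H)).map H.subtype ≤
        normalizer ((P : Subgroup G) : Set G) := by
      rintro _ ⟨g, hg, rfl⟩
      rw [SetLike.mem_coe, mem_normalizer_iff] at hg
      rw [mem_normalizer_iff]
      intro x
      constructor
      · intro hx
        have h1 := (hg ⟨x, hPH hx⟩).mp (by rw [hPHcoe, mem_subgroupOf]; exact hx)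
        rw [hPHcoe, mem_subgroupOf] at h1
        simpa using h1
      · intro hx
        have hxH : x ∈ H := by
          have := H.mul_mem (H.mul_mem (H.inv_mem g.2) (hPH hx)) g.2
          simpa [mul_assoc] using this
        have h1 := (hg ⟨x, hxH⟩).mpr (by rw [hPHcoe, mem_subgroupOf]; simpa using hx)
        rw [hPHcoe, mem_subgroupOf] at h1
        exact h1
    have := card_dvd_of_le hle
    rwa [Subgroup.card_map_of_injective H.subtype_injective] at this

end Cfsg.Agent.Lib.H21.O983
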