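import Mathlib
import Cfsg.Agent.Lib.H21.O983MID
import Cfsg.Agent.Lib.H21.O983L396
/-!
S0983 filler (helper26's plan, tools/blueprints/S0983.md): no simple group of order
`5148 = 2^2 * 3^2 * 11 * 13` (helper21).
-/
set_option autoImplicit false
namespace Cfsg.Agent.Lib.H21.O983
open Subgroup Cfsg.Agent.Lib.H5 Cfsg.Agent.Lib.H5.SylPrime Cfsg.Agent.Lib.H5.GenTests

/-- the numerics of the centraliser of an element of order 3 in `C(P_11)`. -/
theorem num5148 (h n i ν : ℕ) (hmod : n % 11 = 1) (hHν : h = n * ν) (h33 : 11 * 3 ∣ ν) (hν66 : ν ∣ 66)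
    (h9 : 9 ∣ h) (hci : h * i = 5148) (hi13 : 13 ≤ i) : h = 396 ∧ n = 12 := by
  obtain ⟨k, hk⟩ := h33
  have hk2 : k = 1 ∨ k = 2 := by
    rw [hk] at hν66
    have : k ∣ 2 := by
      have h1 : 11 * 3 * k ∣ 11 * 3 * 2 := by simpa using hν66
      exact Nat.dvd_of_mul_dvd_mul_left (by norm_num) h1
    have hk2 : k ≤ 2 := Nat.le_of_dvd (by norm_num) this
    have hk0 : k ≠ 0 := by
      rintro rfl
      simp at this
    omega
  obtain ⟨d, hd9⟩ := h9
  have h11h : 11 ∣ h := by
    rw [hHν, hk]
    exact ⟨n * (3 * k), by ring⟩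
  have hd11 : 11 ∣ d := by
    rw [hd9] at h11h
    exact (Nat.Coprime.dvd_mul_left (by norm_num : Nat.Coprime 11 9)).mp h11h
  obtain ⟨e, he⟩ := hd11
  have hei : e * i = 52 := by
    rw [hd9, he] at hci
    nlinarith
  have he4 : e ≤ 4 := by nlinarith
  have hn36 : n ≤ 36 := by
    rcases hk2 with rfl | rfl <;> nlinarith
  subst hk he
  rcases hk2 with rfl | rfl <;> interval_cases e <;> interval_cases n <;> omega

theorem not_simple_5148 {G : Type*} [Group G] [Finite G] [IsSimpleGroup G] : Nat.card G ≠ 5148 := by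
  intro hn
  have hnc : ¬ IsMulCommutative G :=
    not_isMulCommutative_of_card_not_prime (by rw [hn]; norm_num)
  have : Fact (Nat.Prime 11) := ⟨by norm_num⟩
  have : Fact (Nat.Prime 3) := ⟨by norm_num⟩
  let P : Sylow 11 G := default
  obtain ⟨h1, h2, h3, h4, h5, h6, h7, h8, hP, hNd, -, -, hcr, -⟩ :=
    prime_data_explicit hnc hn (p := 11) (m := 468) (by norm_num) (by norm_num) (by norm_num) P
  have hd : Nat.card (Sylow 11 G) = 78 := by
    have hmem : Nat.card (Sylow 11 G) ∈ (Nat.divisors 468).filter (fun d => d % 11 = 1) := by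
      rw [Finset.mem_filter, Nat.mem_divisors]
      exact ⟨⟨h1, by norm_num⟩, h2⟩
    have hfil : (Nat.divisors 468).filter (fun d => d % 11 = 1) = {1, 12, 78} := by decide
    rw [hfil] at hmem
    simp only [Finset.mem_insert, Finset.mem_singleton] at hmem
    rcases hmem with h | h | h
    · exact absurd h h3
    · exfalso
      rw [h] at h4
      revert h4
      decide
    · exact h
  rw [hd] at h7 hNd
  set r := (centralizer ((P : Subgroup G) : Set G)).relIndex (normalizer ((P : Subgroup G) : Set G))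
  set c₀ := Nat.card (centralizer ((P : Subgroup G) : Set G))
  have hr10 : r ≤ 10 := Nat.le_of_dvd (by norm_num) h5
  have hrc : c₀ = 33 ∧ r = 2 := by
    interval_cases r <;> omega
  have hN : Nat.card (normalizer ((P : Subgroup G) : Set G)) = 66 := by omega
  -- an element of order 3 in C(P)
  have h3c : 3 ∣ Nat.card (centralizer ((P : Subgroup G) : Set G)) := by
    change 3 ∣ c₀
    rw [hrc.1]; norm_num
  obtain ⟨y', hy'⟩ := exists_prime_orderOf_dvd_card' (G := centralizer ((P : Subgroup G) : Set G)) 3 h3c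
  have hy : orderOf (y' : G) = 3 := by rw [Subgroup.orderOf_coe]; exact hy'
  obtain ⟨hmod, ν, hHν, h33, hν66⟩ := mid (p := 11) (q := 3) (by norm_num) P hP (y' : G) hy y'.2
  rw [hN] at hν66
  set H := centralizer ({(y' : G)} : Set G) with hH
  -- 9 divides |H|
  have h9 : 9 ∣ Nat.card H := by
    have hpg : IsPGroup 3 (zpowers (y' : G)) := by
      apply IsPGroup.of_card (n := 1)
      rw [Nat.card_zpowers, hy]; norm_num
    obtain ⟨Q, hQ⟩ := hpg.exists_le_sylow
    have hQc : Nat.card (Q : Subgroup G) = 3 ^ 2 :=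
      (sylow_card_and_index Q (k := 2) (m := 572) (by rw [hn]; norm_num) (by norm_num)).1
    have hcomm' := IsPGroup.isMulCommutative_of_card_eq_prime_sq (p := 3) hQc
    have hcomm : ∀ a b : (Q : Subgroup G), a * b = b * a := fun a b => hcomm'.is_comm.comm a b
    have hQH : (Q : Subgroup G) ≤ H := by
      intro x hx
      rw [hH, mem_centralizer_iff]
      intro h hh
      rw [Set.mem_singleton_iff] at hh
      subst hh
      have hyQ : (y' : G) ∈ (Q : Subgroup G) := hQ (mem_zpowers _)
      have := hcomm ⟨(y' : G), hyQ⟩ ⟨x, hx⟩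
      exact congrArg Subtype.val this
    have := card_dvd_of_le hQH
    rwa [hQc] at this
  have hy1 : (y' : G) ≠ 1 := by
    intro h
    rw [h, orderOf_one] at hy
    omega
  have hHtop : H ≠ ⊤ := centralizer_singleton_ne_top' hnc hy1
  have hidx := two_mul_card_dvd_factorial_index hnc H hHtop
  have hi13 : 13 ≤ H.index := by
    have h13 : 13 ∣ (H.index).factorial := by
      refine dvd_trans ?_ hidx
      rw [hn]; norm_num
    exact (Nat.Prime.dvd_factorial (by norm_num)).mp h13
  have hci := H.card_mul_index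
  rw [hn] at hci
  -- numerics
  have hfin : Nat.card H = 396 ∧ Nat.card (Sylow 11 H) = 12 :=
    num5148 _ _ _ ν hmod hHν h33 hν66 h9 hci hi13
  exact L396 hfin.1 hfin.2

end Cfsg.Agent.Lib.H21.O983
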