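import Mathlib
import Cfsg.Agent.Lib.H21.O983MID
import Cfsg.Agent.Lib.H21.O983L396
/-!
S0983 filler (helper26's plan, tools/blueprints/S0983.md): no simple group of order
`5940 = 2^2 * 3^3 * 5 * 11` (helper21).
-/
set_option autoImplicit false
namespace Cfsg.Agent.Lib.H21.O983
open Subgroup Cfsg.Agent.Lib.H5 Cfsg.Agent.Lib.H5.SylPrime Cfsg.Agent.Lib.H5.GenTests

/-- in a group of order 27 every centraliser of an element has order divisible by 9. -/
theorem nine_dvd_card_centralizer {T : Type*} [Group T] [Finite T] (hT : Nat.card T = 27) (y : T) :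
    9 ∣ Nat.card (centralizer ({y} : Set T)) := by
  have : Fact (Nat.Prime 3) := ⟨by norm_num⟩
  have hpg : IsPGroup 3 T := IsPGroup.of_card (n := 3) (by rw [hT]; norm_num)
  have : Nontrivial T := by
    rw [← Finite.one_lt_card_iff_nontrivial, hT]; norm_num
  have hZ := hpg.center_nontrivial
  set C := centralizer ({y} : Set T) with hC
  have hZC : center T ≤ C := center_le_centralizer _
  have hCd : Nat.card C ∣ 27 := hT ▸ card_subgroup_dvd_card C
  have hZd : Nat.card (center T) ∣ Nat.card C := card_dvd_of_le hZC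
  have hZ1 : Nat.card (center T) ≠ 1 := by
    intro h
    rw [Subgroup.card_eq_one] at h
    rw [h] at hZ
    exact not_nontrivial _ hZ
  have hC27 : Nat.card C ≤ 27 := Nat.le_of_dvd (by norm_num) hCd
  have hZ0 : 0 < Nat.card (center T) := Nat.card_pos
  have hZle : Nat.card (center T) ≤ Nat.card C := Nat.le_of_dvd Nat.card_pos hZd
  by_contra h9
  -- |C| is 1 or 3; then the center is all of C
  have hC3 : Nat.card C = 3 := by
    interval_cases hc : Nat.card C <;> omega
  have hZ3 : Nat.card (center T) = 3 := by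
    rw [hC3] at hZd hZle
    interval_cases hz : Nat.card (center T) <;> omega
  have hZeq : center T = C :=
    Subgroup.eq_of_le_of_card_ge hZC (by rw [hZ3, hC3])
  have hy : y ∈ center T := by
    rw [hZeq, hC, mem_centralizer_iff]
    intro h hh
    rw [Set.mem_singleton_iff] at hh
    subst hh
    rfl
  have hCtop : C = ⊤ := by
    rw [eq_top_iff]
    intro g _
    rw [hC, mem_centralizer_iff]
    intro h hh
    rw [Set.mem_singleton_iff] at hh
    subst hh
    exact (mem_center_iff.mp hy g).symm
  rw [hCtop, Subgroup.card_top, hT] at hC3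
  omega

/-- the numerics of the centraliser of an element of order 3 in `C(P_11)`. -/
theorem num5940 (h n i ν : ℕ) (hmod : n % 11 = 1) (hHν : h = n * ν) (h33 : 11 * 3 ∣ ν) (hν : ν ∣ 132)
    (h9 : 9 ∣ h) (hci : h * i = 5940) (hi11 : 11 ≤ i) : h = 396 ∧ n = 12 := by
  obtain ⟨k, hk⟩ := h33
  have hk2 : k = 1 ∨ k = 2 ∨ k = 4 := by
    rw [hk] at hν
    have : k ∣ 4 := by
      have h1 : 11 * 3 * k ∣ 11 * 3 * 4 := by simpa using hν
      exact Nat.dvd_of_mul_dvd_mul_left (by norm_num) h1
    have hk2 : k ≤ 4 := Nat.le_of_dvd (by norm_num) this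
    interval_cases k <;> omega
  obtain ⟨d, hd9⟩ := h9
  have h11h : 11 ∣ h := by
    rw [hHν, hk]
    exact ⟨n * (3 * k), by ring⟩
  have hd11 : 11 ∣ d := by
    rw [hd9] at h11h
    exact (Nat.Coprime.dvd_mul_left (by norm_num : Nat.Coprime 11 9)).mp h11h
  obtain ⟨e, he⟩ := hd11
  have hei : e * i = 60 := by
    rw [hd9, he] at hci
    nlinarith
  have he5 : e ≤ 5 := by nlinarith
  have hn15 : n ≤ 15 := by
    rcases hk2 with rfl | rfl | rfl <;> nlinarith
  subst hk he
  rcases hk2 with rfl | rfl | rfl <;> interval_cases e <;> interval_cases n <;> omega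

theorem not_simple_5940 {G : Type*} [Group G] [Finite G] [IsSimpleGroup G] : Nat.card G ≠ 5940 := by
  intro hn
  have hnc : ¬ IsMulCommutative G :=
    not_isMulCommutative_of_card_not_prime (by rw [hn]; norm_num)
  have : Fact (Nat.Prime 11) := ⟨by norm_num⟩
  have : Fact (Nat.Prime 3) := ⟨by norm_num⟩
  let P : Sylow 11 G := default
  obtain ⟨h1, h2, h3, h4, h5, h6, h7, h8, hP, hNd, -, -, hcr, hfp⟩ :=
    prime_data_explicit hnc hn (p := 11) (m := 540) (by norm_num) (by norm_num) (by norm_num) P
  set r := (centralizer ((P : Subgroup G) : Set G)).relIndex (normalizer ((P : Subgroup G) : Set G))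
  set c₀ := Nat.card (centralizer ((P : Subgroup G) : Set G))
  have hr10 : r ≤ 10 := Nat.le_of_dvd (by norm_num) h5
  have hd : Nat.card (Sylow 11 G) = 45 := by
    have hmem : Nat.card (Sylow 11 G) ∈ (Nat.divisors 540).filter (fun d => d % 11 = 1) := by
      rw [Finset.mem_filter, Nat.mem_divisors]
      exact ⟨⟨h1, by norm_num⟩, h2⟩
    have hfil : (Nat.divisors 540).filter (fun d => d % 11 = 1) = {1, 12, 45, 540} := by decide
    rw [hfil] at hmem
    simp only [Finset.mem_insert, Finset.mem_singleton] at hmem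
    rcases hmem with h | h | h | h
    · exact absurd h h3
    · exfalso
      rw [h] at h7 hfp
      have hc99 : c₀ = 99 ∧ r = 5 := by
        interval_cases r <;> omega
      obtain ⟨f, hf1, hf2, hf3, -⟩ := hfp 3 (by norm_num) (by
        rw [hc99.1]; norm_num)
      omega
    · exact h
    · exfalso
      rw [h] at h7
      obtain ⟨k, hk⟩ := h8
      change c₀ = 11 * k at hk
      rw [hk] at h7
      have : k * r = 1 := by nlinarith
      have hr1 : r = 1 := Nat.eq_one_of_mul_eq_one_left this
      exact h6 hr1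
  rw [hd] at h7 hNd
  have hrc : c₀ = 66 ∧ r = 2 := by
    interval_cases r <;> omega
  have hN : Nat.card (normalizer ((P : Subgroup G) : Set G)) = 132 := by omega
  -- an element of order 3 in C(P)
  have h3c : 3 ∣ Nat.card (centralizer ((P : Subgroup G) : Set G)) := by
    change 3 ∣ c₀
    rw [hrc.1]; norm_num
  obtain ⟨y', hy'⟩ := exists_prime_orderOf_dvd_card' (G := centralizer ((P : Subgroup G) : Set G)) 3 h3c
  have hy : orderOf (y' : G) = 3 := by rw [Subgroup.orderOf_coe]; exact hy'
  obtain ⟨hmod, ν, hHν, h33, hν⟩ := mid (p := 11) (q := 3) (by norm_num) P hP (y' : G) hy y'.2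
  rw [hN] at hν
  set H := centralizer ({(y' : G)} : Set G) with hH
  -- 9 divides |H|
  have h9 : 9 ∣ Nat.card H := by
    have hpg : IsPGroup 3 (zpowers (y' : G)) := by
      apply IsPGroup.of_card (n := 1)
      rw [Nat.card_zpowers, hy]; norm_num
    obtain ⟨Q, hQ⟩ := hpg.exists_le_sylow
    have hQc : Nat.card (Q : Subgroup G) = 3 ^ 3 :=
      (sylow_card_and_index Q (k := 3) (m := 220) (by rw [hn]; norm_num) (by norm_num)).1
    have hyQ : (y' : G) ∈ (Q : Subgroup G) := hQ (mem_zpowers _)
    have h9' := nine_dvd_card_centralizer (T := (Q : Subgroup G)) (by rw [hQc]; norm_num)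
      ⟨(y' : G), hyQ⟩
    have hle : (centralizer ({(⟨(y' : G), hyQ⟩ : (Q : Subgroup G))} : Set (Q : Subgroup G))).map
        (Q : Subgroup G).subtype ≤ H := by
      rintro _ ⟨t, ht, rfl⟩
      rw [hH, mem_centralizer_iff]
      intro h hh
      rw [Set.mem_singleton_iff] at hh
      subst hh
      have := mem_centralizer_iff.mp ht ⟨(y' : G), hyQ⟩ rfl
      exact congrArg Subtype.val this
    have := card_dvd_of_le hle
    rw [Subgroup.card_map_of_injective (Subgroup.subtype_injective _)] at this
    exact dvd_trans h9' this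
  have hy1 : (y' : G) ≠ 1 := by
    intro h
    rw [h, orderOf_one] at hy
    omega
  have hHtop : H ≠ ⊤ := centralizer_singleton_ne_top' hnc hy1
  have hidx := two_mul_card_dvd_factorial_index hnc H hHtop
  have hi11 : 11 ≤ H.index := by
    have h11 : 11 ∣ (H.index).factorial := by
      refine dvd_trans ?_ hidx
      rw [hn]; norm_num
    exact (Nat.Prime.dvd_factorial (by norm_num)).mp h11
  have hci := H.card_mul_index
  rw [hn] at hci
  have hfin : Nat.card H = 396 ∧ Nat.card (Sylow 11 H) = 12 :=
    num5940 _ _ _ ν hmod hHν h33 hν h9 hci hi11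
  exact L396 hfin.1 hfin.2

end Cfsg.Agent.Lib.H21.O983
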