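import Mathlib
import Cfsg.Prelude.Def_CaseTheorems
import Cfsg.Agent.Lib.H9.PPrimeCore

/-!
# S2924, piece NORM

`N_X(Y)` normalizes `W = ⟨O(C_X(y)) : y ∈ Y#⟩` (conjugation permutes the cores `O(C_X(y))`).
Stated for the literal subgroup of the frozen statement.
-/

set_option autoImplicit false
open Cfsg

namespace Cfsg.Agent.Lib.H21.OC

variable {X : Type*} [Group X]

/-- `O_{p'}(H)` as a subgroup of the ambient group. -/
abbrev coreOf (p : ℕ) (H : Subgroup X) : Subgroup X :=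
  (pPrimeCore p ↥H).map H.subtype

theorem coreOf_map_equiv (p : ℕ) (H : Subgroup X) (e : X ≃* X) :
    (coreOf p H).map e.toMonoidHom = coreOf p (H.map e.toMonoidHom) := by
  let e' : ↥H ≃* ↥(H.map e.toMonoidHom) := e.subgroupMap H
  have he' : ∀ h : ↥H, ((e' h : ↥(H.map e.toMonoidHom)) : X) = e (h : X) := fun h => rfl
  have h1 : (pPrimeCore p ↥H).map e'.toMonoidHom = pPrimeCore p ↥(H.map e.toMonoidHom) :=
    Cfsg.Agent.Lib.H9.pPrimeCore_map_equiv p e'
  ext x
  constructor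
  · rintro ⟨_, ⟨h, hh, rfl⟩, rfl⟩
    refine ⟨e' h, ?_, he' h⟩
    rw [← h1]
    exact ⟨h, hh, rfl⟩
  · rintro ⟨y, hy, rfl⟩
    rw [← h1] at hy
    obtain ⟨h, hh, rfl⟩ := hy
    exact ⟨(h : X), ⟨h, hh, rfl⟩, (he' h).symm⟩

theorem centralizer_singleton_map_conj (g y : X) :
    (Subgroup.centralizer ({y} : Set X)).map (MulAut.conj g).toMonoidHom =
      Subgroup.centralizer ({g * y * g⁻¹} : Set X) := by
  ext x
  simp only [Subgroup.mem_map, Subgroup.mem_centralizer_singleton_iff, MulEquiv.coe_toMonoidHom,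
    MulAut.conj_apply]
  constructor
  · rintro ⟨c, hc, rfl⟩
    calc g * c * g⁻¹ * (g * y * g⁻¹) = g * (c * y) * g⁻¹ := by group
      _ = g * (y * c) * g⁻¹ := by rw [hc]
      _ = g * y * g⁻¹ * (g * c * g⁻¹) := by group
  · intro hx
    refine ⟨g⁻¹ * x * g, ?_, by group⟩
    have : g⁻¹ * (x * (g * y * g⁻¹)) * g = g⁻¹ * ((g * y * g⁻¹) * x) * g := by rw [hx]
    calc g⁻¹ * x * g * y = g⁻¹ * (x * (g * y * g⁻¹)) * g := by group
      _ = g⁻¹ * ((g * y * g⁻¹) * x) * g := this
      _ = y * (g⁻¹ * x * g) := by group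

/-- The core of the centralizer of a conjugate. -/
theorem coreOf_centralizer_map_conj (p : ℕ) (g y : X) :
    (coreOf p (Subgroup.centralizer ({y} : Set X))).map (MulAut.conj g).toMonoidHom =
      coreOf p (Subgroup.centralizer ({g * y * g⁻¹} : Set X)) := by
  rw [coreOf_map_equiv, centralizer_singleton_map_conj]

/-- The join of the cores `O_{p'}(C_X(y))`, `y ∈ Y#`, is mapped into itself by `N_X(Y)`. -/
theorem iSup_core_map_conj_le (p : ℕ) (Y : Subgroup X) (g : X)
    (hg : g ∈ Subgroup.normalizer (Y : Set X)) :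
    (⨆ y : {y : X // y ∈ Y ∧ y ≠ 1},
      (pPrimeCore p ↥(Subgroup.centralizer ({(y : X)} : Set X))).map
        (Subgroup.centralizer ({(y : X)} : Set X)).subtype).map (MulAut.conj g).toMonoidHom ≤
    ⨆ y : {y : X // y ∈ Y ∧ y ≠ 1},
      (pPrimeCore p ↥(Subgroup.centralizer ({(y : X)} : Set X))).map
        (Subgroup.centralizer ({(y : X)} : Set X)).subtype := by
  rw [Subgroup.map_iSup]
  apply iSup_le
  rintro ⟨y, hyY, hy1⟩
  have h1 := coreOf_centralizer_map_conj p g y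
  have hmem : g * y * g⁻¹ ∈ Y := (Subgroup.mem_normalizer_iff.1 hg y).1 hyY
  have hne : g * y * g⁻¹ ≠ 1 := by
    intro h
    apply hy1
    have : y = g⁻¹ * (g * y * g⁻¹) * g := by group
    rw [this, h]; group
  show (coreOf p (Subgroup.centralizer ({y} : Set X))).map (MulAut.conj g).toMonoidHom ≤ _
  rw [h1]
  exact le_iSup (fun y : {y : X // y ∈ Y ∧ y ≠ 1} =>
      (pPrimeCore p ↥(Subgroup.centralizer ({(y : X)} : Set X))).map
        (Subgroup.centralizer ({(y : X)} : Set X)).subtype) ⟨g * y * g⁻¹, hmem, hne⟩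

/-- NORM: the second conjunct of the frozen statement S2924 (no hypothesis needed). -/
theorem normalizer_le_normalizer_iSup_oddCore (Y : Subgroup X) :
    Subgroup.normalizer (Y : Set X) ≤ Subgroup.normalizer ((⨆ y : {y : X // y ∈ Y ∧ y ≠ 1},
      (Cfsg.oddCore ↥(Subgroup.centralizer ({(y : X)} : Set X))).map
        (Subgroup.centralizer ({(y : X)} : Set X)).subtype : Subgroup X) : Set X) := by
  intro g hg
  have hg' : g⁻¹ ∈ Subgroup.normalizer (Y : Set X) := Subgroup.inv_mem _ hg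
  rw [Subgroup.mem_normalizer_iff]
  intro w
  constructor
  · intro hw
    exact iSup_core_map_conj_le 2 Y g hg ⟨w, hw, rfl⟩
  · intro hw
    have := iSup_core_map_conj_le 2 Y g⁻¹ hg' ⟨g * w * g⁻¹, hw, rfl⟩
    have e : (MulAut.conj g⁻¹).toMonoidHom (g * w * g⁻¹) = w := by
      simp only [MulEquiv.coe_toMonoidHom, MulAut.conj_apply]; group
    rwa [e] at this

end Cfsg.Agent.Lib.H21.OC
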