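import Mathlib
import Cfsg.Prelude.Def_Characters
import Cfsg.Agent.Lib.H24.CharInflEquiv

/-!
# S4930, pieces P4a + P4b (helper21)

`P` a Sylow `p`-subgroup of the finite group `G`, `N = N_G(P)`, `P'' =` the image of the commutator
subgroup of `P`.  Assume every irreducible character of `N` with `P''` in its kernel extends to an
irreducible character of `G`.  Then there is a normal subgroup `K0` of `G` with
`K0 ≤ L := normalClosure P`, `N ⊓ L = P` and `K0 ⊓ P = P''`.

* `mem_of_forall_irr_eq`: the irreducible characters trivial on a normal subgroup `H` separate the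
  elements outside `H`.
* `exists_K0`: the statement above.
-/

set_option autoImplicit false
set_option linter.unusedSectionVars false

namespace Cfsg.Agent.Lib.H21.OD

open Cfsg Cfsg.Agent.Lib.H24 Cfsg.Agent.Lib.H23

section sep

variable {N : Type*} [Group N] [Finite N]

/-- The irreducible characters with `H` in the kernel separate the elements outside `H`. -/
theorem mem_of_forall_irr_eq (H : Subgroup N) [H.Normal] (x : N)
    (h : ∀ ψ : IrrCharacter N, (∀ n ∈ H, (ψ : N → ℂ) n = (ψ : N → ℂ) 1) →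
      (ψ : N → ℂ) x = (ψ : N → ℂ) 1) : x ∈ H := by
  classical
  have := Fintype.ofFinite (N ⧸ H)
  have := Fintype.ofFinite (IrrCharacter (N ⧸ H))
  have hx := Cfsg.Agent.Lib.H24.sum_irr_one_mul (G := N ⧸ H) (x : N ⧸ H)
  have h1 := Cfsg.Agent.Lib.H24.sum_irr_one_mul (G := N ⧸ H) (1 : N ⧸ H)
  have heq : ∀ ψ : IrrCharacter (N ⧸ H),
      (ψ : N ⧸ H → ℂ) (x : N ⧸ H) = (ψ : N ⧸ H → ℂ) 1 := by
    intro ψ
    have h2 := h (inflIrr H ψ) (fun n hn => by
      rw [inflIrr_apply, inflIrr_apply, (QuotientGroup.eq_one_iff n).mpr hn,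
        QuotientGroup.mk_one])
    rw [inflIrr_apply, inflIrr_apply, QuotientGroup.mk_one] at h2
    exact h2
  simp only [heq] at hx
  rw [if_pos rfl] at h1
  rw [h1] at hx
  by_contra hcon
  have hne : (x : N ⧸ H) ≠ 1 := fun h' => hcon ((QuotientGroup.eq_one_iff x).1 h')
  rw [if_neg hne] at hx
  have hpos : (Nat.card (N ⧸ H) : ℂ) ≠ 0 := by exact_mod_cast (Nat.card_pos (α := N ⧸ H)).ne'
  exact hpos hx

end sep

section main

variable {G : Type*} [Group G] [Finite G] {p : ℕ} [Fact p.Prime]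

/-- membership in the commutator subgroup of `P ∩ N` inside `N = N_G(P)`, read in `G` -/
theorem mem_commutator_subgroupOf_iff (P : Subgroup G)
    (x : ↥(Subgroup.normalizer (P : Set G))) :
    x ∈ ⁅P.subgroupOf (Subgroup.normalizer (P : Set G)),
        P.subgroupOf (Subgroup.normalizer (P : Set G))⁆ ↔
      (x : G) ∈ (commutator ↥P).map P.subtype := by
  have hPN : P ≤ Subgroup.normalizer (P : Set G) := Subgroup.le_normalizer
  have h1 : (P.subgroupOf (Subgroup.normalizer (P : Set G))).map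
      (Subgroup.normalizer (P : Set G)).subtype = P := by
    rw [Subgroup.subgroupOf_map_subtype, inf_of_le_left hPN]
  have h2 : (⁅P.subgroupOf (Subgroup.normalizer (P : Set G)),
      P.subgroupOf (Subgroup.normalizer (P : Set G))⁆).map
      (Subgroup.normalizer (P : Set G)).subtype = (commutator ↥P).map P.subtype := by
    rw [Subgroup.map_commutator, h1, Subgroup.map_subtype_commutator]
  rw [← h2]
  exact (Subgroup.mem_map_iff_mem (Subgroup.subtype_injective _)).symm

/-- P4a + P4b. -/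
theorem exists_K0 (P : Sylow p G)
    (hext : ∀ ψ : IrrCharacter ↥(Subgroup.normalizer ((P : Subgroup G) : Set G)),
      (∀ x : ↥(Subgroup.normalizer ((P : Subgroup G) : Set G)),
        (x : G) ∈ (commutator ↥(P : Subgroup G)).map (P : Subgroup G).subtype →
        (ψ : ↥(Subgroup.normalizer ((P : Subgroup G) : Set G)) → ℂ) x =
          (ψ : ↥(Subgroup.normalizer ((P : Subgroup G) : Set G)) → ℂ) 1) →
      ∃ χ : IrrCharacter G, ∀ n : ↥(Subgroup.normalizer ((P : Subgroup G) : Set G)),
        (χ : G → ℂ) n = (ψ : ↥(Subgroup.normalizer ((P : Subgroup G) : Set G)) → ℂ) n) :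
    ∃ K0 : Subgroup G, K0.Normal ∧
      K0 ≤ Subgroup.normalClosure ((P : Subgroup G) : Set G) ∧
      Subgroup.normalizer ((P : Subgroup G) : Set G) ⊓
        Subgroup.normalClosure ((P : Subgroup G) : Set G) = (P : Subgroup G) ∧
      K0 ⊓ (P : Subgroup G) = (commutator ↥(P : Subgroup G)).map (P : Subgroup G).subtype := by
  classical
  have := Fintype.ofFinite G
  set N : Subgroup G := Subgroup.normalizer ((P : Subgroup G) : Set G) with hN
  set P2 : Subgroup G := (commutator ↥(P : Subgroup G)).map (P : Subgroup G).subtype with hP2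
  set L : Subgroup G := Subgroup.normalClosure ((P : Subgroup G) : Set G) with hL
  have := Fintype.ofFinite (IrrCharacter N)
  have := Fintype.ofFinite (IrrCharacter G)
  have hPN : (P : Subgroup G) ≤ N := Subgroup.le_normalizer
  have hPL : (P : Subgroup G) ≤ L := Subgroup.le_normalClosure
  have hP2P : P2 ≤ (P : Subgroup G) := Subgroup.map_subtype_le _
  have : Nonempty (IrrCharacter G) := ⟨⟨(1 : G → ℂ), L0.isIrrCharacter_one⟩⟩
  choose! X hX using hext
  -- the kernel
  let Ψ : Type _ := {ψ : IrrCharacter N //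
    ∀ x : N, (x : G) ∈ P2 → (ψ : N → ℂ) x = (ψ : N → ℂ) 1}
  let K0 : Subgroup G :=
    ⨅ ψ : Ψ, charKer ((X ψ.1 : IrrCharacter G) : G → ℂ) (L0.isCharacter_of_irr (X ψ.1).2)
  have hK0n : K0.Normal := Subgroup.normal_iInf_normal (fun ψ => charKer_normal _ _)
  have hmemK0 : ∀ x : G, x ∈ K0 ↔
      ∀ ψ : Ψ, ((X ψ.1 : IrrCharacter G) : G → ℂ) x = ((X ψ.1 : IrrCharacter G) : G → ℂ) 1 := by
    intro x
    simp only [K0, Subgroup.mem_iInf, mem_charKer]
  -- (a)
  have hK0N : ∀ x : N, (x : G) ∈ K0 ↔ (x : G) ∈ P2 := by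
    intro x
    constructor
    · intro hx
      rw [← mem_commutator_subgroupOf_iff]
      apply mem_of_forall_irr_eq
      intro ψ hψ
      have hψ' : ∀ y : N, (y : G) ∈ P2 → (ψ : N → ℂ) y = (ψ : N → ℂ) 1 := fun y hy =>
        hψ y ((mem_commutator_subgroupOf_iff (P : Subgroup G) y).2 hy)
      have h1 := (hmemK0 x).1 hx ⟨ψ, hψ'⟩
      have h2 := hX ψ hψ' x
      have h3 := hX ψ hψ' 1
      rw [Subgroup.coe_one] at h3
      rw [← h2, ← h3]
      exact h1
    · intro hx
      rw [hmemK0]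
      intro ψ
      have h2 := hX ψ.1 ψ.2 x
      have h3 := hX ψ.1 ψ.2 1
      rw [Subgroup.coe_one] at h3
      rw [h2, h3]
      exact ψ.2 x hx
  have hK0P : K0 ⊓ (P : Subgroup G) = P2 := by
    ext x
    rw [Subgroup.mem_inf]
    constructor
    · rintro ⟨hx1, hx2⟩
      exact (hK0N ⟨x, hPN hx2⟩).1 hx1
    · intro hx
      exact ⟨(hK0N ⟨x, hPN (hP2P hx)⟩).2 hx, hP2P hx⟩
  -- (b)
  have hLn : L.Normal := Subgroup.normalClosure_normal
  set J : Subgroup G := L ⊔ K0 with hJ
  have hJn : J.Normal := Subgroup.sup_normal L K0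
  set PN : Subgroup N := (P : Subgroup G).subgroupOf N with hPNdef
  have hPNn : PN.Normal := Subgroup.normal_in_normalizer
  have hsumN := sum_sq_of_le_ker (G := N) PN
  have hsumG := sum_sq_of_le_ker (G := G) J
  -- members of the first filter qualify
  have hqual : ∀ ψ : IrrCharacter N, (∀ n ∈ PN, (ψ : N → ℂ) n = (ψ : N → ℂ) 1) →
      ∀ x : N, (x : G) ∈ P2 → (ψ : N → ℂ) x = (ψ : N → ℂ) 1 := fun ψ hψ x hx =>
    hψ x (Subgroup.mem_subgroupOf.2 (hP2P hx))
  have hle1 : PN.index ≤ J.index := by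
    rw [← hsumN, ← hsumG]
    have hinj : Set.InjOn X (↑(Finset.univ.filter
        (fun ψ : IrrCharacter N => ∀ n ∈ PN, (ψ : N → ℂ) n = (ψ : N → ℂ) 1))) := by
      intro ψ hψ ψ' hψ' h
      rw [Finset.mem_coe, Finset.mem_filter] at hψ hψ'
      apply Subtype.ext
      funext n
      rw [← hX ψ (hqual ψ hψ.2) n, ← hX ψ' (hqual ψ' hψ'.2) n, h]
    have hdeg : ∀ ψ ∈ Finset.univ.filter
        (fun ψ : IrrCharacter N => ∀ n ∈ PN, (ψ : N → ℂ) n = (ψ : N → ℂ) 1),
        charDegree ((X ψ : IrrCharacter G) : G → ℂ) ^ 2 = charDegree (ψ : N → ℂ) ^ 2 := by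
      intro ψ hψ
      rw [Finset.mem_filter] at hψ
      congr 1
      apply charDegree_eq_of_apply_one
      have h3 := hX ψ (hqual ψ hψ.2) 1
      rw [Subgroup.coe_one] at h3
      rw [h3]
      exact apply_one_eq_charDegree _ ψ.2
    rw [← Finset.sum_congr rfl hdeg, ← Finset.sum_image (f := fun χ : IrrCharacter G =>
      charDegree (χ : G → ℂ) ^ 2) hinj]
    apply Finset.sum_le_sum_of_subset
    intro χ hχ
    rw [Finset.mem_image] at hχ
    obtain ⟨ψ, hψ, rfl⟩ := hχ
    rw [Finset.mem_filter] at hψ ⊢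
    refine ⟨Finset.mem_univ _, ?_⟩
    have hJle : J ≤ charKer ((X ψ : IrrCharacter G) : G → ℂ) (L0.isCharacter_of_irr (X ψ).2) := by
      apply sup_le
      · apply Subgroup.normalClosure_le_normal
        intro x hx
        rw [SetLike.mem_coe, mem_charKer]
        have h2 := hX ψ (hqual ψ hψ.2) ⟨x, hPN hx⟩
        have h3 := hX ψ (hqual ψ hψ.2) 1
        rw [Subgroup.coe_one] at h3
        rw [h3]
        rw [h2]
        exact hψ.2 ⟨x, hPN hx⟩ (Subgroup.mem_subgroupOf.2 hx)
      · exact iInf_le (fun ψ' : Ψ => charKer ((X ψ'.1 : IrrCharacter G) : G → ℂ)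
          (L0.isCharacter_of_irr (X ψ'.1).2)) ⟨ψ, hqual ψ hψ.2⟩
    intro g hg
    exact hJle hg
  -- Frattini
  have hFr : N ⊔ L = ⊤ := Sylow.normalizer_sup_eq_top' P hPL
  have hLidx : L.index = (L.subgroupOf N).index := by
    have h1 := Subgroup.relIndex_sup_right (H := N) (K := L)
    rw [hFr, Subgroup.relIndex_top_right] at h1
    exact h1
  have hPNL : PN ≤ L.subgroupOf N := fun x hx => hPL hx
  have hle2 : (L.subgroupOf N).index ≤ PN.index :=
    Nat.le_of_dvd (Nat.pos_of_ne_zero Subgroup.index_ne_zero_of_finite)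
      (Subgroup.index_dvd_of_le hPNL)
  have hLJ : L ≤ J := le_sup_left
  have hle3 : J.index ≤ L.index :=
    Nat.le_of_dvd (Nat.pos_of_ne_zero Subgroup.index_ne_zero_of_finite)
      (Subgroup.index_dvd_of_le hLJ)
  have heq1 : J.index = L.index := by omega
  have heq2 : (L.subgroupOf N).index = PN.index := by omega
  have hJL : J ≤ L := by
    have h1 := Subgroup.relIndex_mul_index hLJ
    rw [heq1] at h1
    have h2 : L.relIndex J = 1 := by
      have hne : L.index ≠ 0 := Subgroup.index_ne_zero_of_finite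
      exact Nat.eq_of_mul_eq_mul_right (Nat.pos_of_ne_zero hne) (by rw [h1, one_mul])
    exact Subgroup.relIndex_eq_one.1 h2
  have hLPN : L.subgroupOf N ≤ PN := by
    have h1 := Subgroup.relIndex_mul_index hPNL
    rw [heq2] at h1
    have h2 : PN.relIndex (L.subgroupOf N) = 1 := by
      have hne : PN.index ≠ 0 := Subgroup.index_ne_zero_of_finite
      exact Nat.eq_of_mul_eq_mul_right (Nat.pos_of_ne_zero hne) (by rw [h1, one_mul])
    exact Subgroup.relIndex_eq_one.1 h2
  refine ⟨K0, hK0n, le_trans le_sup_right hJL, ?_, hK0P⟩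
  apply le_antisymm
  · intro x hx
    obtain ⟨hx1, hx2⟩ := Subgroup.mem_inf.1 hx
    have h1 : (⟨x, hx1⟩ : N) ∈ L.subgroupOf N := hx2
    exact hLPN h1
  · exact le_inf hPN hPL

end main

end Cfsg.Agent.Lib.H21.OD
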