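/-
S2936 (architect helper18), piece OODD (helper21, twin): `OvergroupProp p (PΩ_{2m+1}(F))`, `F` of odd characteristic `p`,
`m ≥ 3`.
Route (as `Lib/H1/OGOMINUS` and `Lib/H11/SROODD`): helper8's (B,N)-pair `flagBN (RingHom.id F)` and root data
`flagRootData (RingHom.id F)` of `GS id = O_{2m+1}(F)` in flag coordinates, restricted to `Ω = [GS, GS]`;
`Q_j` = the radical `QF id j` of `Lib/H8/OGFlag` cut down to `Ω`; the centre of `Ω` lies in the torus, whose order is
prime to `p`; simplicity of `PΩ_{2m+1}` from the landed S0295; the isomorphism with the Prelude model from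
`H29.OddSt.nonempty_iso_odd`.
-/
import Mathlib
import Cfsg.Agent.Lib.H11.SROODD
import Cfsg.Agent.Lib.H8.OGFlag
import Cfsg.Agent.Lib.H18.OGROOT
import Cfsg.Agent.S0295

set_option autoImplicit false
set_option linter.unusedSectionVars false
set_option linter.unusedVariables false

namespace Cfsg.Agent.Lib.H21.OG

open Cfsg Cfsg.Agent.Lib.H18.OG
open Matrix Cfsg.Agent.Lib.H12.DCos Cfsg.Agent.Lib.H8.FBN Cfsg.Agent.Lib.H8.BNRoot Cfsg.Agent.Lib.H8.BNRes
  Cfsg.Agent.Lib.H8.BNSteinberg Cfsg.Agent.Lib.H8.OG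
open Cfsg.Agent.Lib.H28.FBN Cfsg.Agent.Lib.H29.OddSt Cfsg.Agent.Lib.H13.OddSt

/-- **OODD** (`m ≥ 3`: the form has dimension `2m + 1 ≥ 7`) -/
theorem og_POmegaOdd (F : Type*) [Field F] [Fintype F] (p : ℕ) [Fact p.Prime] [CharP F p] (m : ℕ) (hm : 3 ≤ m)
    (hodd : Odd (Fintype.card F)) : OvergroupProp p (POmega F (quadFormOdd m F)) := by
  classical
  have hpp : p.Prime := Fact.out
  have hm1 : 1 ≤ m := by omega
  have h2 : (2 : F) ≠ 0 := two_ne_zero_of_odd hodd
  have hφ2 : ∀ x : F, (RingHom.id F) ((RingHom.id F) x) = x := fun _ => rfl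
  have hE : (2 * m + 1) % 2 = 0 → ∃ c : F, c ≠ 0 ∧ c + (RingHom.id F) c = 0 := fun h => absurd h (by omega)
  have hO : (2 * m + 1) % 2 = 1 → ∃ β : F, β + (RingHom.id F) β + 1 = 0 := fun _ =>
    ⟨-(1 / 2), by
      rw [RingHom.id_apply]
      field_simp
      ring⟩
  let P := flagBN (n := 2 * m + 1) (RingHom.id F) hφ2 hE hO
  let D := flagRootData (n := 2 * m + 1) (RingHom.id F) hφ2 hE hO
  let G' : Subgroup ↥(GS (n := 2 * m + 1) (RingHom.id F)) :=
    commutator ↥(GS (n := 2 * m + 1) (RingHom.id F))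
  have covers' : ∀ h : ↥(GS (n := 2 * m + 1) (RingHom.id F)),
      ∃ t ∈ Ts (n := 2 * m + 1) (RingHom.id F), h * t ∈ G' := covers_GS hodd m hm1 p
  have hcov : Covers P G' := by
    intro h
    obtain ⟨t, ht, h'⟩ := covers' h
    exact ⟨t, ⟨Ts_le_Bs ht, Ts_le_Ns ht⟩, h'⟩
  choose τ hτ1 hτ2 using covers'
  have hτ : ∀ s ∈ P.S, τ s ∈ P.B ⊓ P.N := fun s _ => ⟨Ts_le_Bs (hτ1 s), Ts_le_Ns (hτ1 s)⟩
  have hτG : ∀ s ∈ P.S, s * τ s ∈ G' := fun s _ => hτ2 s
  have hτT : ∀ i, τ (D.e i) ∈ D.T := fun i => hτ1 _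
  have hUG : D.U ≤ G' := Us_le_commutator hodd m hm1 p
  have hXG : ∀ i, D.X i ⊆ ((G' : Subgroup ↥(GS (n := 2 * m + 1) (RingHom.id F))) :
      Set ↥(GS (n := 2 * m + 1) (RingHom.id F))) :=
    fun i x hx => hUG (X_subset_Us i hx)
  have hYG : ∀ i, D.Y i ⊆ ((G' : Subgroup ↥(GS (n := 2 * m + 1) (RingHom.id F))) :
      Set ↥(GS (n := 2 * m + 1) (RingHom.id F))) := by
    intro i y hy
    have h1 : sRef (RingHom.id F) i * y * (sRef (RingHom.id F) i)⁻¹ ∈ G' :=
      hUG (X_subset_Us i (sRef_conj_Y (RingHom.id F) i y hy))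
    have e : y = (sRef (RingHom.id F) i)⁻¹ * (sRef (RingHom.id F) i * y * (sRef (RingHom.id F) i)⁻¹) *
        ((sRef (RingHom.id F) i)⁻¹)⁻¹ := by group
    rw [e]
    exact (inferInstance : G'.Normal).conj_mem _ h1 _
  let D' := D.restrict G' hcov τ hτ hτG hτT hXG hYG hUG
  let P' := Cfsg.Agent.Lib.H8.BNRes.restrict P G' hcov τ hτ hτG
  have hU' : IsPGroup p ↥D'.U := by
    have h1 : IsPGroup p ↥(Us (n := 2 * m + 1) (RingHom.id F)) := Us_isPGroup (RingHom.id F) p
    exact h1.of_injective (Subgroup.subgroupOfEquivOfLe hUG).toMonoidHom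
      (Subgroup.subgroupOfEquivOfLe hUG).injective
  have hT' : (Nat.card ↥D'.T).Coprime p := by
    have h1 : (Nat.card ↥(Ts (n := 2 * m + 1) (RingHom.id F))).Coprime p := card_Ts_coprime (RingHom.id F) p
    let f : ↥((Ts (n := 2 * m + 1) (RingHom.id F)).subgroupOf G') →* ↥(Ts (n := 2 * m + 1) (RingHom.id F)) :=
      { toFun := fun x => ⟨(x : ↥G'), Subgroup.mem_subgroupOf.mp x.2⟩
        map_one' := rfl
        map_mul' := fun _ _ => rfl }
    have hf : Function.Injective f := by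
      intro x y h
      apply Subtype.ext
      apply Subtype.ext
      exact congrArg (fun z : ↥(Ts (n := 2 * m + 1) (RingHom.id F)) =>
        (z : ↥(GS (n := 2 * m + 1) (RingHom.id F)))) h
    exact Nat.Coprime.coprime_dvd_left (Subgroup.card_dvd_of_injective f hf) h1
  -- the centre lies in the torus
  have hZc : (Nat.card ↥(Subgroup.center ↥G')).Coprime p := by
    have hle : Subgroup.center ↥G' ≤ D'.T := fun z hz => D'.center_le_T hz
    exact Nat.Coprime.coprime_dvd_left (Subgroup.card_dvd_of_le hle) hT'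
  -- the radicals
  have hQ : ∀ i : Fin ((2 * m + 1) / 2), ∃ Q : Subgroup ↥G', Q ≠ ⊥ ∧ Q ≤ D'.U ∧
      (∀ b' ∈ P'.B, ∀ x ∈ Q, b' * x * b'⁻¹ ∈ Q) ∧
      ∀ j : Fin ((2 * m + 1) / 2), j ≠ i → ∀ x ∈ Q, D'.e j * x * (D'.e j)⁻¹ ∈ Q := by
    intro i
    refine ⟨(QF (n := 2 * m + 1) (RingHom.id F) i).subgroupOf G', ?_, ?_, ?_, ?_⟩
    · -- nontrivial
      intro hbot
      apply QF_ne_bot (n := 2 * m + 1) (RingHom.id F) hφ2 hE hO i
      rw [eq_bot_iff]
      intro x hx
      have hG : x ∈ G' := hUG (QF_le_Us (RingHom.id F) i hx)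
      have h1 : (⟨x, hG⟩ : ↥G') ∈ (QF (n := 2 * m + 1) (RingHom.id F) i).subgroupOf G' :=
        Subgroup.mem_subgroupOf.mpr hx
      rw [hbot, Subgroup.mem_bot] at h1
      rw [Subgroup.mem_bot]
      exact congrArg Subtype.val h1
    · intro x hx
      exact Subgroup.mem_subgroupOf.mpr (QF_le_Us (RingHom.id F) i (Subgroup.mem_subgroupOf.mp hx))
    · intro b' hb x hx
      have hbB : (b' : ↥(GS (n := 2 * m + 1) (RingHom.id F))) ∈ Bs (RingHom.id F) :=
        (mem_restrict_B G' hcov τ hτ hτG b').mp hb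
      rw [Subgroup.mem_subgroupOf] at hx ⊢
      have hn := Bs_le_normalizer_QF (RingHom.id F) i hbB
      exact (Subgroup.mem_normalizer_iff.mp hn _).mp hx
    · intro j hji x hx
      rw [Subgroup.mem_subgroupOf] at hx ⊢
      have he : ((D'.e j : ↥G') : ↥(GS (n := 2 * m + 1) (RingHom.id F))) =
          sRef (RingHom.id F) j * τ (sRef (RingHom.id F) j) := rfl
      have hmemN : ((D'.e j : ↥G') : ↥(GS (n := 2 * m + 1) (RingHom.id F))) ∈
          Subgroup.normalizer ((QF (n := 2 * m + 1) (RingHom.id F) i :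
            Subgroup ↥(GS (n := 2 * m + 1) (RingHom.id F))) : Set ↥(GS (n := 2 * m + 1) (RingHom.id F))) := by
        rw [he]
        exact Subgroup.mul_mem _ (sRef_mem_normalizer_QF (RingHom.id F) i j hji)
          (Bs_le_normalizer_QF (RingHom.id F) i (Ts_le_Bs (hτ1 _)))
      exact (Subgroup.mem_normalizer_iff.mp hmemN _).mp hx
  -- the quotient map
  obtain ⟨ψ, -⟩ := Cfsg.Agent.Lib.H29.OddSt.nonempty_iso_odd h2 m
  let e := Cfsg.Agent.Lib.H8.BNSteinberg.centerQuotientCongr (commutatorCongr ψ)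
  let π : ↥G' →* POmega F (quadFormOdd m F) :=
    e.toMonoidHom.comp (QuotientGroup.mk' (Subgroup.center ↥G'))
  have hπ : Function.Surjective π := e.surjective.comp (QuotientGroup.mk'_surjective _)
  have hkerEq : π.ker = Subgroup.center ↥G' := by
    ext x
    rw [MonoidHom.mem_ker]
    constructor
    · intro h
      have h1 : e (QuotientGroup.mk' (Subgroup.center ↥G') x) = 1 := h
      have h2 : QuotientGroup.mk' (Subgroup.center ↥G') x = 1 := by
        rw [← map_one e] at h1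
        exact e.injective h1
      exact (QuotientGroup.eq_one_iff x).mp h2
    · intro h
      have h2 : QuotientGroup.mk' (Subgroup.center ↥G') x = 1 := (QuotientGroup.eq_one_iff x).mpr h
      show e (QuotientGroup.mk' (Subgroup.center ↥G') x) = 1
      rw [h2, map_one]
  have hker : (Nat.card ↥π.ker).Coprime p := by
    rw [hkerEq]
    exact hZc
  have : Nonempty (Fin ((2 * m + 1) / 2)) := ⟨⟨0, by omega⟩⟩
  have : IsSimpleGroup (POmega F (quadFormOdd m F)) := Cfsg.Agent.S0295.result hodd m hm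
  exact overgroupProp_of_rootData_simple D' p hU' hQ π hπ hker

end Cfsg.Agent.Lib.H21.OG
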