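import Mathlib
import Cfsg.Agent.Lib.H26.PPearlDefs

/-!
# S5238 piece PW (helper21, for architect helper26): the power structure of `γ₂`, general `p`

`pow_struct_of_collect` is proved on top of the STATEMENT of COLLECT (as a hypothesis for `T = G`).
-/

set_option autoImplicit false

namespace Cfsg.Agent.Lib.H21.PPearl

open Cfsg.Agent.Lib.H22.Pearl Cfsg.Agent.Lib.H26.PPearl

variable {G : Type*} [Group G] {e : G}

theorem ppw_L_anti {i j : ℕ} (h : i ≤ j) : L G j ≤ L G i :=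
  Subgroup.lowerCentralSeries_antitone _ h

theorem ppw_comm_mem {i j : ℕ} {x y : G} (hx : x ∈ L G i) (hy : y ∈ L G j) :
    x * y * x⁻¹ * y⁻¹ ∈ L G (i + j + 1) :=
  Cfsg.Agent.Lib.H9.PolySeq.commutator_lcs_le j i (Subgroup.commutator_mem_commutator hx hy)

theorem ppw_comm_top_mem {i : ℕ} {x : G} (hx : x ∈ L G i) (y : G) :
    x * y * x⁻¹ * y⁻¹ ∈ L G (i + 1) :=
  Subgroup.commutator_mem_commutator hx (Subgroup.mem_top y)

/-- `d_j ∈ L (i+j)` for `d ∈ L i`. -/
theorem ppw_itc_mem {i : ℕ} {d : G} (hd : d ∈ L G i) : ∀ j, itc e d j ∈ L G (i + j)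
  | 0 => hd
  | (j + 1) => by
    rw [itc_succ]
    have := ppw_comm_top_mem (inv_mem (ppw_itc_mem hd j)) e
    rwa [inv_inv] at this

/-- `d_j ∉ L (i+j+1)` for `d ∈ L i \ L (i+1)`, as long as `i + j < m`. -/
theorem ppw_itc_not_mem (m : ℕ)
    (hU2 : ∀ i, 1 ≤ i → i + 1 < m → ∀ d ∈ L G i, d ∉ L G (i + 1) → d * e * d⁻¹ * e⁻¹ ∉ L G (i + 2))
    {i : ℕ} (hi : 1 ≤ i) {d : G} (hd : d ∈ L G i) (hd' : d ∉ L G (i + 1)) :
    ∀ j, i + j < m → itc e d j ∉ L G (i + j + 1)
  | 0 => fun _ => hd'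
  | (j + 1) => fun hj => by
    rw [itc_succ]
    have hmem : itc e d j ∈ L G (i + j) := ppw_itc_mem hd j
    have hnot : itc e d j ∉ L G (i + j + 1) := ppw_itc_not_mem m hU2 hi hd hd' j (by omega)
    have := hU2 (i + j) (by omega) (by omega) (itc e d j)⁻¹ (inv_mem hmem)
      (fun h => hnot (by simpa using inv_mem h))
    rwa [inv_inv] at this

/-- **PW** on top of the statement of COLLECT. -/
theorem pow_struct_of_collect {p : ℕ} (hp : p.Prime)
    (hcol : ∀ K : ℕ → Subgroup G, (∀ a, (K a).Normal) → (∀ a, K (a + 1) ≤ K a) →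
      (∀ a b, ∀ x ∈ K a, ∀ y ∈ K b, x * y * x⁻¹ * y⁻¹ ∈ K (a + b + 2)) →
      (∀ a, ∀ x ∈ K a, x * e * x⁻¹ * e⁻¹ ∈ K (a + 1)) →
      (∀ x ∈ K 1, x ^ p ∈ K p) →
      ∀ d : G, d ∈ K 0 → ((d * e) ^ p)⁻¹ * (d ^ p * itc e d (p - 1) * e ^ p) ∈ K p)
    (he : e ^ p = 1) (m : ℕ) (hbot : L G m = ⊥)
    (hcls : ∀ d ∈ L G 1, (e * d) ^ p = 1)
    (hU2 : ∀ i, 1 ≤ i → i + 1 < m → ∀ d ∈ L G i, d ∉ L G (i + 1) → d * e * d⁻¹ * e⁻¹ ∉ L G (i + 2)) :
    ∀ i, 1 ≤ i → (∀ d ∈ L G i, d ^ p ∈ L G (i + (p - 1))) ∧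
      (i + (p - 1) < m → ∀ d ∈ L G i, d ∉ L G (i + 1) → d ^ p ∉ L G (i + p)) := by
  have hp1 : 1 ≤ p := hp.pos
  have main : ∀ k i, m ≤ i + k → 1 ≤ i → (∀ d ∈ L G i, d ^ p ∈ L G (i + (p - 1))) ∧
      (i + (p - 1) < m → ∀ d ∈ L G i, d ∉ L G (i + 1) → d ^ p ∉ L G (i + p)) := by
    intro k
    induction k with
    | zero =>
      intro i hmi hi
      have hLi : L G i = ⊥ := le_bot_iff.1 (hbot ▸ ppw_L_anti (by omega))
      refine ⟨fun d hd => ?_, fun h => by omega⟩
      rw [hLi, Subgroup.mem_bot] at hd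
      subst hd
      rw [one_pow]; exact one_mem _
    | succ k ih =>
      intro i hmi hi
      obtain ⟨ihA, -⟩ := ih (i + 1) (by omega) (by omega)
      -- the key relation from COLLECT
      have key : ∀ d ∈ L G i, d ^ p * itc e d (p - 1) ∈ L G (i + p) := by
        intro d hd
        have h := hcol (fun a => L G (i + a)) (fun a => inferInstance)
          (fun a => ppw_L_anti (by omega))
          (fun a b x hx y hy => ppw_L_anti (by omega) (ppw_comm_mem hx hy))
          (fun a x hx => ppw_comm_top_mem hx e)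
          (fun x hx => ppw_L_anti (by omega) (ihA x hx))
          d hd
        have hde : (d * e) ^ p = 1 := by
          have h1 : d * e = e⁻¹ * (e * d) * e⁻¹⁻¹ := by group
          rw [h1, conj_pow, hcls d (ppw_L_anti hi hd)]; group
        rw [hde, he, inv_one, one_mul, mul_one] at h
        exact h
      refine ⟨fun d hd => ?_, fun him d hd hd' => ?_⟩
      · have h1 := key d hd
        have h2 : itc e d (p - 1) ∈ L G (i + (p - 1)) := ppw_itc_mem hd (p - 1)
        have := mul_mem (ppw_L_anti (show i + (p - 1) ≤ i + p by omega) h1) (inv_mem h2)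
        rwa [mul_inv_cancel_right] at this
      · intro hdp
        have h1 := key d hd
        have h2 : itc e d (p - 1) ∉ L G (i + (p - 1) + 1) :=
          ppw_itc_not_mem m hU2 hi hd hd' (p - 1) him
        apply h2
        have := mul_mem (inv_mem hdp) h1
        rw [inv_mul_cancel_left] at this
        exact ppw_L_anti (by omega) this
  intro i hi
  exact main m i (by omega) hi

end Cfsg.Agent.Lib.H21.PPearl
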