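import Mathlib
import Cfsg.Agent.Lib.H26.PPearlCollect
import Cfsg.Agent.Lib.H21.PPearlPW

/-!
# S5238 piece PW (helper21, for architect helper26): `pow_struct`, exact signature
(`pow_struct_of_collect` + helper26's COLLECT)
-/

set_option autoImplicit false

namespace Cfsg.Agent.Lib.H21.PPearl

open Cfsg.Agent.Lib.H22.Pearl Cfsg.Agent.Lib.H26.PPearl

variable {G : Type*} [Group G] {e : G}

/-- **PW**. -/
theorem pow_struct {p : ℕ} (hp : p.Prime) (he : e ^ p = 1) (m : ℕ) (hbot : L G m = ⊥)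
    (hcls : ∀ d ∈ L G 1, (e * d) ^ p = 1)
    (hU2 : ∀ i, 1 ≤ i → i + 1 < m → ∀ d ∈ L G i, d ∉ L G (i + 1) → d * e * d⁻¹ * e⁻¹ ∉ L G (i + 2)) :
    ∀ i, 1 ≤ i → (∀ d ∈ L G i, d ^ p ∈ L G (i + (p - 1))) ∧
      (i + (p - 1) < m → ∀ d ∈ L G i, d ∉ L G (i + 1) → d ^ p ∉ L G (i + p)) :=
  pow_struct_of_collect hp
    (fun K h1 h2 h3 h4 h5 d hd => Cfsg.Agent.Lib.H26.PPearl.collect hp K e h1 h2 h3 h4 h5 d hd)
    he m hbot hcls hU2

end Cfsg.Agent.Lib.H21.PPearl
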