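import Mathlib
import Cfsg.Agent.Lib.H26.PPearlDefs
import Cfsg.Agent.Lib.H11.PearlFILB
import Cfsg.Agent.Lib.H12.PearlT

/-!
# S5238 piece TWO (helper21, for architect helper26): subgroups containing a uniform element are 2-generated
-/

set_option autoImplicit false
set_option linter.style.haveILetI false

namespace Cfsg.Agent.Lib.H21.PPearl

open Cfsg.Agent.Lib.H22.Pearl Cfsg.Agent.Lib.H26.PPearl Cfsg.Agent.Lib.H12.Pearl

/-- IDX for a general prime (own copy, after helper23's `Lib/H23/PearlIDX.lean`). -/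
theorem ptwo_idx {p : ℕ} [Fact p.Prime] {G : Type*} [Group G] [Finite G] (H K : Subgroup G)
    (hKH : K ≤ H) (hN : ∀ h ∈ H, ∀ k ∈ K, h * k * h⁻¹ ∈ K) (hc : Nat.card ↥H = p * Nat.card ↥K) :
    ∀ g ∈ H, ∀ w ∈ H, w ∉ K → ∃ j : ℕ, g * w ^ j ∈ K := by
  intro g hg w hw hwK
  set K' : Subgroup ↥H := K.subgroupOf H with hK'
  haveI hK'n : K'.Normal := by
    constructor
    intro k hk h
    rw [hK', Subgroup.mem_subgroupOf] at hk ⊢
    have := hN h.1 h.2 k.1 hk
    simpa using this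
  have hcardK' : Nat.card ↥K' = Nat.card ↥K :=
    Nat.card_congr (Subgroup.subgroupOfEquivOfLe hKH).toEquiv
  have hKpos : 0 < Nat.card ↥K := Nat.card_pos
  have hq : Nat.card (↥H ⧸ K') = p := by
    have h1 := Subgroup.card_eq_card_quotient_mul_card_subgroup K'
    rw [hcardK', hc] at h1
    exact (Nat.eq_of_mul_eq_mul_right hKpos h1).symm
  set wq : ↥H ⧸ K' := QuotientGroup.mk ⟨w, hw⟩ with hwq
  set gq : ↥H ⧸ K' := QuotientGroup.mk ⟨g, hg⟩ with hgq
  have hwq1 : wq ≠ 1 := by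
    intro h
    rw [hwq, QuotientGroup.eq_one_iff, hK', Subgroup.mem_subgroupOf] at h
    exact hwK h
  have htop : Subgroup.zpowers wq = ⊤ := zpowers_eq_top_of_prime_card hq hwq1
  have hmem : gq⁻¹ ∈ Subgroup.zpowers wq := by rw [htop]; trivial
  haveI : Finite (↥H ⧸ K') := Nat.finite_of_card_ne_zero (by rw [hq]; exact (Fact.out : p.Prime).ne_zero)
  rw [← mem_powers_iff_mem_zpowers] at hmem
  obtain ⟨j, hj⟩ := hmem
  refine ⟨j, ?_⟩
  have h2 : gq * wq ^ j = 1 := by
    have : wq ^ j = gq⁻¹ := hj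
    rw [this, mul_inv_cancel]
  have h3 : (QuotientGroup.mk (⟨g, hg⟩ * ⟨w, hw⟩ ^ j : ↥H) : ↥H ⧸ K') = 1 := by
    rw [QuotientGroup.mk_mul, QuotientGroup.mk_pow]
    exact h2
  rw [QuotientGroup.eq_one_iff, hK', Subgroup.mem_subgroupOf] at h3
  simpa using h3

/-- helper12's `comm_shift_zero` with `S1 G` replaced by an arbitrary subgroup `M0`. -/
theorem ptwo_shift_zero {G : Type*} [Group G] (M0 : Subgroup G) (hne : ¬ L G 1 ≤ L G 2)
    (hidx0 : ∀ g ∈ M0, ∀ w ∈ M0, w ∉ L G 1 → ∃ j : ℕ, g * w ^ j ∈ L G 1)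
    (t : G) (hidxt : ∀ g : G, ∃ j : ℕ, g * t ^ j ∈ M0) :
    ∀ d ∈ M0, d ∉ L G 1 → d * t * d⁻¹ * t⁻¹ ∉ L G 2 := by
  intro d hd hdn hc
  apply hne
  set π := QuotientGroup.mk' (L G 2) with hπ
  have hcomm : Commute (π d) (π t) := (t_comm_mem_iff (L G 2) d t).mp hc
  have hL1 : ∀ x ∈ L G 1, ∀ g : G, Commute (π x) (π g) := fun x hx g =>
    (t_comm_mem_iff (L G 2) x g).mp (t_comm_mem_succ hx g)
  have hdec : ∀ g : G, ∃ (j j' : ℕ) (l : G), l ∈ L G 1 ∧ g * t ^ j * d ^ j' = l := by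
    intro g
    obtain ⟨j, hj⟩ := hidxt g
    obtain ⟨j', hj'⟩ := hidx0 _ hj d hd hdn
    exact ⟨j, j', _, hj', rfl⟩
  have hdZ : ∀ g : G, Commute (π d) (π g) := by
    intro g
    obtain ⟨j, j', l, hl, hg⟩ := hdec g
    have hg' : g = l * (d ^ j')⁻¹ * (t ^ j)⁻¹ := by rw [← hg]; group
    rw [hg', map_mul, map_mul, map_inv, map_inv, map_pow, map_pow]
    exact (((hL1 l hl d).symm).mul_right ((Commute.refl _).pow_right j').inv_right).mul_right
      (hcomm.pow_right j).inv_right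
  have htS : ∀ s ∈ M0, Commute (π t) (π s) := by
    intro s hs
    obtain ⟨j', hj'⟩ := hidx0 s hs d hd hdn
    have hs' : s = (s * d ^ j') * (d ^ j')⁻¹ := by group
    rw [hs', map_mul, map_inv, map_pow]
    exact ((hL1 _ hj' t).symm).mul_right ((hdZ t).symm.pow_right j').inv_right
  have htZ : ∀ g : G, Commute (π t) (π g) := by
    intro g
    obtain ⟨j, hj⟩ := hidxt g
    have hg' : g = (g * t ^ j) * (t ^ j)⁻¹ := by group
    rw [hg', map_mul, map_inv, map_pow]
    exact (htS _ hj).mul_right ((Commute.refl _).pow_right j).inv_right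
  have hall : ∀ a b : G, Commute (π a) (π b) := by
    intro a b
    obtain ⟨j, j', l, hl, hg⟩ := hdec a
    have ha' : a = l * (d ^ j')⁻¹ * (t ^ j)⁻¹ := by rw [← hg]; group
    rw [ha', map_mul, map_mul, map_inv, map_inv, map_pow, map_pow]
    exact ((hL1 l hl b).mul_left ((hdZ b).pow_left j').inv_left).mul_left ((htZ b).pow_left j).inv_left
  change ⁅(⊤ : Subgroup G).lowerCentralSeries 0, (⊤ : Subgroup G)⁆ ≤ L G 2
  rw [Subgroup.commutator_le]
  intro a _ b _
  exact (t_comm_mem_iff (L G 2) a b).mpr (hall a b)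

theorem ptwo_conj_mem {G : Type*} [Group G] {i : ℕ} {x : G} (hx : x ∈ L G i) (g : G) :
    g * x * g⁻¹ ∈ L G i :=
  (inferInstance : (L G i).Normal).conj_mem x hx g

/-- **TWO**. -/
theorem two_gen_of_uniform {p : ℕ} [Fact p.Prime] {G : Type*} [Group G] [Finite G] {n : ℕ}
    (hn : 3 ≤ n) (hG : Nat.card G = p ^ n)
    (hcard : ∀ i, 1 ≤ i → i ≤ n - 1 → Nat.card ↥(L G i) = p ^ (n - 1 - i))
    (t : G) (ht : t ∉ L G 1)
    (hU2 : ∀ i, 1 ≤ i → i + 2 < n → ∀ d ∈ L G i, d ∉ L G (i + 1) → d * t * d⁻¹ * t⁻¹ ∉ L G (i + 2))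
    (H : Subgroup G) (htH : t ∈ H) : ∃ x : G, Subgroup.closure ({t, x} : Set G) = H := by
  classical
  have hpp : p.Prime := Fact.out
  have hp2 : 2 ≤ p := hpp.two_le
  have hc1 : Nat.card ↥(L G 1) = p ^ (n - 2) := by
    have := hcard 1 le_rfl (by omega)
    rwa [show n - 1 - 1 = n - 2 by omega] at this
  have hc2 : Nat.card ↥(L G 2) = p ^ (n - 3) := by
    have := hcard 2 (by omega) (by omega)
    rwa [show n - 1 - 2 = n - 3 by omega] at this
  have hmc : L G (n - 2) ≠ ⊥ := by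
    intro h
    have h1 := hcard (n - 2) (by omega) (by omega)
    rw [h, Subgroup.card_bot, show n - 1 - (n - 2) = 1 by omega, pow_one] at h1
    omega
  have hpow : ∀ x : G, x ^ p ∈ L G 1 := fun x =>
    Cfsg.Agent.Lib.H22.MCS.pow_mem_commutator_of_maxclass p hn hG hmc x
  have hne : ¬ L G 1 ≤ L G 2 := by
    intro h
    have h1 := Subgroup.card_le_of_le h
    rw [hc1, hc2] at h1
    have h2 : p ^ (n - 3) < p ^ (n - 2) := Nat.pow_lt_pow_right hpp.one_lt (by omega)
    omega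
  -- the quotient `Q = G / L 1` of order `p²`
  set π := QuotientGroup.mk' (L G 1) with hπ
  have hπs : Function.Surjective π := QuotientGroup.mk'_surjective _
  have hQ : Nat.card (G ⧸ L G 1) = p ^ 2 := by
    have h2 := Subgroup.card_eq_card_quotient_mul_card_subgroup (L G 1)
    rw [hG, hc1] at h2
    have h3 : p ^ n = p ^ 2 * p ^ (n - 2) := by rw [← pow_add]; congr 1; omega
    rw [h3] at h2
    exact (Nat.eq_of_mul_eq_mul_right (pow_pos hpp.pos _) h2).symm
  have hord : ∀ g : G, g ∉ L G 1 → Nat.card (Subgroup.zpowers (π g)) = p := by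
    intro g hg
    rw [Nat.card_zpowers]
    apply orderOf_eq_prime
    · rw [← map_pow, hπ, QuotientGroup.mk'_apply, QuotientGroup.eq_one_iff]; exact hpow g
    · rw [hπ, QuotientGroup.mk'_apply, Ne, QuotientGroup.eq_one_iff]; exact hg
  -- choose `s`
  obtain ⟨s, hs⟩ : ∃ s : G, π s ∉ Subgroup.zpowers (π t) := by
    by_contra hcon
    push Not at hcon
    have htop : Subgroup.zpowers (π t) = ⊤ := by
      rw [eq_top_iff]
      intro q _
      obtain ⟨g, rfl⟩ := hπs q
      exact hcon g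
    have h1 := hord t ht
    rw [htop, Subgroup.card_top, hQ] at h1
    have : p ^ 2 = p * p := pow_two p
    nlinarith
  have hsL : s ∉ L G 1 := by
    intro h
    apply hs
    have : π s = 1 := by rw [hπ, QuotientGroup.mk'_apply, QuotientGroup.eq_one_iff]; exact h
    rw [this]; exact one_mem _
  set Z : Subgroup (G ⧸ L G 1) := Subgroup.zpowers (π s) with hZ
  have hZc : Nat.card Z = p := hord s hsL
  set M0 : Subgroup G := Z.comap π with hM0
  have hL1M0 : L G 1 ≤ M0 := by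
    intro x hx
    rw [hM0, Subgroup.mem_comap]
    have : π x = 1 := by rw [hπ, QuotientGroup.mk'_apply, QuotientGroup.eq_one_iff]; exact hx
    rw [this]; exact one_mem _
  have hZi : Z.index = p := by
    have h1 := Subgroup.card_mul_index Z
    rw [hZc, hQ, pow_two] at h1
    exact Nat.eq_of_mul_eq_mul_left hpp.pos h1
  have hM0i : M0.index = p := by
    rw [hM0, Subgroup.index_comap_of_surjective _ hπs]; exact hZi
  have hM0c : Nat.card M0 = p ^ (n - 1) := by
    have h1 := Subgroup.card_mul_index M0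
    rw [hM0i, hG] at h1
    have h3 : p ^ n = p ^ (n - 1) * p := by rw [← pow_succ]; congr 1; omega
    rw [h3] at h1
    exact Nat.eq_of_mul_eq_mul_right hpp.pos h1
  have htM0 : t ∉ M0 := by
    intro h
    rw [hM0, Subgroup.mem_comap] at h
    have hle : Subgroup.zpowers (π t) ≤ Z := by
      rw [Subgroup.zpowers_le]; exact h
    have heq : Subgroup.zpowers (π t) = Z :=
      Subgroup.eq_of_le_of_card_ge hle (by rw [hZc, hord t ht])
    apply hs
    rw [heq, hZ]
    exact Subgroup.mem_zpowers _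
  -- normality facts
  have hnorm_top : ∀ h ∈ (⊤ : Subgroup G), ∀ k ∈ M0, h * k * h⁻¹ ∈ M0 := by
    intro h _ k hk
    have h1 : h * k * h⁻¹ * k⁻¹ ∈ L G 1 := t_comm_mem_succ (Subgroup.mem_top h) k
    have h2 : h * k * h⁻¹ = (h * k * h⁻¹ * k⁻¹) * k := by group
    rw [h2]
    exact M0.mul_mem (hL1M0 h1) hk
  have hidxt : ∀ g : G, ∃ j : ℕ, g * t ^ j ∈ M0 := by
    intro g
    have hc : Nat.card ↥(⊤ : Subgroup G) = p * Nat.card ↥M0 := by
      rw [Subgroup.card_top, hG, hM0c, ← pow_succ']; congr 1; omega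
    exact ptwo_idx (p := p) ⊤ M0 le_top hnorm_top hc g (Subgroup.mem_top g) t (Subgroup.mem_top t) htM0
  have hidx0 : ∀ g ∈ M0, ∀ w ∈ M0, w ∉ L G 1 → ∃ j : ℕ, g * w ^ j ∈ L G 1 := by
    have hc : Nat.card ↥M0 = p * Nat.card ↥(L G 1) := by
      rw [hM0c, hc1, ← pow_succ']; congr 1; omega
    exact ptwo_idx (p := p) M0 (L G 1) hL1M0 (fun h _ k hk => ptwo_conj_mem hk h) hc
  -- the filtration
  set M : ℕ → Subgroup G := fun i => if i = 0 then M0 else L G i with hMdef
  have hMz : M 0 = M0 := if_pos rfl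
  have hMs : ∀ i, M (i + 1) = L G (i + 1) := fun i => if_neg (Nat.succ_ne_zero i)
  have hFil : Fil M (n - 1) := by
    refine ⟨?_, ?_, ?_⟩
    · intro i
      cases i with
      | zero => rw [hMz, hMs]; exact hL1M0
      | succ i => rw [hMs, hMs]; exact t_L_succ_le (i + 1)
    · rw [show n - 1 = (n - 2) + 1 by omega, hMs]
      apply Subgroup.eq_bot_of_card_eq
      have := hcard (n - 2 + 1) (by omega) (by omega)
      rw [this, show n - 1 - (n - 2 + 1) = 0 by omega, pow_zero]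
    · intro i hi g hg w hw hw'
      cases i with
      | zero =>
        rw [hMz] at hg hw
        rw [hMs] at hw' ⊢
        exact hidx0 g hg w hw hw'
      | succ i =>
        rw [hMs] at hg hw
        rw [hMs] at hw' ⊢
        have hc : Nat.card ↥(L G (i + 1)) = p * Nat.card ↥(L G (i + 1 + 1)) := by
          rw [hcard (i + 1) (by omega) (by omega), hcard (i + 1 + 1) (by omega) (by omega),
            ← pow_succ']
          congr 1; omega
        exact ptwo_idx (p := p) (L G (i + 1)) (L G (i + 1 + 1)) (t_L_succ_le (i + 1))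
          (fun h _ k hk => ptwo_conj_mem hk h) hc g hg w hw hw'
  have hcomm : ∀ i, i + 1 < n - 1 → ∀ d ∈ M i, d ∉ M (i + 1) →
      d * t * d⁻¹ * t⁻¹ ∈ M (i + 1) ∧ d * t * d⁻¹ * t⁻¹ ∉ M (i + 2) := by
    intro i hi d hd hd'
    cases i with
    | zero =>
      rw [hMz] at hd
      rw [hMs] at hd'
      rw [hMs 0, hMs 1]
      exact ⟨t_comm_mem_succ (Subgroup.mem_top d) t,
        ptwo_shift_zero M0 hne hidx0 t hidxt d hd hd'⟩
    | succ i =>
      rw [hMs] at hd hd'
      rw [hMs (i + 1), hMs (i + 2)]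
      exact ⟨t_comm_mem_succ hd t, hU2 (i + 1) (by omega) (by omega) d hd hd'⟩
  exact Cfsg.Agent.Lib.H11.Pearl.fil_two_gen_of_not_le hFil t
    (fun g => by rw [hMz]; exact hidxt g) hcomm H htH

end Cfsg.Agent.Lib.H21.PPearl
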