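import Mathlib
import Cfsg.Agent.Lib.H21.NormMax
import Cfsg.Agent.Lib.H21.HallAbelian
import Cfsg.Agent.Lib.H5.PSL2PPrime
import Cfsg.Agent.Lib.H5.PSL2Borel
import Cfsg.Agent.Lib.H5.PSL2DihOddMax
import Cfsg.Agent.Lib.H5.PSL2PrimeMax
import Cfsg.Agent.Lib.H5.PSL2KleinNorm
import Cfsg.Agent.Lib.H5.PSL2MinIndex
import Cfsg.Agent.Lib.H5.PGL2.Inter
import Cfsg.Agent.Lib.H5.NCTools
import Cfsg.Agent.Lib.H5.SubgroupCard
import Cfsg.Agent.Lib.H8.CyclicTI

/-!
# In `PSL₂(13)` every non-normal subgroup is normalized by a maximal subgroup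
-/

set_option autoImplicit false
set_option linter.style.haveILetI false

namespace Cfsg.Agent.Lib.H21.PSL13

open Matrix Cfsg.Agent.Lib.H12 Cfsg.Agent.Lib.H5 Cfsg.Agent.Lib.H5.PSL2Torus
  Cfsg.Agent.Lib.H21.NormMax

variable {F : Type*} [Field F] [Fintype F]

local notation "SL2" => Matrix.SpecialLinearGroup (Fin 2) F
local notation "M2" => Matrix (Fin 2) (Fin 2) F
local notation "PSL2" => Matrix.ProjectiveSpecialLinearGroup (Fin 2) F

/-- for `q ≥ 13` odd every torus normalizer is maximal -/
theorem isCoatom_normalizer_tb (p : ℕ) [Fact p.Prime] [CharP F p] (hodd : Odd (Fintype.card F))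
    (h13 : 13 ≤ Fintype.card F) {x : PSL2} (hx : IsRegSS x) :
    IsCoatom (Subgroup.normalizer ((tb x : Subgroup PSL2) : Set PSL2)) := by
  rcases PSL2PPrime.card_tb hodd hx with hc | hc
  · obtain ⟨g, ht, htg, hog⟩ := PGL2Inter.exists_split_generator p hodd h13 hx hc
    rw [← htg]
    rw [← htg] at hc
    exact PSL2DihOddMax.isCoatom_normalizer hodd ht (Or.inr ⟨hc, h13, hog⟩)
  · obtain ⟨g₀, hg₀⟩ : ∃ g₀ : SL2, g₀ = Quotient.out x := ⟨_, rfl⟩
    have htb : tb x = torus g₀ := by rw [hg₀]; rfl
    have ht₀ : (g₀ : M2).trace ^ 2 ≠ 4 := hx g₀ (by rw [hg₀]; exact pr_out x)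
    rw [htb]
    rw [htb] at hc
    exact PSL2DihOddMax.isCoatom_normalizer hodd ht₀ (Or.inl ⟨hc, by omega, by omega⟩)

/-- nontrivial cyclic `p'`-subgroups are normalized by a torus normalizer -/
theorem exists_coatom_of_cyclic (p : ℕ) [Fact p.Prime] [CharP F p] (hodd : Odd (Fintype.card F))
    (h13 : 13 ≤ Fintype.card F) (H : Subgroup PSL2) (hcyc : IsCyclic H) (hbot : H ≠ ⊥)
    (hp : ¬ p ∣ Nat.card H) :
    ∃ M : Subgroup PSL2, IsCoatom M ∧ M ≤ Subgroup.normalizer (H : Set PSL2) := by
  obtain ⟨h, hh⟩ := (H.isCyclic_iff_exists_zpowers_eq_top).mp hcyc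
  have hh1 : h ≠ 1 := by
    rintro rfl
    rw [Subgroup.zpowers_one_eq_bot] at hh
    exact hbot hh.symm
  have hord : orderOf h = Nat.card H := by rw [← hh, Nat.card_zpowers]
  have hx : IsRegSS h := PSL2PPrime.isRegSS_of_not_dvd p hh1 (by rw [hord]; exact hp)
  refine ⟨_, isCoatom_normalizer_tb p hodd h13 hx, ?_⟩
  haveI : IsCyclic (tb h) := isCyclic_tb hodd hx
  have hHt : H ≤ tb h := by
    rw [← hh, Subgroup.zpowers_le]
    exact self_mem_tb h
  intro a ha
  apply mem_normalizer_of_forall_conj_mem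
  intro y hy
  exact Cfsg.Agent.Lib.H8.conj_mem_of_le_isCyclic hHt
    (fun z hz => (Subgroup.mem_normalizer_iff.mp ha z).mp hz) hy

theorem dihedral_conj_r_one (k : ℕ) (d : DihedralGroup k) :
    d * DihedralGroup.r 1 * d⁻¹ = DihedralGroup.r 1 ∨
      d * DihedralGroup.r 1 * d⁻¹ = (DihedralGroup.r 1)⁻¹ := by
  cases d with
  | r i => left; simp
  | sr i => right; simp


theorem card_psl13 (hF : Fintype.card F = 13) : Nat.card PSL2 = 1092 := by
  have hodd : Odd (Fintype.card F) := by rw [hF]; decide
  have := PSL2PrimeMax.two_mul_card (F := F) hodd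
  rw [hF] at this
  omega

/-- dihedral subgroups of order at least six are normalized by a torus normalizer -/
theorem exists_coatom_of_dihedral [Fact (Nat.Prime 13)] [CharP F 13] (hF : Fintype.card F = 13)
    (H : Subgroup PSL2) (k : ℕ) (hk : 3 ≤ k) (hkd : 2 * k ∣ Fintype.card F - 1 ∨
      2 * k ∣ Fintype.card F + 1) (e : H ≃* DihedralGroup k) :
    ∃ M : Subgroup PSL2, IsCoatom M ∧ M ≤ Subgroup.normalizer (H : Set PSL2) := by
  have hodd : Odd (Fintype.card F) := by rw [hF]; decide
  have h13 : 13 ≤ Fintype.card F := by rw [hF]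
  rw [hF] at hkd
  have hk7 : k = 3 ∨ k = 6 ∨ k = 7 := by
    rcases hkd with h | h
    · have := Nat.le_of_dvd (by norm_num) h
      have hk6 : k ≤ 6 := by omega
      interval_cases k
      · left; rfl
      · norm_num at h
      · norm_num at h
      · right; left; rfl
    · have := Nat.le_of_dvd (by norm_num) h
      have hk6 : k ≤ 7 := by omega
      interval_cases k
      · norm_num at h
      · norm_num at h
      · norm_num at h
      · norm_num at h
      · right; right; rfl
  haveI : NeZero k := ⟨by omega⟩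
  set c' : H := e.symm (DihedralGroup.r 1) with hc'
  set c : PSL2 := (c' : PSL2) with hc
  have hoc : orderOf c = k := by
    rw [hc, Subgroup.orderOf_coe, hc', MulEquiv.orderOf_eq, DihedralGroup.orderOf_r_one]
  have hc1 : c ≠ 1 := by
    intro h1
    rw [h1, orderOf_one] at hoc
    omega
  have hx : IsRegSS c := by
    apply PSL2PPrime.isRegSS_of_not_dvd 13 hc1
    rw [hoc]
    rcases hk7 with rfl | rfl | rfl <;> norm_num
  have hHN : H ≤ Subgroup.normalizer ((tb c : Subgroup PSL2) : Set PSL2) := by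
    intro g hg
    rw [PSL2DihOdd.mem_normalizer_tb_iff hc1]
    have key : (⟨g, hg⟩ : H) * c' * (⟨g, hg⟩ : H)⁻¹ = c' ∨
        (⟨g, hg⟩ : H) * c' * (⟨g, hg⟩ : H)⁻¹ = c'⁻¹ := by
      rcases dihedral_conj_r_one k (e ⟨g, hg⟩) with h | h
      · left
        apply e.injective
        rw [map_mul, map_mul, map_inv, hc', e.apply_symm_apply, h]
      · right
        apply e.injective
        rw [map_mul, map_mul, map_inv, map_inv, hc', e.apply_symm_apply, h]
    rcases key with h | h
    · have := congrArg Subtype.val h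
      simp only [Subgroup.coe_mul, Subgroup.coe_inv] at this
      rw [← hc] at this
      rw [this]
      exact self_mem_tb c
    · have := congrArg Subtype.val h
      simp only [Subgroup.coe_mul, Subgroup.coe_inv] at this
      rw [← hc] at this
      rw [this]
      exact (tb c).inv_mem (self_mem_tb c)
  refine ⟨_, isCoatom_normalizer_tb 13 hodd h13 hx, ?_⟩
  have hcH : Nat.card H = 2 * k := by
    rw [Nat.card_congr e.toEquiv, DihedralGroup.nat_card]
  have hcN := PSL2DihOdd.card_normalizer_tb hodd hx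
  have hkt : k ∣ Nat.card (tb c) := by
    rw [← hoc]
    exact Subgroup.orderOf_dvd_natCard _ (self_mem_tb c)
  have hct := PSL2PPrime.card_tb hodd hx
  rw [hF] at hct
  have hcases : Nat.card (Subgroup.normalizer ((tb c : Subgroup PSL2) : Set PSL2)) = Nat.card H ∨
      Nat.card (Subgroup.normalizer ((tb c : Subgroup PSL2) : Set PSL2)) = 2 * Nat.card H := by
    rw [hcN, hcH]
    rcases hct with h | h
    · have h6 : Nat.card (tb c) = 6 := by omega
      rw [h6] at hkt ⊢
      rcases hk7 with rfl | rfl | rfl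
      · right; rfl
      · left; rfl
      · norm_num at hkt
    · have h7 : Nat.card (tb c) = 7 := by omega
      rw [h7] at hkt ⊢
      rcases hk7 with rfl | rfl | rfl
      · norm_num at hkt
      · norm_num at hkt
      · left; rfl
  rcases hcases with h | h
  · have : H = Subgroup.normalizer ((tb c : Subgroup PSL2) : Set PSL2) :=
      Subgroup.eq_of_le_of_card_ge hHN h.le
    rw [← this]
    exact Subgroup.le_normalizer
  · exact Cfsg.Agent.Lib.H5.le_normalizer_of_card_eq_two_mul hHN h


/-- Klein four-subgroups: the normalizer is a maximal `A₄` -/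
theorem exists_coatom_of_klein [Fact (Nat.Prime 13)] (hF : Fintype.card F = 13)
    (H : Subgroup PSL2) (hV : IsKleinFour H) :
    ∃ M : Subgroup PSL2, IsCoatom M ∧ M ≤ Subgroup.normalizer (H : Set PSL2) := by
  have hodd : Odd (Fintype.card F) := by rw [hF]; decide
  have h2F : (2 : F) ≠ 0 := Cfsg.Agent.Lib.H12.two_ne_zero_of_odd hodd
  have h12 : Nat.card (Subgroup.normalizer (H : Set PSL2)) = 12 := by
    rcases PSL2KleinNorm.card_normalizer_klein hodd H hV with h | h
    · exact h
    · exfalso
      have hd := Subgroup.card_subgroup_dvd_card (Subgroup.normalizer (H : Set PSL2))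
      rw [h, card_psl13 hF] at hd
      norm_num at hd
  obtain ⟨e⟩ := PSL2KleinNorm.normalizer_equiv_A4 H hV
    (PSL2KleinNorm.centralizer_klein_eq h2F H hV).le h12
  exact ⟨_, PSL2PrimeMax.isCoatom_A4 13 hF (by norm_num) (by norm_num) (by norm_num) _ e, le_rfl⟩

/-- subgroups of order divisible by `13` -/
theorem exists_coatom_of_dvd [Fact (Nat.Prime 13)] [CharP F 13] (hF : Fintype.card F = 13)
    (H : Subgroup PSL2) (htop : H ≠ ⊤) (hp : 13 ∣ Nat.card H) :
    ∃ M : Subgroup PSL2, IsCoatom M ∧ M ≤ Subgroup.normalizer (H : Set PSL2) := by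
  obtain ⟨P, hPH⟩ := PSL2Borel.exists_sylow_le_of_dvd 13 hF H hp
  have hHB : H ≤ Subgroup.normalizer ((P : Subgroup PSL2) : Set PSL2) := by
    rcases PSL2Borel.le_normalizer_or_eq_top 13 P H hPH with h | h
    · exact h
    · exact absurd h htop
  have hBtop : Subgroup.normalizer ((P : Subgroup PSL2) : Set PSL2) ≠ ⊤ := by
    intro h
    have h1 := PSL2MinIndex.index_normalizer_sylow 13 P
    rw [h, Subgroup.index_top] at h1
    omega
  have hB : IsCoatom (Subgroup.normalizer ((P : Subgroup PSL2) : Set PSL2)) := by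
    refine ⟨hBtop, fun K hK => ?_⟩
    rcases PSL2Borel.le_normalizer_or_eq_top 13 P K (Subgroup.le_normalizer.trans hK.le) with h | h
    · exact absurd h hK.not_ge
    · exact h
  refine ⟨_, hB, ?_⟩
  have hcP : Nat.card (P : Subgroup PSL2) = 13 := by
    have h1 := PSL2Borel.card_sylow_dvd 13 P
    rw [hF] at h1
    rcases (Nat.dvd_prime (Fact.out : Nat.Prime 13)).mp h1 with h | h
    · exfalso
      have hne : (P : Subgroup PSL2) ≠ ⊥ := by
        intro hb
        have h3 := P.card_eq_multiplicity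
        rw [hb, Subgroup.card_bot, card_psl13 hF] at h3
        have h4 : (13 : ℕ) ∣ 13 ^ (Nat.factorization 1092) 13 := by
          have : (Nat.factorization 1092) 13 ≠ 0 := by
            rw [← Nat.pos_iff_ne_zero]
            exact (Nat.Prime.factorization_pos_of_dvd (Fact.out : Nat.Prime 13) (by norm_num)
              (by norm_num))
          exact dvd_pow_self 13 this
        rw [← h3] at h4
        norm_num at h4
      exact hne (Subgroup.card_eq_one.mp h)
    · exact h
  apply le_normalizer_of_normal_hall (P := (P : Subgroup PSL2)) Subgroup.le_normalizer le_rfl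
    ?_ ?_ hPH hHB
  · rw [hcP]
    have h1 : ¬ (13 : ℕ) ∣ (P : Subgroup PSL2).relIndex
        (Subgroup.normalizer ((P : Subgroup PSL2) : Set PSL2)) := by
      intro hd
      exact P.not_dvd_index (hd.trans (Subgroup.relIndex_dvd_index_of_le Subgroup.le_normalizer))
    exact (Nat.Prime.coprime_iff_not_dvd (Fact.out : Nat.Prime 13)).mpr h1
  · intro T hT hcop a ha b hb
    rw [hcP] at hcop
    have hnd : ¬ (13 : ℕ) ∣ Nat.card T := by
      intro hd
      have := Nat.Coprime.eq_one_of_dvd hcop.symm hd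
      norm_num at this
    haveI := PSL2Borel.isCyclic_of_le_normalizer 13 P T hT hnd
    have h1 := (isMulCommutative_iff.mp (IsCyclic.commutative (α := T))) (⟨a, ha⟩ : T) ⟨b, hb⟩
    exact congrArg Subtype.val h1

/-- **in `PSL₂(13)` every non-normal subgroup is normalized by a maximal subgroup** -/
theorem normMax_psl13 [Fact (Nat.Prime 13)] [CharP F 13] (hF : Fintype.card F = 13) :
    NormMax PSL2 := by
  intro H hH
  have hodd : Odd (Fintype.card F) := by rw [hF]; decide
  have h13 : 13 ≤ Fintype.card F := by rw [hF]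
  have hbot : H ≠ ⊥ := by
    rintro rfl
    exact hH inferInstance
  have htop : H ≠ ⊤ := by
    rintro rfl
    exact hH inferInstance
  by_cases hp : 13 ∣ Nat.card H
  · exact exists_coatom_of_dvd hF H htop hp
  · rcases PSL2PPrime.classify_of_coprime 13 hodd H hp with
      ⟨hc, -⟩ | ⟨k, hk, ⟨e⟩⟩ | ⟨⟨e⟩⟩ | ⟨⟨e⟩⟩ | ⟨⟨e⟩⟩
    · exact exists_coatom_of_cyclic 13 hodd h13 H hc hbot hp
    · by_cases hk3 : 3 ≤ k
      · exact exists_coatom_of_dihedral hF H k hk3 hk e
      · have hcH : Nat.card H = 2 * k := by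
          rw [Nat.card_congr e.toEquiv, DihedralGroup.nat_card]
        have hk0 : k ≠ 0 := by
          rintro rfl
          rw [hF] at hk
          rcases hk with h | h <;> norm_num at h
        have hk12 : k = 1 ∨ k = 2 := by omega
        rcases hk12 with rfl | rfl
        · haveI : Fact (Nat.Prime 2) := ⟨Nat.prime_two⟩
          have hc : IsCyclic H := isCyclic_of_prime_card (p := 2) (by rw [hcH])
          exact exists_coatom_of_cyclic 13 hodd h13 H hc hbot hp
        · exact exists_coatom_of_klein hF H (NC.isKleinFour_of_mulEquiv e)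
    · exact ⟨H, PSL2PrimeMax.isCoatom_A4 13 hF (by norm_num) (by norm_num) (by norm_num) H e,
        Subgroup.le_normalizer⟩
    · exfalso
      have hd := Subgroup.card_subgroup_dvd_card H
      rw [Nat.card_congr e.toEquiv, PSL2PrimeMax.card_perm_four, card_psl13 hF] at hd
      norm_num at hd
    · exfalso
      have hd := Subgroup.card_subgroup_dvd_card H
      rw [Nat.card_congr e.toEquiv, PSL2PrimeMax.card_alt_five, card_psl13 hF] at hd
      norm_num at hd

end Cfsg.Agent.Lib.H21.PSL13
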