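import Mathlib

/-!
# S5320 piece "PSp4 E5" (helper21): an element of order three inverted by a `2`-element modulo a `2`-group `P` is a
product of `2`-elements of `N(P)`
-/

set_option autoImplicit false

namespace Cfsg.Agent.Lib.H21.PSp4

theorem mem_closure_of_pow_two {G : Type*} [Group G] (P : Subgroup G) (y : G)
    (hy : y ∈ Subgroup.normalizer (P : Set G)) (k : ℕ) (hyk : y ^ 2 ^ k = 1) :
    y ∈ Subgroup.closure {x : G | x ∈ Subgroup.normalizer (P : Set G) ∧ ∃ k : ℕ, orderOf x = 2 ^ k} := by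
  apply Subgroup.subset_closure
  refine ⟨hy, ?_⟩
  have hd : orderOf y ∣ 2 ^ k := orderOf_dvd_of_pow_eq_one hyk
  obtain ⟨j, _, hj⟩ := (Nat.dvd_prime_pow Nat.prime_two).mp hd
  exact ⟨j, hj⟩

/-- **E5**. If the `2`-element `t ∈ N(P)` inverts `d ∈ N(P)` of order three modulo the `2`-group `P`,
then `d` is a product of `2`-elements of `N(P)`:
`d e⁻¹ d = (d t d⁻¹) t⁻¹`, `d² = (d e⁻¹ d)(d⁻¹ e d)`, `d = (d²)²`. -/
theorem mem_closure_of_inverted {G : Type*} [Group G] (P : Subgroup G) (hP : IsPGroup 2 P)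
    (d t e : G) (hd : d ∈ Subgroup.normalizer (P : Set G))
    (ht : t ∈ Subgroup.normalizer (P : Set G)) (he : e ∈ P) (k : ℕ) (htk : t ^ 2 ^ k = 1)
    (hd3 : d ^ 3 = 1) (h : t * d * t⁻¹ = d⁻¹ * e) :
    d ∈ Subgroup.closure {x : G | x ∈ Subgroup.normalizer (P : Set G) ∧
      ∃ k : ℕ, orderOf x = 2 ^ k} := by
  set C := Subgroup.closure {x : G | x ∈ Subgroup.normalizer (P : Set G) ∧
      ∃ k : ℕ, orderOf x = 2 ^ k} with hC
  -- `t⁻¹ ∈ C`, `d t d⁻¹ ∈ C`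
  have h1 : t ∈ C := mem_closure_of_pow_two P t ht k htk
  have h2 : d * t * d⁻¹ ∈ C := by
    apply mem_closure_of_pow_two P _ _ k
    · rw [conj_pow, htk, mul_one, mul_inv_cancel]
    · exact mul_mem (mul_mem hd ht) (inv_mem hd)
  -- `d⁻¹ e d ∈ P ⊆ C`
  have h3 : d⁻¹ * e * d ∈ P := by
    have := (Subgroup.mem_normalizer_iff.mp (inv_mem hd) e).mp he
    rwa [inv_inv] at this
  have h4 : d⁻¹ * e * d ∈ C := by
    obtain ⟨j, hj⟩ := hP ⟨d⁻¹ * e * d, h3⟩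
    have hj' : (d⁻¹ * e * d) ^ 2 ^ j = 1 := by
      have := congrArg Subtype.val hj
      simpa using this
    exact mem_closure_of_pow_two P _ (Subgroup.le_normalizer h3) j hj'
  -- `d e⁻¹ d = (d t d⁻¹) t⁻¹`
  have h5 : d * e⁻¹ * d = (d * t * d⁻¹) * t⁻¹ := by
    have e1 : t * d⁻¹ * t⁻¹ = e⁻¹ * d := by
      have : (t * d * t⁻¹)⁻¹ = (d⁻¹ * e)⁻¹ := by rw [h]
      rw [mul_inv_rev, mul_inv_rev, inv_inv, mul_inv_rev, inv_inv] at this
      rw [← this]; group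
    calc d * e⁻¹ * d = d * (e⁻¹ * d) := by group
      _ = d * (t * d⁻¹ * t⁻¹) := by rw [e1]
      _ = (d * t * d⁻¹) * t⁻¹ := by group
  have h6 : d * e⁻¹ * d ∈ C := by
    rw [h5]; exact mul_mem h2 (inv_mem h1)
  have h7 : d ^ 2 ∈ C := by
    have : d ^ 2 = (d * e⁻¹ * d) * (d⁻¹ * e * d) := by
      have : (d * e⁻¹ * d) * (d⁻¹ * e * d) = d * d := by group
      rw [this, pow_two]
    rw [this]; exact mul_mem h6 h4
  have h8 : d = (d ^ 2) ^ 2 := by
    have : (d ^ 2) ^ 2 = d ^ 3 * d := by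
      rw [← pow_mul, ← pow_succ]
    rw [this, hd3, one_mul]
  rw [h8]
  exact pow_mem h7 2

end Cfsg.Agent.Lib.H21.PSp4
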