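import Mathlib
import Cfsg.Agent.Lib.H28.PSp4Defs

/-!
# S5320 piece "PSp4 SC2" (helper21): `Φ(-1,1)` is conjugate to the swap in `Sp₄(F)`
-/

set_option autoImplicit false

namespace Cfsg.Agent.Lib.H21.PSp4

open Matrix Cfsg.Agent.Lib.H9.SqC Cfsg.Agent.Lib.H28.PSp4

variable {F : Type*} [Field F]

/-- **SC2**. `Φ(-1,1)` is conjugate to the swap in `Sp₄(F)`:
`g = bm d d (-d) d`, `d = diag(1/2, 1)`. -/
theorem exists_conj_sw (h2 : (2 : F) ≠ 0) : ∃ g : Sp4 F, g * Ph (-1) 1 * g⁻¹ = sw := by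
  set d : Matrix (Fin 2) (Fin 2) F := !![2⁻¹, 0; 0, 1] with hd
  have hdet : d.det = 2⁻¹ := by simp [hd, Matrix.det_fin_two]
  have hdd : d * d.adjugate = (2⁻¹ : F) • (1 : Matrix (Fin 2) (Fin 2) F) := by
    rw [Matrix.mul_adjugate, hdet]
  have hnd : (-d).adjugate = -d.adjugate := by
    rw [Matrix.adjugate_fin_two, Matrix.adjugate_fin_two]
    ext i j
    fin_cases i <;> fin_cases j <;> simp
  have h22 : (2⁻¹ : F) + 2⁻¹ = 1 := by
    field_simp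
    norm_num
  have hsum : d * d.adjugate + d * d.adjugate = 1 := by
    rw [hdd, ← add_smul, h22, one_smul]
  have hmem : bm d d (-d) d ∈ Matrix.symplecticGroup (Fin 2) F := by
    rw [bm_mem_iff]
    refine ⟨hsum, ?_, ?_, ?_⟩
    · rw [hnd, Matrix.mul_neg, neg_add_cancel]
    · rw [Matrix.neg_mul, neg_add_cancel]
    · rw [hnd, Matrix.neg_mul, Matrix.mul_neg, neg_neg]
      exact hsum
  refine ⟨⟨bm d d (-d) d, hmem⟩, ?_⟩
  rw [mul_inv_eq_iff_eq_mul]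
  apply Subtype.ext
  show bm d d (-d) d * (Ph (-1 : SL2 F) 1).1 = (sw : Sp4 F).1 * bm d d (-d) d
  rw [Ph_val, sw_val, bm_mul, bm_mul]
  congr 1 <;> simp

end Cfsg.Agent.Lib.H21.PSp4
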