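import Mathlib
import Cfsg.Prelude.Def_HallClasses
import Cfsg.Agent.Lib.L0.FrobeniusPC
import Cfsg.Agent.Lib.L0.TransferPC
import Cfsg.Agent.Lib.H8.Nilpotent
import Cfsg.Agent.Lib.H1.FpfNilpotent

/-!
# Wielandt's theorem on nilpotent Hall subgroups (helper21)

* `cj g K` : the conjugate `g K g⁻¹`, in the form used by the `Cfsg` definitions.
* `exists_cj_le_of_not_dvd_index` : a `p`-subgroup is conjugate into any subgroup of index prime
  to `p`.
* `frobHyp_of_centralizing` : Frobenius' hypothesis for a subgroup `K` from a Sylow `p`-subgroup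
  of `G` centralized by a subgroup of suitable index.
* `wielandt` : if `G` has a nilpotent Hall `σ`-subgroup `N`, every `σ`-subgroup of `G` is
  conjugate into `N`.
-/

set_option autoImplicit false

namespace Cfsg.Agent.Lib.H21

open Pointwise

variable {G : Type*} [Group G]

/-- The conjugate `g K g⁻¹`. -/
abbrev cj (g : G) (K : Subgroup G) : Subgroup G := K.map (MulAut.conj g).toMonoidHom

theorem mem_cj {g x : G} {K : Subgroup G} : x ∈ cj g K ↔ g⁻¹ * x * g ∈ K := by
  constructor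
  · rintro ⟨y, hy, rfl⟩
    simpa [mul_assoc] using hy
  · intro h
    exact ⟨g⁻¹ * x * g, h, by simp [mul_assoc]⟩

theorem cj_eq_smul (g : G) (K : Subgroup G) : cj g K = MulAut.conj g • K := rfl

theorem cj_mul (g h : G) (K : Subgroup G) : cj (g * h) K = cj g (cj h K) := by
  ext x
  simp only [mem_cj]
  simp [mul_assoc]

theorem cj_one (K : Subgroup G) : cj 1 K = K := by
  ext x; simp [mem_cj]

theorem cj_inv_cj (g : G) (K : Subgroup G) : cj g⁻¹ (cj g K) = K := by
  rw [← cj_mul, inv_mul_cancel, cj_one]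

theorem cj_cj_inv (g : G) (K : Subgroup G) : cj g (cj g⁻¹ K) = K := by
  rw [← cj_mul, mul_inv_cancel, cj_one]

theorem cj_mono (g : G) {K L : Subgroup G} (h : K ≤ L) : cj g K ≤ cj g L :=
  Subgroup.map_mono h

theorem cj_le_iff (g : G) {K L : Subgroup G} : cj g K ≤ L ↔ K ≤ cj g⁻¹ L := by
  constructor
  · intro h
    have := cj_mono g⁻¹ h
    rwa [cj_inv_cj] at this
  · intro h
    have := cj_mono g h
    rwa [cj_cj_inv] at this

theorem card_cj (g : G) (K : Subgroup G) : Nat.card (cj g K) = Nat.card K :=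
  Nat.card_congr (K.equivMapOfInjective _ (MulAut.conj g).injective).symm.toEquiv

theorem cj_sup (g : G) (K L : Subgroup G) : cj g (K ⊔ L) = cj g K ⊔ cj g L :=
  Subgroup.map_sup K L _

theorem cj_eq_self_of_mem_normalizer {g : G} {K : Subgroup G}
    (hg : g ∈ Subgroup.normalizer (K : Set G)) : cj g K = K := by
  ext x
  rw [mem_cj]
  have hg' : g⁻¹ ∈ Subgroup.normalizer (K : Set G) := inv_mem hg
  have := Subgroup.mem_normalizer_iff.mp hg' x
  rw [inv_inv] at this
  exact this.symm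

/-- A `p`-subgroup is conjugate into any subgroup of index prime to `p`. -/
theorem exists_cj_le_of_not_dvd_index [Finite G] {p : ℕ} [Fact p.Prime] (Q P : Subgroup G)
    (hQ : IsPGroup p Q) (hP : ¬ p ∣ P.index) : ∃ x : G, cj x Q ≤ P := by
  have hp : p.Prime := Fact.out
  obtain ⟨S₀⟩ : Nonempty (Sylow p ↥P) := inferInstance
  set S : Subgroup G := (S₀ : Subgroup P).map P.subtype with hS
  have hS1 : IsPGroup p S := S₀.2.map _
  have hS2 : ¬ p ∣ S.index := by
    rw [hS, Subgroup.index_map_subtype]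
    intro h
    rcases (Nat.Prime.dvd_mul hp).mp h with h | h
    · exact S₀.not_dvd_index h
    · exact hP h
  have hSP : S ≤ P := Subgroup.map_subtype_le _
  obtain ⟨Q', hQ'⟩ := hQ.exists_le_sylow
  obtain ⟨g, hg⟩ := MulAction.exists_smul_eq G Q' (hS1.toSylow hS2)
  refine ⟨g, ?_⟩
  have h1 : cj g Q ≤ cj g (Q' : Subgroup G) := cj_mono g hQ'
  have h2 : cj g (Q' : Subgroup G) = S := by
    have h3 : ((g • Q' : Sylow p G) : Subgroup G) = S := by
      rw [hg]; exact IsPGroup.toSylow_coe hS1 hS2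
    exact h3
  exact (h1.trans h2.le).trans hSP

/-- Relative version: a `p`-subgroup `Q ≤ X` is conjugate by an element of `X` into `P ≤ X`
provided `p ∤ |X : P|`. -/
theorem exists_mem_cj_le_of_not_dvd_relIndex [Finite G] {p : ℕ} [Fact p.Prime]
    (X Q P : Subgroup G) (hQX : Q ≤ X) (hQ : IsPGroup p Q)
    (hP : ¬ p ∣ P.relIndex X) : ∃ x ∈ X, cj x Q ≤ P := by
  obtain ⟨x, hx⟩ := exists_cj_le_of_not_dvd_index (Q.subgroupOf X) (P.subgroupOf X)
    (hQ.comap_subtype) hP
  refine ⟨x, x.2, ?_⟩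
  intro y hy
  rw [mem_cj] at hy
  have hyX : y ∈ X := by
    have h1 : (x : G)⁻¹ * y * x ∈ X := hQX hy
    have := X.mul_mem (X.mul_mem x.2 h1) (X.inv_mem x.2)
    simpa [mul_assoc] using this
  have h2 : (⟨y, hyX⟩ : X) ∈ cj x (Q.subgroupOf X) := by
    rw [mem_cj, Subgroup.mem_subgroupOf]
    simpa using hy
  have := hx h2
  rwa [Subgroup.mem_subgroupOf] at this

/-- Frobenius' hypothesis for a subgroup `K`: if a Sylow `p`-subgroup `P` of `G` is centralized
by a subgroup `M` whose index is prime to every prime `r ≠ p` dividing `|K|`, then every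
`p'`-element of `K` normalizing a `p`-subgroup of `K` centralizes it. -/
theorem frobHyp_of_centralizing [Finite G] {p : ℕ} [Fact p.Prime] (K P M : Subgroup G)
    (hP : IsPGroup p P) (hPi : ¬ p ∣ P.index) (hcomm : ∀ a ∈ P, ∀ b ∈ M, a * b = b * a)
    (hM : ∀ r : ℕ, r.Prime → r ≠ p → r ∣ Nat.card K → ¬ r ∣ M.index) :
    Cfsg.Agent.Lib.L0.FrobHyp p K := by
  have hp : p.Prime := Fact.out
  intro Q hQ g hg hgo
  set Q' : Subgroup G := Q.map K.subtype with hQ'def
  have hQ' : IsPGroup p Q' := hQ.map _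
  obtain ⟨x, hx⟩ := exists_cj_le_of_not_dvd_index Q' P hQ' hPi
  set Q'' : Subgroup G := cj x Q' with hQ''def
  have hMC : M ≤ Subgroup.centralizer (Q'' : Set G) := by
    intro b hb
    rw [Subgroup.mem_centralizer_iff]
    intro a ha
    exact hcomm a (hx ha) b hb
  set g'' : G := x * (g : G) * x⁻¹ with hg''def
  -- `g` normalizes `Q'`
  have hgQ' : ∀ y ∈ Q', (g : G) * y * (g : G)⁻¹ ∈ Q' := by
    rintro y ⟨h, hh, rfl⟩
    refine ⟨g * h * g⁻¹, (Subgroup.mem_normalizer_iff.mp hg h).mp hh, ?_⟩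
    simp
  have hg'' : g'' ∈ Subgroup.normalizer (Q'' : Set G) := by
    apply Subgroup.mem_normalizer_fintype
    intro y hy
    have hy' : y ∈ Q'' := hy
    rw [hQ''def, mem_cj] at hy'
    have := hgQ' _ hy'
    show g'' * y * g''⁻¹ ∈ Q''
    rw [hQ''def, mem_cj]
    have e : x⁻¹ * (g'' * y * g''⁻¹) * x = (g : G) * (x⁻¹ * y * x) * (g : G)⁻¹ := by
      rw [hg''def]; group
    rw [e]; exact this
  set NG : Subgroup G := Subgroup.normalizer (Q'' : Set G) with hNG
  set C : Subgroup G := Subgroup.centralizer (Q'' : Set G) with hC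
  have hCNG : C ≤ NG := Subgroup.centralizer_le_normalizer _
  have hnorm : (C.subgroupOf NG).Normal := Subgroup.normal_subgroupOf_centralizer_normalizer _
  have hpow : g'' ^ (C.relIndex NG) ∈ C := by
    have := Subgroup.pow_index_mem (C.subgroupOf NG) (⟨g'', hg''⟩ : NG)
    rw [Subgroup.mem_subgroupOf] at this
    simpa [Subgroup.relIndex] using this
  have hord : orderOf g'' = orderOf g := by
    have h1 : g'' = MulAut.conj x (g : G) := by simp [hg''def]
    rw [h1, MulEquiv.orderOf_eq, Subgroup.orderOf_coe]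
  have hcop : (C.relIndex NG).Coprime (orderOf g'') := by
    apply Nat.Coprime.symm
    apply Nat.coprime_of_dvd
    intro r hr hr1 hr2
    rw [hord] at hr1
    have hrp : r ≠ p := by
      rintro rfl
      have := Nat.dvd_gcd hr1 (dvd_refl r)
      rw [hgo.gcd_eq_one] at this
      exact hr.one_lt.ne' (Nat.dvd_one.mp this)
    have hrK : r ∣ Nat.card K := hr1.trans (orderOf_dvd_natCard g)
    apply hM r hr hrp hrK
    have h1 : C.relIndex NG ∣ M.relIndex NG := Subgroup.relIndex_dvd_of_le_left NG hMC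
    have h2 : M.relIndex NG ∣ M.index := Subgroup.relIndex_dvd_index_of_le (hMC.trans hCNG)
    exact hr2.trans (h1.trans h2)
  obtain ⟨m, hm⟩ := exists_pow_eq_self_of_coprime hcop
  have hg''C : g'' ∈ C := by
    rw [← hm]; exact C.pow_mem hpow m
  rw [Subgroup.mem_centralizer_iff]
  intro h hh
  have h1 : x * (h : G) * x⁻¹ ∈ Q'' := by
    rw [hQ''def, mem_cj]
    have : x⁻¹ * (x * (h : G) * x⁻¹) * x = (h : G) := by group
    rw [this]
    exact ⟨h, hh, rfl⟩
  have h2 := (Subgroup.mem_centralizer_iff.mp hg''C) _ h1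
  apply Subtype.ext
  have h3 : x * ((h : G) * (g : G)) * x⁻¹ = x * ((g : G) * (h : G)) * x⁻¹ := by
    have e1 : x * ((h : G) * (g : G)) * x⁻¹ = (x * (h : G) * x⁻¹) * g'' := by
      rw [hg''def]; group
    have e2 : x * ((g : G) * (h : G)) * x⁻¹ = g'' * (x * (h : G) * x⁻¹) := by
      rw [hg''def]; group
    rw [e1, e2, h2]
  have h4 := mul_left_cancel (mul_right_cancel h3)
  simpa using h4

open Cfsg.Agent.Lib.L0 Cfsg.Agent.Lib.H1 in
/-- **Wielandt's theorem**: if `G` has a nilpotent Hall `σ`-subgroup `N`, then every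
`σ`-subgroup of `G` is conjugate to a subgroup of `N`. -/
theorem wielandt_aux [Finite G] (σ : Set ℕ) (N : Subgroup G)
    (hN : Cfsg.IsPiHall σ N) [hnil : Group.IsNilpotent N] :
    ∀ n : ℕ, ∀ K : Subgroup G, Nat.card K = n → Cfsg.IsPiSubgroup σ K → ∃ g : G, cj g K ≤ N := by
  intro n
  induction n using Nat.strong_induction_on with
  | _ n ih =>
    intro K hn hK
    by_cases h1 : Nat.card K = 1
    · refine ⟨1, ?_⟩
      rw [cj_one, Subgroup.card_eq_one.mp h1]
      exact bot_le
    obtain ⟨p, hp, hpK⟩ := Nat.exists_prime_and_dvd h1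
    haveI := Fact.mk hp
    have hpσ : p ∈ σ := hK p hp hpK
    -- the Sylow `p`-subgroup and the `p`-complement of `N`
    obtain ⟨MN, hMNn, hMNp, kN, hMNi⟩ := HasNormalPComplement.exists_normal (hnpc_of_isNilpotent (G := N) p)
    obtain ⟨PN⟩ : Nonempty (Sylow p N) := inferInstance
    set P : Subgroup G := (PN : Subgroup N).map N.subtype with hPdef
    set M : Subgroup G := MN.map N.subtype with hMdef
    have hP : IsPGroup p P := PN.2.map _
    have hPN : P ≤ N := Subgroup.map_subtype_le _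
    have hPi : ¬ p ∣ P.index := by
      rw [hPdef, Subgroup.index_map_subtype]
      intro h
      rcases (Nat.Prime.dvd_mul hp).mp h with h | h
      · exact PN.not_dvd_index h
      · exact hN.2 p hp hpσ h
    -- elements of `P` commute with `p'`-elements of `N`
    have hcommN : ∀ a ∈ P, ∀ b ∈ N, (orderOf b).Coprime p → a * b = b * a := by
      rintro a ⟨a', ha', rfl⟩ b hb hbo
      obtain ⟨j, hj⟩ := (IsPGroup.iff_orderOf.mp PN.2) ⟨a', ha'⟩
      have hcop : (orderOf a').Coprime (orderOf (⟨b, hb⟩ : N)) := by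
        have e1 : orderOf a' = p ^ j := by
          have := hj
          rwa [Subgroup.orderOf_mk] at this
        rw [e1, Subgroup.orderOf_mk]
        exact (Nat.Coprime.pow_right j hbo).symm
      have := (Cfsg.Agent.Lib.H8.commute_of_coprime_orderOf N a' ⟨b, hb⟩ hcop).eq
      exact congrArg Subtype.val this
    have hcomm : ∀ a ∈ P, ∀ b ∈ M, a * b = b * a := by
      rintro a ha b ⟨b', hb', rfl⟩
      apply hcommN a ha _ b'.2
      have h2 : orderOf (b' : G) ∣ Nat.card MN := by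
        have := orderOf_dvd_natCard (⟨b', hb'⟩ : MN)
        rwa [Subgroup.orderOf_mk, ← Subgroup.orderOf_coe] at this
      exact Nat.Coprime.coprime_dvd_left h2 ((Nat.Prime.coprime_iff_not_dvd hp).mpr hMNp).symm
    have hM : ∀ r : ℕ, r.Prime → r ≠ p → r ∣ Nat.card K → ¬ r ∣ M.index := by
      intro r hr hrp hrK h
      rw [hMdef, Subgroup.index_map_subtype, hMNi] at h
      rcases (Nat.Prime.dvd_mul hr).mp h with h | h
      · exact hrp ((Nat.prime_dvd_prime_iff_eq hr hp).mp (hr.dvd_of_dvd_pow h))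
      · exact hN.2 r hr (hK r hr hrK) h
    have hF : FrobHyp p K := frobHyp_of_centralizing K P M hP hPi hcomm hM
    obtain ⟨L, hLn, hLp, kL, hLi⟩ := HasNormalPComplement.exists_normal (hasNormalPComplement_of_frobHyp hF)
    set L' : Subgroup G := L.map K.subtype with hL'def
    have hL'card : Nat.card L' = Nat.card L :=
      Nat.card_congr (L.equivMapOfInjective _ K.subtype_injective).symm.toEquiv
    have hKL : Nat.card K = p ^ kL * Nat.card L := by
      rw [← hLi, Subgroup.index_mul_card]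
    have hkL : kL ≠ 0 := by
      rintro rfl
      rw [pow_zero, one_mul] at hKL
      exact hLp (hKL ▸ hpK)
    have hlt : Nat.card L' < n := by
      rw [hL'card, ← hn, hKL]
      have h2 : 1 < p ^ kL := Nat.one_lt_pow hkL hp.one_lt
      have h3 : 0 < Nat.card L := Nat.card_pos
      nlinarith
    have hL'K : L' ≤ K := Subgroup.map_subtype_le _
    have hL'σ : Cfsg.IsPiSubgroup σ L' := by
      intro r hr hrL
      exact hK r hr (hrL.trans (Subgroup.card_dvd_of_le hL'K))
    obtain ⟨g1, hg1⟩ := ih (Nat.card L') hlt L' rfl hL'σ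
    set K1 : Subgroup G := cj g1 K with hK1
    set L1 : Subgroup G := cj g1 L' with hL1
    have hL1K1 : L1 ≤ K1 := cj_mono g1 hL'K
    -- `P` centralizes `L1`
    have hL1o : ∀ b ∈ L1, (orderOf b).Coprime p := by
      intro b hb
      have h2 : orderOf b ∣ Nat.card L1 := by
        have := orderOf_dvd_natCard (⟨b, hb⟩ : L1)
        rwa [Subgroup.orderOf_mk] at this
      rw [hL1, card_cj, hL'card] at h2
      exact Nat.Coprime.coprime_dvd_left h2 ((Nat.Prime.coprime_iff_not_dvd hp).mpr hLp).symm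
    have hPC : P ≤ Subgroup.centralizer (L1 : Set G) := by
      intro a ha
      rw [Subgroup.mem_centralizer_iff]
      intro b hb
      exact (hcommN a ha b (hg1 hb) (hL1o b hb)).symm
    set NL : Subgroup G := Subgroup.normalizer (L1 : Set G) with hNL
    have hPNL : P ≤ NL := hPC.trans (Subgroup.centralizer_le_normalizer _)
    -- `K1 ≤ NL`
    have hL'norm : K ≤ Subgroup.normalizer (L' : Set G) := by
      have := (Subgroup.normal_subgroupOf_iff_le_normalizer hL'K).mp
      apply this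
      have e : L'.subgroupOf K = L := by
        rw [hL'def]
        exact Subgroup.comap_map_eq_self_of_injective K.subtype_injective L
      rw [e]; exact hLn
    have hK1NL : K1 ≤ NL := by
      intro y hy
      rw [hK1, mem_cj] at hy
      have h2 := hL'norm hy
      apply Subgroup.mem_normalizer_fintype
      intro z hz
      have hz' : z ∈ L1 := hz
      rw [hL1, mem_cj] at hz'
      have h3 := (Subgroup.mem_normalizer_iff.mp h2 _).mp hz'
      show y * z * y⁻¹ ∈ L1
      rw [hL1, mem_cj]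
      have e : g1⁻¹ * (y * z * y⁻¹) * g1
          = g1⁻¹ * y * g1 * (g1⁻¹ * z * g1) * (g1⁻¹ * y * g1)⁻¹ := by group
      rw [e]; exact h3
    -- a Sylow `p`-subgroup of `K`
    obtain ⟨KP⟩ : Nonempty (Sylow p K) := inferInstance
    set KP1 : Subgroup G := cj g1 ((KP : Subgroup K).map K.subtype) with hKP1
    have hKP1p : IsPGroup p KP1 := (KP.2.map _).map _
    have hKP1K1 : KP1 ≤ K1 := cj_mono g1 (Subgroup.map_subtype_le _)
    have hrel : ¬ p ∣ P.relIndex NL := fun h =>
      hPi (h.trans (Subgroup.relIndex_dvd_index_of_le hPNL))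
    obtain ⟨x, hxNL, hx⟩ := exists_mem_cj_le_of_not_dvd_relIndex NL KP1 P
      (hKP1K1.trans hK1NL) hKP1p hrel
    -- `K1 = L1 ⊔ KP1`
    have hsup : K1 = L1 ⊔ KP1 := by
      have hc := isComplement'_sylow_of_normal L hLp ⟨kL, hLi⟩ KP
      have h2 : L ⊔ (KP : Subgroup K) = ⊤ := hc.sup_eq_top
      have h3 : (L ⊔ (KP : Subgroup K)).map K.subtype = K := by
        rw [h2, ← MonoidHom.range_eq_map, Subgroup.range_subtype]
      rw [Subgroup.map_sup] at h3
      rw [hK1, hL1, hKP1, ← cj_sup, h3]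
    refine ⟨x * g1, ?_⟩
    rw [cj_mul, ← hK1, hsup, cj_sup, cj_eq_self_of_mem_normalizer hxNL]
    exact sup_le hg1 (hx.trans hPN)

theorem wielandt [Finite G] (σ : Set ℕ) (N : Subgroup G)
    (hN : Cfsg.IsPiHall σ N) (hnil : Group.IsNilpotent N) (K : Subgroup G)
    (hK : Cfsg.IsPiSubgroup σ K) : ∃ g : G, cj g K ≤ N :=
  wielandt_aux σ N hN _ K rfl hK

/-- Conjugation and normalizers. -/
theorem cj_le_normalizer [Finite G] (g : G) {K L : Subgroup G}
    (h : K ≤ Subgroup.normalizer (L : Set G)) :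
    cj g K ≤ Subgroup.normalizer ((cj g L : Subgroup G) : Set G) := by
  intro y hy
  rw [mem_cj] at hy
  have h2 := h hy
  apply Subgroup.mem_normalizer_fintype
  intro z hz
  have hz' : z ∈ cj g L := hz
  rw [mem_cj] at hz'
  have h3 := (Subgroup.mem_normalizer_iff.mp h2 _).mp hz'
  show y * z * y⁻¹ ∈ cj g L
  rw [mem_cj]
  have e : g⁻¹ * (y * z * y⁻¹) * g
      = g⁻¹ * y * g * (g⁻¹ * z * g) * (g⁻¹ * y * g)⁻¹ := by group
  rw [e]; exact h3

theorem le_normalizer_map_subtype {K : Subgroup G} (L : Subgroup K) [hL : L.Normal] :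
    K ≤ Subgroup.normalizer ((L.map K.subtype : Subgroup G) : Set G) := by
  have hLK : L.map K.subtype ≤ K := Subgroup.map_subtype_le _
  apply (Subgroup.normal_subgroupOf_iff_le_normalizer hLK).mp
  have e : (L.map K.subtype).subgroupOf K = L :=
    Subgroup.comap_map_eq_self_of_injective K.subtype_injective L
  rw [e]; exact hL

/-- Transfer a conjugation statement from a subgroup `X` (as a group) to `G`. -/
theorem cj_le_of_cj_subgroupOf_le {X A B : Subgroup G} (hAX : A ≤ X) (n : X)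
    (h : cj n (A.subgroupOf X) ≤ B.subgroupOf X) : cj (n : G) A ≤ B := by
  intro y hy
  rw [mem_cj] at hy
  have hyX : y ∈ X := by
    have h1 : (n : G)⁻¹ * y * n ∈ X := hAX hy
    have := X.mul_mem (X.mul_mem n.2 h1) (X.inv_mem n.2)
    simpa [mul_assoc] using this
  have h2 : (⟨y, hyX⟩ : X) ∈ cj n (A.subgroupOf X) := by
    rw [mem_cj, Subgroup.mem_subgroupOf]
    simpa using hy
  have := h h2
  rwa [Subgroup.mem_subgroupOf] at this

open Cfsg.Agent.Lib.L0 Cfsg.Agent.Lib.H1 in
/-- The Sylow `p`-subgroup and the `p`-complement of a nilpotent subgroup `N`. -/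
theorem nilpotent_sylow_data [Finite G] (N : Subgroup G) [Group.IsNilpotent N] (p : ℕ)
    [Fact p.Prime] :
    ∃ P M0 : Subgroup G, P ≤ N ∧ M0 ≤ N ∧ IsPGroup p P ∧
      (∃ j, ¬ p ∣ j ∧ P.index = j * N.index) ∧
      (∀ a ∈ P, ∀ b ∈ N, (orderOf b).Coprime p → a * b = b * a) ∧
      (∀ b ∈ M0, (orderOf b).Coprime p) ∧ ∃ k, M0.index = p ^ k * N.index := by
  have hp : p.Prime := Fact.out
  obtain ⟨MN, hMNn, hMNp, kN, hMNi⟩ :=
    HasNormalPComplement.exists_normal (hnpc_of_isNilpotent (G := N) p)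
  obtain ⟨PN⟩ : Nonempty (Sylow p N) := inferInstance
  refine ⟨(PN : Subgroup N).map N.subtype, MN.map N.subtype, Subgroup.map_subtype_le _,
    Subgroup.map_subtype_le _, PN.2.map _, ⟨(PN : Subgroup N).index, PN.not_dvd_index,
      Subgroup.index_map_subtype _⟩, ?_, ?_, ⟨kN, ?_⟩⟩
  · rintro a ⟨a', ha', rfl⟩ b hb hbo
    obtain ⟨j, hj⟩ := (IsPGroup.iff_orderOf.mp PN.2) ⟨a', ha'⟩
    have hcop : (orderOf a').Coprime (orderOf (⟨b, hb⟩ : N)) := by
      have e1 : orderOf a' = p ^ j := by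
        have := hj
        rwa [Subgroup.orderOf_mk] at this
      rw [e1, Subgroup.orderOf_mk]
      exact (Nat.Coprime.pow_right j hbo).symm
    have := (Cfsg.Agent.Lib.H8.commute_of_coprime_orderOf N a' ⟨b, hb⟩ hcop).eq
    exact congrArg Subtype.val this
  · rintro b ⟨b', hb', rfl⟩
    have h2 : orderOf (b' : G) ∣ Nat.card MN := by
      have := orderOf_dvd_natCard (⟨b', hb'⟩ : MN)
      rwa [Subgroup.orderOf_mk, ← Subgroup.orderOf_coe] at this
    exact Nat.Coprime.coprime_dvd_left h2 ((Nat.Prime.coprime_iff_not_dvd hp).mpr hMNp).symm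
  · rw [Subgroup.index_map_subtype, hMNi]

/-- A Hall `π`-subgroup is a maximal `π`-subgroup. -/
theorem isPiHall_maximal [Finite G] {π : Set ℕ} {H : Subgroup G} (hH : Cfsg.IsPiHall π H) :
    Maximal (Cfsg.IsPiSubgroup π) H := by
  refine ⟨hH.1, ?_⟩
  intro Y hY hHY
  have h1 : H.relIndex Y = 1 := by
    by_contra hne
    obtain ⟨r, hr, hrd⟩ := Nat.exists_prime_and_dvd hne
    have h2 : r ∣ Nat.card Y := hrd.trans (Subgroup.relIndex_dvd_card H Y)
    have h3 : r ∣ H.index := hrd.trans (Subgroup.relIndex_dvd_index_of_le hHY)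
    exact hH.2 r hr (hY r hr h2) h3
  exact Subgroup.relIndex_eq_one.mp h1

/-- In a `D_π`-group every `π`-subgroup is conjugate into any given Hall `π`-subgroup. -/
theorem exists_cj_le_of_isDPiGroup [Finite G] {π : Set ℕ} (hD : Cfsg.IsDPiGroup π G)
    {T : Subgroup G} (hT : Cfsg.IsPiHall π T) (X : Subgroup G) (hX : Cfsg.IsPiSubgroup π X) :
    ∃ g : G, cj g X ≤ T := by
  -- a maximal `π`-subgroup containing `X`
  obtain ⟨Y, hXY, hY⟩ : ∃ Y : Subgroup G, X ≤ Y ∧ Maximal (Cfsg.IsPiSubgroup π) Y := by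
    have hfin : {Y : Subgroup G | Cfsg.IsPiSubgroup π Y}.Finite := Set.toFinite _
    obtain ⟨Y, hXY, hY⟩ := hfin.exists_le_maximal hX
    exact ⟨Y, hXY, hY⟩
  obtain ⟨g, hg⟩ := hD T Y (isPiHall_maximal hT) hY
  refine ⟨g⁻¹, ?_⟩
  rw [cj_le_iff, inv_inv]
  exact hXY.trans hg.le

/-- If every `π`-subgroup is conjugate into the Hall `π`-subgroup `H`, then `G` is a
`D_π`-group. -/
theorem isDPiGroup_of_forall_cj_le [Finite G] {π : Set ℕ} {H : Subgroup G}
    (hH : Cfsg.IsPiHall π H)
    (h : ∀ K : Subgroup G, Cfsg.IsPiSubgroup π K → ∃ g : G, cj g K ≤ H) :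
    Cfsg.IsDPiGroup π G := by
  have key : ∀ K : Subgroup G, Maximal (Cfsg.IsPiSubgroup π) K → ∃ g : G, K = cj g H := by
    intro K hK
    obtain ⟨g, hg⟩ := h K hK.1
    refine ⟨g⁻¹, ?_⟩
    rw [cj_le_iff] at hg
    apply le_antisymm hg
    apply hK.2 _ hg
    intro r hr hrd
    rw [card_cj] at hrd
    exact hH.1 r hr hrd
  intro K₁ K₂ h₁ h₂
  obtain ⟨g₁, hg₁⟩ := key K₁ h₁
  obtain ⟨g₂, hg₂⟩ := key K₂ h₂
  refine ⟨g₂ * g₁⁻¹, ?_⟩
  show K₂ = cj (g₂ * g₁⁻¹) K₁
  rw [cj_mul, hg₁, cj_inv_cj, hg₂]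

open Cfsg.Agent.Lib.L0 in
/-- If `K` has a normal `p`-complement for every prime `p ∈ σ` dividing `|K|`, then `K` has a
normal `σ`-complement: a normal subgroup whose order involves no prime of `σ` and whose index
involves only primes of `σ`. -/
theorem exists_normal_sigma_complement (K : Type*) [Group K] [Finite K] (σ : Set ℕ)
    (h : ∀ p : ℕ, p.Prime → p ∈ σ → p ∣ Nat.card K → Cfsg.HasNormalPComplement p K) :
    ∃ L : Subgroup K, L.Normal ∧ (∀ r : ℕ, r.Prime → r ∣ Nat.card L → r ∉ σ) ∧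
      (∀ r : ℕ, r.Prime → r ∣ L.index → r ∈ σ) := by
  classical
  set F : Set (Subgroup K) :=
    {X | X.Normal ∧ ∃ p : ℕ, p.Prime ∧ p ∈ σ ∧ ∃ k : ℕ, X.index = p ^ k} with hF
  set L : Subgroup K := ⨅ X : F, (X : Subgroup K) with hL
  have hLn : L.Normal := Subgroup.normal_iInf_normal (fun X => X.2.1)
  refine ⟨L, hLn, ?_, ?_⟩
  · intro r hr hrd hrσ
    have hrK : r ∣ Nat.card K := hrd.trans (Subgroup.card_subgroup_dvd_card L)
    haveI := Fact.mk hr
    obtain ⟨X, hXn, hXr, k, hXi⟩ := HasNormalPComplement.exists_normal (h r hr hrσ hrK)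
    have hXF : X ∈ F := ⟨hXn, r, hr, hrσ, k, hXi⟩
    have hLX : L ≤ X := iInf_le (fun X : F => (X : Subgroup K)) ⟨X, hXF⟩
    exact hXr (hrd.trans (Subgroup.card_dvd_of_le hLX))
  · intro r hr hrd
    by_contra hrσ
    haveI := Fact.mk hr
    obtain ⟨R⟩ : Nonempty (Sylow r K) := inferInstance
    have hRL : (R : Subgroup K) ≤ L := by
      rw [hL]
      apply le_iInf
      rintro ⟨X, hXn, p, hp, hpσ, k, hXi⟩
      intro g hg
      haveI := hXn
      apply mem_of_coprime_orderOf_of_index_pow X k hXi g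
      obtain ⟨j, hj⟩ := (IsPGroup.iff_orderOf.mp R.2) ⟨g, hg⟩
      rw [Subgroup.orderOf_mk] at hj
      rw [hj]
      apply Nat.Coprime.pow_left
      rw [Nat.coprime_primes hr hp]
      rintro rfl
      exact hrσ hpσ
    exact R.not_dvd_index (hrd.trans (Subgroup.index_dvd_of_le hRL))

end Cfsg.Agent.Lib.H21
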