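import Mathlib
import Cfsg.Prelude.Def_HallClasses
import Cfsg.Agent.Lib.H21.Wielandt

/-!
# Pronormal subgroups and overgroups of Sylow subgroups (helper21)

`Wp p G` : every subgroup of `G` containing a Sylow `p`-subgroup is pronormal.
Basic permanence properties of pronormality, and the Guo–Maslova–Revin criterion for
extensions.
-/

set_option autoImplicit false

namespace Cfsg.Agent.Lib.H21

open Pointwise

variable {G : Type*} [Group G]

/-- Every overgroup of a Sylow `p`-subgroup is pronormal. -/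
def Wp (p : ℕ) (G : Type*) [Group G] : Prop :=
  ∀ K : Subgroup G, (∃ P : Sylow p G, (P : Subgroup G) ≤ K) → Cfsg.IsPronormal K

theorem isPronormal_iff {H : Subgroup G} :
    Cfsg.IsPronormal H ↔ ∀ g : G, ∃ x ∈ H ⊔ cj g H, cj g H = cj x H := Iff.rfl

theorem cj_map {G' : Type*} [Group G'] (f : G →* G') (g : G) (K : Subgroup G) :
    (cj g K).map f = cj (f g) (K.map f) := by
  ext y
  constructor
  · rintro ⟨x, hx, rfl⟩
    have hx' : x ∈ cj g K := hx
    rw [mem_cj] at hx' ⊢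
    refine ⟨g⁻¹ * x * g, hx', by simp⟩
  · intro hy
    rw [mem_cj] at hy
    obtain ⟨x, hx, hxy⟩ := hy
    refine ⟨g * x * g⁻¹, ?_, ?_⟩
    · show g * x * g⁻¹ ∈ cj g K
      rw [mem_cj]; simpa [mul_assoc] using hx
    · rw [map_mul, map_mul, hxy, map_inv]; group

theorem cj_subgroupOf {M : Subgroup G} (g : M) (H : Subgroup G) :
    (cj (g : G) H).subgroupOf M = cj g (H.subgroupOf M) := by
  ext y
  rw [Subgroup.mem_subgroupOf, mem_cj, mem_cj, Subgroup.mem_subgroupOf]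
  simp

theorem cj_le_of_mem {J X : Subgroup G} {b : G} (hb : b ∈ J) (hX : X ≤ J) : cj b X ≤ J := by
  intro y hy
  rw [mem_cj] at hy
  have := J.mul_mem (J.mul_mem hb (hX hy)) (J.inv_mem hb)
  simpa [mul_assoc] using this

theorem cj_eq_self_of_mem {K : Subgroup G} {k : G} (hk : k ∈ K) : cj k K = K :=
  cj_eq_self_of_mem_normalizer (Subgroup.le_normalizer hk)

theorem mem_normalizer_of_cj_eq [Finite G] {K : Subgroup G} {g : G} (h : cj g K = K) :
    g ∈ Subgroup.normalizer (K : Set G) := by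
  apply Subgroup.mem_normalizer_fintype
  intro y hy
  have hy' : y ∈ K := hy
  show g * y * g⁻¹ ∈ K
  rw [← h, mem_cj]
  simpa [mul_assoc] using hy'

/-- Images of pronormal subgroups under surjective homomorphisms are pronormal. -/
theorem prn_map {G' : Type*} [Group G'] (f : G →* G') (hf : Function.Surjective f)
    {H : Subgroup G} (h : Cfsg.IsPronormal H) : Cfsg.IsPronormal (H.map f) := by
  rw [isPronormal_iff] at h ⊢
  intro g'
  obtain ⟨g, rfl⟩ := hf g'
  obtain ⟨x, hx, hxe⟩ := h g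
  refine ⟨f x, ?_, ?_⟩
  · rw [← cj_map, ← Subgroup.map_sup]
    exact Subgroup.mem_map_of_mem f hx
  · rw [← cj_map, ← cj_map, hxe]

/-- A pronormal subgroup is pronormal in every intermediate subgroup. -/
theorem prn_subgroupOf {H M : Subgroup G} (hHM : H ≤ M) (h : Cfsg.IsPronormal H) :
    Cfsg.IsPronormal (H.subgroupOf M) := by
  rw [isPronormal_iff] at h ⊢
  intro g
  obtain ⟨x, hx, hxe⟩ := h (g : G)
  have hcj : cj (g : G) H ≤ M := cj_le_of_mem g.2 hHM
  have hxM : x ∈ M := (sup_le hHM hcj) hx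
  refine ⟨⟨x, hxM⟩, ?_, ?_⟩
  · rw [← cj_subgroupOf, ← Subgroup.subgroupOf_sup hHM hcj, Subgroup.mem_subgroupOf]
    exact hx
  · rw [← cj_subgroupOf, ← cj_subgroupOf]
    show (cj (g : G) H).subgroupOf M = (cj x H).subgroupOf M
    rw [hxe]

/-- Conjugates of pronormal subgroups are pronormal. -/
theorem prn_cj (c : G) {H : Subgroup G} (h : Cfsg.IsPronormal H) : Cfsg.IsPronormal (cj c H) :=
  prn_map (MulAut.conj c).toMonoidHom (MulAut.conj c).surjective h

/-- A subgroup of index prime to `p` contains a Sylow `p`-subgroup. -/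
theorem exists_sylow_le_of_not_dvd_index [Finite G] {p : ℕ} [Fact p.Prime] (K : Subgroup G)
    (hK : ¬ p ∣ K.index) : ∃ P : Sylow p G, (P : Subgroup G) ≤ K := by
  obtain ⟨P₀⟩ : Nonempty (Sylow p G) := inferInstance
  obtain ⟨x, hx⟩ := exists_cj_le_of_not_dvd_index (P₀ : Subgroup G) K P₀.2 hK
  exact ⟨x • P₀, hx⟩

theorem not_dvd_index_of_sylow_le [Finite G] {p : ℕ} [Fact p.Prime] {K : Subgroup G}
    (P : Sylow p G) (hP : (P : Subgroup G) ≤ K) : ¬ p ∣ K.index :=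
  fun h => P.not_dvd_index (h.trans (Subgroup.index_dvd_of_le hP))

/-- `Wp` passes to quotients. -/
theorem Wp.quotient [Finite G] {p : ℕ} [Fact p.Prime] (h : Wp p G) (M : Subgroup G) [M.Normal] :
    Wp p (G ⧸ M) := by
  intro K ⟨P, hP⟩
  have hsurj : Function.Surjective (QuotientGroup.mk' M) := QuotientGroup.mk'_surjective M
  have h1 : ¬ p ∣ (K.comap (QuotientGroup.mk' M)).index := by
    rw [Subgroup.index_comap_of_surjective K hsurj]
    exact not_dvd_index_of_sylow_le P hP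
  have h2 := h _ (exists_sylow_le_of_not_dvd_index _ h1)
  have h3 := prn_map (QuotientGroup.mk' M) hsurj h2
  rwa [Subgroup.map_comap_eq_self_of_surjective hsurj] at h3

/-- `Wp` passes to subgroups of index prime to `p`. -/
theorem Wp.subgroup [Finite G] {p : ℕ} [Fact p.Prime] (h : Wp p G) (N : Subgroup G)
    (hN : ¬ p ∣ N.index) : Wp p N := by
  intro K ⟨P, hP⟩
  have h1 : ¬ p ∣ (K.map N.subtype).index := by
    rw [Subgroup.index_map_subtype]
    intro hd
    rcases (Nat.Prime.dvd_mul (Fact.out : p.Prime)).mp hd with hd | hd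
    · exact not_dvd_index_of_sylow_le P hP hd
    · exact hN hd
  have h2 := h _ (exists_sylow_le_of_not_dvd_index _ h1)
  have h3 := prn_subgroupOf (Subgroup.map_subtype_le K) h2
  have e : (K.map N.subtype).subgroupOf N = K :=
    Subgroup.comap_map_eq_self_of_injective N.subtype_injective K
  rwa [e] at h3

/-- Converse of `prn_map` for subgroups containing the kernel. -/
theorem prn_of_map {G' : Type*} [Group G'] (f : G →* G') {H : Subgroup G} (hker : f.ker ≤ H)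
    (h : Cfsg.IsPronormal (H.map f)) : Cfsg.IsPronormal H := by
  rw [isPronormal_iff] at h ⊢
  intro g
  obtain ⟨x', hx', hxe⟩ := h (f g)
  rw [← cj_map, ← Subgroup.map_sup] at hx'
  obtain ⟨x, hx, rfl⟩ := hx'
  refine ⟨x, hx, ?_⟩
  rw [← cj_map, ← cj_map] at hxe
  have hk : ∀ y : G, f.ker ≤ cj y H := by
    intro y z hz
    rw [mem_cj]
    apply hker
    exact (inferInstance : f.ker.Normal).conj_mem z hz y⁻¹ |> fun h => by simpa [mul_assoc] using h
  exact Subgroup.map_injective_of_ker_le f (hk g) (hk x) hxe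

/-- Pronormality in a subgroup `M`, expressed in `G`. -/
theorem prn_of_subgroupOf {H M : Subgroup G} (hHM : H ≤ M)
    (h : Cfsg.IsPronormal (H.subgroupOf M)) :
    ∀ g ∈ M, ∃ x ∈ H ⊔ cj g H, cj g H = cj x H := by
  rw [isPronormal_iff] at h
  intro g hg
  obtain ⟨x, hx, hxe⟩ := h ⟨g, hg⟩
  have hcj : cj g H ≤ M := cj_le_of_mem hg hHM
  rw [← cj_subgroupOf, ← cj_subgroupOf] at hxe
  rw [← cj_subgroupOf, ← Subgroup.subgroupOf_sup hHM hcj, Subgroup.mem_subgroupOf] at hx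
  refine ⟨x, hx, ?_⟩
  have h2 := Subgroup.subgroupOf_inj.mp hxe
  have hcjx : cj (x : G) H ≤ M := cj_le_of_mem x.2 hHM
  rwa [inf_of_le_left hcj, inf_of_le_left hcjx] at h2

theorem cj_eq_of_le [Finite G] {g : G} {K : Subgroup G} (h : cj g K ≤ K) : cj g K = K :=
  Subgroup.eq_of_le_of_card_ge h (card_cj g K).ge

theorem cj_inf_of_normal (k : G) (K A : Subgroup G) [A.Normal] :
    cj k (K ⊓ A) = cj k K ⊓ A := by
  ext y
  simp only [mem_cj, Subgroup.mem_inf]
  constructor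
  · rintro ⟨h1, h2⟩
    refine ⟨h1, ?_⟩
    have := (inferInstance : A.Normal).conj_mem _ h2 k
    simpa [mul_assoc] using this
  · rintro ⟨h1, h2⟩
    refine ⟨h1, ?_⟩
    have := (inferInstance : A.Normal).conj_mem _ h2 k⁻¹
    simpa [mul_assoc] using this

/-- Reduction: to conjugate `K` to `cj a K` inside their join we may multiply `a` on the left
by an element of the join. -/
theorem prn_reduce_left {K : Subgroup G} {a b : G} (hb : b ∈ K ⊔ cj a K)
    (h : ∃ x₁ ∈ K ⊔ cj (b⁻¹ * a) K, cj (b⁻¹ * a) K = cj x₁ K) :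
    ∃ x ∈ K ⊔ cj a K, cj a K = cj x K := by
  obtain ⟨x₁, hx₁, he⟩ := h
  have h1 : cj (b⁻¹ * a) K ≤ K ⊔ cj a K := by
    rw [cj_mul]
    exact cj_le_of_mem (inv_mem hb) le_sup_right
  have hx₁' : x₁ ∈ K ⊔ cj a K := (sup_le le_sup_left h1) hx₁
  refine ⟨b * x₁, mul_mem hb hx₁', ?_⟩
  rw [cj_mul, ← he, ← cj_mul, mul_inv_cancel_left]

section Ext

variable [Finite G] {p : ℕ} [Fact p.Prime] {A T : Subgroup G}

theorem sylT_le (hT : ∃ P : Sylow p ↥A, (P : Subgroup ↥A).map A.subtype = T) : T ≤ A := by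
  obtain ⟨P, rfl⟩ := hT
  exact Subgroup.map_subtype_le _

theorem sylT_isPGroup (hT : ∃ P : Sylow p ↥A, (P : Subgroup ↥A).map A.subtype = T) :
    IsPGroup p T := by
  obtain ⟨P, rfl⟩ := hT
  exact P.2.map _

theorem sylT_relIndex (hT : ∃ P : Sylow p ↥A, (P : Subgroup ↥A).map A.subtype = T) :
    ¬ p ∣ T.relIndex A := by
  obtain ⟨P, rfl⟩ := hT
  have e : ((P : Subgroup ↥A).map A.subtype).subgroupOf A = P :=
    Subgroup.comap_map_eq_self_of_injective A.subtype_injective _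
  rw [Subgroup.relIndex, e]
  exact P.not_dvd_index

theorem sylT_relIndex' (hT : ∃ P : Sylow p ↥A, (P : Subgroup ↥A).map A.subtype = T)
    {X : Subgroup G} (hTX : T ≤ X) (hXA : X ≤ A) : ¬ p ∣ T.relIndex X := by
  intro h
  apply sylT_relIndex hT
  rw [← Subgroup.relIndex_mul_relIndex T X A hTX hXA]
  exact h.mul_right _

theorem sylT_inf_eq (hT : ∃ P : Sylow p ↥A, (P : Subgroup ↥A).map A.subtype = T)
    {Q : Subgroup G} (hQ : IsPGroup p Q) (hTQ : T ≤ Q) : Q ⊓ A = T := by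
  have hTA := sylT_le hT
  obtain ⟨P, hP⟩ := hT
  have h1 : IsPGroup p ((Q ⊓ A).subgroupOf A) := (hQ.to_le inf_le_left).comap_subtype
  have h2 : (P : Subgroup ↥A) ≤ (Q ⊓ A).subgroupOf A := by
    intro x hx
    rw [Subgroup.mem_subgroupOf]
    refine ⟨hTQ ?_, x.2⟩
    rw [← hP]
    exact ⟨x, hx, rfl⟩
  have h3 := P.3 h1 h2
  rw [← hP, ← h3]
  rw [Subgroup.subgroupOf, Subgroup.map_comap_eq, Subgroup.range_subtype]
  exact (inf_of_le_right inf_le_right).symm

theorem sylT_le_normalizer (hT : ∃ P : Sylow p ↥A, (P : Subgroup ↥A).map A.subtype = T)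
    [A.Normal] {Q : Subgroup G} (hQ : IsPGroup p Q) (hTQ : T ≤ Q) :
    Q ≤ Subgroup.normalizer (T : Set G) := by
  intro q hq
  apply mem_normalizer_of_cj_eq
  apply cj_eq_of_le
  have h1 : cj q T ≤ cj q (Q ⊓ A) := cj_mono q (le_inf hTQ (sylT_le hT))
  rw [cj_inf_of_normal, cj_eq_self_of_mem hq, sylT_inf_eq hT hQ hTQ] at h1
  exact h1

/-- Sylow's theorem in a subgroup `X` with `T ≤ X ≤ A`. -/
theorem sylT_exists_cj_eq (hT : ∃ P : Sylow p ↥A, (P : Subgroup ↥A).map A.subtype = T)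
    {X : Subgroup G} (hTX : T ≤ X) (hXA : X ≤ A) (g : G) (hg : cj g T ≤ X) :
    ∃ b ∈ X, cj (b * g) T = T := by
  have hQ : IsPGroup p (cj g T) := (sylT_isPGroup hT).map _
  obtain ⟨b, hb, hbT⟩ := exists_mem_cj_le_of_not_dvd_relIndex X (cj g T) T hg hQ
    (sylT_relIndex' hT hTX hXA)
  refine ⟨b, hb, ?_⟩
  rw [cj_mul]
  rw [← cj_mul] at hbT ⊢
  exact cj_eq_of_le hbT

/-- Core of the extension criterion: `K` and `cj a K` are conjugate in their join for
`a ∈ A`, provided `T ≤ S ≤ K`. -/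
theorem prn_A_conj [A.Normal]
    (hT : ∃ P : Sylow p ↥A, (P : Subgroup ↥A).map A.subtype = T)
    [hTn : (T.subgroupOf (Subgroup.normalizer (T : Set G))).Normal]
    (hA : Wp p ↥A)
    (hNT : Wp p (↥(Subgroup.normalizer (T : Set G)) ⧸
      T.subgroupOf (Subgroup.normalizer (T : Set G))))
    (K : Subgroup G) (S : Sylow p G) (hTS : T ≤ S) (hSK : (S : Subgroup G) ≤ K) :
    ∀ a ∈ A, ∃ x ∈ K ⊔ cj a K, cj a K = cj x K := by
  intro a ha
  have hTA := sylT_le hT
  obtain ⟨B, hBdef⟩ : ∃ B : Subgroup G, B = K ⊓ A := ⟨_, rfl⟩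
  have hBK : B ≤ K := hBdef ▸ inf_le_left
  have hBA : B ≤ A := hBdef ▸ inf_le_right
  have hTB : T ≤ B := hBdef ▸ le_inf (hTS.trans hSK) hTA
  have hBnorm : ∀ k ∈ K, cj k B = B := by
    intro k hk
    rw [hBdef, cj_inf_of_normal, cj_eq_self_of_mem hk]
  -- Step 2: `B` is pronormal in `A`
  have hBprn : Cfsg.IsPronormal (B.subgroupOf A) := by
    obtain ⟨P, hP⟩ := hT
    refine hA _ ⟨P, ?_⟩
    intro y hy
    rw [Subgroup.mem_subgroupOf]
    apply hTB
    rw [← hP]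
    exact ⟨y, hy, rfl⟩
  obtain ⟨b, hb, hbe⟩ := prn_of_subgroupOf hBA hBprn a ha
  have hbJ : b ∈ K ⊔ cj a K := (sup_le_sup hBK (cj_mono a hBK)) hb
  have hbA : b ∈ A := (sup_le hBA (cj_le_of_mem ha hBA)) hb
  apply prn_reduce_left hbJ
  obtain ⟨a₁, ha₁def⟩ : ∃ a₁ : G, a₁ = b⁻¹ * a := ⟨_, rfl⟩
  rw [← ha₁def]
  have ha₁A : a₁ ∈ A := ha₁def ▸ A.mul_mem (A.inv_mem hbA) ha
  have ha₁B : cj a₁ B = B := by rw [ha₁def, cj_mul, hbe, cj_inv_cj]
  -- Step 3: adjust `a₁` to normalize `T`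
  have ha₁B' : cj a₁⁻¹ B = B := by
    have := cj_inv_cj a₁ B
    rwa [ha₁B] at this
  have h3 : cj a₁⁻¹ T ≤ B := (cj_mono a₁⁻¹ hTB).trans ha₁B'.le
  obtain ⟨b₂, hb₂, hb₂T⟩ := sylT_exists_cj_eq hT hTB hBA a₁⁻¹ h3
  obtain ⟨m, hmdef⟩ : ∃ m : G, m = a₁ * b₂⁻¹ := ⟨_, rfl⟩
  have hmT : cj m T = T := by
    have := cj_inv_cj (b₂ * a₁⁻¹) T
    rw [hb₂T] at this
    rw [hmdef]
    simpa [mul_inv_rev] using this
  have hmN : m ∈ Subgroup.normalizer (T : Set G) := mem_normalizer_of_cj_eq hmT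
  have hmK : cj m K = cj a₁ K := by
    rw [hmdef, cj_mul, cj_eq_self_of_mem (inv_mem (hBK hb₂))]
  have hmB : cj m B = B := by
    rw [hmdef, cj_mul, cj_eq_self_of_mem (inv_mem hb₂), ha₁B]
  rw [← hmK]
  -- Step 4
  have hSN : (S : Subgroup G) ≤ Subgroup.normalizer (T : Set G) :=
    sylT_le_normalizer hT S.2 hTS
  obtain ⟨K₀, hK₀def⟩ : ∃ K₀ : Subgroup G, K₀ = K ⊓ Subgroup.normalizer (T : Set G) := ⟨_, rfl⟩
  have hK₀K : K₀ ≤ K := hK₀def ▸ inf_le_left
  have hK₀N : K₀ ≤ Subgroup.normalizer (T : Set G) := hK₀def ▸ inf_le_right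
  have hSK₀ : (S : Subgroup G) ≤ K₀ := hK₀def ▸ le_inf hSK hSN
  have hTK₀ : T ≤ K₀ := hTS.trans hSK₀
  have hfrat : K = B ⊔ K₀ := by
    apply le_antisymm
    · intro k hk
      have h4 : cj k⁻¹ T ≤ B := (cj_mono k⁻¹ hTB).trans (hBnorm k⁻¹ (inv_mem hk)).le
      obtain ⟨b₃, hb₃, hb₃T⟩ := sylT_exists_cj_eq hT hTB hBA k⁻¹ h4
      have h5 : b₃ * k⁻¹ ∈ K₀ := by
        rw [hK₀def]
        exact ⟨K.mul_mem (hBK hb₃) (K.inv_mem hk), mem_normalizer_of_cj_eq hb₃T⟩
      have e : k = (b₃ * k⁻¹)⁻¹ * b₃ := by group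
      rw [e]
      exact mul_mem (inv_mem (Subgroup.mem_sup_right h5)) (Subgroup.mem_sup_left hb₃)
    · exact sup_le hBK hK₀K
  have hq : Function.Surjective
      (QuotientGroup.mk' (T.subgroupOf (Subgroup.normalizer (T : Set G)))) :=
    QuotientGroup.mk'_surjective _
  have hprn0 : Cfsg.IsPronormal ((K₀.subgroupOf (Subgroup.normalizer (T : Set G))).map
      (QuotientGroup.mk' (T.subgroupOf (Subgroup.normalizer (T : Set G))))) := by
    apply hNT
    refine ⟨(S.subtype hSN).mapSurjective hq, ?_⟩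
    rw [Sylow.coe_mapSurjective, Sylow.coe_subtype]
    exact Subgroup.map_mono (Subgroup.comap_mono hSK₀)
  have hker : (QuotientGroup.mk' (T.subgroupOf (Subgroup.normalizer (T : Set G)))).ker
      ≤ K₀.subgroupOf (Subgroup.normalizer (T : Set G)) := by
    rw [QuotientGroup.ker_mk']
    exact Subgroup.comap_mono hTK₀
  have hprn1 : Cfsg.IsPronormal (K₀.subgroupOf (Subgroup.normalizer (T : Set G))) :=
    prn_of_map _ hker hprn0
  obtain ⟨x, hx, hxe⟩ := prn_of_subgroupOf hK₀N hprn1 m hmN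
  have hKB : K ≤ Subgroup.normalizer (B : Set G) := by
    intro k hk
    exact mem_normalizer_of_cj_eq (hBnorm k hk)
  have hxB : cj x B = B := by
    apply cj_eq_self_of_mem_normalizer
    have h6 : cj m K₀ ≤ Subgroup.normalizer (B : Set G) := by
      have := cj_le_normalizer m hKB
      rw [hmB] at this
      exact (cj_mono m hK₀K).trans this
    exact (sup_le (hK₀K.trans hKB) h6) hx
  refine ⟨x, (sup_le_sup hK₀K (cj_mono m hK₀K)) hx, ?_⟩
  have e1 : cj m K = cj m B ⊔ cj m K₀ := by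
    conv_lhs => rw [hfrat]
    exact cj_sup _ _ _
  have e2 : cj x K = cj x B ⊔ cj x K₀ := by
    conv_lhs => rw [hfrat]
    exact cj_sup _ _ _
  rw [e1, e2, hmB, hxB, hxe]

/-- The extension criterion, sufficiency. -/
theorem Wp_of_extension [A.Normal]
    (hT : ∃ P : Sylow p ↥A, (P : Subgroup ↥A).map A.subtype = T)
    [hTn : (T.subgroupOf (Subgroup.normalizer (T : Set G))).Normal]
    (hA : Wp p ↥A) (hQ : Wp p (G ⧸ A))
    (hNT : Wp p (↥(Subgroup.normalizer (T : Set G)) ⧸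
      T.subgroupOf (Subgroup.normalizer (T : Set G))))
    (hnorm : ∀ K : Subgroup G, (∃ P : Sylow p G, (P : Subgroup G) ≤ K) →
      (Subgroup.normalizer (K : Set G)).map (QuotientGroup.mk' A)
        = Subgroup.normalizer ((K.map (QuotientGroup.mk' A) : Subgroup (G ⧸ A)) : Set (G ⧸ A))) :
    Wp p G := by
  intro K ⟨S₀, hS₀⟩
  obtain ⟨S₁, hS₁⟩ := (sylT_isPGroup hT).exists_le_sylow
  obtain ⟨c, hc⟩ := MulAction.exists_smul_eq G S₀ S₁
  have hK₁ : (S₁ : Subgroup G) ≤ cj c K := by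
    rw [← hc]; exact cj_mono c hS₀
  suffices h : Cfsg.IsPronormal (cj c K) by
    have := prn_cj c⁻¹ h
    rwa [cj_inv_cj] at this
  generalize cj c K = K₁ at hK₁ ⊢
  rw [isPronormal_iff]
  intro g
  have hsurj : Function.Surjective (QuotientGroup.mk' A) := QuotientGroup.mk'_surjective A
  have hKbar : Cfsg.IsPronormal (K₁.map (QuotientGroup.mk' A)) :=
    hQ _ ⟨S₁.mapSurjective hsurj, Subgroup.map_mono hK₁⟩
  obtain ⟨y', hy', hye⟩ := hKbar (QuotientGroup.mk' A g)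
  change y' ∈ K₁.map (QuotientGroup.mk' A) ⊔ cj (QuotientGroup.mk' A g) (K₁.map (QuotientGroup.mk' A))
    at hy'
  change cj (QuotientGroup.mk' A g) (K₁.map (QuotientGroup.mk' A)) = cj y' (K₁.map (QuotientGroup.mk' A))
    at hye
  rw [← cj_map, ← Subgroup.map_sup] at hy'
  obtain ⟨y, hy, rfl⟩ := hy'
  have h1 : cj (QuotientGroup.mk' A (y⁻¹ * g)) (K₁.map (QuotientGroup.mk' A))
      = K₁.map (QuotientGroup.mk' A) := by
    rw [map_mul, cj_mul, hye, map_inv, cj_inv_cj]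
  have h2 : QuotientGroup.mk' A (y⁻¹ * g) ∈
      Subgroup.normalizer ((K₁.map (QuotientGroup.mk' A) : Subgroup (G ⧸ A)) : Set (G ⧸ A)) :=
    mem_normalizer_of_cj_eq h1
  rw [← hnorm K₁ ⟨S₁, hK₁⟩] at h2
  obtain ⟨n, hn, hne⟩ := h2
  have ha : y⁻¹ * g * n⁻¹ ∈ A := by
    rw [← QuotientGroup.eq_one_iff, QuotientGroup.mk_mul, QuotientGroup.mk_inv]
    have : ((n : G) : G ⧸ A) = ((y⁻¹ * g : G) : G ⧸ A) := hne
    rw [this, mul_inv_cancel]
  obtain ⟨x', hx', hxe'⟩ := prn_A_conj hT hA hNT K₁ S₁ hS₁ hK₁ _ ha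
  have hg : cj g K₁ = cj y (cj (y⁻¹ * g * n⁻¹) K₁) := by
    have e : g = y * (y⁻¹ * g * n⁻¹) * n := by group
    conv_lhs => rw [e, cj_mul, cj_eq_self_of_mem_normalizer hn, cj_mul]
  refine ⟨y * x', ?_, ?_⟩
  · apply mul_mem hy
    have h3 : cj (y⁻¹ * g * n⁻¹) K₁ ≤ K₁ ⊔ cj g K₁ := by
      have e : cj (y⁻¹ * g * n⁻¹) K₁ = cj y⁻¹ (cj g K₁) := by rw [hg, cj_inv_cj]
      rw [e]
      exact cj_le_of_mem (inv_mem hy) le_sup_right
    exact (sup_le le_sup_left h3) hx'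
  · rw [hg, hxe', ← cj_mul]

/-- Necessity, part (i). -/
theorem Wp.normalizer_quotient [A.Normal] (h : Wp p G)
    (hT : ∃ P : Sylow p ↥A, (P : Subgroup ↥A).map A.subtype = T)
    [hTn : (T.subgroupOf (Subgroup.normalizer (T : Set G))).Normal] :
    Wp p (↥(Subgroup.normalizer (T : Set G)) ⧸
      T.subgroupOf (Subgroup.normalizer (T : Set G))) := by
  obtain ⟨S₁, hS₁⟩ := (sylT_isPGroup hT).exists_le_sylow
  have hSN : (S₁ : Subgroup G) ≤ Subgroup.normalizer (T : Set G) :=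
    sylT_le_normalizer hT S₁.2 hS₁
  exact (h.subgroup _ (not_dvd_index_of_sylow_le S₁ hSN)).quotient _

/-- Necessity, part (ii): for a pronormal subgroup the image of the normalizer is the
normalizer of the image. -/
theorem prn_normalizer_map {K : Subgroup G} (hK : Cfsg.IsPronormal K) (A : Subgroup G)
    [A.Normal] :
    (Subgroup.normalizer (K : Set G)).map (QuotientGroup.mk' A)
      = Subgroup.normalizer ((K.map (QuotientGroup.mk' A) : Subgroup (G ⧸ A)) : Set (G ⧸ A)) := by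
  apply le_antisymm (Subgroup.le_normalizer_map _)
  intro g' hg'
  obtain ⟨g, rfl⟩ := QuotientGroup.mk'_surjective A g'
  have h1 : cj (QuotientGroup.mk' A g) (K.map (QuotientGroup.mk' A))
      = K.map (QuotientGroup.mk' A) := cj_eq_self_of_mem_normalizer hg'
  rw [← cj_map] at h1
  have h2 : cj g K ≤ K ⊔ A := by
    have h3 : cj g K ≤ ((cj g K).map (QuotientGroup.mk' A)).comap (QuotientGroup.mk' A) :=
      Subgroup.le_comap_map _ _
    rw [h1, Subgroup.comap_map_eq, QuotientGroup.ker_mk'] at h3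
    exact h3
  obtain ⟨x, hx, hxe⟩ := (isPronormal_iff.mp hK) g
  have hx' : x ∈ K ⊔ A := (sup_le le_sup_left h2) hx
  obtain ⟨k, hk, a, ha, rfl⟩ := Subgroup.mem_sup_of_normal_right.mp hx'
  refine ⟨k * (k * a)⁻¹ * g, ?_, ?_⟩
  · have h4 : (k * a)⁻¹ * g ∈ Subgroup.normalizer (K : Set G) := by
      apply mem_normalizer_of_cj_eq
      rw [cj_mul, hxe, cj_inv_cj]
    have := (Subgroup.normalizer (K : Set G)).mul_mem (Subgroup.le_normalizer hk) h4
    simpa [mul_assoc] using this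
  · have h5 : k * (k * a)⁻¹ ∈ A := by
      have := (inferInstance : A.Normal).conj_mem a⁻¹ (A.inv_mem ha) k
      simpa [mul_assoc] using this
    rw [map_mul]
    have : QuotientGroup.mk' A (k * (k * a)⁻¹) = 1 := (QuotientGroup.eq_one_iff _).mpr h5
    rw [this, one_mul]

end Ext

end Cfsg.Agent.Lib.H21
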