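import Mathlib
import Cfsg.Agent.S3742
import Cfsg.Agent.Lib.H21.GL23Model

/-!
# Groups with a normal self-centralizing quaternion subgroup of order 8 (helper21)

`G` finite, `R ⊴ G`, `e : R ≃* Q₈`, `C_G(R) ≤ R`.  The conjugation action gives
`rho : G →* MulAut Q₈` with kernel `{1, z}`.
-/

set_option autoImplicit false

namespace Cfsg.Agent.Lib.H21.Q8N

open QuaternionGroup Cfsg.Agent.Lib.H21.GL23

variable {G : Type*} [Group G] {R : Subgroup G} [hRn : R.Normal] (e : R ≃* Q8)

/-- the action of `G` on `Q₈` induced by conjugation on `R` -/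
noncomputable def rho : G →* MulAut Q8 :=
  (MulAut.congr e).toMonoidHom.comp (MulAut.conjNormal (H := R))

theorem rho_apply (g : G) (q : Q8) : rho e g q = e (MulAut.conjNormal g (e.symm q)) := rfl

theorem rho_spec (g : G) (q : Q8) :
    ((e.symm (rho e g q) : R) : G) = g * ((e.symm q : R) : G) * g⁻¹ := by
  rw [rho_apply, MulEquiv.symm_apply_apply, MulAut.conjNormal_apply]

/-- the central involution -/
noncomputable def zz : G := ((e.symm (a 2) : R) : G)

theorem zz_mem : zz e ∈ R := (e.symm (a 2)).2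

theorem zz_ne_one : zz e ≠ 1 := by
  intro h
  have h1 : e.symm (a 2) = 1 := Subtype.ext h
  have h2 : (a 2 : Q8) = 1 := by
    have := congrArg e h1
    rwa [MulEquiv.apply_symm_apply, map_one] at this
  exact absurd h2 (by decide)

theorem zz_mul_self : zz e * zz e = 1 := by
  have h1 : (e.symm (a 2) * e.symm (a 2) : R) = 1 := by
    rw [← map_mul]
    have : (a 2 : Q8) * a 2 = 1 := by decide
    rw [this, map_one]
  exact congrArg Subtype.val h1

theorem q8_center : ∀ q : Q8, (∀ q' : Q8, q * q' = q' * q) → q = 1 ∨ q = a 2 := by decide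

theorem q8_a2_central : ∀ q : Q8, a 2 * q * (a 2)⁻¹ = q := by decide

theorem coe_symm_mul (q q' : Q8) :
    ((e.symm (q * q') : R) : G) = ((e.symm q : R) : G) * ((e.symm q' : R) : G) := by
  rw [map_mul]; rfl

theorem coe_symm_inv (q : Q8) : ((e.symm q⁻¹ : R) : G) = ((e.symm q : R) : G)⁻¹ := by
  rw [map_inv]; rfl

theorem coe_symm_one : ((e.symm 1 : R) : G) = 1 := by
  rw [map_one]; rfl

theorem coe_symm_pow (q : Q8) (n : ℕ) : ((e.symm (q ^ n) : R) : G) = ((e.symm q : R) : G) ^ n := by
  rw [map_pow]; rfl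

theorem coe_symm_injective {q q' : Q8} (h : ((e.symm q : R) : G) = ((e.symm q' : R) : G)) :
    q = q' := e.symm.injective (Subtype.ext h)

theorem zz_mem_ker : zz e ∈ (rho e).ker := by
  rw [MonoidHom.mem_ker]
  ext q
  rw [MulAut.one_apply]
  apply coe_symm_injective e
  rw [rho_spec]
  show ((e.symm (a 2) : R) : G) * _ * ((e.symm (a 2) : R) : G)⁻¹ = _
  rw [← coe_symm_inv, ← coe_symm_mul, ← coe_symm_mul, q8_a2_central]

theorem mem_ker_iff (hC : Subgroup.centralizer (R : Set G) ≤ R) (g : G) :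
    g ∈ (rho e).ker ↔ g = 1 ∨ g = zz e := by
  constructor
  · intro hg
    rw [MonoidHom.mem_ker] at hg
    have h1 : ∀ r ∈ R, g * r * g⁻¹ = r := by
      intro r hr
      have := rho_spec e g (e ⟨r, hr⟩)
      rw [hg, MulAut.one_apply, MulEquiv.symm_apply_apply] at this
      exact this.symm
    have hgR : g ∈ R := by
      apply hC
      rw [Subgroup.mem_centralizer_iff]
      intro r hr
      have := h1 r hr
      calc r * g = (g * r * g⁻¹) * g := by rw [this]
        _ = g * r := by group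
    have hq : ∀ q' : Q8, e ⟨g, hgR⟩ * q' = q' * e ⟨g, hgR⟩ := by
      intro q'
      have h2 := h1 (e.symm q') (e.symm q').2
      have h3 : (⟨g, hgR⟩ : R) * e.symm q' = e.symm q' * ⟨g, hgR⟩ := by
        apply Subtype.ext
        show g * ((e.symm q' : R) : G) = ((e.symm q' : R) : G) * g
        calc g * ((e.symm q' : R) : G) = (g * ((e.symm q' : R) : G) * g⁻¹) * g := by group
          _ = ((e.symm q' : R) : G) * g := by rw [h2]
      have := congrArg e h3
      rwa [map_mul, map_mul, MulEquiv.apply_symm_apply] at this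
    rcases q8_center _ hq with h | h
    · left
      have : (⟨g, hgR⟩ : R) = 1 := by
        have := congrArg e.symm h
        rwa [MulEquiv.symm_apply_apply, map_one] at this
      exact congrArg Subtype.val this
    · right
      have : (⟨g, hgR⟩ : R) = e.symm (a 2) := by
        have := congrArg e.symm h
        rwa [MulEquiv.symm_apply_apply] at this
      exact congrArg Subtype.val this
  · rintro (rfl | rfl)
    · exact Subgroup.one_mem _
    · exact zz_mem_ker e

theorem card_ker (hC : Subgroup.centralizer (R : Set G) ≤ R) : Nat.card (rho e).ker = 2 := by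
  rw [Nat.card_eq_two_iff]
  refine ⟨1, ⟨zz e, zz_mem_ker e⟩, ?_, ?_⟩
  · intro h
    exact zz_ne_one e (congrArg Subtype.val h).symm
  · ext x
    simp only [Set.mem_insert_iff, Set.mem_singleton_iff, Set.mem_univ, iff_true]
    rcases (mem_ker_iff e hC x).mp x.2 with h | h
    · left; exact Subtype.ext h
    · right; exact Subtype.ext h

theorem ker_le (hC : Subgroup.centralizer (R : Set G) ≤ R) : (rho e).ker ≤ R := by
  intro g hg
  rcases (mem_ker_iff e hC g).mp hg with rfl | rfl
  · exact Subgroup.one_mem _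
  · exact zz_mem e

theorem zz_central (hC : Subgroup.centralizer (R : Set G) ≤ R) (g : G) :
    g * zz e * g⁻¹ = zz e := by
  have h1 : g * zz e * g⁻¹ ∈ (rho e).ker :=
    (MonoidHom.normal_ker (rho e)).conj_mem _ (zz_mem_ker e) g
  rcases (mem_ker_iff e hC _).mp h1 with h | h
  · exfalso
    apply zz_ne_one e
    calc zz e = g⁻¹ * (g * zz e * g⁻¹) * g := by group
      _ = 1 := by rw [h]; group
  · exact h

theorem ker_eq_center (hC : Subgroup.centralizer (R : Set G) ≤ R) :
    (rho e).ker = Subgroup.center G := by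
  apply le_antisymm
  · intro g hg
    rw [Subgroup.mem_center_iff]
    intro x
    rcases (mem_ker_iff e hC g).mp hg with rfl | rfl
    · simp
    · have := zz_central e hC x
      calc x * zz e = (x * zz e * x⁻¹) * x := by group
        _ = zz e * x := by rw [this]
  · intro g hg
    rw [MonoidHom.mem_ker]
    ext q
    rw [MulAut.one_apply]
    apply coe_symm_injective e
    rw [rho_spec]
    have := (Subgroup.mem_center_iff.mp hg) ((e.symm q : R) : G)
    rw [← this]
    group

theorem card_mulAut_q8 : Nat.card (MulAut Q8) = 24 := by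
  obtain ⟨f⟩ := Cfsg.Agent.S3742.result
  rw [Nat.card_congr f.toEquiv, Nat.card_eq_fintype_card, Fintype.card_perm, Fintype.card_fin]
  rfl

theorem card_eq [Finite G] (hC : Subgroup.centralizer (R : Set G) ≤ R) :
    Nat.card G = 2 * Nat.card (rho e).range := by
  rw [← Subgroup.card_mul_index (rho e).ker, card_ker e hC, Subgroup.index_ker]

include e in
theorem card_dvd [Finite G] (hC : Subgroup.centralizer (R : Set G) ≤ R) : Nat.card G ∣ 48 := by
  rw [card_eq e hC]
  have h1 : Nat.card (rho e).range ∣ 24 := by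
    rw [← card_mulAut_q8]
    exact Subgroup.card_subgroup_dvd_card _
  exact Nat.mul_dvd_mul_left 2 h1

theorem rho_surjective [Finite G] (hC : Subgroup.centralizer (R : Set G) ≤ R)
    (hG : Nat.card G = 48) : Function.Surjective (rho e) := by
  rw [← MonoidHom.range_eq_top]
  apply Subgroup.eq_top_of_card_eq
  have := card_eq e hC
  rw [card_mulAut_q8]
  omega

include e in
theorem card_center (hC : Subgroup.centralizer (R : Set G) ≤ R) :
    Nat.card (Subgroup.center G) = 2 := by
  rw [← ker_eq_center e hC, card_ker e hC]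

include e in
/-- `G ⧸ Z(G) ≃ S₄` -/
theorem nonempty_quotient_center_equiv [Finite G] (hC : Subgroup.centralizer (R : Set G) ≤ R)
    (hG : Nat.card G = 48) : Nonempty (G ⧸ Subgroup.center G ≃* Equiv.Perm (Fin 4)) := by
  obtain ⟨f⟩ := Cfsg.Agent.S3742.result
  have e1 : G ⧸ (rho e).ker ≃* MulAut Q8 :=
    QuotientGroup.quotientKerEquivOfSurjective (rho e) (rho_surjective e hC hG)
  have e2 : G ⧸ Subgroup.center G ≃* G ⧸ (rho e).ker :=
    QuotientGroup.quotientMulEquivOfEq (ker_eq_center e hC).symm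
  exact ⟨(e2.trans e1).trans f⟩

/-! ### conjugacy of the non-inner involutions of `Aut(Q₈)` -/

open Cfsg.Agent.S3742 (ev Valid mkAut mkAut_apply apply_eq_ev valid_of_aut)

theorem ev_conj : ∀ x y : Q8, Valid x y → (∀ g, ev x y (ev x y g) = g) →
    (∀ q : Q8, ∃ g, ev x y g ≠ q * g * q⁻¹) →
    ∃ x' y' : Q8, Valid x' y' ∧ ∀ g, ev x' y' (ev x y g) = atHom (ev x' y' g) := by
  decide

theorem aut_conj (τ : MulAut Q8) (h2 : τ * τ = 1)
    (hni : ¬ ∃ q : Q8, ∀ g, τ g = q * g * q⁻¹) : ∃ ψ : MulAut Q8, ψ * τ * ψ⁻¹ = at' := by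
  have hv := valid_of_aut τ
  have hev : ∀ g, τ g = ev (τ (a 1)) (τ (xa 0)) g := apply_eq_ev τ
  obtain ⟨x', y', hv', h⟩ := ev_conj _ _ hv
    (fun g => by
      rw [← hev, ← hev, ← MulAut.mul_apply, h2, MulAut.one_apply])
    (fun q => by
      by_contra hh
      push Not at hh
      exact hni ⟨q, fun g => by rw [hev]; exact hh g⟩)
  refine ⟨mkAut x' y' hv', ?_⟩
  rw [mul_inv_eq_iff_eq_mul]
  ext g
  rw [MulAut.mul_apply, MulAut.mul_apply, mkAut_apply, mkAut_apply, at_apply, hev]
  exact h g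

/-! ### the generators -/

section data

variable [Finite G]

theorem rho_symm (r : R) (q : Q8) : rho e (r : G) q = e r * q * (e r)⁻¹ := by
  apply coe_symm_injective e
  rw [rho_spec, coe_symm_mul, coe_symm_mul, coe_symm_inv, MulEquiv.symm_apply_apply]

include e in
theorem exists_data (hC : Subgroup.centralizer (R : Set G) ≤ R) (hG : Nat.card G = 48)
    (t₀ : G) (ht₀ : t₀ ∉ R) (ht₀2 : t₀ * t₀ = 1) : ∃ i j c t : G, Data i j c t := by
  have hsurj := rho_surjective e hC hG
  have hz1 := zz_ne_one e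
  have hz2 := zz_mul_self e
  have hzc : ∀ g : G, g * zz e = zz e * g := by
    intro g
    have := zz_central e hC g
    calc g * zz e = (g * zz e * g⁻¹) * g := by group
      _ = zz e * g := by rw [this]
  -- the involution
  have hτ2 : rho e t₀ * rho e t₀ = 1 := by rw [← map_mul, ht₀2, map_one]
  have hni : ¬ ∃ q : Q8, ∀ g, rho e t₀ g = q * g * q⁻¹ := by
    rintro ⟨q, hq⟩
    apply ht₀
    have h1 : rho e t₀ = rho e ((e.symm q : R) : G) := by
      ext g
      rw [hq, rho_symm, MulEquiv.apply_symm_apply]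
    have h2 : t₀ * ((e.symm q : R) : G)⁻¹ ∈ (rho e).ker := by
      rw [MonoidHom.mem_ker, map_mul, map_inv, h1, mul_inv_cancel]
    have h3 := ker_le e hC h2
    have : t₀ = (t₀ * ((e.symm q : R) : G)⁻¹) * ((e.symm q : R) : G) := by group
    rw [this]
    exact Subgroup.mul_mem _ h3 (e.symm q).2
  obtain ⟨ψ, hψ⟩ := aut_conj _ hτ2 hni
  obtain ⟨g, hg⟩ := hsurj ψ
  set t : G := g * t₀ * g⁻¹ with ht
  have htt : t * t = 1 := by
    calc t * t = g * (t₀ * t₀) * g⁻¹ := by rw [ht]; group
      _ = 1 := by rw [ht₀2]; group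
  have hρt : rho e t = at' := by
    rw [ht, map_mul, map_mul, map_inv, hg, hψ]
  -- the element of order three
  obtain ⟨c₀, hc₀⟩ := hsurj ac
  have hc₀3 : c₀ ^ 3 = 1 ∨ c₀ ^ 3 = zz e := by
    apply (mem_ker_iff e hC _).mp
    rw [MonoidHom.mem_ker, map_pow, hc₀, ac_pow_three]
  have hc₀6 : c₀ ^ 6 = 1 := by
    have : c₀ ^ 6 = c₀ ^ 3 * c₀ ^ 3 := by rw [← pow_add]
    rw [this]
    rcases hc₀3 with h | h <;> rw [h]
    · rw [one_mul]
    · exact hz2
  set c : G := c₀ ^ 4 with hc
  have hc3 : c ^ 3 = 1 := by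
    rw [hc, ← pow_mul]
    have : c₀ ^ (4 * 3) = (c₀ ^ 6) ^ 2 := by rw [← pow_mul]
    rw [this, hc₀6, one_pow]
  have hρc : rho e c = ac := by
    rw [hc, map_pow, hc₀]
    have : ac ^ 4 = ac ^ 3 * ac := by rw [← pow_succ]
    rw [this, ac_pow_three, one_mul]
  -- t inverts c
  have htc : t * c * t⁻¹ = c⁻¹ := by
    have h1 : t * c * t⁻¹ * c ∈ (rho e).ker := by
      rw [MonoidHom.mem_ker, map_mul, map_mul, map_mul, map_inv, hρt, hρc, at_ac_at,
        inv_mul_cancel]
    rcases (mem_ker_iff e hC _).mp h1 with h | h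
    · exact eq_inv_of_mul_eq_one_left h
    · exfalso
      apply hz1
      have h2 : t * c * t⁻¹ = zz e * c⁻¹ := by
        calc t * c * t⁻¹ = (t * c * t⁻¹ * c) * c⁻¹ := by group
          _ = zz e * c⁻¹ := by rw [h]
      have h3 : (t * c * t⁻¹) ^ 3 = 1 := by
        rw [conj_pow, hc3]; group
      have hcomm : Commute (zz e) c⁻¹ := (hzc c⁻¹).symm
      rw [h2, hcomm.mul_pow, inv_pow, hc3, inv_one, mul_one] at h3
      have : zz e ^ 3 = zz e * zz e * zz e := by rw [pow_succ, pow_two]
      rw [this, hz2, one_mul] at h3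
      exact h3
  -- the quaternion generators
  set i : G := ((e.symm (a 1) : R) : G) with hi
  set j : G := ((e.symm (xa 0) : R) : G) with hj
  have conj_c : ∀ q : Q8, c * ((e.symm q : R) : G) * c⁻¹ = ((e.symm (ac q) : R) : G) := by
    intro q; rw [← rho_spec, hρc]
  have conj_t : ∀ q : Q8, t * ((e.symm q : R) : G) * t⁻¹ = ((e.symm (at' q) : R) : G) := by
    intro q; rw [← rho_spec, hρt]
  refine ⟨i, j, c, t, ?_⟩
  refine
    { i4 := ?_, j2 := ?_, ji := ?_, c3 := hc3, t2 := htt, tc := htc, ci := ?_, cj := ?_,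
      ti := ?_, tj := ?_, nd := ?_ }
  · rw [hi, ← coe_symm_pow]
    have : (a 1 : Q8) ^ (2 * 2) = 1 := by decide
    rw [this, coe_symm_one]
  · rw [hi, hj, ← coe_symm_pow, ← coe_symm_mul]
    have : (xa 0 : Q8) * xa 0 = (a 1) ^ 2 := by decide
    rw [this]
  · rw [hi, hj, ← coe_symm_inv, ← coe_symm_inv, ← coe_symm_mul, ← coe_symm_mul]
    have : (xa 0 : Q8) * a 1 * (xa 0)⁻¹ = (a 1)⁻¹ := by decide
    rw [this]
  · rw [hi, hj, conj_c]
    have : ac (a 1) = xa 0 := by decide
    rw [this]
  · rw [hi, hj, conj_c, ← coe_symm_mul]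
    have : ac (xa 0) = a 1 * xa 0 := by decide
    rw [this]
  · rw [hi, conj_t, ← coe_symm_inv]
    have : at' (a 1) = (a 1)⁻¹ := by decide
    rw [this]
  · rw [hi, hj, conj_t, ← coe_symm_mul, ← coe_symm_inv]
    have : at' (xa 0) = (a 1 * xa 0)⁻¹ := by decide
    rw [this]
  · rw [hi, ← coe_symm_pow]
    intro h
    rw [← coe_symm_one e] at h
    have := coe_symm_injective e h
    exact absurd this (by decide)

include e in
/-- a group of order `48` with a normal self-centralizing `Q₈` and an involution outside it is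
`GL(2,3)` -/
theorem nonempty_equiv_gl (hC : Subgroup.centralizer (R : Set G) ≤ R) (hG : Nat.card G = 48)
    (t₀ : G) (ht₀ : t₀ ∉ R) (ht₀2 : t₀ * t₀ = 1) : Nonempty (G ≃* GL (Fin 2) (ZMod 3)) := by
  obtain ⟨i, j, c, t, d⟩ := exists_data e hC hG t₀ ht₀ ht₀2
  exact Cfsg.Agent.Lib.H21.GL23.nonempty_equiv_gl d hG

end data

end Cfsg.Agent.Lib.H21.Q8N
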