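import Mathlib
import Cfsg.Prelude.Def_CaseTheorems
import Cfsg.Agent.Lib.H1.PCore
import Cfsg.Agent.Lib.H1.PSolvOfSolv
import Cfsg.Agent.Lib.H1.ZRankOne
import Cfsg.Agent.Lib.H10.PSolvable
import Cfsg.Agent.Lib.H15.RankOne
import Cfsg.Agent.Lib.H16.BGk
import Cfsg.Agent.Lib.H22.UniqueInvolution
import Cfsg.Agent.Lib.H26.MSAut
import Cfsg.Agent.Lib.H5.SimpleTools
import Cfsg.Agent.Lib.H21.Q8Normal

/-!
# Solvable groups with `O(G) = 1` whose Sylow 2-intersections have 2-rank at most one (helper21)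
-/

set_option autoImplicit false

namespace Cfsg.Agent.Lib.H21.RankOneCore

open Cfsg QuaternionGroup Cfsg.Agent.Lib.H21.GL23 Cfsg.Agent.Lib.H21.Q8N

variable {G : Type*} [Group G]

theorem mem_centralizer_of_conjNormal_eq_one {R : Subgroup G} [R.Normal] {g : G}
    (h : MulAut.conjNormal (H := R) g = 1) : g ∈ Subgroup.centralizer (R : Set G) := by
  rw [Subgroup.mem_centralizer_iff]
  intro r hr
  have h1 := DFunLike.congr_fun h ⟨r, hr⟩
  have h2 : g * r * g⁻¹ = r := by
    have := congrArg Subtype.val h1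
    rw [MulAut.conjNormal_apply] at this
    exact this
  calc r * g = (g * r * g⁻¹) * g := by rw [h2]
    _ = g * r := by group

/-- cyclic `R`: the Sylow 2-subgroups containing `R` are normal -/
theorem normal_of_cyclic {R : Subgroup G} [R.Normal] (hcyc : IsCyclic R)
    (hC : Subgroup.centralizer (R : Set G) ≤ R) (S : Subgroup G) (hRS : R ≤ S) : S.Normal := by
  have hcomm : ∀ φ ψ : MulAut R, φ * ψ = ψ * φ := by
    intro φ ψ
    apply (IsCyclic.mulAutMulEquiv R).injective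
    rw [map_mul, map_mul, mul_comm]
  have key : ∀ g h : G, g * h * g⁻¹ * h⁻¹ ∈ R := by
    intro g h
    apply hC
    apply mem_centralizer_of_conjNormal_eq_one
    rw [map_mul, map_mul, map_mul, map_inv, map_inv, hcomm (MulAut.conjNormal g)]
    group
  constructor
  intro s hs g
  have : g * s * g⁻¹ = (g * s * g⁻¹ * s⁻¹) * s := by group
  rw [this]
  exact S.mul_mem (hRS (key g s)) hs

/-- if `Aut(R)` is a 2-group then so is `G` -/
theorem isPGroup_of_aut {R : Subgroup G} [R.Normal] (hR : IsPGroup 2 R)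
    (hA : IsPGroup 2 (MulAut R)) (hC : Subgroup.centralizer (R : Set G) ≤ R) : IsPGroup 2 G := by
  intro g
  obtain ⟨k, hk⟩ := hA (MulAut.conjNormal g)
  have h1 : g ^ 2 ^ k ∈ R := by
    apply hC
    apply mem_centralizer_of_conjNormal_eq_one
    rw [map_pow, hk]
  obtain ⟨m, hm⟩ := hR ⟨g ^ 2 ^ k, h1⟩
  refine ⟨k + m, ?_⟩
  have := congrArg Subtype.val hm
  rw [pow_add, pow_mul]
  simpa using this

theorem sylow_normal_of_isPGroup [Finite G] (hG : IsPGroup 2 G) (P : Sylow 2 G) :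
    (P : Subgroup G).Normal := by
  have h1 : (⊤ : Subgroup G) = P :=
    P.is_maximal' (hG.to_subgroup ⊤) le_top
  rw [← h1]
  infer_instance

theorem q8_sq_one : ∀ q : Q8, q * q = 1 → q = 1 ∨ q = a 2 := by decide

theorem q8_noncomm : (a 1 : Q8) * xa 0 ≠ xa 0 * a 1 := by decide

section main

variable [Finite G]

/-- the quaternion case -/
theorem q8_case {R : Subgroup G} [hRn : R.Normal] (e : R ≃* Q8)
    (hC : Subgroup.centralizer (R : Set G) ≤ R)
    (hRS : ∀ P : Sylow 2 G, R ≤ P)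
    (hn : ¬ ∃ P : Sylow 2 G, (P : Subgroup G).Normal) :
    Nonempty (G ≃* GL (Fin 2) (ZMod 3)) ∨
    (Nat.card G = 48 ∧ Nat.card ↥(Subgroup.center G) = 2 ∧
      Nonempty (G ⧸ Subgroup.center G ≃* Equiv.Perm (Fin 4)) ∧
      ∀ P : Sylow 2 G, Nonempty (↥(P : Subgroup G) ≃* QuaternionGroup 4)) := by
  haveI : Fact (Nat.Prime 2) := ⟨Nat.prime_two⟩
  obtain ⟨P₀, -⟩ := (IsPGroup.of_bot : IsPGroup 2 (⊥ : Subgroup G)).exists_le_sylow
  have hcardR : Nat.card R = 8 := by
    rw [Nat.card_congr e.toEquiv, Nat.card_eq_fintype_card, QuaternionGroup.card]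
  have h8 : 8 ∣ Nat.card G := by
    rw [← hcardR]; exact Subgroup.card_subgroup_dvd_card R
  have h48 := card_dvd e hC
  have hG : Nat.card G = 48 := by
    obtain ⟨k, hk⟩ := h8
    have hk6 : k ∣ 6 := by
      rw [hk] at h48
      have : 8 * k ∣ 8 * 6 := h48
      exact Nat.dvd_of_mul_dvd_mul_left (by norm_num) this
    have hk' : k = 1 ∨ k = 2 ∨ k = 3 ∨ k = 6 := by
      have := Nat.le_of_dvd (by norm_num) hk6
      interval_cases k <;> simp_all
    rcases hk' with rfl | rfl | rfl | rfl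
    · exfalso
      apply hn
      have hp : IsPGroup 2 G := IsPGroup.of_card (n := 3) (by rw [hk]; norm_num)
      exact ⟨P₀, sylow_normal_of_isPGroup hp P₀⟩
    · exfalso
      apply hn
      have hp : IsPGroup 2 G := IsPGroup.of_card (n := 4) (by rw [hk]; norm_num)
      exact ⟨P₀, sylow_normal_of_isPGroup hp P₀⟩
    · exfalso
      apply hn
      refine ⟨P₀, ?_⟩
      have h1 := (Cfsg.Agent.Lib.H5.sylow_card_and_index P₀ (k := 3) (m := 3)
        (by rw [hk]; norm_num) (by norm_num)).1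
      have h2 : R = P₀ := by
        apply Subgroup.eq_of_le_of_card_ge (hRS P₀)
        rw [hcardR, h1]; norm_num
      rw [← h2]; exact hRn
    · rw [hk]
  by_cases hinv : ∃ t₀ : G, t₀ ∉ R ∧ t₀ * t₀ = 1
  · obtain ⟨t₀, h1, h2⟩ := hinv
    left
    exact nonempty_equiv_gl e hC hG t₀ h1 h2
  · right
    push Not at hinv
    refine ⟨hG, card_center e hC, nonempty_quotient_center_equiv e hC hG, ?_⟩
    intro P
    -- every involution equals `zz e`
    have hz : ∀ u : G, u * u = 1 → u ≠ 1 → u = zz e := by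
      intro u hu hu1
      have huR : u ∈ R := by
        by_contra h
        exact hinv u h hu
      have h1 : e ⟨u, huR⟩ * e ⟨u, huR⟩ = 1 := by
        rw [← map_mul]
        have : (⟨u, huR⟩ : R) * ⟨u, huR⟩ = 1 := Subtype.ext hu
        rw [this, map_one]
      rcases q8_sq_one _ h1 with h | h
      · exfalso
        apply hu1
        have : (⟨u, huR⟩ : R) = 1 := by
          have := congrArg e.symm h
          rwa [MulEquiv.symm_apply_apply, map_one] at this
        exact congrArg Subtype.val this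
      · have : (⟨u, huR⟩ : R) = e.symm (a 2) := by
          have := congrArg e.symm h
          rwa [MulEquiv.symm_apply_apply] at this
        exact congrArg Subtype.val this
    have hU : ∀ u v : G, u * u = 1 → u ≠ 1 → v * v = 1 → v ≠ 1 → u * v = v * u → u = v := by
      intro u v hu hu1 hv hv1 _
      rw [hz u hu hu1, hz v hv hv1]
    have huniq : Cfsg.Agent.Lib.H22.AtMostOneOrderP 2 ↥(P : Subgroup G) :=
      fun H K hH hK => Cfsg.Agent.Lib.H1.ZRankOne.unique_order_two hU P H K hH hK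
    have hcardP : Nat.card (P : Subgroup G) = 16 := by
      have := (Cfsg.Agent.Lib.H5.sylow_card_and_index P (k := 4) (m := 3)
        (by rw [hG]; norm_num) (by norm_num)).1
      rw [this]; norm_num
    rcases Cfsg.Agent.Lib.H22.cyclic_or_quaternion_of_atMostOne P.isPGroup' huniq with
      hcyc | ⟨n, -, ⟨f⟩⟩
    · exfalso
      have hcomm : IsMulCommutative ↥(P : Subgroup G) := hcyc.isMulCommutative
      have hi : ((e.symm (a 1) : R) : G) ∈ (P : Subgroup G) := hRS P (e.symm (a 1)).2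
      have hj : ((e.symm (xa 0) : R) : G) ∈ (P : Subgroup G) := hRS P (e.symm (xa 0)).2
      have h1 := hcomm.is_comm.comm (⟨_, hi⟩ : ↥(P : Subgroup G)) ⟨_, hj⟩
      have h2 : ((e.symm (a 1) : R) : G) * ((e.symm (xa 0) : R) : G)
          = ((e.symm (xa 0) : R) : G) * ((e.symm (a 1) : R) : G) := congrArg Subtype.val h1
      rw [← coe_symm_mul, ← coe_symm_mul] at h2
      exact q8_noncomm (coe_symm_injective e h2)
    · have h1 : 4 * 2 ^ n = 16 := by
        rw [← hcardP, Nat.card_congr f.toEquiv, Nat.card_eq_fintype_card, QuaternionGroup.card]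
      have h2 : n = 2 := by
        have : 2 ^ n = 2 ^ 2 := by omega
        exact Nat.pow_right_injective (le_refl 2) this
      subst h2
      exact ⟨f⟩

/-- **Main theorem** for groups with trivial odd core. -/
theorem main_core_free (hs : Group.IsSolvable G) (hO : Cfsg.pPrimeCore 2 G = ⊥)
    (hI : ∀ S T : Sylow 2 G, S ≠ T →
      Cfsg.PRankLE 2 1 ↥((S : Subgroup G) ⊓ (T : Subgroup G))) :
    (∃ P : Sylow 2 G, (P : Subgroup G).Normal) ∨
    Nonempty (G ≃* GL (Fin 2) (ZMod 3)) ∨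
    (Nat.card G = 48 ∧ Nat.card ↥(Subgroup.center G) = 2 ∧
      Nonempty (G ⧸ Subgroup.center G ≃* Equiv.Perm (Fin 4)) ∧
      ∀ P : Sylow 2 G, Nonempty (↥(P : Subgroup G) ≃* QuaternionGroup 4)) := by
  haveI : Fact (Nat.Prime 2) := ⟨Nat.prime_two⟩
  by_cases hn : ∃ P : Sylow 2 G, (P : Subgroup G).Normal
  · exact Or.inl hn
  right
  haveI := hs
  have hsol : Cfsg.IsPSolvable 2 G := Cfsg.Agent.Lib.H1.PSolvOfSolv.isPSolvable_of_isSolvable 2 G
  have hC := Cfsg.Agent.Lib.H10.centralizer_pCore_le_of_isPSolvable 2 hsol hO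
  haveI hRn : (Cfsg.pCore 2 G).Normal := Cfsg.Agent.Lib.H1.pCore_normal 2 G
  have hRp : IsPGroup 2 (Cfsg.pCore 2 G) := Cfsg.Agent.Lib.H1.pCore_isPGroup 2 G
  have hRS : ∀ P : Sylow 2 G, Cfsg.pCore 2 G ≤ P := fun P => Cfsg.Agent.Lib.H1.pCore_le_sylow P
  obtain ⟨P₀, -⟩ := (IsPGroup.of_bot : IsPGroup 2 (⊥ : Subgroup G)).exists_le_sylow
  obtain ⟨S, T, hne⟩ : ∃ S T : Sylow 2 G, S ≠ T := by
    by_contra h
    push Not at h
    haveI : Subsingleton (Sylow 2 G) := ⟨h⟩
    exact hn ⟨P₀, Sylow.normal_of_subsingleton P₀⟩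
  have hrk : Cfsg.PRankLE 2 1 ↥(Cfsg.pCore 2 G) :=
    Cfsg.Agent.Lib.H16.BG.pRankLE_of_le (le_inf (hRS S) (hRS T)) (hI S T hne)
  have huniq : Cfsg.Agent.Lib.H22.AtMostOneOrderP 2 ↥(Cfsg.pCore 2 G) :=
    fun H K hH hK => Cfsg.Agent.Lib.H15.eq_of_card_eq_prime_of_pRankLE_one hrk (P := ⊤)
      (hRp.to_subgroup ⊤) le_top le_top hH hK
  rcases Cfsg.Agent.Lib.H22.cyclic_or_quaternion_of_atMostOne hRp huniq with
    hcyc | ⟨n, hn1, ⟨f⟩⟩
  · exfalso
    exact hn ⟨S, normal_of_cyclic hcyc hC S (hRS S)⟩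
  · rcases Nat.lt_or_ge n 2 with h2 | h2
    · have : n = 1 := by omega
      subst this
      exact q8_case f hC hRS hn
    · exfalso
      have h3 : 3 ≤ 2 ^ n := by
        calc 3 ≤ 2 ^ 2 := by norm_num
          _ ≤ 2 ^ n := Nat.pow_le_pow_right (by norm_num) h2
      have hA := Cfsg.Agent.Lib.H26.MetaSup.aut_quaternion hRp (2 ^ n) h3 f
      have hp := isPGroup_of_aut hRp hA hC
      exact hn ⟨S, sylow_normal_of_isPGroup hp S⟩

end main

end Cfsg.Agent.Lib.H21.RankOneCore
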