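import Mathlib
import Cfsg.Prelude.Def_PLocal
import Cfsg.Agent.Lib.H21.RegularPGroup

set_option autoImplicit false
open scoped commutatorElement

namespace Cfsg.Agent.Lib.H21

open Subgroup

variable {G : Type*} [Group G]

/-- regularity condition at a single level `n` -/
def RegAt (p n : ℕ) (G : Type*) [Group G] : Prop :=
  ∀ a b : G, ∃ c ∈ Cfsg.powerClosure p n ⁅closure ({a, b} : Set G), closure ({a, b} : Set G)⁆,
    (a * b) ^ (p ^ n) = a ^ (p ^ n) * b ^ (p ^ n) * c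

lemma powerClosure_mono' (p n : ℕ) {K₁ K₂ : Subgroup G} (h : K₁ ≤ K₂) :
    Cfsg.powerClosure p n K₁ ≤ Cfsg.powerClosure p n K₂ := by
  unfold Cfsg.powerClosure
  apply Subgroup.closure_mono
  rintro y ⟨x, hx, rfl⟩
  exact ⟨x, h hx, rfl⟩

/-- if the `q`-th powers of `K` are closed under products, they are all of `℧_n(K)` -/
lemma mem_powerClosure_of_closed' (p n : ℕ) (K : Subgroup G)
    (h : ∀ a ∈ K, ∀ b ∈ K, ∃ e ∈ K, a ^ (p ^ n) * b ^ (p ^ n) = e ^ (p ^ n)) :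
    ∀ y ∈ Cfsg.powerClosure p n K, ∃ x ∈ K, y = x ^ (p ^ n) := by
  intro y hy
  unfold Cfsg.powerClosure at hy
  induction hy using Subgroup.closure_induction with
  | mem s hs => exact hs
  | one => exact ⟨1, K.one_mem, (one_pow _).symm⟩
  | mul a b _ _ iha ihb =>
    obtain ⟨x, hx, rfl⟩ := iha
    obtain ⟨z, hz, rfl⟩ := ihb
    obtain ⟨e, he, hee⟩ := h x hx z hz
    exact ⟨e, he, hee⟩
  | inv a _ iha =>
    obtain ⟨x, hx, rfl⟩ := iha
    exact ⟨x⁻¹, K.inv_mem hx, (inv_pow x _).symm⟩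

theorem pow_mul_pow_of_regAt [Finite G] {p : ℕ} [Fact p.Prime] (hp : IsPGroup p G) (n : ℕ)
    (hr : RegAt p n G) :
    ∀ (m : ℕ) (H : Subgroup G), Nat.card H = m → ∀ a ∈ H, ∀ b ∈ H,
      ∃ e ∈ H, a ^ (p ^ n) * b ^ (p ^ n) = e ^ (p ^ n) := by
  intro m
  induction' m using Nat.strong_induction_on with m ih
  intro H hH a ha b hb
  by_cases hc : Commute a b
  · exact ⟨a * b, H.mul_mem ha hb, (hc.mul_pow _).symm⟩
  · have hne : zpowers (a * b) ≠ H := by
      intro e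
      apply hc
      have ha' : a ∈ zpowers (a * b) := e ▸ ha
      have hb' : b ∈ zpowers (a * b) := e ▸ hb
      obtain ⟨k, hk⟩ := Subgroup.mem_zpowers_iff.1 ha'
      obtain ⟨l, hl⟩ := Subgroup.mem_zpowers_iff.1 hb'
      have hkl := (Commute.refl (a * b)).zpow_zpow k l
      rw [hk, hl] at hkl
      exact hkl
    have hlt : zpowers (a * b) < H :=
      lt_of_le_of_ne (by rw [Subgroup.zpowers_le]; exact H.mul_mem ha hb) hne
    obtain ⟨M, habM, hMH, _, hcomm⟩ := exists_normal_proper_of_lt hp H (zpowers (a * b)) hlt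
    have hMcard : Nat.card M < m := by
      rw [← hH]; exact card_lt_of_lt' hMH
    have habM' : a * b ∈ M := habM (Subgroup.mem_zpowers _)
    set H' := ⁅H, H⁆ with hH'
    have hH'card : Nat.card H' < m := lt_of_le_of_lt (Subgroup.card_le_of_le hcomm) hMcard
    obtain ⟨c, hc', hab⟩ := hr a b
    have hLH : closure ({a, b} : Set G) ≤ H := by
      rw [Subgroup.closure_le]
      rintro z (rfl | rfl)
      · exact ha
      · exact hb
    have hcH' : c ∈ Cfsg.powerClosure p n H' :=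
      powerClosure_mono' p n (Subgroup.commutator_mono hLH hLH) hc'
    have hcinv : c⁻¹ ∈ Cfsg.powerClosure p n H' := Subgroup.inv_mem _ hcH'
    obtain ⟨d, hd, hcd⟩ := mem_powerClosure_of_closed' p n H'
      (fun x hx z hz => ih _ hH'card H' rfl x hx z hz) _ hcinv
    obtain ⟨e, he, hee⟩ := ih _ hMcard M rfl (a * b) habM' d (hcomm hd)
    refine ⟨e, hMH.le he, ?_⟩
    rw [← hee, ← hcd, hab]
    group


/-- under regularity at level `n`, every element of `℧_n(H)` is a `p^n`-th power of an element of `H` -/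
theorem exists_eq_pow_of_mem_powerClosure [Finite G] {p : ℕ} [Fact p.Prime] (hp : IsPGroup p G)
    (n : ℕ) (hr : RegAt p n G) (H : Subgroup G) :
    ∀ y ∈ Cfsg.powerClosure p n H, ∃ x ∈ H, y = x ^ (p ^ n) :=
  mem_powerClosure_of_closed' p n H
    (fun a ha b hb => pow_mul_pow_of_regAt hp n hr _ H rfl a ha b hb)

/-- under regularity at level `n`: `℧_n(H)' ≤ ℧_n(H')` -/
theorem commutator_powerClosure_le [Finite G] {p : ℕ} [Fact p.Prime]
    (n : ℕ) (hr : RegAt p n G) (H : Subgroup G) :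
    ⁅Cfsg.powerClosure p n H, Cfsg.powerClosure p n H⁆ ≤ Cfsg.powerClosure p n ⁅H, H⁆ := by
  set N := Cfsg.powerClosure p n ⁅H, H⁆ with hN
  -- N is normalized by H
  have hNn : ∀ h ∈ H, ∀ w ∈ N, h * w * h⁻¹ ∈ N := by
    intro h hh w hw
    rw [hN] at hw ⊢
    unfold Cfsg.powerClosure at hw ⊢
    induction hw using Subgroup.closure_induction with
    | mem s hs =>
      obtain ⟨x, hx, rfl⟩ := hs
      apply Subgroup.subset_closure
      exact ⟨h * x * h⁻¹, conj_mem_commutator_self H hh hx, (conj_pow).symm⟩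
    | one => simp
    | mul a b _ _ iha ihb =>
      have : h * (a * b) * h⁻¹ = (h * a * h⁻¹) * (h * b * h⁻¹) := by group
      rw [this]; exact Subgroup.mul_mem _ iha ihb
    | inv a _ iha =>
      have : h * a⁻¹ * h⁻¹ = (h * a * h⁻¹)⁻¹ := by group
      rw [this]; exact Subgroup.inv_mem _ iha
  -- key: for u, b ∈ H with u^q ∈ N: (u b)^q (b^q)⁻¹ ∈ N
  have key : ∀ u ∈ H, ∀ b ∈ H, u ^ (p ^ n) ∈ N → (u * b) ^ (p ^ n) * (b ^ (p ^ n))⁻¹ ∈ N := by
    intro u hu b hb huN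
    obtain ⟨c, hc, hub⟩ := hr u b
    have hLH : closure ({u, b} : Set G) ≤ H := by
      rw [Subgroup.closure_le]
      rintro z (rfl | rfl)
      · exact hu
      · exact hb
    have hcN : c ∈ N := powerClosure_mono' p n (Subgroup.commutator_mono hLH hLH) hc
    rw [hub]
    have : u ^ (p ^ n) * b ^ (p ^ n) * c * (b ^ (p ^ n))⁻¹
        = u ^ (p ^ n) * (b ^ (p ^ n) * c * (b ^ (p ^ n))⁻¹) := by group
    rw [this]
    exact N.mul_mem huN (hNn _ (H.pow_mem hb _) c hcN)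
  -- for a, b ∈ H : ⁅b⁻¹, a^q⁆ ∈ N
  have hcomm : ∀ a ∈ H, ∀ b ∈ H, ⁅b, a ^ (p ^ n)⁆ ∈ N := by
    intro a ha b hb
    -- u = b a b⁻¹ a⁻¹ = ⁅b, a⁆
    have hu : ⁅b, a⁆ ∈ ⁅H, H⁆ := Subgroup.commutator_mem_commutator hb ha
    have huN : ⁅b, a⁆ ^ (p ^ n) ∈ N := Subgroup.subset_closure ⟨_, hu, rfl⟩
    have := key ⁅b, a⁆ (commutator_self_le H hu) a ha huN
    have e : ⁅b, a⁆ * a = b * a * b⁻¹ := by rw [commutatorElement_def]; group
    rw [e, conj_pow] at this
    have e2 : ⁅b, a ^ (p ^ n)⁆ = b * a ^ (p ^ n) * b⁻¹ * (a ^ (p ^ n))⁻¹ := by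
      rw [commutatorElement_def]
    rw [e2]; exact this
  -- conclude
  have hSH : closure {y : G | ∃ x ∈ H, y = x ^ (p ^ n)} ≤ H := by
    rw [Subgroup.closure_le]
    rintro y ⟨x, hx, rfl⟩
    exact H.pow_mem hx _
  show ⁅closure {y : G | ∃ x ∈ H, y = x ^ (p ^ n)}, closure {y : G | ∃ x ∈ H, y = x ^ (p ^ n)}⁆ ≤ N
  apply commutator_closure_le_of_normalized N _ (fun h hh w hw => hNn h (hSH hh) w hw)
  rintro s ⟨x, hx, rfl⟩ t ⟨y, hy, rfl⟩
  exact hcomm y hy _ (H.pow_mem hx _)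


end Cfsg.Agent.Lib.H21
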