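import Mathlib
import Cfsg.Agent.Lib.H21.CMGroup4

/-!
# Normal subgroups all of whose non-central elements have maximal centralizers (helper21)

Part A: basic invariance lemma and the case where `N / Z(N)` has a non-trivial centre
(then `N / Z(N)` is elementary abelian).
-/

set_option autoImplicit false

namespace Cfsg.Agent.Lib.H21.RelCM

open Cfsg.Agent.Lib.H21.CM
open scoped commutatorElement

variable {G : Type*} [Group G]

/-- One-directional criterion for lying in the normalizer. -/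
theorem le_normalizer_of_conj_mem {H S : Subgroup G}
    (hS : ∀ m ∈ S, ∀ h ∈ H, m * h * m⁻¹ ∈ H) :
    S ≤ Subgroup.normalizer (H : Set G) := by
  intro m hm
  rw [Subgroup.mem_normalizer_iff]
  intro h
  constructor
  · exact hS m hm h
  · intro hh
    have := hS m⁻¹ (S.inv_mem hm) _ hh
    simpa [mul_assoc] using this

/-- If `H` is normalized by `S` and `T` with `S ⊔ T = ⊤` then `H` is normal. -/
theorem normal_of_conj_mem_sup {H S T : Subgroup G} (hST : S ⊔ T = ⊤)
    (hS : ∀ m ∈ S, ∀ h ∈ H, m * h * m⁻¹ ∈ H) (hT : ∀ m ∈ T, ∀ h ∈ H, m * h * m⁻¹ ∈ H) :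
    H.Normal := by
  rw [← Subgroup.normalizer_eq_top_iff, eq_top_iff, ← hST]
  exact sup_le (le_normalizer_of_conj_mem hS) (le_normalizer_of_conj_mem hT)

/-- The basic lemma: an `M x`-invariant subgroup between `N ⊓ M x` and `N` is one of the two. -/
theorem eq_or_eq_of_invariant (N : Subgroup G) {x : G}
    (hx : IsCoatom (M x)) (H : Subgroup G) (hHN : H ≤ N) (hRH : N ⊓ M x ≤ H)
    (hnorm : M x ≤ Subgroup.normalizer (H : Set G)) : H = N ⊓ M x ∨ H = N := by
  rcases eq_or_lt_of_le (le_sup_right : M x ≤ H ⊔ M x) with h | h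
  · left
    apply le_antisymm _ hRH
    have h2 : H ≤ M x := le_sup_left.trans h.symm.le
    exact le_inf hHN h2
  · right
    have htop := hx.2 _ h
    apply le_antisymm hHN
    intro n hn
    have hn' : n ∈ ((H ⊔ M x : Subgroup G) : Set G) := by rw [htop]; trivial
    rw [Subgroup.coe_mul_of_right_le_normalizer_left H (M x) hnorm] at hn'
    obtain ⟨a, ha, m, hm, rfl⟩ := Set.mem_mul.mp hn'
    have hmN : m ∈ N := by
      have : m = a⁻¹ * (a * m) := by group
      rw [this]; exact N.mul_mem (N.inv_mem (hHN ha)) hn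
    exact H.mul_mem ha (hRH ⟨hmN, hm⟩)

/-- Comparable coatoms are equal. -/
theorem coatom_eq_of_le {A B : Subgroup G} (hA : IsCoatom A) (hB : IsCoatom B) (h : A ≤ B) :
    A = B := by
  rcases eq_or_lt_of_le h with h' | h'
  · exact h'
  · exact absurd (hA.2 _ h') hB.1

section PartA

variable (N : Subgroup G) [N.Normal]

/-- The preimage in `N` of the centre of `N / Z(N)`. -/
def Z2 : Subgroup G where
  carrier := {t | t ∈ N ∧ ∀ n ∈ N, ⁅t, n⁆ ∈ Subgroup.centralizer (N : Set G)}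
  one_mem' := ⟨N.one_mem, fun n _ => by
    rw [commutatorElement_one_left]; exact Subgroup.one_mem _⟩
  mul_mem' := by
    rintro a b ⟨ha, ha'⟩ ⟨hb, hb'⟩
    refine ⟨N.mul_mem ha hb, fun n hn => ?_⟩
    have e : ⁅a * b, n⁆ = a * ⁅b, n⁆ * a⁻¹ * ⁅a, n⁆ := by
      simp only [commutatorElement_def]; group
    rw [e]
    exact Subgroup.mul_mem _
      ((inferInstance : (Subgroup.centralizer (N : Set G)).Normal).conj_mem _ (hb' n hn) a)
      (ha' n hn)
  inv_mem' := by
    rintro a ⟨ha, ha'⟩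
    refine ⟨N.inv_mem ha, fun n hn => ?_⟩
    have e : ⁅a⁻¹, n⁆ = a⁻¹ * ⁅a, n⁆⁻¹ * a⁻¹⁻¹ := by
      simp only [commutatorElement_def]; group
    rw [e]
    exact (inferInstance : (Subgroup.centralizer (N : Set G)).Normal).conj_mem _
      (Subgroup.inv_mem _ (ha' n hn)) a⁻¹

theorem mem_Z2 {t : G} :
    t ∈ Z2 N ↔ t ∈ N ∧ ∀ n ∈ N, ⁅t, n⁆ ∈ Subgroup.centralizer (N : Set G) := Iff.rfl

theorem Z2_le : Z2 N ≤ N := fun _ ht => ht.1

instance Z2_normal : (Z2 N).Normal := by
  constructor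
  rintro t ⟨ht, ht'⟩ g
  refine ⟨‹N.Normal›.conj_mem t ht g, fun n hn => ?_⟩
  have hn' : g⁻¹ * n * g ∈ N := by
    have := ‹N.Normal›.conj_mem n hn g⁻¹
    simpa using this
  have e : ⁅g * t * g⁻¹, n⁆ = g * ⁅t, g⁻¹ * n * g⁆ * g⁻¹ := by
    simp only [commutatorElement_def]; group
  rw [e]
  exact (inferInstance : (Subgroup.centralizer (N : Set G)).Normal).conj_mem _ (ht' _ hn') g

end PartA

section PartA2

variable (N : Subgroup G) [N.Normal]

theorem exists_not_commute {x : G} (hxC : x ∉ Subgroup.centralizer (N : Set G)) :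
    ∃ b ∈ N, x * b ≠ b * x := by
  by_contra hcon
  push Not at hcon
  exact hxC (Subgroup.mem_centralizer_iff.mpr (fun n hn => (hcon n hn).symm))

/-- Step 1/2 of the class-two case: `N / Z(N)` is abelian. -/
theorem class_two_of_exists
    (h : ∀ x : G, x ∈ N → x ∉ Subgroup.centralizer (N : Set G) → IsCoatom (M x))
    (x₀ : G) (hx₀N : x₀ ∈ N) (hx₀C : x₀ ∉ Subgroup.centralizer (N : Set G))
    (hx₀ : ∀ n ∈ N, ⁅x₀, n⁆ ∈ Subgroup.centralizer (N : Set G)) :
    ∀ a ∈ N, ∀ b ∈ N, ⁅a, b⁆ ∈ Subgroup.centralizer (N : Set G) := by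
  have hCn : (Subgroup.centralizer (N : Set G)).Normal := inferInstance
  have step1 : ∀ y ∈ N, ∀ t ∈ Z2 N, t * y ≠ y * t → y ∈ Z2 N := by
    intro y hy t ht hty
    have hyC : y ∉ Subgroup.centralizer (N : Set G) := fun hc =>
      hty (Subgroup.mem_centralizer_iff.mp hc t ht.1)
    have hco := h y hy hyC
    have hHN : (N ⊓ M y) ⊔ Z2 N ≤ N := sup_le inf_le_left (Z2_le N)
    have hRH : N ⊓ M y ≤ (N ⊓ M y) ⊔ Z2 N := le_sup_left
    have hnorm : M y ≤ Subgroup.normalizer (((N ⊓ M y) ⊔ Z2 N : Subgroup G) : Set G) := by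
      apply le_normalizer_of_conj_mem
      intro m hm g hg
      obtain ⟨a, ha, s, hs, rfl⟩ := Subgroup.mem_sup_of_normal_right.mp hg
      have e : m * (a * s) * m⁻¹ = (m * a * m⁻¹) * (m * s * m⁻¹) := by group
      rw [e]
      apply Subgroup.mul_mem_sup
      · exact ⟨‹N.Normal›.conj_mem a ha.1 m,
          (M y).mul_mem ((M y).mul_mem hm ha.2) ((M y).inv_mem hm)⟩
      · exact (Z2_normal N).conj_mem s hs m
    rcases eq_or_eq_of_invariant N hco _ hHN hRH hnorm with hH | hH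
    · exfalso
      have h1 : t ∈ (N ⊓ M y) ⊔ Z2 N := (le_sup_right : Z2 N ≤ _) ht
      rw [hH] at h1
      exact hty (mem_M.mp h1.2).symm
    · refine ⟨hy, fun n hn => ?_⟩
      have hnH : n ∈ (N ⊓ M y) ⊔ Z2 N := by rw [hH]; exact hn
      obtain ⟨c, hc, s, hs, rfl⟩ := Subgroup.mem_sup_of_normal_right.mp hnH
      have hyc : y * c = c * y := mem_M.mp hc.2
      have e : ⁅y, c * s⁆ = c * ⁅y, s⁆ * c⁻¹ := by
        simp only [commutatorElement_def]
        calc y * (c * s) * y⁻¹ * (c * s)⁻¹ = (y * c) * s * y⁻¹ * s⁻¹ * c⁻¹ := by group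
          _ = (c * y) * s * y⁻¹ * s⁻¹ * c⁻¹ := by rw [hyc]
          _ = c * (y * s * y⁻¹ * s⁻¹) * c⁻¹ := by group
      rw [e]
      have h2 : ⁅y, s⁆ ∈ Subgroup.centralizer (N : Set G) := by
        rw [← commutatorElement_inv]
        exact Subgroup.inv_mem _ (hs.2 y hy)
      exact hCn.conj_mem _ h2 c
  have hx₀Z2 : x₀ ∈ Z2 N := ⟨hx₀N, hx₀⟩
  obtain ⟨b, hbN, hb⟩ := exists_not_commute N hx₀C
  have hbZ : b ∈ Z2 N := step1 b hbN x₀ hx₀Z2 hb
  have step2 : ∀ a ∈ N, a ∈ Z2 N := by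
    intro a ha
    by_cases hac : x₀ * a = a * x₀
    · have hab : x₀ * (a * b) ≠ (a * b) * x₀ := by
        intro h'
        apply hb
        have : a * (x₀ * b) = a * (b * x₀) := by
          calc a * (x₀ * b) = (a * x₀) * b := (mul_assoc _ _ _).symm
            _ = x₀ * a * b := by rw [hac]
            _ = x₀ * (a * b) := mul_assoc _ _ _
            _ = a * b * x₀ := h'
            _ = a * (b * x₀) := mul_assoc _ _ _
        exact mul_left_cancel this
      have h1 := step1 (a * b) (N.mul_mem ha hbN) x₀ hx₀Z2 hab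
      have h2 := (Z2 N).mul_mem h1 ((Z2 N).inv_mem hbZ)
      simpa using h2
    · exact step1 a ha x₀ hx₀Z2 hac
  intro a ha b hb
  exact (step2 a ha).2 b hb

end PartA2

section PartA3

variable (N : Subgroup G) [N.Normal]
  (hcl : ∀ a ∈ N, ∀ b ∈ N, ⁅a, b⁆ ∈ Subgroup.centralizer (N : Set G))
include hcl

theorem comm_mul_right {x n m : G} (hx : x ∈ N) (hn : n ∈ N) (hm : m ∈ N) :
    ⁅x, n * m⁆ = ⁅x, n⁆ * ⁅x, m⁆ := by
  have hc := Subgroup.mem_centralizer_iff.mp (hcl x hx m hm) n hn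
  have e : ⁅x, n * m⁆ = ⁅x, n⁆ * (n * ⁅x, m⁆) * n⁻¹ := by
    simp only [commutatorElement_def]; group
  rw [e, hc]; group

theorem comm_mem {x n : G} (hx : x ∈ N) (hn : n ∈ N) : ⁅x, n⁆ ∈ N := by
  rw [commutatorElement_def]
  exact N.mul_mem (N.mul_mem (N.mul_mem hx hn) (N.inv_mem hx)) (N.inv_mem hn)

theorem comm_commute {x n y m : G} (hx : x ∈ N) (hn : n ∈ N) (hy : y ∈ N) (hm : m ∈ N) :
    Commute ⁅x, n⁆ ⁅y, m⁆ :=
  Subgroup.mem_centralizer_iff.mp (hcl y hy m hm) _ (comm_mem N hcl hx hn)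

theorem comm_pow_right {x n : G} (hx : x ∈ N) (hn : n ∈ N) (k : ℕ) :
    ⁅x, n ^ k⁆ = ⁅x, n⁆ ^ k := by
  induction k with
  | zero => simp
  | succ k ih =>
    rw [pow_succ, comm_mul_right N hcl hx (N.pow_mem hn k) hn, ih, pow_succ]

theorem comm_inv_right {x n : G} (hx : x ∈ N) (hn : n ∈ N) :
    ⁅x, n⁻¹⁆ = ⁅x, n⁆⁻¹ := by
  have h1 := comm_mul_right N hcl hx hn (N.inv_mem hn)
  rw [mul_inv_cancel, commutatorElement_one_right] at h1
  exact (inv_eq_of_mul_eq_one_right h1.symm).symm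

/-- Step 3: for non-central `x ∈ N` all commutators `⁅x, n⁆` have the same prime order. -/
theorem exists_prime_comm_pow [Finite G]
    (h : ∀ x : G, x ∈ N → x ∉ Subgroup.centralizer (N : Set G) → IsCoatom (M x))
    {x : G} (hx : x ∈ N) (hxC : x ∉ Subgroup.centralizer (N : Set G)) :
    ∃ p : ℕ, p.Prime ∧ ∀ n ∈ N, ⁅x, n⁆ ^ p = 1 := by
  obtain ⟨n₁, hn₁, hxn₁⟩ := exists_not_commute N hxC
  have hc1 : ⁅x, n₁⁆ ≠ 1 := by
    intro h0
    exact hxn₁ ((commutatorElement_eq_one_iff_commute.mp h0).eq)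
  set o := orderOf ⁅x, n₁⁆ with ho
  have ho1 : o ≠ 1 := by
    rw [ho, Ne, orderOf_eq_one_iff]; exact hc1
  have hopos : 0 < o := orderOf_pos _
  set p := o.minFac with hp
  have hpp : p.Prime := Nat.minFac_prime ho1
  have hpo : p ∣ o := Nat.minFac_dvd o
  refine ⟨p, hpp, ?_⟩
  let Hp : Subgroup G :=
    { carrier := {n | n ∈ N ∧ ⁅x, n⁆ ^ p = 1}
      one_mem' := ⟨N.one_mem, by rw [commutatorElement_one_right, one_pow]⟩
      mul_mem' := by
        rintro a b ⟨ha, ha'⟩ ⟨hb, hb'⟩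
        refine ⟨N.mul_mem ha hb, ?_⟩
        rw [comm_mul_right N hcl hx ha hb, (comm_commute N hcl hx ha hx hb).mul_pow, ha', hb',
          one_mul]
      inv_mem' := by
        rintro a ⟨ha, ha'⟩
        refine ⟨N.inv_mem ha, ?_⟩
        rw [comm_inv_right N hcl hx ha, inv_pow, ha', inv_one] }
  have hHpN : Hp ≤ N := fun n hn => hn.1
  have hR : N ⊓ M x ≤ Hp := by
    intro n hn
    refine ⟨hn.1, ?_⟩
    have : ⁅x, n⁆ = 1 := commutatorElement_eq_one_iff_commute.mpr (mem_M.mp hn.2)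
    rw [this, one_pow]
  have hnorm : M x ≤ Subgroup.normalizer ((Hp : Subgroup G) : Set G) := by
    apply le_normalizer_of_conj_mem
    rintro m hm n ⟨hn, hn'⟩
    refine ⟨‹N.Normal›.conj_mem n hn m, ?_⟩
    have hxm : x * m = m * x := mem_M.mp hm
    have hx' : m * x * m⁻¹ = x := by rw [← hxm]; group
    have e : ⁅x, m * n * m⁻¹⁆ = m * ⁅x, n⁆ * m⁻¹ := by
      conv_lhs => rw [← hx']
      simp only [commutatorElement_def]; group
    rw [e, conj_pow, hn', mul_one, mul_inv_cancel]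
  have hco := h x hx hxC
  -- an element of `Hp` outside `M x`
  have hdiv : 0 < o / p := Nat.div_pos (Nat.le_of_dvd hopos hpo) hpp.pos
  have hlt : o / p < o := Nat.div_lt_self hopos hpp.one_lt
  have hn₀N : n₁ ^ (o / p) ∈ N := N.pow_mem hn₁ _
  have hcn₀ : ⁅x, n₁ ^ (o / p)⁆ = ⁅x, n₁⁆ ^ (o / p) := comm_pow_right N hcl hx hn₁ _
  have hn₀ne : ⁅x, n₁ ^ (o / p)⁆ ≠ 1 := by
    rw [hcn₀]
    exact pow_ne_one_of_lt_orderOf hdiv.ne' hlt
  have hn₀Hp : n₁ ^ (o / p) ∈ Hp := by
    refine ⟨hn₀N, ?_⟩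
    rw [hcn₀, ← pow_mul, Nat.div_mul_cancel hpo, ho, pow_orderOf_eq_one]
  rcases eq_or_eq_of_invariant N hco Hp hHpN hR hnorm with hH | hH
  · exfalso
    rw [hH] at hn₀Hp
    exact hn₀ne (commutatorElement_eq_one_iff_commute.mpr (mem_M.mp hn₀Hp.2))
  · intro n hn
    have : n ∈ Hp := by rw [hH]; exact hn
    exact this.2

/-- Steps 3 and 4: a common prime. -/
theorem exists_prime_pow_mem [Finite G]
    (h : ∀ x : G, x ∈ N → x ∉ Subgroup.centralizer (N : Set G) → IsCoatom (M x))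
    {x₁ : G} (hx₁ : x₁ ∈ N) (hx₁C : x₁ ∉ Subgroup.centralizer (N : Set G)) :
    ∃ p : ℕ, p.Prime ∧ ∀ a ∈ N, a ^ p ∈ Subgroup.centralizer (N : Set G) := by
  obtain ⟨p, hpp, hp⟩ := exists_prime_comm_pow N hcl h hx₁ hx₁C
  refine ⟨p, hpp, ?_⟩
  haveI := Fact.mk hpp
  -- all commutators are killed by `p`
  have hall : ∀ y ∈ N, ∀ n ∈ N, ⁅y, n⁆ ^ p = 1 := by
    intro y hy n hn
    by_cases hyC : y ∈ Subgroup.centralizer (N : Set G)
    · have h0 : ⁅y, n⁆ = 1 := by
        apply commutatorElement_eq_one_iff_commute.mpr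
        exact (Subgroup.mem_centralizer_iff.mp hyC n hn).symm
      rw [h0, one_pow]
    obtain ⟨q, hqq, hq⟩ := exists_prime_comm_pow N hcl h hy hyC
    haveI := Fact.mk hqq
    -- find `w` commuting with neither
    obtain ⟨a, ha, hxa⟩ := exists_not_commute N hx₁C
    obtain ⟨b, hb, hyb⟩ := exists_not_commute N hyC
    obtain ⟨w, hw, hxw, hyw⟩ : ∃ w ∈ N, x₁ * w ≠ w * x₁ ∧ y * w ≠ w * y := by
      by_cases hya : y * a = a * y
      · by_cases hxb : x₁ * b = b * x₁
        · refine ⟨a * b, N.mul_mem ha hb, ?_, ?_⟩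
          · intro h'
            apply hxa
            have : (x₁ * a) * b = (a * x₁) * b := by
              calc (x₁ * a) * b = x₁ * (a * b) := mul_assoc _ _ _
                _ = a * b * x₁ := h'
                _ = a * (b * x₁) := mul_assoc _ _ _
                _ = a * (x₁ * b) := by rw [hxb]
                _ = (a * x₁) * b := (mul_assoc _ _ _).symm
            exact mul_right_cancel this
          · intro h'
            apply hyb
            have : a * (y * b) = a * (b * y) := by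
              calc a * (y * b) = (a * y) * b := (mul_assoc _ _ _).symm
                _ = y * a * b := by rw [hya]
                _ = y * (a * b) := mul_assoc _ _ _
                _ = a * b * y := h'
                _ = a * (b * y) := mul_assoc _ _ _
            exact mul_left_cancel this
        · exact ⟨b, hb, hxb, hyb⟩
      · exact ⟨a, ha, hxa, hya⟩
    have hwC : w ∉ Subgroup.centralizer (N : Set G) := fun hc =>
      hxw (Subgroup.mem_centralizer_iff.mp hc x₁ hx₁)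
    obtain ⟨r, hrr, hr⟩ := exists_prime_comm_pow N hcl h hw hwC
    haveI := Fact.mk hrr
    have hc1 : ⁅x₁, w⁆ ≠ 1 := fun h0 => hxw ((commutatorElement_eq_one_iff_commute.mp h0).eq)
    have hc2 : ⁅y, w⁆ ≠ 1 := fun h0 => hyw ((commutatorElement_eq_one_iff_commute.mp h0).eq)
    have e1 : orderOf ⁅x₁, w⁆ = p := orderOf_eq_prime (hp w hw) hc1
    have e2 : orderOf ⁅x₁, w⁆ = r := by
      apply orderOf_eq_prime _ hc1
      have := hr x₁ hx₁
      rw [← commutatorElement_inv, inv_pow, inv_eq_one] at this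
      exact this
    have e3 : orderOf ⁅y, w⁆ = q := orderOf_eq_prime (hq w hw) hc2
    have e4 : orderOf ⁅y, w⁆ = r := by
      apply orderOf_eq_prime _ hc2
      have := hr y hy
      rw [← commutatorElement_inv, inv_pow, inv_eq_one] at this
      exact this
    have hqp : q = p := by rw [← e3, e4, ← e2, e1]
    rw [← hqp]
    exact hq n hn
  intro a ha
  rw [Subgroup.mem_centralizer_iff]
  intro n hn
  have h1 : ⁅n, a ^ p⁆ = 1 := by
    rw [comm_pow_right N hcl hn ha, hall n hn a ha]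
  exact (commutatorElement_eq_one_iff_commute.mp h1).eq

end PartA3

end Cfsg.Agent.Lib.H21.RelCM
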