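import Mathlib
import Cfsg.Agent.Lib.H21.RelCMA

/-!
# Relative CM theorem, part C(i): an abelian minimal normal subgroup (helper21)
-/

set_option autoImplicit false

namespace Cfsg.Agent.Lib.H21.RelCM

open Cfsg.Agent.Lib.H21.CM

variable {G : Type*} [Group G]

theorem exists_ne_one_of_ne_bot {K : Subgroup G} (hK1 : K ≠ ⊥) : ∃ x ∈ K, x ≠ 1 := by
  by_contra hcon
  push Not at hcon
  exact hK1 (eq_bot_iff.mpr (fun z hz => Subgroup.mem_bot.mpr (hcon z hz)))

/-- Part C(i): if the minimal normal subgroup `K ≤ N` is abelian then `N = K ⋊ Q` with `Q` of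
prime order acting fixed-point-freely, `K` elementary abelian. -/
theorem abelian_case [Finite G] (N : Subgroup G) [N.Normal]
    (hN0 : ∀ x ∈ N, x ∈ Subgroup.centralizer (N : Set G) → x = 1)
    (hcoat : ∀ x ∈ N, x ≠ 1 → IsCoatom (M x))
    (K : Subgroup G) [K.Normal] (hKN : K ≤ N) (hK1 : K ≠ ⊥)
    (hmin : ∀ H : Subgroup G, H.Normal → H ≤ K → H = ⊥ ∨ H = K)
    (hKab : ∀ a ∈ K, ∀ b ∈ K, a * b = b * a) :
    ∃ (Q : Subgroup G) (p : ℕ), p.Prime ∧ (Nat.card Q).Prime ∧ Q ≤ N ∧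
      (∀ k ∈ K, k ^ p = 1) ∧ K ⊓ Q = ⊥ ∧ K ⊔ Q = N ∧
      ∀ a ∈ Q, a ≠ 1 → ∀ k ∈ K, a * k = k * a → k = 1 := by
  have hKn : K.Normal := inferInstance
  -- C1
  obtain ⟨y₁, hy₁N, hy₁⟩ : ∃ y ∈ N, y ∉ Subgroup.centralizer (K : Set G) := by
    by_contra hcon
    push Not at hcon
    apply hK1
    rw [eq_bot_iff]
    intro k hk
    rw [Subgroup.mem_bot]
    apply hN0 k (hKN hk)
    rw [Subgroup.mem_centralizer_iff]
    intro n hn
    exact ((Subgroup.mem_centralizer_iff.mp (hcon n hn)) k hk).symm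
  -- C2
  have hC2 : ∀ y ∈ N, y ∉ Subgroup.centralizer (K : Set G) → K ⊓ M y = ⊥ ∧ K ⊔ M y = ⊤ := by
    intro y hy hyK
    have hy1 : y ≠ 1 := by rintro rfl; exact hyK (Subgroup.one_mem _)
    have hco := hcoat y hy hy1
    have hKM : ¬ K ≤ M y := by
      intro hle
      apply hyK
      rw [Subgroup.mem_centralizer_iff]
      intro k hk
      exact (mem_M.mp (hle hk)).symm
    have hsup : K ⊔ M y = ⊤ := by
      apply hco.2
      apply lt_of_le_of_ne le_sup_right
      intro h'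
      apply hKM
      exact le_sup_left.trans h'.symm.le
    have hnorm : (K ⊓ M y).Normal := by
      apply normal_of_conj_mem_sup hsup
      · intro k hk g hg
        have : k * g * k⁻¹ = g := by rw [hKab k hk g hg.1]; group
        rw [this]; exact hg
      · intro m hm g hg
        exact ⟨hKn.conj_mem g hg.1 m,
          (M y).mul_mem ((M y).mul_mem hm hg.2) ((M y).inv_mem hm)⟩
    refine ⟨?_, hsup⟩
    rcases hmin _ hnorm inf_le_left with h' | h'
    · exact h'
    · exact absurd (inf_eq_left.mp h') hKM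
  have hfpf0 : ∀ y ∈ N, y ∉ Subgroup.centralizer (K : Set G) →
      ∀ k ∈ K, y * k = k * y → k = 1 := by
    intro y hy hyK k hk hyk
    have : k ∈ K ⊓ M y := ⟨hk, mem_M.mpr hyk⟩
    rw [(hC2 y hy hyK).1, Subgroup.mem_bot] at this
    exact this
  obtain ⟨hinf, hsup⟩ := hC2 y₁ hy₁N hy₁
  -- C3
  have hC3 : ∀ d ∈ N, d ∈ Subgroup.centralizer (K : Set G) → d ∈ K := by
    intro d hdN hdK
    have hd : d ∈ K ⊔ M y₁ := hsup ▸ Subgroup.mem_top d
    obtain ⟨k, hk, m, hm, rfl⟩ := Subgroup.mem_sup_of_normal_left.mp hd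
    have hmN : m ∈ N := by
      have : m = k⁻¹ * (k * m) := by group
      rw [this]; exact N.mul_mem (N.inv_mem (hKN hk)) hdN
    have hkC : k ∈ Subgroup.centralizer (K : Set G) := by
      rw [Subgroup.mem_centralizer_iff]; intro a ha; exact hKab a ha k hk
    have hmC : m ∈ Subgroup.centralizer (K : Set G) := by
      have : m = k⁻¹ * (k * m) := by group
      rw [this]; exact Subgroup.mul_mem _ (Subgroup.inv_mem _ hkC) hdK
    suffices hm1 : m = 1 by rw [hm1, mul_one]; exact hk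
    by_contra hm1
    obtain ⟨x, hxK, hx1⟩ := exists_ne_one_of_ne_bot hK1
    have hxmN : x * m ∈ N := N.mul_mem (hKN hxK) hmN
    have hxm1 : x * m ≠ 1 := by
      intro h0
      have h1 : m = x⁻¹ := eq_inv_of_mul_eq_one_right h0
      have hmK : m ∈ K ⊓ M y₁ := ⟨h1 ▸ K.inv_mem hxK, hm⟩
      rw [hinf, Subgroup.mem_bot] at hmK
      exact hm1 hmK
    have hkey : ∀ g ∈ M (x * m), g ∈ M x ∧ g ∈ M m := by
      intro g hg
      have hg' : g ∈ K ⊔ M y₁ := hsup ▸ Subgroup.mem_top g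
      obtain ⟨k', hk', m', hm', hgdef⟩ := Subgroup.mem_sup_of_normal_left.mp hg'
      have hcm : m' * m * m'⁻¹ ∈ Subgroup.centralizer (K : Set G) :=
        (inferInstance : (Subgroup.centralizer (K : Set G)).Normal).conj_mem m hmC m'
      have e1 : g * m * g⁻¹ = m' * m * m'⁻¹ := by
        have h2 := Subgroup.mem_centralizer_iff.mp hcm k' hk'
        rw [← hgdef]
        calc (k' * m') * m * (k' * m')⁻¹ = k' * (m' * m * m'⁻¹) * k'⁻¹ := by group
          _ = (m' * m * m'⁻¹) * k' * k'⁻¹ := by rw [h2]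
          _ = m' * m * m'⁻¹ := by group
      have hgx : g * x * g⁻¹ ∈ K := hKn.conj_mem x hxK _
      have hgm : g * m * g⁻¹ ∈ M y₁ := by
        rw [e1]; exact (M y₁).mul_mem ((M y₁).mul_mem hm' hm) ((M y₁).inv_mem hm')
      have hcomm : (x * m) * g = g * (x * m) := mem_M.mp hg
      have e2 : (g * x * g⁻¹) * (g * m * g⁻¹) = x * m := by
        calc (g * x * g⁻¹) * (g * m * g⁻¹) = g * (x * m) * g⁻¹ := by group
          _ = (x * m) * g * g⁻¹ := by rw [← hcomm]
          _ = x * m := by group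
      have e3 : x⁻¹ * (g * x * g⁻¹) = m * (g * m * g⁻¹)⁻¹ := by
        have h3 : g * x * g⁻¹ = x * m * (g * m * g⁻¹)⁻¹ := by rw [← e2]; group
        rw [h3]; group
      have hmem : x⁻¹ * (g * x * g⁻¹) ∈ K ⊓ M y₁ := by
        refine ⟨K.mul_mem (K.inv_mem hxK) hgx, ?_⟩
        rw [e3]; exact (M y₁).mul_mem hm ((M y₁).inv_mem hgm)
      rw [hinf, Subgroup.mem_bot] at hmem
      have hgx' : g * x * g⁻¹ = x := (inv_mul_eq_one.mp hmem).symm
      have hgm' : g * m * g⁻¹ = m := by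
        rw [hgx'] at e2
        exact mul_left_cancel e2
      constructor
      · rw [mem_M]
        have h4 : g * x = x * g := by
          calc g * x = g * x * g⁻¹ * g := by group
            _ = x * g := by rw [hgx']
        exact h4.symm
      · rw [mem_M]
        have h4 : g * m = m * g := by
          calc g * m = g * m * g⁻¹ * g := by group
            _ = m * g := by rw [hgm']
        exact h4.symm
    have hx_co := hcoat x (hKN hxK) hx1
    have hm_co := hcoat m hmN hm1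
    have hxm_co := hcoat (x * m) hxmN hxm1
    have e1 : M (x * m) = M x := coatom_eq_of_le hxm_co hx_co (fun g hg => (hkey g hg).1)
    have e2 : M (x * m) = M m := coatom_eq_of_le hxm_co hm_co (fun g hg => (hkey g hg).2)
    have hy₁m : y₁ ∈ M m := mem_M.mpr (mem_M.mp hm).symm
    rw [← e2, e1] at hy₁m
    exact hx1 (hfpf0 y₁ hy₁N hy₁ x hxK (mem_M.mp hy₁m).symm)
  -- C4
  have hfpf : ∀ y ∈ N, y ∉ K → ∀ k ∈ K, y * k = k * y → k = 1 := fun y hy hyK =>
    hfpf0 y hy (fun hc => hyK (hC3 y hy hc))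
  have hy₁K : y₁ ∉ K := by
    intro hk
    apply hy₁
    rw [Subgroup.mem_centralizer_iff]
    intro a ha
    exact hKab a ha y₁ hk
  -- C5
  obtain ⟨x₀, hx₀K, hx₀1⟩ := exists_ne_one_of_ne_bot hK1
  have hB := hcoat x₀ (hKN hx₀K) hx₀1
  have hKB : K ≤ M x₀ := fun k hk => mem_M.mpr (hKab x₀ hx₀K k hk)
  have hy₁B : y₁ ∉ M x₀ := fun hmem =>
    hx₀1 (hfpf y₁ hy₁N hy₁K x₀ hx₀K (mem_M.mp hmem).symm)
  have hconj : ∀ t : G, (∀ m ∈ M y₁, t * m = m * t) → ∀ g ∈ M x₀, t * g * t⁻¹ ∈ M x₀ := by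
    intro t ht g hg
    have hg' : g ∈ K ⊔ M y₁ := hsup ▸ Subgroup.mem_top g
    obtain ⟨k, hk, m, hm, rfl⟩ := Subgroup.mem_sup_of_normal_left.mp hg'
    have hmB : m ∈ M x₀ := by
      have : m = k⁻¹ * (k * m) := by group
      rw [this]; exact (M x₀).mul_mem ((M x₀).inv_mem (hKB hk)) hg
    have htm : t * m * t⁻¹ = m := by rw [ht m hm]; group
    have e : t * (k * m) * t⁻¹ = (t * k * t⁻¹) * (t * m * t⁻¹) := by group
    rw [e, htm]
    exact (M x₀).mul_mem (hKB (hKn.conj_mem k hk t)) hmB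
  have hBn : (M x₀).Normal := by
    have h1 : y₁ ∈ Subgroup.normalizer ((M x₀ : Subgroup G) : Set G) := by
      rw [Subgroup.mem_normalizer_iff]
      intro g
      constructor
      · exact hconj y₁ (fun m hm => mem_M.mp hm) g
      · intro hg
        have h2 := hconj y₁⁻¹
          (fun m hm => (Commute.inv_left (mem_M.mp hm : Commute y₁ m)).eq) _ hg
        simpa [mul_assoc] using h2
    have hlt : M x₀ < Subgroup.normalizer ((M x₀ : Subgroup G) : Set G) :=
      lt_of_le_of_ne Subgroup.le_normalizer (fun h' => hy₁B (h' ▸ h1))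
    exact Subgroup.normalizer_eq_top_iff.mp (hB.2 _ hlt)
  haveI := hBn
  have hq : (M x₀).index.Prime := index_prime_of_coatom (M x₀) hB
  have hNB : ∀ n ∈ N, n ∈ M x₀ → n ∈ K := by
    intro n hn hnB
    by_contra hnK
    exact hx₀1 (hfpf n hn hnK x₀ hx₀K (mem_M.mp hnB).symm)
  have hy₁1 : y₁ ≠ 1 := by rintro rfl; exact hy₁K K.one_mem
  have hpow : y₁ ^ (M x₀).index = 1 := by
    have h1 : (QuotientGroup.mk y₁ : G ⧸ M x₀) ^ (M x₀).index = 1 := by
      have : Nat.card (G ⧸ M x₀) = (M x₀).index := rfl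
      rw [← this]; exact pow_card_eq_one'
    rw [← QuotientGroup.mk_pow, QuotientGroup.eq_one_iff] at h1
    have h2 : y₁ ^ (M x₀).index ∈ K := hNB _ (N.pow_mem hy₁N _) h1
    exact hfpf y₁ hy₁N hy₁K _ h2 (pow_mul_comm' y₁ _).symm
  haveI := Fact.mk hq
  have hord : orderOf y₁ = (M x₀).index := orderOf_eq_prime hpow hy₁1
  have hQN : Subgroup.zpowers y₁ ≤ N := by rw [Subgroup.zpowers_le]; exact hy₁N
  have hKQ : K ⊓ Subgroup.zpowers y₁ = ⊥ := by
    rw [eq_bot_iff]
    intro z hz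
    rw [Subgroup.mem_bot]
    obtain ⟨i, hi⟩ := Subgroup.mem_zpowers_iff.mp hz.2
    apply hfpf y₁ hy₁N hy₁K z hz.1
    rw [← hi]
    exact (Commute.self_zpow y₁ i).eq
  -- exponent
  have hcardK : Nat.card K ≠ 1 := by
    rw [Ne, Subgroup.card_eq_one]; exact hK1
  set p := (Nat.card K).minFac with hpdef
  have hp : p.Prime := Nat.minFac_prime hcardK
  have hpK : p ∣ Nat.card K := Nat.minFac_dvd _
  let Ω : Subgroup G :=
    { carrier := {z | z ∈ K ∧ z ^ p = 1}
      one_mem' := ⟨K.one_mem, one_pow _⟩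
      mul_mem' := by
        rintro a b ⟨ha, ha'⟩ ⟨hb, hb'⟩
        refine ⟨K.mul_mem ha hb, ?_⟩
        have hc : Commute a b := hKab a ha b hb
        rw [hc.mul_pow, ha', hb', one_mul]
      inv_mem' := by
        rintro a ⟨ha, ha'⟩
        exact ⟨K.inv_mem ha, by rw [inv_pow, ha', inv_one]⟩ }
  have hΩn : Ω.Normal := by
    constructor
    rintro z ⟨hz, hz'⟩ g
    exact ⟨hKn.conj_mem z hz g, by rw [conj_pow, hz', mul_one, mul_inv_cancel]⟩
  have hΩK : Ω ≤ K := fun z hz => hz.1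
  have hΩbot : Ω ≠ ⊥ := by
    haveI : Fact p.Prime := ⟨hp⟩
    obtain ⟨z, hz⟩ := exists_prime_orderOf_dvd_card' (G := K) p hpK
    intro h
    have hzΩ : (z : G) ∈ Ω := by
      refine ⟨z.2, ?_⟩
      have := pow_orderOf_eq_one z
      rw [hz] at this
      have := congrArg Subtype.val this
      simpa using this
    rw [h, Subgroup.mem_bot] at hzΩ
    have : z = 1 := Subtype.ext hzΩ
    rw [this, orderOf_one] at hz
    exact hp.one_lt.ne hz
  have hΩeq : Ω = K := by
    rcases hmin Ω hΩn hΩK with h | h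
    · exact absurd h hΩbot
    · exact h
  have hexp : ∀ x ∈ K, x ^ p = 1 := by
    intro x hx
    have : x ∈ Ω := hΩeq ▸ hx
    exact this.2
  refine ⟨Subgroup.zpowers y₁, p, hp, ?_, hQN, hexp, hKQ, ?_, ?_⟩
  · rw [Nat.card_zpowers, hord]; exact hq
  · apply le_antisymm (sup_le hKN hQN)
    intro n hn
    have hne : (QuotientGroup.mk y₁ : G ⧸ M x₀) ≠ 1 := by
      intro h0; exact hy₁B ((QuotientGroup.eq_one_iff y₁).mp h0)
    have htop := zpowers_eq_top_of_coatom (M x₀) hB _ hne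
    have hmem : (QuotientGroup.mk n : G ⧸ M x₀) ∈
        Subgroup.zpowers (QuotientGroup.mk y₁ : G ⧸ M x₀) := by
      rw [htop]; exact Subgroup.mem_top _
    obtain ⟨i, hi⟩ := Subgroup.mem_zpowers_iff.mp hmem
    rw [← QuotientGroup.mk_zpow, QuotientGroup.eq] at hi
    have h2 : (y₁ ^ i)⁻¹ * n ∈ K :=
      hNB _ (N.mul_mem (N.inv_mem (N.zpow_mem hy₁N i)) hn) hi
    have e : n = y₁ ^ i * ((y₁ ^ i)⁻¹ * n) := by group
    rw [e]
    exact Subgroup.mul_mem _ (Subgroup.mem_sup_right (Subgroup.zpow_mem_zpowers y₁ i))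
      (Subgroup.mem_sup_left h2)
  · intro a ha ha1 k hk hak
    have haK : a ∉ K := by
      intro h'
      have : a ∈ K ⊓ Subgroup.zpowers y₁ := ⟨h', ha⟩
      rw [hKQ, Subgroup.mem_bot] at this
      exact ha1 this
    exact hfpf a (hQN ha) haK k hk hak

end Cfsg.Agent.Lib.H21.RelCM
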