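import Mathlib
import Cfsg.Agent.Lib.H21.CMGroup3

/-!
# An abstract counting lemma (helper21)

A non-trivial finite group in which every non-identity element `x` has prime order `p`, its
centralizer has exponent `p` and is self-normalizing, and contains a non-identity element with a
different centralizer, does not exist.
-/

set_option autoImplicit false

namespace Cfsg.Agent.Lib.H21.RelCM

open Cfsg.Agent.Lib.H21.CM
open Pointwise

universe u

variable {L : Type u} [Group L]

section Count

variable (h1 : ∀ x : L, x ≠ 1 → (orderOf x).Prime ∧ ∀ y ∈ M x, y ^ orderOf x = 1)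
  (h3 : ∀ x : L, x ≠ 1 → Subgroup.normalizer ((M x : Subgroup L) : Set L) ≤ M x)
  (h4 : ∀ x : L, x ≠ 1 → ∃ y ∈ M x, y ≠ 1 ∧ M y ≠ M x)

include h1 in
theorem cnt_isPGroup {x : L} (hx : x ≠ 1) : IsPGroup (orderOf x) (M x) := by
  intro g
  refine ⟨1, ?_⟩
  rw [pow_one]
  exact Subtype.ext ((h1 x hx).2 g g.2)

include h1 h3 in
theorem cnt_exists_sylow [Finite L] {x : L} (hx : x ≠ 1) [Fact (orderOf x).Prime] :
    ∃ S : Sylow (orderOf x) L, (S : Subgroup L) = M x := by
  obtain ⟨S, hS⟩ := (cnt_isPGroup h1 hx).exists_le_sylow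
  refine ⟨S, le_antisymm ?_ hS⟩
  by_contra hle
  haveI hnil : Group.IsNilpotent (S : Subgroup L) := S.isPGroup'.isNilpotent
  have hlt : (M x).subgroupOf (S : Subgroup L) < ⊤ := by
    rw [lt_top_iff_ne_top, Ne, Subgroup.subgroupOf_eq_top]
    exact hle
  have hnc := Group.normalizerCondition_of_isNilpotent (G := (S : Subgroup L)) _ hlt
  obtain ⟨s, hs, hs'⟩ := SetLike.exists_of_lt hnc
  apply hs'
  rw [Subgroup.mem_subgroupOf]
  apply h3 x hx
  rw [Subgroup.mem_normalizer_iff]
  intro h
  rw [Subgroup.mem_normalizer_iff] at hs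
  constructor
  · intro hh
    have h5 := (hs ⟨h, hS hh⟩).mp (by rw [Subgroup.mem_subgroupOf]; exact hh)
    rw [Subgroup.mem_subgroupOf] at h5
    simpa using h5
  · intro hh
    have hhS : h ∈ (S : Subgroup L) := by
      have h5 : (s : L)⁻¹ * ((s : L) * h * (s : L)⁻¹) * (s : L) ∈ (S : Subgroup L) :=
        Subgroup.mul_mem _ (Subgroup.mul_mem _ (Subgroup.inv_mem _ s.2) (hS hh)) s.2
      simpa [mul_assoc] using h5
    have h6 := (hs ⟨h, hhS⟩).mpr (by rw [Subgroup.mem_subgroupOf]; simpa using hh)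
    rw [Subgroup.mem_subgroupOf] at h6
    exact h6

include h1 in
theorem cnt_orderOf_eq {x y : L} (hx : x ≠ 1) (hy : y ∈ M x) (hy1 : y ≠ 1) :
    orderOf y = orderOf x := by
  have h5 : orderOf y ∣ orderOf x := orderOf_dvd_of_pow_eq_one ((h1 x hx).2 y hy)
  rcases (Nat.dvd_prime (h1 x hx).1).1 h5 with h | h
  · exact absurd (orderOf_eq_one_iff.1 h) hy1
  · exact h

include h1 h3 h4 in
theorem cnt_not_le_A [Finite L] {x : L} (hx : x ≠ 1) : ¬ M x ≤ A x := by
  intro hle
  obtain ⟨y, hyM, hy1, hne⟩ := h4 x hx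
  have hp := (h1 x hx).1
  haveI := Fact.mk hp
  obtain ⟨S, hS⟩ := cnt_exists_sylow h1 h3 hx
  have hxy : M x ≤ M y := by
    intro g hg
    rw [mem_M]
    exact (mem_A.mp (hle hg)) y (mem_M.mp hyM)
  have hPy : IsPGroup (orderOf x) (M y) := by
    have := cnt_isPGroup h1 hy1
    rwa [cnt_orderOf_eq h1 hx hyM hy1] at this
  have := S.is_maximal' hPy (hS ▸ hxy)
  exact hne (this.trans hS)

include h1 in
/-- The centre of a non-abelian `M x` has index at least `p²`. -/
theorem cnt_card_A_mul_sq_le [Finite L] {x : L} (hx : x ≠ 1) (hII : ¬ M x ≤ A x) :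
    Nat.card (A x) * (orderOf x) ^ 2 ≤ Nat.card (M x) := by
  have hp := (h1 x hx).1
  haveI := Fact.mk hp
  have hP := cnt_isPGroup h1 hx
  rw [card_A_eq_card_center]
  obtain ⟨k, hk⟩ := hP.index (Subgroup.center (M x))
  have hk2 : 2 ≤ k := by
    by_contra hlt
    apply hII
    have hcyc : IsCyclic ((M x) ⧸ Subgroup.center (M x)) := by
      have hcard : Nat.card ((M x) ⧸ Subgroup.center (M x)) = (orderOf x) ^ k := by
        rw [← hk, Subgroup.index_eq_card]
      interval_cases k
      · rw [pow_zero] at hcard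
        haveI : Subsingleton ((M x) ⧸ Subgroup.center (M x)) :=
          (Nat.card_eq_one_iff_unique.mp hcard).1
        exact isCyclic_of_subsingleton
      · rw [pow_one] at hcard
        exact isCyclic_of_prime_card hcard
    have hcomm := ((QuotientGroup.mk' (Subgroup.center (M x))).isMulCommutative_of_isCyclic_of_ker_le_center
      (by rw [QuotientGroup.ker_mk'])).is_comm.comm
    intro h hh
    rw [Subgroup.mem_centralizer_iff]
    intro y hy
    exact congrArg Subtype.val (hcomm ⟨y, hy⟩ ⟨h, hh⟩)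
  have h5 : Nat.card (M x) = (orderOf x) ^ k * Nat.card (Subgroup.center (M x)) := by
    rw [← hk, Subgroup.index_mul_card]
  rw [h5, mul_comm]
  exact Nat.mul_le_mul_right _ (Nat.pow_le_pow_right hp.pos hk2)

include h1 in
theorem cnt_orderOf_ne_two {x : L} (hx : x ≠ 1) (hII : ¬ M x ≤ A x) : orderOf x ≠ 2 := by
  intro h2
  apply hII
  have hexp := (h1 x hx).2
  rw [h2] at hexp
  intro h hh
  rw [Subgroup.mem_centralizer_iff]
  intro y hy
  have e0 := hexp (y * h) (mul_mem hy hh)
  have e0' := hexp y hy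
  have e0'' := hexp h hh
  have e1 : (y * h)⁻¹ = y * h := by
    rw [inv_eq_iff_mul_eq_one, ← sq, e0]
  have e2 : y⁻¹ = y := by rw [inv_eq_iff_mul_eq_one, ← sq, e0']
  have e3 : h⁻¹ = h := by rw [inv_eq_iff_mul_eq_one, ← sq, e0'']
  rw [← e1, mul_inv_rev, e2, e3]

include h1 h3 in
theorem cnt_exists_sylow_p [Finite L] {p : ℕ} [Fact p.Prime] {x : L} (hxp : orderOf x = p) :
    ∃ S : Sylow p L, (S : Subgroup L) = M x := by
  have hx : x ≠ 1 := by
    rintro rfl
    rw [orderOf_one] at hxp
    exact (Fact.out : p.Prime).one_lt.ne hxp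
  subst hxp
  exact cnt_exists_sylow h1 h3 hx

include h1 h3 h4 in
/-- The number of elements of order `p` is less than `|L| / p²`. -/
theorem cnt_card_orderOf_mul_sq_lt [Fintype L] (p : ℕ) [Fact p.Prime] :
    (Finset.univ.filter (fun x : L => orderOf x = p)).card * p ^ 2 < Nat.card L := by
  classical
  have hp : p.Prime := Fact.out
  set E := Finset.univ.filter (fun x : L => orderOf x = p) with hE
  by_cases hEe : E = ∅
  · rw [hEe, Finset.card_empty, zero_mul]
    exact Nat.card_pos
  obtain ⟨x₀, hx₀⟩ := Finset.nonempty_iff_ne_empty.mpr hEe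
  have hx₀p : orderOf x₀ = p := (Finset.mem_filter.mp hx₀).2
  have hne1 : ∀ x : L, orderOf x = p → x ≠ 1 := by
    rintro x hxp rfl
    rw [orderOf_one] at hxp
    exact hp.one_lt.ne hxp
  have hx₀1 := hne1 x₀ hx₀p
  obtain ⟨S₀, hS₀⟩ := cnt_exists_sylow_p h1 h3 hx₀p
  set f : L → Sylow p L := fun x =>
    if h : orderOf x = p then Classical.choose (cnt_exists_sylow_p h1 h3 h) else S₀ with hf
  have hf_spec : ∀ x : L, orderOf x = p → ((f x : Sylow p L) : Subgroup L) = M x := by
    intro x hxp
    simp only [hf, dif_pos hxp]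
    exact Classical.choose_spec (cnt_exists_sylow_p h1 h3 hxp)
  set s := Nat.card (M x₀) with hs
  have hcardM : ∀ x : L, orderOf x = p → Nat.card (M x) = s := by
    intro x hxp
    rw [hs, ← hf_spec x hxp, ← hS₀, Sylow.card_eq_multiplicity, Sylow.card_eq_multiplicity]
  have hAsq : ∀ x : L, orderOf x = p → Nat.card (A x) * p ^ 2 ≤ s := by
    intro x hxp
    have := cnt_card_A_mul_sq_le h1 (hne1 x hxp) (cnt_not_le_A h1 h3 h4 (hne1 x hxp))
    rwa [hxp, hcardM x hxp] at this
  -- number of Sylow subgroups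
  have hnp : Nat.card (Sylow p L) * s = Nat.card L := by
    rw [Sylow.card_eq_index_normalizer S₀]
    show (Subgroup.normalizer ((S₀ : Subgroup L) : Set L)).index * s = Nat.card L
    rw [hS₀]
    have hself : Subgroup.normalizer ((M x₀ : Subgroup L) : Set L) = M x₀ :=
      le_antisymm (h3 x₀ hx₀1) Subgroup.le_normalizer
    rw [hself, hs]
    exact Subgroup.index_mul_card _
  -- fibre bound
  have hfib : ∀ S : Sylow p L, ((E.filter (fun x => f x = S)).card + 1) * p ^ 2 ≤ s := by
    intro S
    by_cases hFe : E.filter (fun x => f x = S) = ∅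
    · rw [hFe, Finset.card_empty, zero_add, one_mul]
      have h5 := hAsq x₀ hx₀p
      have h6 : 1 ≤ Nat.card (A x₀) := Nat.card_pos
      calc p ^ 2 = 1 * p ^ 2 := (one_mul _).symm
        _ ≤ Nat.card (A x₀) * p ^ 2 := Nat.mul_le_mul_right _ h6
        _ ≤ s := h5
    obtain ⟨x₁, hx₁⟩ := Finset.nonempty_iff_ne_empty.mpr hFe
    have hx₁E : x₁ ∈ E := (Finset.mem_filter.mp hx₁).1
    have hx₁p : orderOf x₁ = p := (Finset.mem_filter.mp hx₁E).2
    have hx₁S : f x₁ = S := (Finset.mem_filter.mp hx₁).2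
    have hsub : ((insert 1 (E.filter (fun x => f x = S)) : Finset L) : Set L)
        ⊆ ((A x₁ : Subgroup L) : Set L) := by
      intro y hy
      rw [Finset.coe_insert, Set.mem_insert_iff] at hy
      rcases hy with rfl | hy
      · exact Subgroup.one_mem _
      · have hy' := Finset.mem_filter.mp (Finset.mem_coe.mp hy)
        have hyp : orderOf y = p := (Finset.mem_filter.mp hy'.1).2
        have hMy : M y = M x₁ := by
          rw [← hf_spec y hyp, ← hf_spec x₁ hx₁p, hy'.2, hx₁S]
        have hAy : A y = A x₁ := by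
          show Subgroup.centralizer ((M y : Subgroup L) : Set L)
            = Subgroup.centralizer ((M x₁ : Subgroup L) : Set L)
          rw [hMy]
        rw [← hAy]
        exact self_mem_A y
    have hcard : (E.filter (fun x => f x = S)).card + 1 ≤ Nat.card (A x₁) := by
      have h5 : (1 : L) ∉ E.filter (fun x => f x = S) := by
        intro h
        have := (Finset.mem_filter.mp (Finset.mem_filter.mp h).1).2
        exact hne1 1 this rfl
      rw [← Finset.card_insert_of_notMem h5, ← Set.ncard_coe_finset]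
      have h6 : Nat.card (A x₁) = ((A x₁ : Subgroup L) : Set L).ncard :=
        Nat.card_coe_set_eq _
      rw [h6]
      exact Set.ncard_le_ncard hsub (Set.toFinite _)
    calc ((E.filter (fun x => f x = S)).card + 1) * p ^ 2
        ≤ Nat.card (A x₁) * p ^ 2 := Nat.mul_le_mul_right _ hcard
      _ ≤ s := hAsq x₁ hx₁p
  -- sum over the fibres
  haveI : Fintype (Sylow p L) := Fintype.ofFinite _
  have hsum : E.card = ∑ S : Sylow p L, (E.filter (fun x => f x = S)).card :=
    Finset.card_eq_sum_card_fiberwise (fun x _ => Finset.mem_univ (f x))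
  have hp2 : 0 < p ^ 2 := pow_pos hp.pos 2
  have hsp2 : p ^ 2 ≤ s := by
    have := hfib S₀
    have h6 : 1 * p ^ 2 ≤ ((E.filter (fun x => f x = S₀)).card + 1) * p ^ 2 :=
      Nat.mul_le_mul_right _ (Nat.le_add_left 1 _)
    rw [one_mul] at h6
    exact h6.trans this
  have hterm : ∀ S : Sylow p L, (E.filter (fun x => f x = S)).card * p ^ 2 ≤ s - p ^ 2 := by
    intro S
    have := hfib S
    rw [add_mul, one_mul] at this
    omega
  calc E.card * p ^ 2 = ∑ S : Sylow p L, (E.filter (fun x => f x = S)).card * p ^ 2 := by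
        rw [hsum, Finset.sum_mul]
    _ ≤ ∑ _S : Sylow p L, (s - p ^ 2) := Finset.sum_le_sum (fun S _ => hterm S)
    _ = Nat.card (Sylow p L) * (s - p ^ 2) := by
        rw [Finset.sum_const, smul_eq_mul, Finset.card_univ, Nat.card_eq_fintype_card]
    _ < Nat.card (Sylow p L) * s := by
        apply Nat.mul_lt_mul_of_pos_left
        · omega
        · exact Nat.card_pos
    _ = Nat.card L := hnp

include h1 h3 h4 in
/-- The counting contradiction. -/
theorem cnt_false [Finite L] [Nontrivial L] : False := by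
  classical
  haveI := Fintype.ofFinite L
  set n := Nat.card L with hn
  have hn2 : 2 ≤ n := Finite.one_lt_card
  have hn0 : n ≠ 0 := by omega
  have hcount : n - 1 = ∑ p ∈ n.primeFactors,
      (Finset.univ.filter (fun x : L => orderOf x = p)).card := by
    have h5 : (Finset.univ.erase (1 : L)).card = n - 1 := by
      rw [Finset.card_erase_of_mem (Finset.mem_univ _), Finset.card_univ,
        ← Nat.card_eq_fintype_card]
    have hmaps : ∀ x ∈ Finset.univ.erase (1 : L), orderOf x ∈ n.primeFactors := by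
      intro x hx
      have hx1 : x ≠ 1 := (Finset.mem_erase.mp hx).1
      rw [Nat.mem_primeFactors]
      exact ⟨(h1 x hx1).1, orderOf_dvd_natCard x, hn0⟩
    rw [← h5, Finset.card_eq_sum_card_fiberwise hmaps]
    apply Finset.sum_congr rfl
    intro p hp
    congr 1
    ext x
    simp only [Finset.mem_filter, Finset.mem_erase, Finset.mem_univ, and_true, true_and]
    constructor
    · rintro ⟨-, h⟩; exact h
    · intro h
      refine ⟨?_, h⟩
      rintro rfl
      rw [orderOf_one] at h
      exact (Nat.prime_of_mem_primeFactors hp).one_lt.ne h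
  have hbound : ∀ p ∈ n.primeFactors, 3 ≤ p ∧
      (Finset.univ.filter (fun x : L => orderOf x = p)).card * p ^ 2 ≤ n - 1 := by
    intro p hp
    have hpp : p.Prime := Nat.prime_of_mem_primeFactors hp
    haveI := Fact.mk hpp
    have hpn : p ∣ Nat.card L := Nat.dvd_of_mem_primeFactors hp
    obtain ⟨x, hx⟩ := exists_prime_orderOf_dvd_card' p hpn
    have hx1 : x ≠ 1 := by
      rintro rfl
      rw [orderOf_one] at hx
      exact hpp.one_lt.ne hx
    have hp2 : p ≠ 2 := by
      rw [← hx]
      exact cnt_orderOf_ne_two h1 hx1 (cnt_not_le_A h1 h3 h4 hx1)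
    have hp3 : 3 ≤ p := by
      have := hpp.two_le
      omega
    refine ⟨hp3, ?_⟩
    have := cnt_card_orderOf_mul_sq_lt h1 h3 h4 p
    omega
  have hQ : ((n : ℚ) - 1) ≤ ((n : ℚ) - 1) * (1 / 2) := by
    have hn1 : (1 : ℚ) ≤ n := by exact_mod_cast (by omega : 1 ≤ n)
    have hcast : ((n - 1 : ℕ) : ℚ) = (n : ℚ) - 1 := by
      rw [Nat.cast_sub (by omega : 1 ≤ n)]; simp
    calc ((n : ℚ) - 1) = ((n - 1 : ℕ) : ℚ) := hcast.symm
      _ = ∑ p ∈ n.primeFactors,
            ((Finset.univ.filter (fun x : L => orderOf x = p)).card : ℚ) := by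
          rw [hcount]; push_cast; rfl
      _ ≤ ∑ p ∈ n.primeFactors, ((n : ℚ) - 1) * (1 / ((p : ℚ) * ((p : ℚ) - 1))) := by
          apply Finset.sum_le_sum
          intro p hp
          obtain ⟨hp3, hb⟩ := hbound p hp
          have hp3' : (3 : ℚ) ≤ p := by exact_mod_cast hp3
          have hpos1 : (0 : ℚ) < (p : ℚ) * ((p : ℚ) - 1) := by nlinarith
          have hb' : ((Finset.univ.filter (fun x : L => orderOf x = p)).card : ℚ) * (p : ℚ) ^ 2
              ≤ (n : ℚ) - 1 := by
            rw [← hcast]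
            exact_mod_cast hb
          rw [mul_one_div, le_div_iff₀ hpos1]
          have hcnn : (0 : ℚ) ≤ ((Finset.univ.filter (fun x : L => orderOf x = p)).card : ℚ) :=
            Nat.cast_nonneg _
          nlinarith
      _ = ((n : ℚ) - 1) * ∑ p ∈ n.primeFactors, (1 / ((p : ℚ) * ((p : ℚ) - 1))) := by
          rw [Finset.mul_sum]
      _ ≤ ((n : ℚ) - 1) * ∑ m ∈ Finset.Ico 3 (n + 1), (1 / ((m : ℚ) * ((m : ℚ) - 1))) := by
          apply mul_le_mul_of_nonneg_left _ (by linarith)
          apply Finset.sum_le_sum_of_subset_of_nonneg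
          · intro p hp
            rw [Finset.mem_Ico]
            refine ⟨(hbound p hp).1, ?_⟩
            have := Nat.le_of_dvd (by omega) (Nat.dvd_of_mem_primeFactors hp)
            omega
          · intro m hm _
            have hm3 : (3 : ℚ) ≤ m := by exact_mod_cast (Finset.mem_Ico.mp hm).1
            have : (0 : ℚ) < (m : ℚ) * ((m : ℚ) - 1) := by nlinarith
            positivity
      _ = ((n : ℚ) - 1) * (1 / 2 - 1 / (n : ℚ)) := by rw [sum_Ico_inv n hn2]
      _ ≤ ((n : ℚ) - 1) * (1 / 2) := by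
          apply mul_le_mul_of_nonneg_left _ (by linarith)
          have : (0 : ℚ) < 1 / (n : ℚ) := by positivity
          linarith
  have hn1 : (2 : ℚ) ≤ n := by exact_mod_cast hn2
  nlinarith

end Count

end Cfsg.Agent.Lib.H21.RelCM
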