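import Mathlib
import Cfsg.Agent.Lib.H21.RelCMA
import Cfsg.Agent.Lib.H21.RelCMD

/-!
# Relative CM theorem, part C(ii): a non-abelian minimal normal subgroup is impossible (helper21)
-/

set_option autoImplicit false

namespace Cfsg.Agent.Lib.H21.RelCM

open Cfsg.Agent.Lib.H21.CM
open Pointwise

universe u

variable {G : Type u} [Group G]

theorem A_commute' {x y a b : G} (hxy : x * y = y * x) (ha : a ∈ A x) (hb : b ∈ A y) :
    a * b = b * a := by
  have h1 : y * a = a * y := (mem_A.mp ha) y hxy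
  exact (mem_A.mp hb) a h1

section Rel

variable (K : Subgroup G) (hK : ∀ x ∈ K, x ≠ 1 → IsCoatom (M x))
include hK

theorem rel_M_eq_of_mem_A {x z : G} (hx : x ∈ K) (hx1 : x ≠ 1) (hzK : z ∈ K) (hz : z ∈ A x)
    (hz1 : z ≠ 1) : M z = M x :=
  (coatom_eq_of_le (hK x hx hx1) (hK z hzK hz1) (M_le_M_of_mem_A hz)).symm

theorem rel_A_inf {x y z : G} (hx : x ∈ K) (hx1 : x ≠ 1) (hy : y ∈ K) (hy1 : y ≠ 1)
    (hne : M x ≠ M y) (hzK : z ∈ K) (hzx : z ∈ A x) (hzy : z ∈ A y) : z = 1 := by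
  by_contra hz1
  apply hne
  rw [← rel_M_eq_of_mem_A K hK hx hx1 hzK hzx hz1, ← rel_M_eq_of_mem_A K hK hy hy1 hzK hzy hz1]

theorem rel_orderOf_dvd [Finite G] {x y : G} (hx : x ∈ K) (hx1 : x ≠ 1) (hy : y ∈ K)
    (hyM : y ∈ M x) (hyA : y ∉ A x)
    {a b : G} (haK : a ∈ K) (ha : a ∈ A x) (ha1 : a ≠ 1) (hbK : b ∈ K) (hb : b ∈ A y) :
    orderOf b ∣ orderOf a := by
  have hy1 : y ≠ 1 := by
    rintro rfl
    exact hyA (Subgroup.one_mem _)
  have hxy : x * y = y * x := mem_M.mp hyM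
  have hMne : M x ≠ M y := by
    intro h
    apply hyA
    have : A x = A y := by
      show Subgroup.centralizer ((M x : Subgroup G) : Set G)
        = Subgroup.centralizer ((M y : Subgroup G) : Set G)
      rw [h]
    rw [this]
    exact self_mem_A y
  have hab : a * b = b * a := A_commute' hxy ha hb
  apply orderOf_dvd_of_pow_eq_one
  by_contra hb'
  have hc1 : a * b ≠ 1 := by
    intro h
    have h2 : a = b⁻¹ := eq_inv_of_mul_eq_one_left h
    exact ha1 (rel_A_inf K hK hx hx1 hy hy1 hMne haK ha (h2 ▸ (A y).inv_mem hb))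
  have hcK : a * b ∈ K := K.mul_mem haK hbK
  have hpow : (a * b) ^ orderOf a = b ^ orderOf a := by
    rw [(Commute.mul_pow hab), pow_orderOf_eq_one, one_mul]
  have h1 : b ^ orderOf a ∈ A y := (A y).pow_mem hb _
  have h2 : b ^ orderOf a ∈ A (a * b) := by
    rw [← hpow]
    exact (A (a * b)).pow_mem (self_mem_A _) _
  have hbpK : b ^ orderOf a ∈ K := K.pow_mem hbK _
  have e1 : M (b ^ orderOf a) = M y := rel_M_eq_of_mem_A K hK hy hy1 hbpK h1 hb'
  have e2 : M (b ^ orderOf a) = M (a * b) := rel_M_eq_of_mem_A K hK hcK hc1 hbpK h2 hb'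
  have e3 : M (a * b) = M y := e2.symm.trans e1
  have h3 : a * b ∈ A y := by
    have : A (a * b) = A y := by
      show Subgroup.centralizer ((M (a * b) : Subgroup G) : Set G)
        = Subgroup.centralizer ((M y : Subgroup G) : Set G)
      rw [e3]
    rw [← this]
    exact self_mem_A _
  have h4 : a ∈ A y := by
    have := (A y).mul_mem h3 ((A y).inv_mem hb)
    simpa using this
  exact ha1 (rel_A_inf K hK hx hx1 hy hy1 hMne haK ha h4)

theorem rel_exists_prime_order [Finite G] {x y : G} (hx : x ∈ K) (hx1 : x ≠ 1) (hy : y ∈ K)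
    (hyM : y ∈ M x) (hyA : y ∉ A x) :
    ∃ p : ℕ, p.Prime ∧ (∀ a ∈ K, a ∈ A x → a ≠ 1 → orderOf a = p) ∧
      (∀ b ∈ K, b ∈ A y → b ≠ 1 → orderOf b = p) := by
  have hy1 : y ≠ 1 := by
    rintro rfl
    exact hyA (Subgroup.one_mem _)
  have hxy : x * y = y * x := mem_M.mp hyM
  have hxM : x ∈ M y := mem_M.mpr hxy.symm
  have hMne : M x ≠ M y := by
    intro h
    apply hyA
    have : A x = A y := by
      show Subgroup.centralizer ((M x : Subgroup G) : Set G)
        = Subgroup.centralizer ((M y : Subgroup G) : Set G)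
      rw [h]
    rw [this]
    exact self_mem_A y
  have hxA : x ∉ A y := by
    intro h
    exact hx1 (rel_A_inf K hK hx hx1 hy hy1 hMne hx (self_mem_A x) h)
  have heq : ∀ a ∈ K, a ∈ A x → a ≠ 1 → ∀ b ∈ K, b ∈ A y → b ≠ 1 → orderOf a = orderOf b := by
    intro a haK ha ha1 b hbK hb hb1
    exact Nat.dvd_antisymm
      (rel_orderOf_dvd K hK hy hy1 hx hxM hxA hbK hb hb1 haK ha)
      (rel_orderOf_dvd K hK hx hx1 hy hyM hyA haK ha ha1 hbK hb)
  set n := orderOf x with hn
  have hn1 : n ≠ 1 := by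
    rw [hn, Ne, orderOf_eq_one_iff]
    exact hx1
  have hny : orderOf y = n := (heq x hx (self_mem_A x) hx1 y hy (self_mem_A y) hy1).symm
  have hnp : n.Prime := by
    set q := n.minFac with hq
    have hqp : q.Prime := Nat.minFac_prime hn1
    have hqn : q ∣ n := Nat.minFac_dvd n
    have hnpos : 0 < n := orderOf_pos x
    have h1 : orderOf (x ^ (n / q)) = q := by
      rw [orderOf_pow_of_dvd (by
        intro h0
        have := Nat.div_mul_cancel hqn
        rw [h0, zero_mul] at this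
        omega) (Nat.div_dvd_of_dvd hqn)]
      rw [← hn]
      exact Nat.div_div_self hqn hnpos.ne'
    have h2 : x ^ (n / q) ≠ 1 := by
      intro h
      rw [h, orderOf_one] at h1
      exact hqp.one_lt.ne h1
    have h3 := heq _ (K.pow_mem hx _) ((A x).pow_mem (self_mem_A x) _) h2 y hy (self_mem_A y) hy1
    rw [h1, hny] at h3
    rw [← h3]
    exact hqp
  refine ⟨n, hnp, ?_, ?_⟩
  · intro a haK ha ha1
    rw [heq a haK ha ha1 y hy (self_mem_A y) hy1, hny]
  · intro b hbK hb hb1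
    rw [← heq x hx (self_mem_A x) hx1 b hbK hb hb1]

/-- Type II elements: `K ⊓ C_G(x)` has prime exponent `o(x)`. -/
theorem rel_pow_eq_one_of_typeII [Finite G] {x : G} (hx : x ∈ K) (hx1 : x ≠ 1)
    (hII : ∃ y ∈ K, y ∈ M x ∧ y ∉ A x) :
    (orderOf x).Prime ∧ ∀ h ∈ K, h ∈ M x → h ^ orderOf x = 1 := by
  obtain ⟨y₀, hy₀K, hy₀M, hy₀A⟩ := hII
  obtain ⟨p, hp, h1, -⟩ := rel_exists_prime_order K hK hx hx1 hy₀K hy₀M hy₀A
  have hxp : orderOf x = p := h1 x hx (self_mem_A x) hx1
  rw [hxp]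
  refine ⟨hp, ?_⟩
  intro h hhK hh
  by_cases hh1 : h = 1
  · rw [hh1, one_pow]
  by_cases hhA : h ∈ A x
  · rw [← h1 h hhK hhA hh1, pow_orderOf_eq_one]
  · obtain ⟨p', -, h1', h2'⟩ := rel_exists_prime_order K hK hx hx1 hhK hh hhA
    have e1 : orderOf x = p' := h1' x hx (self_mem_A x) hx1
    have e2 : orderOf h = p' := h2' h hhK (self_mem_A h) hh1
    rw [← hxp, e1, ← e2, pow_orderOf_eq_one]

end Rel

section Main

variable (K : Subgroup G) [K.Normal] (hK : ∀ x ∈ K, x ≠ 1 → IsCoatom (M x))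
  (hmin : ∀ H : Subgroup G, H.Normal → H ≤ K → H = ⊥ ∨ H = K)
  (hna : ∃ a ∈ K, ∃ b ∈ K, a * b ≠ b * a)

include hmin hna in
theorem rel_center_free {x : G} (hx : x ∈ K) (hc : ∀ k ∈ K, k * x = x * k) : x = 1 := by
  have hn : (K ⊓ Subgroup.centralizer (K : Set G)).Normal := inferInstance
  rcases hmin _ hn inf_le_left with h | h
  · have : x ∈ K ⊓ Subgroup.centralizer (K : Set G) :=
      ⟨hx, Subgroup.mem_centralizer_iff.mpr hc⟩
    rw [h, Subgroup.mem_bot] at this
    exact this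
  · exfalso
    obtain ⟨a, ha, b, hb, hab⟩ := hna
    have hle : K ≤ Subgroup.centralizer (K : Set G) := inf_eq_left.mp h
    exact hab (Subgroup.mem_centralizer_iff.mp (hle hb) a ha)

include hmin hna in
theorem rel_not_le {x : G} (hx : x ∈ K) (hx1 : x ≠ 1) : ¬ K ≤ M x := by
  intro hle
  apply hx1
  apply rel_center_free K hmin hna hx
  intro k hk
  exact (mem_M.mp (hle hk)).symm

include hK hmin hna in
theorem rel_sup_eq_top {x : G} (hx : x ∈ K) (hx1 : x ≠ 1) : K ⊔ M x = ⊤ := by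
  apply (hK x hx hx1).2
  apply lt_of_le_of_ne le_sup_right
  intro h'
  apply rel_not_le K hmin hna hx hx1
  exact le_sup_left.trans h'.symm.le

include hmin hna in
theorem rel_R_not_normal {x : G} (hx : x ∈ K) (hx1 : x ≠ 1) : ¬ (K ⊓ M x).Normal := by
  intro hn
  rcases hmin _ hn inf_le_left with h | h
  · have : x ∈ K ⊓ M x := ⟨hx, self_mem_M x⟩
    rw [h, Subgroup.mem_bot] at this
    exact hx1 this
  · exact rel_not_le K hmin hna hx hx1 (inf_eq_left.mp h)

theorem M_le_normalizer_R (K : Subgroup G) [K.Normal] (x : G) :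
    M x ≤ Subgroup.normalizer ((K ⊓ M x : Subgroup G) : Set G) := by
  apply le_normalizer_of_conj_mem
  intro m hm r hr
  exact ⟨‹K.Normal›.conj_mem r hr.1 m, (M x).mul_mem ((M x).mul_mem hm hr.2) ((M x).inv_mem hm)⟩

include hK hmin hna in
/-- `K ⊓ M x` is self-normalizing in `K`. -/
theorem rel_normalizer_R_le {x : G} (hx : x ∈ K) (hx1 : x ≠ 1) (g : G) (hg : g ∈ K)
    (hgn : g ∈ Subgroup.normalizer ((K ⊓ M x : Subgroup G) : Set G)) : g ∈ M x := by
  have hKn : K.Normal := inferInstance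
  have hMR := M_le_normalizer_R K x
  have hHK : K ⊓ Subgroup.normalizer ((K ⊓ M x : Subgroup G) : Set G) ≤ K := inf_le_left
  have hRH : K ⊓ M x ≤ K ⊓ Subgroup.normalizer ((K ⊓ M x : Subgroup G) : Set G) :=
    le_inf inf_le_left Subgroup.le_normalizer
  have hnorm : M x ≤ Subgroup.normalizer
      ((K ⊓ Subgroup.normalizer ((K ⊓ M x : Subgroup G) : Set G) : Subgroup G) : Set G) := by
    apply le_normalizer_of_conj_mem
    intro m hm h hh
    refine ⟨hKn.conj_mem h hh.1 m, ?_⟩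
    exact Subgroup.mul_mem _ (Subgroup.mul_mem _ (hMR hm) hh.2) (Subgroup.inv_mem _ (hMR hm))
  rcases eq_or_eq_of_invariant K (hK x hx hx1) _ hHK hRH hnorm with h | h
  · have : g ∈ K ⊓ Subgroup.normalizer ((K ⊓ M x : Subgroup G) : Set G) := ⟨hg, hgn⟩
    rw [h] at this
    exact this.2
  · exfalso
    apply rel_R_not_normal K hmin hna hx hx1
    have hle : K ≤ Subgroup.normalizer ((K ⊓ M x : Subgroup G) : Set G) := inf_eq_left.mp h
    apply normal_of_conj_mem_sup (rel_sup_eq_top K hK hmin hna hx hx1)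
    · intro k hk r hr
      exact (Subgroup.mem_normalizer_iff.mp (hle hk) r).mp hr
    · intro m hm r hr
      exact (Subgroup.mem_normalizer_iff.mp (hMR hm) r).mp hr

include hK hmin hna in
theorem rel_normalizer_M_le {x : G} (hx : x ∈ K) (hx1 : x ≠ 1) :
    Subgroup.normalizer ((M x : Subgroup G) : Set G) ≤ M x := by
  by_contra hle
  have hlt : M x < Subgroup.normalizer ((M x : Subgroup G) : Set G) :=
    lt_of_le_of_ne Subgroup.le_normalizer (fun h => hle h.symm.le)
  have hn : (M x).Normal := Subgroup.normalizer_eq_top_iff.mp ((hK x hx hx1).2 _ hlt)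
  exact rel_R_not_normal K hmin hna hx hx1 inferInstance

include hK hmin hna in
theorem rel_M_eq_of_R_eq {x z : G} (hx : x ∈ K) (hx1 : x ≠ 1) (hz : z ∈ K) (hz1 : z ≠ 1)
    (hR : K ⊓ M z = K ⊓ M x) : M z = M x := by
  by_contra hne
  have hnle : ¬ M z ≤ M x := fun hle =>
    hne (coatom_eq_of_le (hK z hz hz1) (hK x hx hx1) hle)
  have hsup : M x ⊔ M z = ⊤ := by
    apply (hK x hx hx1).2
    apply lt_of_le_of_ne le_sup_left
    intro h'
    exact hnle (le_sup_right.trans h'.symm.le)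
  apply rel_R_not_normal K hmin hna hx hx1
  apply normal_of_conj_mem_sup hsup
  · intro m hm r hr
    exact (Subgroup.mem_normalizer_iff.mp (M_le_normalizer_R K x hm) r).mp hr
  · intro m hm r hr
    have h2 := M_le_normalizer_R K z hm
    rw [hR] at h2
    exact (Subgroup.mem_normalizer_iff.mp h2 r).mp hr

end Main

end Cfsg.Agent.Lib.H21.RelCM
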