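import Mathlib
import Cfsg.Agent.Lib.H21.RelCMC

/-!
# Relative CM theorem, part C(ii) continued: type I elements and the final contradiction (helper21)
-/

set_option autoImplicit false

namespace Cfsg.Agent.Lib.H21.RelCM

open Cfsg.Agent.Lib.H21.CM
open Pointwise

universe u

variable {G : Type u} [Group G]

section Main

variable (K : Subgroup G) [K.Normal] (hK : ∀ x ∈ K, x ≠ 1 → IsCoatom (M x))
  (hmin : ∀ H : Subgroup G, H.Normal → H ≤ K → H = ⊥ ∨ H = K)
  (hna : ∃ a ∈ K, ∃ b ∈ K, a * b ≠ b * a)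

include hK hmin hna in
/-- A type I element yields a Frobenius kernel of `K` normal in `G`: impossible. -/
theorem typeI_false [Finite G] {x : G} (hx : x ∈ K) (hx1 : x ≠ 1)
    (hI : ∀ y ∈ K, y ∈ M x → y ∈ A x) : False := by
  have hKn : K.Normal := inferInstance
  have hself := rel_normalizer_M_le K hK hmin hna hx hx1
  have hsup := rel_sup_eq_top K hK hmin hna hx hx1
  have hnotle := rel_not_le K hmin hna hx hx1
  set R' : Subgroup K := (K ⊓ M x).subgroupOf K with hR'
  have hmemR' : ∀ g : K, g ∈ R' ↔ (g : G) ∈ M x := by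
    intro g
    rw [hR', Subgroup.mem_subgroupOf]
    exact ⟨fun h => h.2, fun h => ⟨g.2, h⟩⟩
  have hF : Cfsg.IsFrobeniusComplement R' := by
    refine ⟨?_, ?_, ?_⟩
    · intro h
      have : (⟨x, hx⟩ : K) ∈ R' := (hmemR' _).mpr (self_mem_M x)
      rw [h, Subgroup.mem_bot] at this
      exact hx1 (congrArg Subtype.val this)
    · intro h
      apply hnotle
      intro k hk
      have : (⟨k, hk⟩ : K) ∈ R' := by rw [h]; exact Subgroup.mem_top _
      exact (hmemR' _).mp this
    · intro g hg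
      rw [eq_bot_iff]
      intro z hz
      rw [Subgroup.mem_bot]
      by_contra hz1
      apply hg
      have hz1' : z ∈ R' := hz.1
      have hz2 : z ∈ MulAut.conj g • R' := hz.2
      rw [Subgroup.mem_pointwise_smul_iff_inv_smul_mem] at hz2
      simp only [MulAut.smul_def, MulAut.conj_inv_apply] at hz2
      have hw1 : g⁻¹ * z * g ≠ 1 := by
        intro h
        apply hz1
        have : z = g * (g⁻¹ * z * g) * g⁻¹ := by group
        rw [this, h]; group
      have hzG : (z : G) ≠ 1 := fun h => hz1 (Subtype.ext h)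
      have hwG : ((g⁻¹ * z * g : K) : G) ≠ 1 := fun h => hw1 (Subtype.ext h)
      have e1 : M (z : G) = M x :=
        rel_M_eq_of_mem_A K hK hx hx1 z.2 (hI _ z.2 ((hmemR' z).mp hz1')) hzG
      have e2 : M ((g⁻¹ * z * g : K) : G) = M x :=
        rel_M_eq_of_mem_A K hK hx hx1 (g⁻¹ * z * g).2
          (hI _ (g⁻¹ * z * g).2 ((hmemR' _).mp hz2)) hwG
      have e3 : M (z : G) = MulAut.conj (g : G) • M ((g⁻¹ * z * g : K) : G) := by
        have : (z : G) = (g : G) * ((g⁻¹ * z * g : K) : G) * (g : G)⁻¹ := by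
          push_cast; group
        conv_lhs => rw [this]
        exact M_conj _ _
      rw [e1, e2] at e3
      have hgn : (g : G) ∈ Subgroup.normalizer ((M x : Subgroup G) : Set G) := by
        rw [Subgroup.mem_normalizer_iff_map_conj_eq]
        exact e3.symm
      exact (hmemR' g).mpr (hself hgn)
  set F := Cfsg.Agent.Lib.H18.frobKer R' hF with hFdef
  have hFn : F.Normal := Cfsg.Agent.Lib.H18.frobKer_normal R' hF
  have hFinf : F ⊓ R' = ⊥ := Cfsg.Agent.Lib.H18.frobKer_inf R' hF
  have hFsup : F ⊔ R' = ⊤ := Cfsg.Agent.Lib.H18.frobKer_sup R' hF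
  have hF'n : (F.map K.subtype).Normal := by
    apply normal_of_conj_mem_sup hsup
    · rintro k hk _ ⟨f, hf, rfl⟩
      exact ⟨⟨k, hk⟩ * f * ⟨k, hk⟩⁻¹, hFn.conj_mem f hf _, by simp⟩
    · rintro m hm _ ⟨f, hf, rfl⟩
      have hmem : m * (f : G) * m⁻¹ ∈ K := hKn.conj_mem _ f.2 m
      refine ⟨⟨m * (f : G) * m⁻¹, hmem⟩, ?_, rfl⟩
      rw [SetLike.mem_coe, hFdef, Cfsg.Agent.Lib.H18.mem_frobKer hF] at hf ⊢
      rcases hf with hf | hf
      · left
        apply Subtype.ext
        have : (f : G) = 1 := congrArg Subtype.val hf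
        simp [this]
      · right
        intro g hg
        have hg'K : m⁻¹ * (g : G) * m ∈ K := by
          have := hKn.conj_mem _ g.2 m⁻¹
          simpa using this
        apply hf ⟨m⁻¹ * (g : G) * m, hg'K⟩
        rw [Subgroup.mem_pointwise_smul_iff_inv_smul_mem] at hg ⊢
        simp only [MulAut.smul_def, MulAut.conj_inv_apply] at hg ⊢
        rw [hmemR'] at hg ⊢
        have e : (((⟨m⁻¹ * (g : G) * m, hg'K⟩ : K)⁻¹ * f * ⟨m⁻¹ * (g : G) * m, hg'K⟩ : K) : G)
            = m⁻¹ * (((g⁻¹ * ⟨m * (f : G) * m⁻¹, hmem⟩ * g : K) : G)) * m⁻¹⁻¹ := by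
          push_cast; group
        rw [e]
        exact (M x).mul_mem ((M x).mul_mem ((M x).inv_mem hm) hg) ((M x).inv_mem ((M x).inv_mem hm))
  have hF'K : F.map K.subtype ≤ K := by
    rintro _ ⟨f, -, rfl⟩
    exact f.2
  rcases hmin _ hF'n hF'K with h0 | h0
  · have hFbot : F = ⊥ := by
      rw [eq_bot_iff]
      intro f hf
      rw [Subgroup.mem_bot]
      have : (f : G) ∈ F.map K.subtype := ⟨f, hf, rfl⟩
      rw [h0, Subgroup.mem_bot] at this
      exact Subtype.ext this
    rw [hFbot, bot_sup_eq] at hFsup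
    exact hF.2.1 hFsup
  · have hxF : x ∈ F.map K.subtype := by rw [h0]; exact hx
    obtain ⟨f, hf, hfx⟩ := hxF
    have hfx' : (f : G) = x := hfx
    have hfR : f ∈ R' := (hmemR' f).mpr (by rw [hfx']; exact self_mem_M x)
    have : f ∈ F ⊓ R' := ⟨hf, hfR⟩
    rw [hFinf, Subgroup.mem_bot] at this
    apply hx1
    rw [← hfx', this]
    rfl

include hK hmin hna in
/-- Part C(ii): a non-abelian minimal normal subgroup is impossible. -/
theorem nonabelian_false [Finite G] : False := by
  have hKn : K.Normal := inferInstance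
  have hII : ∀ x ∈ K, x ≠ 1 → ∃ y ∈ K, y ∈ M x ∧ y ∉ A x := by
    intro x hx hx1
    by_contra hcon
    push Not at hcon
    exact typeI_false K hK hmin hna hx hx1 hcon
  haveI : Nontrivial K := by
    obtain ⟨a, ha, b, hb, hab⟩ := hna
    refine ⟨⟨⟨a, ha⟩, 1, ?_⟩⟩
    intro h
    apply hab
    have h2 : a = 1 := congrArg Subtype.val h
    rw [h2, one_mul, mul_one]
  apply cnt_false (L := K)
  · intro x hx1
    have hxG : (x : G) ≠ 1 := fun h => hx1 (Subtype.ext h)
    obtain ⟨hp, hexp⟩ := rel_pow_eq_one_of_typeII K hK x.2 hxG (hII x x.2 hxG)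
    rw [Subgroup.orderOf_coe] at hp hexp
    refine ⟨hp, ?_⟩
    intro y hy
    apply Subtype.ext
    rw [Subgroup.coe_pow]
    apply hexp y y.2
    rw [mem_M] at hy ⊢
    exact congrArg Subtype.val hy
  · intro x hx1 g hg
    have hxG : (x : G) ≠ 1 := fun h => hx1 (Subtype.ext h)
    rw [mem_M]
    apply Subtype.ext
    have h5 := rel_normalizer_R_le K hK hmin hna x.2 hxG (g : G) g.2 (by
      rw [Subgroup.mem_normalizer_iff] at hg ⊢
      intro h
      constructor
      · rintro ⟨hhK, hhM⟩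
        refine ⟨hKn.conj_mem h hhK g, ?_⟩
        have h6 := (hg ⟨h, hhK⟩).mp (mem_M.mpr (Subtype.ext (mem_M.mp hhM)))
        exact mem_M.mpr (congrArg Subtype.val (mem_M.mp h6))
      · rintro ⟨hhK, hhM⟩
        have hhK' : h ∈ K := by
          have := hKn.conj_mem _ hhK (g : G)⁻¹
          simpa [mul_assoc] using this
        refine ⟨hhK', ?_⟩
        have h6 := (hg ⟨h, hhK'⟩).mpr (mem_M.mpr (Subtype.ext (mem_M.mp hhM)))
        exact mem_M.mpr (congrArg Subtype.val (mem_M.mp h6)))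
    exact mem_M.mp h5
  · intro x hx1
    have hxG : (x : G) ≠ 1 := fun h => hx1 (Subtype.ext h)
    obtain ⟨y, hyK, hyM, hyA⟩ := hII x x.2 hxG
    have hy1 : y ≠ 1 := by rintro rfl; exact hyA (Subgroup.one_mem _)
    refine ⟨⟨y, hyK⟩, mem_M.mpr (Subtype.ext (mem_M.mp hyM)),
      fun h => hy1 (congrArg Subtype.val h), ?_⟩
    intro heq
    have hR : K ⊓ M y = K ⊓ M (x : G) := by
      ext h
      constructor
      · rintro ⟨hhK, hhM⟩
        refine ⟨hhK, ?_⟩
        have h6 : (⟨h, hhK⟩ : K) ∈ M (⟨y, hyK⟩ : K) :=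
          mem_M.mpr (Subtype.ext (mem_M.mp hhM))
        rw [heq] at h6
        exact mem_M.mpr (congrArg Subtype.val (mem_M.mp h6))
      · rintro ⟨hhK, hhM⟩
        refine ⟨hhK, ?_⟩
        have h6 : (⟨h, hhK⟩ : K) ∈ M x := mem_M.mpr (Subtype.ext (mem_M.mp hhM))
        rw [← heq] at h6
        exact mem_M.mpr (congrArg Subtype.val (mem_M.mp h6))
    have hMeq : M y = M (x : G) := rel_M_eq_of_R_eq K hK hmin hna x.2 hxG hyK hy1 hR
    apply hyA
    have hAeq : A y = A (x : G) := by
      show Subgroup.centralizer ((M y : Subgroup G) : Set G)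
        = Subgroup.centralizer ((M (x : G) : Subgroup G) : Set G)
      rw [hMeq]
    rw [← hAeq]
    exact self_mem_A y

end Main

end Cfsg.Agent.Lib.H21.RelCM
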