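import Mathlib
import Cfsg.Prelude.Def_Transfer
import Cfsg.Agent.Lib.H21.RelCMB
import Cfsg.Agent.Lib.H21.RelCME
import Cfsg.Agent.Lib.H1.Frobenius

/-!
# Relative CM theorem: assembly (helper21)
-/

set_option autoImplicit false

namespace Cfsg.Agent.Lib.H21.RelCM

open Cfsg.Agent.Lib.H21.CM
open Pointwise
open scoped commutatorElement

universe u

/-- A semidirect product with fixed-point-free action is a Frobenius group. -/
theorem frobenius_of_fpf {L : Type*} [Group L] [Finite L] (K Q : Subgroup L) [K.Normal]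
    (hK1 : K ≠ ⊥) (hQ1 : Q ≠ ⊥) (hinf : K ⊓ Q = ⊥) (hsup : K ⊔ Q = ⊤)
    (hfpf : ∀ a ∈ Q, a ≠ 1 → ∀ k ∈ K, a * k = k * a → k = 1) :
    Cfsg.IsFrobeniusComplement Q ∧ (K : Set L) = Cfsg.frobeniusKernel Q := by
  have hKn : K.Normal := inferInstance
  have hQtop : Q ≠ ⊤ := by
    intro h
    rw [h, inf_top_eq] at hinf
    exact hK1 hinf
  have hF : Cfsg.IsFrobeniusComplement Q := by
    refine ⟨hQ1, hQtop, ?_⟩
    intro g hg
    rw [eq_bot_iff]
    intro z hz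
    rw [Subgroup.mem_bot]
    have hz1 : z ∈ Q := hz.1
    have hz2 : z ∈ MulAut.conj g • Q := hz.2
    rw [Subgroup.mem_pointwise_smul_iff_inv_smul_mem] at hz2
    simp only [MulAut.smul_def, MulAut.conj_inv_apply] at hz2
    have hg' : g ∈ K ⊔ Q := hsup ▸ Subgroup.mem_top g
    obtain ⟨k, hk, a, ha, rfl⟩ := Subgroup.mem_sup_of_normal_left.mp hg'
    have hk1 : k ≠ 1 := by
      rintro rfl
      rw [one_mul] at hg
      exact hg ha
    -- b' := a * (g⁻¹ z g) * a⁻¹ ∈ Q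
    have hb' : a * ((k * a)⁻¹ * z * (k * a)) * a⁻¹ ∈ Q := Q.mul_mem (Q.mul_mem ha hz2) (Q.inv_mem ha)
    have e : a * ((k * a)⁻¹ * z * (k * a)) * a⁻¹ = k⁻¹ * z * k := by group
    rw [e] at hb'
    -- z * (k⁻¹ z k)⁻¹ ∈ K ⊓ Q
    have hmem : z * (k⁻¹ * z * k)⁻¹ ∈ K ⊓ Q := by
      refine ⟨?_, Q.mul_mem hz1 (Q.inv_mem hb')⟩
      have e2 : z * (k⁻¹ * z * k)⁻¹ = (z * k⁻¹ * z⁻¹) * k := by group
      rw [e2]
      exact K.mul_mem (hKn.conj_mem _ (K.inv_mem hk) z) hk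
    rw [hinf, Subgroup.mem_bot] at hmem
    have hzk : z * k = k * z := by
      have h1 : z = k⁻¹ * z * k := mul_inv_eq_one.mp hmem
      calc z * k = k * (k⁻¹ * z * k) := by group
        _ = k * z := by rw [← h1]
    by_contra hz1'
    exact hk1 (hfpf z hz1 hz1' k hk hzk)
  refine ⟨hF, ?_⟩
  have hsub : (K : Set L) ⊆ Cfsg.frobeniusKernel Q := by
    intro x hx
    by_cases hx1 : x = 1
    · left; exact hx1
    · right
      intro g hg
      rw [Subgroup.mem_pointwise_smul_iff_inv_smul_mem] at hg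
      simp only [MulAut.smul_def, MulAut.conj_inv_apply] at hg
      have hmem : g⁻¹ * x * g ∈ K ⊓ Q := by
        refine ⟨?_, hg⟩
        have := hKn.conj_mem x hx g⁻¹
        simpa using this
      rw [hinf, Subgroup.mem_bot] at hmem
      apply hx1
      have : x = g * (g⁻¹ * x * g) * g⁻¹ := by group
      rw [this, hmem]; group
  have hcompl : Subgroup.IsComplement' K Q := by
    apply Subgroup.isComplement'_of_disjoint_and_mul_eq_univ
    · rw [disjoint_iff]; exact hinf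
    · rw [← Subgroup.normal_mul, hsup]; rfl
  have hcard : Nat.card K = Q.index := hcompl.index_eq_card.symm
  have hcard2 : Nat.card (Cfsg.frobeniusKernel Q) = Q.index := Cfsg.Agent.Lib.H1.frob_card_kernel hF
  apply Set.eq_of_subset_of_ncard_le hsub
  rw [← Nat.card_coe_set_eq, ← Nat.card_coe_set_eq, hcard2]
  exact hcard.symm.le

/-- Transport of the semidirect structure along an injective homomorphism. -/
theorem transport {L H : Type*} [Group L] [Group H] [Finite L] (ι : L →* H)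
    (hι : Function.Injective ι)
    (K Q : Subgroup H) [K.Normal] (hK1 : K ≠ ⊥)
    (hKab : ∀ a ∈ K, ∀ b ∈ K, a * b = b * a) (p : ℕ) (hp : p.Prime) (hQ : (Nat.card Q).Prime)
    (hexp : ∀ k ∈ K, k ^ p = 1) (hinf : K ⊓ Q = ⊥) (hsup : K ⊔ Q = ι.range)
    (hfpf : ∀ a ∈ Q, a ≠ 1 → ∀ k ∈ K, a * k = k * a → k = 1) :
    ∃ (Q' K' : Subgroup L) (p : ℕ), p.Prime ∧ Cfsg.IsFrobeniusComplement Q' ∧
      (Nat.card Q').Prime ∧ K'.Normal ∧ (K' : Set L) = Cfsg.frobeniusKernel Q' ∧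
      Cfsg.IsElementaryAbelian p K' := by
  have hKr : K ≤ ι.range := hsup ▸ le_sup_left
  have hQr : Q ≤ ι.range := hsup ▸ le_sup_right
  haveI hK'n : (K.comap ι).Normal := inferInstance
  have hK'1 : K.comap ι ≠ ⊥ := by
    obtain ⟨k, hk, hk1⟩ := exists_ne_one_of_ne_bot hK1
    obtain ⟨l, rfl⟩ := hKr hk
    intro h
    have : l ∈ K.comap ι := hk
    rw [h, Subgroup.mem_bot] at this
    exact hk1 (by rw [this, map_one])
  have hcardQ : Nat.card (Q.comap ι) = Nat.card Q := by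
    have h1 : (Q.comap ι).map ι = Q := Subgroup.map_comap_eq_self hQr
    conv_rhs => rw [← h1]
    exact (Subgroup.card_map_of_injective hι).symm
  have hQ'1 : Q.comap ι ≠ ⊥ := by
    intro h
    rw [h, Subgroup.card_bot] at hcardQ
    rw [← hcardQ] at hQ
    exact Nat.not_prime_one hQ
  have hinf' : K.comap ι ⊓ Q.comap ι = ⊥ := by
    rw [eq_bot_iff]
    intro l hl
    rw [Subgroup.mem_bot]
    have : ι l ∈ K ⊓ Q := ⟨hl.1, hl.2⟩
    rw [hinf, Subgroup.mem_bot] at this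
    exact hι (by rw [this, map_one])
  have hsup' : K.comap ι ⊔ Q.comap ι = ⊤ := by
    rw [eq_top_iff]
    intro l _
    have h1 : ι l ∈ K ⊔ Q := by rw [hsup]; exact ⟨l, rfl⟩
    obtain ⟨k, hk, q, hq, hkq⟩ := Subgroup.mem_sup_of_normal_left.mp h1
    obtain ⟨k', rfl⟩ := hKr hk
    obtain ⟨q', rfl⟩ := hQr hq
    have h2 : l = k' * q' := hι (by rw [map_mul, hkq])
    rw [h2]
    exact Subgroup.mul_mem_sup (show k' ∈ K.comap ι from hk) (show q' ∈ Q.comap ι from hq)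
  have hfpf' : ∀ a ∈ Q.comap ι, a ≠ 1 → ∀ k ∈ K.comap ι, a * k = k * a → k = 1 := by
    intro a ha ha1 k hk hak
    apply hι
    rw [map_one]
    apply hfpf (ι a) ha (fun h => ha1 (hι (by rw [h, map_one]))) (ι k) hk
    rw [← map_mul, ← map_mul, hak]
  obtain ⟨hF, hker⟩ := frobenius_of_fpf (K.comap ι) (Q.comap ι) hK'1 hQ'1 hinf' hsup' hfpf'
  refine ⟨Q.comap ι, K.comap ι, p, hp, hF, hcardQ ▸ hQ, hK'n, hker, ?_, ?_⟩
  · refine ⟨⟨fun a b => Subtype.ext (hι ?_)⟩⟩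
    have := hKab (ι a) a.2 (ι b) b.2
    rw [Subgroup.coe_mul, Subgroup.coe_mul, map_mul, map_mul]
    exact this
  · intro a ha
    apply hι
    rw [map_pow, map_one]
    exact hexp _ ha

variable {G : Type u} [Group G]

/-- Part C: the centre-free case. -/
theorem centerless_case [Finite G] (N : Subgroup G) [N.Normal]
    (hN0 : ∀ x ∈ N, x ∈ Subgroup.centralizer (N : Set G) → x = 1)
    (hcoat : ∀ x ∈ N, x ≠ 1 → IsCoatom (M x)) (hN1 : N ≠ ⊥) :
    ∃ (K Q : Subgroup G) (p : ℕ), K.Normal ∧ K ≠ ⊥ ∧ (∀ a ∈ K, ∀ b ∈ K, a * b = b * a) ∧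
      p.Prime ∧ (Nat.card Q).Prime ∧ (∀ k ∈ K, k ^ p = 1) ∧ K ⊓ Q = ⊥ ∧ K ⊔ Q = N ∧
      ∀ a ∈ Q, a ≠ 1 → ∀ k ∈ K, a * k = k * a → k = 1 := by
  obtain ⟨K, ⟨hKn, hKN, hK1⟩, hmin0⟩ := wellFounded_lt.has_min
    {K : Subgroup G | K.Normal ∧ K ≤ N ∧ K ≠ ⊥} ⟨N, inferInstance, le_rfl, hN1⟩
  haveI := hKn
  have hmin : ∀ H : Subgroup G, H.Normal → H ≤ K → H = ⊥ ∨ H = K := by
    intro H hHn hHK
    by_cases hH : H = ⊥
    · left; exact hH
    · right
      have h3 : ¬ H < K := hmin0 H ⟨hHn, hHK.trans hKN, hH⟩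
      exact eq_of_le_of_not_lt hHK h3
  by_cases hKab : ∀ a ∈ K, ∀ b ∈ K, a * b = b * a
  · obtain ⟨Q, p, hp, hQ, -, hexp, hinf, hsup, hfpf⟩ :=
      abelian_case N hN0 hcoat K hKN hK1 hmin hKab
    exact ⟨K, Q, p, hKn, hK1, hKab, hp, hQ, hexp, hinf, hsup, hfpf⟩
  · exfalso
    push Not at hKab
    obtain ⟨a, ha, b, hb, hab⟩ := hKab
    exact nonabelian_false K (fun x hx hx1 => hcoat x (hKN hx) hx1) hmin ⟨a, ha, b, hb, hab⟩

end Cfsg.Agent.Lib.H21.RelCM
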