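import Mathlib
import Cfsg.Agent.Lib.H21.RelCMF

/-!
# Relative CM theorem: the quotient reduction and the main theorem (helper21)
-/

set_option autoImplicit false

namespace Cfsg.Agent.Lib.H21.RelCM

open Cfsg.Agent.Lib.H21.CM
open Pointwise
open scoped commutatorElement

universe u

variable {G : Type u} [Group G]

/-- Part B: reduction to the centre-free case in `G ⧸ Z(N)`. -/
theorem quotient_case [Finite G] (N : Subgroup G) [N.Normal]
    (h : ∀ x : G, x ∈ N → x ∉ Subgroup.centralizer (N : Set G) → IsCoatom (M x))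
    (hB : ∀ x ∈ N, x ∉ Subgroup.centralizer (N : Set G) →
      ∃ n ∈ N, ⁅x, n⁆ ∉ Subgroup.centralizer (N : Set G))
    (hne : ∃ x ∈ N, x ∉ Subgroup.centralizer (N : Set G))
    (Z : Subgroup G) [Z.Normal] (hZ : Z = N ⊓ Subgroup.centralizer (N : Set G)) :
    ∃ (K Q : Subgroup (G ⧸ Z)) (p : ℕ), K.Normal ∧ K ≠ ⊥ ∧
      (∀ a ∈ K, ∀ b ∈ K, a * b = b * a) ∧
      p.Prime ∧ (Nat.card Q).Prime ∧ (∀ k ∈ K, k ^ p = 1) ∧ K ⊓ Q = ⊥ ∧
      K ⊔ Q = N.map (QuotientGroup.mk' Z) ∧
      ∀ a ∈ Q, a ≠ 1 → ∀ k ∈ K, a * k = k * a → k = 1 := by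
  have hπs : Function.Surjective (QuotientGroup.mk' Z) := QuotientGroup.mk'_surjective Z
  haveI : (N.map (QuotientGroup.mk' Z)).Normal :=
    Subgroup.Normal.map inferInstance (QuotientGroup.mk' Z) hπs
  have hker : ∀ g : G, (QuotientGroup.mk' Z) g = 1 ↔ g ∈ Z := fun g => QuotientGroup.eq_one_iff g
  have hN0 : ∀ x ∈ N.map (QuotientGroup.mk' Z),
      x ∈ Subgroup.centralizer ((N.map (QuotientGroup.mk' Z) : Subgroup (G ⧸ Z)) : Set (G ⧸ Z)) →
      x = 1 := by
    rintro _ ⟨x, hx, rfl⟩ hc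
    rw [hker, hZ]
    refine ⟨hx, ?_⟩
    by_contra hxC
    obtain ⟨n, hn, hxn⟩ := hB x hx hxC
    apply hxn
    have h1 : (QuotientGroup.mk' Z) ⁅x, n⁆ = 1 := by
      rw [map_commutatorElement]
      apply commutatorElement_eq_one_iff_commute.mpr
      exact (Subgroup.mem_centralizer_iff.mp hc ((QuotientGroup.mk' Z) n) ⟨n, hn, rfl⟩).symm
    have h2 := (hker _).mp h1
    rw [hZ] at h2
    exact h2.2
  have hcoat : ∀ x ∈ N.map (QuotientGroup.mk' Z), x ≠ 1 → IsCoatom (M x) := by
    rintro _ ⟨x, hx, rfl⟩ hx1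
    have hxC : x ∉ Subgroup.centralizer (N : Set G) := fun hc =>
      hx1 ((hker x).mpr (hZ ▸ ⟨hx, hc⟩))
    have hco := h x hx hxC
    have hle : M x ≤ (M ((QuotientGroup.mk' Z) x)).comap (QuotientGroup.mk' Z) := by
      intro g hg
      rw [Subgroup.mem_comap, mem_M, ← map_mul, ← map_mul, mem_M.mp hg]
    have hne' : (M ((QuotientGroup.mk' Z) x)).comap (QuotientGroup.mk' Z) ≠ ⊤ := by
      intro htop
      apply hx1
      apply hN0 _ ⟨x, hx, rfl⟩
      rw [Subgroup.mem_centralizer_iff]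
      rintro _ ⟨n, hn, rfl⟩
      have h3 : n ∈ (M ((QuotientGroup.mk' Z) x)).comap (QuotientGroup.mk' Z) :=
        htop ▸ Subgroup.mem_top n
      rw [Subgroup.mem_comap, mem_M] at h3
      exact h3.symm
    have heq : (M ((QuotientGroup.mk' Z) x)).comap (QuotientGroup.mk' Z) = M x := by
      rcases eq_or_lt_of_le hle with h' | h'
      · exact h'.symm
      · exact absurd (hco.2 _ h') hne'
    constructor
    · intro htop
      apply hne'
      rw [htop, Subgroup.comap_top]
    · intro L' hL'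
      have h1 : M x ≤ L'.comap (QuotientGroup.mk' Z) := by
        rw [← heq]; exact Subgroup.comap_mono hL'.le
      rcases eq_or_lt_of_le h1 with h' | h'
      · exfalso
        have h4 : L' = M ((QuotientGroup.mk' Z) x) := by
          rw [← Subgroup.map_comap_eq_self_of_surjective hπs L', ← h', ← heq,
            Subgroup.map_comap_eq_self_of_surjective hπs]
        exact hL'.ne h4.symm
      · have h5 := hco.2 _ h'
        rw [← Subgroup.map_comap_eq_self_of_surjective hπs L', h5, ← MonoidHom.range_eq_map,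
          MonoidHom.range_eq_top.mpr hπs]
  have hN1 : N.map (QuotientGroup.mk' Z) ≠ ⊥ := by
    obtain ⟨x, hx, hxC⟩ := hne
    intro hbot
    have h6 : (QuotientGroup.mk' Z) x ∈ N.map (QuotientGroup.mk' Z) := ⟨x, hx, rfl⟩
    rw [hbot, Subgroup.mem_bot, hker, hZ] at h6
    exact hxC h6.2
  exact centerless_case (N.map (QuotientGroup.mk' Z)) hN0 hcoat hN1

theorem first_alt (N : Subgroup G) [N.Normal] (p : ℕ)
    (hcl : ∀ a ∈ N, ∀ b ∈ N, ⁅a, b⁆ ∈ Subgroup.centralizer (N : Set G))
    (hpow : ∀ a ∈ N, a ^ p ∈ Subgroup.centralizer (N : Set G)) :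
    Cfsg.IsElementaryAbelian p (⊤ : Subgroup (↥N ⧸ Subgroup.center ↥N)) := by
  have hcen : ∀ a : N, (a : G) ∈ Subgroup.centralizer (N : Set G) → a ∈ Subgroup.center N := by
    intro a ha
    rw [Subgroup.mem_center_iff]
    intro g
    exact Subtype.ext (Subgroup.mem_centralizer_iff.mp ha g g.2)
  constructor
  · refine ⟨⟨fun a b => Subtype.ext ?_⟩⟩
    obtain ⟨a, -⟩ := a
    obtain ⟨b, -⟩ := b
    induction a using QuotientGroup.induction_on with
    | H a =>
      induction b using QuotientGroup.induction_on with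
      | H b =>
        show (a : N ⧸ Subgroup.center N) * b = b * a
        rw [← QuotientGroup.mk_mul, ← QuotientGroup.mk_mul, QuotientGroup.eq]
        apply hcen
        have e : (((a * b)⁻¹ * (b * a) : N) : G) = ⁅(b : G)⁻¹, (a : G)⁻¹⁆ := by
          simp only [commutatorElement_def]; push_cast; group
        rw [e]
        exact hcl _ (N.inv_mem b.2) _ (N.inv_mem a.2)
  · rintro a -
    induction a using QuotientGroup.induction_on with
    | H a =>
      rw [← QuotientGroup.mk_pow, QuotientGroup.eq_one_iff]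
      apply hcen
      rw [Subgroup.coe_pow]
      exact hpow a a.2

/-- The main theorem. -/
theorem main [Finite G] (N : Subgroup G) [N.Normal]
    (h : ∀ x : G, x ∈ N → x ∉ Subgroup.centralizer (N : Set G) →
      IsCoatom (Subgroup.centralizer ({x} : Set G))) :
    (∃ p : ℕ, p.Prime ∧
      Cfsg.IsElementaryAbelian p (⊤ : Subgroup (↥N ⧸ Subgroup.center ↥N))) ∨
    (∃ (Q K : Subgroup (↥N ⧸ Subgroup.center ↥N)) (p : ℕ), p.Prime ∧
      Cfsg.IsFrobeniusComplement Q ∧ (Nat.card ↥Q).Prime ∧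
      K.Normal ∧ (K : Set (↥N ⧸ Subgroup.center ↥N)) = Cfsg.frobeniusKernel Q ∧
      Cfsg.IsElementaryAbelian p K) := by
  by_cases hA : ∃ x₀ ∈ N, x₀ ∉ Subgroup.centralizer (N : Set G) ∧
      ∀ n ∈ N, ⁅x₀, n⁆ ∈ Subgroup.centralizer (N : Set G)
  · left
    obtain ⟨x₀, hx₀N, hx₀C, hx₀⟩ := hA
    have hcl := class_two_of_exists N h x₀ hx₀N hx₀C hx₀
    obtain ⟨p, hp, hpow⟩ := exists_prime_pow_mem N hcl h hx₀N hx₀C
    exact ⟨p, hp, first_alt N p hcl hpow⟩
  by_cases hNC : N ≤ Subgroup.centralizer (N : Set G)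
  · left
    refine ⟨2, Nat.prime_two, first_alt N 2 ?_ ?_⟩
    · intro a ha b hb
      have h0 : ⁅a, b⁆ = 1 := by
        apply commutatorElement_eq_one_iff_commute.mpr
        exact (Subgroup.mem_centralizer_iff.mp (hNC ha) b hb).symm
      rw [h0]; exact Subgroup.one_mem _
    · intro a ha
      exact hNC (N.pow_mem ha 2)
  right
  have hB : ∀ x ∈ N, x ∉ Subgroup.centralizer (N : Set G) →
      ∃ n ∈ N, ⁅x, n⁆ ∉ Subgroup.centralizer (N : Set G) := by
    intro x hx hxC
    by_contra hcon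
    push Not at hcon
    exact hA ⟨x, hx, hxC, hcon⟩
  have hne : ∃ x ∈ N, x ∉ Subgroup.centralizer (N : Set G) := by
    by_contra hcon
    push Not at hcon
    exact hNC hcon
  obtain ⟨K, Q, p, hKn, hK1, hKab, hp, hQ, hexp, hinf, hsup, hfpf⟩ :=
    quotient_case N h hB hne (N ⊓ Subgroup.centralizer (N : Set G)) rfl
  haveI := hKn
  have hle : Subgroup.center ↥N ≤
      (N ⊓ Subgroup.centralizer (N : Set G)).comap N.subtype := by
    intro a ha
    rw [Subgroup.mem_comap]
    refine ⟨a.2, ?_⟩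
    show (a : G) ∈ Subgroup.centralizer (N : Set G)
    rw [Subgroup.mem_centralizer_iff]
    intro n hn
    exact congrArg Subtype.val (Subgroup.mem_center_iff.mp ha ⟨n, hn⟩)
  let ι : (↥N ⧸ Subgroup.center ↥N) →* G ⧸ (N ⊓ Subgroup.centralizer (N : Set G)) :=
    QuotientGroup.map (Subgroup.center ↥N) (N ⊓ Subgroup.centralizer (N : Set G)) N.subtype hle
  have hιmk : ∀ a : N, ι (QuotientGroup.mk a) = QuotientGroup.mk (a : G) := fun a => rfl
  have hι : Function.Injective ι := by
    rw [injective_iff_map_eq_one]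
    intro q hq
    induction q using QuotientGroup.induction_on with
    | H a =>
      rw [hιmk, QuotientGroup.eq_one_iff] at hq
      rw [QuotientGroup.eq_one_iff, Subgroup.mem_center_iff]
      intro g
      exact Subtype.ext (Subgroup.mem_centralizer_iff.mp hq.2 g g.2)
  have hrange : ι.range = N.map (QuotientGroup.mk' (N ⊓ Subgroup.centralizer (N : Set G))) := by
    ext y
    constructor
    · rintro ⟨q, rfl⟩
      induction q using QuotientGroup.induction_on with
      | H a => exact ⟨(a : G), a.2, rfl⟩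
    · rintro ⟨n, hn, rfl⟩
      exact ⟨QuotientGroup.mk ⟨n, hn⟩, rfl⟩
  exact transport ι hι K Q hK1 hKab p hp hQ hexp hinf (hsup.trans hrange.symm) hfpf

end Cfsg.Agent.Lib.H21.RelCM
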