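import Mathlib

/-!
helper21: S3571, GROUP block, piece (M6C), sub-case `r = 2`: a proper subgroup `K` of `A_6` whose index
is a power of `2` has index `8` (the simple group `A_6` acts faithfully on the cosets, so `360 ∣ index!`),
hence odd order `45`, and contains no conjugate of the involution `(01)(23)`.
-/

set_option autoImplicit false

namespace Cfsg.Agent.Lib.H21.S3571M6C2

open Equiv

theorem card_A6 : Nat.card ↥(alternatingGroup (Fin 6)) = 360 := by
  rw [nat_card_alternatingGroup, Nat.card_eq_fintype_card, Fintype.card_fin]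
  decide

theorem index_eq_eight (K : Subgroup ↥(alternatingGroup (Fin 6))) (hK : K ≠ ⊤)
    (h2 : ∀ s : ℕ, s.Prime → s ∣ K.index → s ≤ 2) : K.index = 8 := by
  have hdvd : K.index ∣ 360 := by rw [← card_A6]; exact K.index_dvd_card
  have hne0 : K.index ≠ 0 := fun h => by rw [h] at hdvd; simp at hdvd
  have hne1 : K.index ≠ 1 := fun h => hK (Subgroup.index_eq_one.mp h)
  -- the index is a power of `2`
  have hpow : K.index = 2 ^ K.index.primeFactorsList.length :=
    Nat.eq_prime_pow_of_unique_prime_dvd hne0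
      (fun {d} hd hdd => le_antisymm (h2 d hd hdd) hd.two_le)
  -- the action on the cosets is faithful
  have hsimple : IsSimpleGroup ↥(alternatingGroup (Fin 6)) :=
    alternatingGroup.isSimpleGroup (by rw [Nat.card_eq_fintype_card, Fintype.card_fin]; omega)
  have hcore : K.normalCore = ⊥ := by
    rcases hsimple.eq_bot_or_eq_top_of_normal K.normalCore inferInstance with h | h
    · exact h
    · exfalso
      apply hK
      rw [eq_top_iff, ← h]
      exact Subgroup.normalCore_le K
  have hinj : Function.Injective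
      (MulAction.toPermHom ↥(alternatingGroup (Fin 6)) (↥(alternatingGroup (Fin 6)) ⧸ K)) := by
    rw [← MonoidHom.ker_eq_bot_iff, ← Subgroup.normalCore_eq_ker]
    exact hcore
  have hfact : 360 ∣ (K.index).factorial := by
    have h1 := Subgroup.card_dvd_of_injective _ hinj
    rw [card_A6, Nat.card_perm] at h1
    exact h1
  -- the exponent is at most `3`
  generalize K.index.primeFactorsList.length = a at hpow
  have ha3 : a ≤ 3 := by
    by_contra hgt
    push Not at hgt
    have h16 : 2 ^ 4 ∣ 360 := dvd_trans (pow_dvd_pow 2 hgt) (hpow ▸ hdvd)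
    omega
  rw [hpow] at hfact hne1 ⊢
  interval_cases a
  · exact absurd rfl hne1
  · exfalso; revert hfact; decide
  · exfalso; revert hfact; decide
  · rfl

/-- The involution `(01)(23)` of `A_6`. -/
def t6 : ↥(alternatingGroup (Fin 6)) :=
  ⟨swap (0 : Fin 6) 1 * swap (2 : Fin 6) 3, by
    rw [Equiv.Perm.mem_alternatingGroup, map_mul, Equiv.Perm.sign_swap (by decide),
      Equiv.Perm.sign_swap (by decide)]
    rfl⟩

theorem t6_mul_self : t6 * t6 = 1 := by
  apply Subtype.ext
  show (swap (0 : Fin 6) 1 * swap (2 : Fin 6) 3) * (swap (0 : Fin 6) 1 * swap (2 : Fin 6) 3) = 1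
  decide

theorem t6_ne_one : t6 ≠ 1 := by
  intro h
  have h1 : (swap (0 : Fin 6) 1 * swap (2 : Fin 6) 3) = 1 := congrArg Subtype.val h
  revert h1
  decide

/-- (M6C), `r = 2`. -/
theorem m6c2 (K : Subgroup ↥(alternatingGroup (Fin 6))) (hK : K ≠ ⊤)
    (h2 : ∀ s : ℕ, s.Prime → s ∣ K.index → s ≤ 2) :
    ∃ t : ↥(alternatingGroup (Fin 6)), orderOf t = 2 ∧ ∀ g, g⁻¹ * t * g ∉ K := by
  have h8 := index_eq_eight K hK h2
  have hcard : Nat.card ↥K = 45 := by
    have := K.index_mul_card
    rw [h8, card_A6] at this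
    omega
  refine ⟨t6, ?_, ?_⟩
  · exact orderOf_eq_prime (by rw [pow_two]; exact t6_mul_self) t6_ne_one
  · intro g hg
    have hx2 : (⟨g⁻¹ * t6 * g, hg⟩ : ↥K) ^ 2 = 1 := by
      apply Subtype.ext
      rw [Subgroup.coe_pow, Subgroup.coe_one, pow_two]
      have : g⁻¹ * t6 * g * (g⁻¹ * t6 * g) = g⁻¹ * (t6 * t6) * g := by group
      rw [this, t6_mul_self]
      group
    have hx1 : (⟨g⁻¹ * t6 * g, hg⟩ : ↥K) ≠ 1 := by
      intro h
      have h1 : g⁻¹ * t6 * g = 1 := congrArg Subtype.val h
      apply t6_ne_one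
      have : t6 = g * (g⁻¹ * t6 * g) * g⁻¹ := by group
      rw [this, h1]
      group
    have hord : orderOf (⟨g⁻¹ * t6 * g, hg⟩ : ↥K) = 2 := orderOf_eq_prime hx2 hx1
    have hdvd : 2 ∣ Nat.card ↥K := hord ▸ orderOf_dvd_natCard _
    omega

end Cfsg.Agent.Lib.H21.S3571M6C2
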