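import Cfsg.Agent.Lib.H21.S3571M6C2
import Cfsg.Agent.Lib.H9.S3571Defs

/-!
helper21: S3571, GROUP block, piece (M6C): the sub-case `r = 5` (`5 ∣ index` forces `5 ∤ |K|`, take a
`5`-cycle) and the assembly of `M6CoreStmt` from the three sub-cases `r = 2, 3, 5`.
-/

set_option autoImplicit false

namespace Cfsg.Agent.Lib.H21.S3571M6C5

open Equiv Cfsg.Agent.Lib.H21.S3571M6C2 Cfsg.Agent.Lib.H9.S3571

/-- The `5`-cycle `(0 1 2 3 4)` of `A_6`. -/
def c5 : ↥(alternatingGroup (Fin 6)) :=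
  ⟨swap (0 : Fin 6) 1 * swap (1 : Fin 6) 2 * swap (2 : Fin 6) 3 * swap (3 : Fin 6) 4, by
    rw [Equiv.Perm.mem_alternatingGroup, map_mul, map_mul, map_mul,
      Equiv.Perm.sign_swap (by decide), Equiv.Perm.sign_swap (by decide),
      Equiv.Perm.sign_swap (by decide), Equiv.Perm.sign_swap (by decide)]
    rfl⟩

theorem c5_pow : c5 ^ 5 = 1 := by
  apply Subtype.ext
  rw [Subgroup.coe_pow]
  show (swap (0 : Fin 6) 1 * swap (1 : Fin 6) 2 * swap (2 : Fin 6) 3 * swap (3 : Fin 6) 4) ^ 5 = 1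
  decide

theorem c5_ne_one : c5 ≠ 1 := by
  intro h
  have h1 : (swap (0 : Fin 6) 1 * swap (1 : Fin 6) 2 * swap (2 : Fin 6) 3 * swap (3 : Fin 6) 4)
      = 1 := congrArg Subtype.val h
  revert h1
  decide

theorem orderOf_c5 : orderOf c5 = 5 :=
  haveI : Fact (Nat.Prime 5) := ⟨by norm_num⟩
  orderOf_eq_prime c5_pow c5_ne_one

/-- (M6C), `r = 5`. -/
theorem m6c5 (K : Subgroup ↥(alternatingGroup (Fin 6))) (h5 : 5 ∣ K.index) :
    ∃ t : ↥(alternatingGroup (Fin 6)), orderOf t = 5 ∧ ∀ g, g⁻¹ * t * g ∉ K := by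
  refine ⟨c5, orderOf_c5, ?_⟩
  intro g hg
  have hx5 : (⟨g⁻¹ * c5 * g, hg⟩ : ↥K) ^ 5 = 1 := by
    apply Subtype.ext
    rw [Subgroup.coe_pow, Subgroup.coe_one]
    have : (g⁻¹ * c5 * g) ^ 5 = g⁻¹ * c5 ^ 5 * g := by
      have h := conj_pow (a := g⁻¹) (b := c5) (i := 5)
      rw [inv_inv] at h
      exact h
    rw [this, c5_pow]
    group
  have hx1 : (⟨g⁻¹ * c5 * g, hg⟩ : ↥K) ≠ 1 := by
    intro h
    have h1 : g⁻¹ * c5 * g = 1 := congrArg Subtype.val h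
    apply c5_ne_one
    have : c5 = g * (g⁻¹ * c5 * g) * g⁻¹ := by group
    rw [this, h1]
    group
  have : Fact (Nat.Prime 5) := ⟨by norm_num⟩
  have hord : orderOf (⟨g⁻¹ * c5 * g, hg⟩ : ↥K) = 5 := orderOf_eq_prime hx5 hx1
  have hdvd : 5 ∣ Nat.card ↥K := hord ▸ orderOf_dvd_natCard _
  have h360 := K.index_mul_card
  rw [card_A6] at h360
  obtain ⟨a, ha⟩ := h5
  obtain ⟨c, hc⟩ := hdvd
  rw [ha, hc] at h360
  have : 25 * (a * c) = 360 := by rw [← h360]; ring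
  omega

/-- (M6C) from its sub-case `r = 3`. -/
theorem m6core_of
    (h3 : ∀ K : Subgroup ↥(alternatingGroup (Fin 6)), K ≠ ⊤ → 3 ∣ K.index →
      ∃ t : ↥(alternatingGroup (Fin 6)), orderOf t = 3 ∧ ∀ g, g⁻¹ * t * g ∉ K) :
    M6CoreStmt := by
  intro K r hK hr hrd hmax
  have h360 : r ∣ 360 := by
    have := K.index_dvd_card
    rw [card_A6] at this
    exact dvd_trans hrd this
  have hr235 : r = 2 ∨ r = 3 ∨ r = 5 := by
    have e : (360 : ℕ) = 2 ^ 3 * (3 ^ 2 * 5) := by norm_num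
    rw [e] at h360
    rcases (Nat.Prime.dvd_mul hr).mp h360 with h | h
    · left
      exact (Nat.prime_dvd_prime_iff_eq hr Nat.prime_two).mp (hr.dvd_of_dvd_pow h)
    · rcases (Nat.Prime.dvd_mul hr).mp h with h | h
      · right; left
        exact (Nat.prime_dvd_prime_iff_eq hr Nat.prime_three).mp (hr.dvd_of_dvd_pow h)
      · right; right
        exact (Nat.prime_dvd_prime_iff_eq hr Nat.prime_five).mp h
  rcases hr235 with rfl | rfl | rfl
  · exact m6c2 K hK hmax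
  · exact h3 K hK hrd
  · exact m6c5 K hrd

end Cfsg.Agent.Lib.H21.S3571M6C5
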