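import Cfsg.Agent.Lib.H9.S3571Defs

/-!
helper21: S3571, GROUP block, piece (TR1): the permutation-level hypotheses `PHyp` hold for
`Γ = ψ(G)`, `H = ψ(G_ω)`, `n = |Ω|`.
-/

set_option autoImplicit false

namespace Cfsg.Agent.Lib.H21.S3571TR1

open Cfsg.Agent.Lib.H9.S3571 Equiv

theorem tr1 : TR1Stmt := by
  intro G Ω _ _ _ _ _ T hT m hm eT hprim hΩ r hr hrd hmax ψ hψ hψT ω
  have : Nontrivial Ω := Finite.one_lt_card_iff_nontrivial.mp (by omega)
  have : MulAction.IsPretransitive G Ω := hprim.toIsPretransitive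
  have : MulAction.IsPreprimitive G Ω := hprim
  -- the stabiliser is a maximal subgroup
  have hco : IsCoatom (MulAction.stabilizer G ω) :=
    MulAction.IsPreprimitive.isCoatom_stabilizer_of_isPreprimitive G ω
  refine ⟨hm, ?_, ?_, ?_, ?_, ?_, hr, hrd, hmax⟩
  · -- `A_m ≤ ψ(G)`
    intro a ha
    refine ⟨((eT.symm ⟨a, ha⟩ : ↥T) : G), ?_⟩
    rw [hψT]
    simp
  · -- `ψ(G_ω) ≤ ψ(G)`
    rintro _ ⟨g, _, rfl⟩
    exact ⟨g, rfl⟩
  · -- maximality
    intro L hL1 hL2
    have h1 : MulAction.stabilizer G ω ≤ L.comap ψ := Subgroup.map_le_iff_le_comap.mp hL1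
    have h2 : (L.comap ψ).map ψ = L := Subgroup.map_comap_eq_self hL2
    rcases eq_or_lt_of_le h1 with h3 | h3
    · left
      rw [← h2, ← h3]
    · right
      have h4 : L.comap ψ = ⊤ := hco.2 _ h3
      rw [← h2, h4, MonoidHom.range_eq_map]
  · -- `A_m` is not inside `ψ(G_ω)`
    intro hle
    -- `T ≤ G_ω`
    have hTω : ∀ t : ↥T, (t : G) ∈ MulAction.stabilizer G ω := by
      intro t
      have h1 : ψ (t : G) ∈ (MulAction.stabilizer G ω).map ψ := by
        rw [hψT]
        exact hle (eT t).2
      obtain ⟨g, hg, hgt⟩ := h1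
      have : g = (t : G) := hψ hgt
      rw [← this]
      exact hg
    -- `T` fixes every point
    have hfix : ∀ (t : ↥T) (ω' : Ω), (t : G) • ω' = ω' := by
      intro t ω'
      obtain ⟨g, rfl⟩ := MulAction.exists_smul_eq G ω ω'
      have h1 : g⁻¹ * (t : G) * g ∈ T := by
        have := hT.conj_mem (t : G) t.2 g⁻¹
        simpa using this
      have h2 := hTω ⟨_, h1⟩
      rw [MulAction.mem_stabilizer_iff] at h2
      have h3 : (t : G) • g • ω = g • ((g⁻¹ * (t : G) * g) • ω) := by
        simp only [← mul_smul]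
        congr 1
        group
      rw [h3]
      exact congrArg (g • ·) h2
    -- so `T` is trivial
    have htriv : ∀ t : ↥T, t = 1 := by
      intro t
      apply Subtype.ext
      apply eq_of_smul_eq_smul (α := Ω)
      intro ω'
      rw [hfix t ω', Subgroup.coe_one, one_smul]
    -- but `A_m` is not
    have : Nontrivial ↥(alternatingGroup (Fin m)) :=
      alternatingGroup.nontrivial_of_three_le_card (by
        rw [Nat.card_eq_fintype_card, Fintype.card_fin]; omega)
    obtain ⟨a, ha⟩ := exists_ne (1 : ↥(alternatingGroup (Fin m)))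
    apply ha
    have := htriv (eT.symm a)
    have h5 := congrArg eT this
    simpa using h5
  · -- the index
    have h1 : (MulAction.stabilizer G ω).index = Nat.card Ω :=
      MulAction.index_stabilizer_of_transitive G ω
    have h2 := Subgroup.index_mul_card (MulAction.stabilizer G ω)
    have h3 : Nat.card ↥ψ.range = Nat.card G :=
      (Nat.card_congr (MonoidHom.ofInjective hψ).toEquiv).symm
    have h4 : Nat.card ↥((MulAction.stabilizer G ω).map ψ) =
        Nat.card ↥(MulAction.stabilizer G ω) := Subgroup.card_map_of_injective hψ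
    rw [h3, h4, ← h1, h2]

end Cfsg.Agent.Lib.H21.S3571TR1
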