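import Cfsg.Agent.Lib.H9.S3776Defs

/-!
# S3776, piece (12) R0: `J = C_G(K)` in the residual configuration

`r0 : R0Stmt`.  `J` is the centraliser of `K = K1`; it is a proper `E`-invariant normal subgroup
containing `K`, it is commutative by the internal induction hypothesis `SubIH`, and `G ⧸ J` is
commutative because `g ↦ [k, g]` takes central values.
-/

set_option autoImplicit false

namespace Cfsg.Agent.Lib.H21.S3776R0

open Cfsg.Agent.Lib.H9.S3776

universe u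

/-- commutators do not see central factors -/
theorem comm_central {G : Type u} [Group G] (z w g h : G) (hz : ∀ y : G, y * z = z * y)
    (hw : ∀ y : G, y * w = w * y) :
    (z * g) * (w * h) * (z * g)⁻¹ * (w * h)⁻¹ = g * h * g⁻¹ * h⁻¹ := by
  have e1 : z * g = g * z := (hz g).symm
  have e2 : w * h = h * w := (hw h).symm
  have e3 : z * (h * w) = (h * w) * z := (hz (h * w)).symm
  have e4 : w * g⁻¹ = g⁻¹ * w := (hw g⁻¹).symm
  rw [e1, e2]
  calc g * z * (h * w) * (g * z)⁻¹ * (h * w)⁻¹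
      = g * (z * (h * w)) * z⁻¹ * g⁻¹ * w⁻¹ * h⁻¹ := by group
    _ = g * ((h * w) * z) * z⁻¹ * g⁻¹ * w⁻¹ * h⁻¹ := by rw [e3]
    _ = g * h * (w * g⁻¹) * w⁻¹ * h⁻¹ := by group
    _ = g * h * (g⁻¹ * w) * w⁻¹ * h⁻¹ := by rw [e4]
    _ = g * h * g⁻¹ * h⁻¹ := by group

/-- (R0) -/
theorem r0 : R0Stmt.{u} := by
  intro G E _ _ _ _ φ V K hR
  obtain ⟨hyp, fr, sub, hZ, kd, ab, card, sq, big⟩ := hR
  -- `K ≤ V` is impossible
  have hKV : ¬ (K ≤ V) := by
    intro hle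
    have hEq : K = V := le_antisymm hle kd.VK
    rw [hEq] at card
    obtain ⟨x, y, hx, hy, hxy, hx1, hy1⟩ := fr.two
    have hnt : Nontrivial V := ⟨⟨⟨x, hx⟩, 1, fun h => hx1 (congrArg Subtype.val h)⟩⟩
    have h1 : 1 < Nat.card V := Finite.one_lt_card_iff_nontrivial.mpr hnt
    nlinarith
  -- the centraliser
  let J : Subgroup G := Subgroup.centralizer (K : Set G)
  have hJmem : ∀ x : G, x ∈ J ↔ ∀ k ∈ K, x * k = k * x := by
    intro x
    rw [Subgroup.mem_centralizer_iff]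
    constructor
    · intro h k hk
      exact (h k hk).symm
    · intro h k hk
      exact (h k hk).symm
  have hKJ : K ≤ J := by
    intro x hx
    rw [hJmem]
    intro k hk
    exact ab x hx k hk
  have hne : J ≠ ⊤ := by
    intro htop
    apply hKV
    intro k hk
    rw [fr.mem]
    apply hZ
    rw [Subgroup.mem_center_iff]
    intro g
    have hg : g ∈ J := by rw [htop]; exact Subgroup.mem_top g
    exact (hJmem g).1 hg k hk
  have hinv : Inv φ J := by
    intro e h hh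
    rw [hJmem]
    intro k hk
    have hk' : φ e⁻¹ k ∈ K := kd.inv e⁻¹ k hk
    have hkk : φ e (φ e⁻¹ k) = k := by
      rw [map_inv]
      exact MulAut.apply_inv_self G (φ e) k
    have hc : h * φ e⁻¹ k = φ e⁻¹ k * h := (hJmem h).1 hh _ hk'
    calc (φ e h : G) * k = (φ e h : G) * (φ e (φ e⁻¹ k) : G) := by rw [hkk]
      _ = (φ e (h * φ e⁻¹ k) : G) := (map_mul (φ e) h (φ e⁻¹ k)).symm
      _ = (φ e (φ e⁻¹ k * h) : G) := by rw [hc]
      _ = (φ e (φ e⁻¹ k) : G) * (φ e h : G) := map_mul (φ e) (φ e⁻¹ k) h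
      _ = k * (φ e h : G) := by rw [hkk]
  have hnor : J.Normal := by
    constructor
    intro x hx g
    rw [hJmem]
    intro k hk
    have hk' : g⁻¹ * k * g ∈ K := by
      have := kd.nor.conj_mem k hk g⁻¹
      simpa using this
    have hc : x * (g⁻¹ * k * g) = (g⁻¹ * k * g) * x := (hJmem x).1 hx _ hk'
    calc g * x * g⁻¹ * k = g * (x * (g⁻¹ * k * g)) * g⁻¹ := by group
      _ = g * ((g⁻¹ * k * g) * x) * g⁻¹ := by rw [hc]
      _ = k * (g * x * g⁻¹) := by group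
  have hVJ : V ≤ J := le_trans kd.VK hKJ
  have hab : ∀ a ∈ J, ∀ b ∈ J, a * b = b * a := by
    rcases sub J hne hinv hVJ with h | ⟨_, _, h3⟩
    · exact h
    · exfalso
      apply hKV
      intro k hk
      apply h3 k (hKJ hk)
      intro h hh
      exact ((hJmem h).1 hh k hk).symm
  have hquot : ∀ g h : G, g * h * g⁻¹ * h⁻¹ ∈ J := by
    intro g h
    rw [hJmem]
    intro k hk
    have ha : k * g * k⁻¹ * g⁻¹ ∈ V := ((kd.mem k).1 hk).2 g
    have hb : k * h * k⁻¹ * h⁻¹ ∈ V := ((kd.mem k).1 hk).2 h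
    have hza : ∀ y : G, y * (k * g * k⁻¹ * g⁻¹) = (k * g * k⁻¹ * g⁻¹) * y := fr.cen _ ha
    have hzb : ∀ y : G, y * (k * h * k⁻¹ * h⁻¹) = (k * h * k⁻¹ * h⁻¹) * y := fr.cen _ hb
    have h1 : k * (g * h * g⁻¹ * h⁻¹) * k⁻¹
        = ((k * g * k⁻¹ * g⁻¹) * g) * ((k * h * k⁻¹ * h⁻¹) * h) * ((k * g * k⁻¹ * g⁻¹) * g)⁻¹
          * ((k * h * k⁻¹ * h⁻¹) * h)⁻¹ := by group
    have h2 := comm_central _ _ g h hza hzb
    rw [h2] at h1
    calc g * h * g⁻¹ * h⁻¹ * k = (k * (g * h * g⁻¹ * h⁻¹) * k⁻¹) * k := by rw [h1]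
      _ = k * (g * h * g⁻¹ * h⁻¹) := by group
  exact ⟨J, ⟨hJmem, hKJ, hne, hinv, hnor, hab, hquot⟩⟩

example : R0Stmt.{0} := r0

end Cfsg.Agent.Lib.H21.S3776R0
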