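import Mathlib

/-!
helper21: S3777 (Vaughan-Lee), generic Mathlib-level pieces for helper5's (P1)/(P2)/(P3) scheme.

* `index_centralizer_le_of_central` (CB): a central subgroup of index `p ^ l`, `l ≥ 1`, forces every
  centraliser to have index at most `p ^ (l - 1)`.
* `closure_compl_eq_top` (TG): the complement of a proper subgroup generates the group.
* `exists_notMem_notMem` (TG'): a group is not the union of two proper subgroups.
-/

set_option autoImplicit false

namespace Cfsg.Agent.Lib.H21.S3777Gen

variable {G : Type*} [Group G]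

/-- (TG') a group is not the union of two proper subgroups. -/
theorem exists_notMem_notMem (M B : Subgroup G) (hM : M ≠ ⊤) (hB : B ≠ ⊤) :
    ∃ y : G, y ∉ M ∧ y ∉ B := by
  obtain ⟨x, hx⟩ : ∃ x, x ∉ M := by
    by_contra h
    push Not at h
    exact hM (eq_top_iff.mpr fun g _ => h g)
  obtain ⟨z, hz⟩ : ∃ z, z ∉ B := by
    by_contra h
    push Not at h
    exact hB (eq_top_iff.mpr fun g _ => h g)
  by_cases hxB : x ∈ B
  · by_cases hzM : z ∈ M
    · refine ⟨x * z, ?_, ?_⟩
      · intro h
        apply hx
        have := M.mul_mem h (M.inv_mem hzM)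
        simpa using this
      · intro h
        apply hz
        have := B.mul_mem (B.inv_mem hxB) h
        simpa using this
    · exact ⟨z, hzM, hz⟩
  · exact ⟨x, hx, hxB⟩

/-- (TG) the complement of a proper subgroup generates the group. -/
theorem closure_compl_eq_top (M : Subgroup G) (hM : M ≠ ⊤) :
    Subgroup.closure ((M : Set G)ᶜ) = ⊤ := by
  obtain ⟨y, hy⟩ : ∃ y, y ∉ M := by
    by_contra h
    push Not at h
    exact hM (eq_top_iff.mpr fun g _ => h g)
  rw [eq_top_iff]
  intro g _
  by_cases hg : g ∈ M
  · have h1 : g * y ∉ M := by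
      intro h
      apply hy
      have := M.mul_mem (M.inv_mem hg) h
      simpa using this
    have h2 : g * y ∈ Subgroup.closure ((M : Set G)ᶜ) := Subgroup.subset_closure h1
    have h3 : y ∈ Subgroup.closure ((M : Set G)ᶜ) := Subgroup.subset_closure hy
    have := (Subgroup.closure ((M : Set G)ᶜ)).mul_mem h2 (Subgroup.inv_mem _ h3)
    simpa using this
  · exact Subgroup.subset_closure hg

/-- Some element outside `M` lies outside a given proper subgroup `B` as well; in the form used for
case (ii) of the (P1)-step: if `B` is the subgroup of all `g` with a property `P`, and not every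
element has `P`, some `y ∉ M` fails `P`. -/
theorem exists_notMem_of_ne_top (M B : Subgroup G) (hM : M ≠ ⊤) (hB : B ≠ ⊤) :
    ∃ y : G, y ∉ M ∧ y ∉ B := exists_notMem_notMem M B hM hB

/-- (CB) a central subgroup `Z` of index `p ^ l`, `l ≥ 1`: every centraliser has index
`≤ p ^ (l - 1)`. -/
theorem index_centralizer_le_of_central (p : ℕ) [hp : Fact p.Prime] (Z : Subgroup G)
    (hZ : Z ≤ Subgroup.center G) (l : ℕ) (hl : 1 ≤ l) (hidx : Z.index = p ^ l) (h : G) :
    (Subgroup.centralizer ({h} : Set G)).index ≤ p ^ (l - 1) := by
  have hppos : 0 < p := hp.out.pos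
  by_cases hhZ : h ∈ Z
  · -- `h` is central
    have hc : Subgroup.centralizer ({h} : Set G) = ⊤ := by
      rw [eq_top_iff]
      intro g _
      rw [Subgroup.mem_centralizer_iff]
      intro x hx
      rw [Set.mem_singleton_iff] at hx
      subst hx
      exact (Subgroup.mem_center_iff.mp (hZ hhZ) g).symm
    rw [hc, Subgroup.index_top]
    exact Nat.one_le_pow _ _ hppos
  · -- `W = Z<h>` lies in the centraliser and has index `≤ p ^ (l - 1)`
    set W : Subgroup G := Z ⊔ Subgroup.zpowers h with hW
    have hZW : Z ≤ W := le_sup_left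
    have hhW : h ∈ W := (le_sup_right : Subgroup.zpowers h ≤ W) (Subgroup.mem_zpowers h)
    have hWc : W ≤ Subgroup.centralizer ({h} : Set G) := by
      apply sup_le
      · intro z hz
        rw [Subgroup.mem_centralizer_iff]
        intro x hx
        rw [Set.mem_singleton_iff] at hx
        subst hx
        exact (Subgroup.mem_center_iff.mp (hZ hz) x)
      · rw [Subgroup.zpowers_le, Subgroup.mem_centralizer_iff]
        intro x hx
        rw [Set.mem_singleton_iff] at hx
        subst hx
        rfl
    have hmul : Z.relIndex W * W.index = Z.index := Subgroup.relIndex_mul_index hZW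
    have hrel1 : Z.relIndex W ≠ 1 := by
      intro h1
      exact hhZ ((Subgroup.relIndex_eq_one.mp h1) hhW)
    rw [hidx] at hmul
    have hd1 : Z.relIndex W ∣ p ^ l := Dvd.intro _ hmul
    have hd2 : W.index ∣ p ^ l := Dvd.intro_left _ hmul
    obtain ⟨b, _, hb⟩ := (Nat.dvd_prime_pow hp.out).mp hd1
    obtain ⟨a, _, ha⟩ := (Nat.dvd_prime_pow hp.out).mp hd2
    have hb1 : 1 ≤ b := by
      rcases Nat.eq_zero_or_pos b with h0 | h0
      · rw [h0, pow_zero] at hb
        exact absurd hb hrel1
      · exact h0
    rw [hb, ha, ← pow_add] at hmul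
    have hab : b + a = l := Nat.pow_right_injective hp.out.two_le hmul
    have hWle : W.index ≤ p ^ (l - 1) := by
      rw [ha]
      exact Nat.pow_le_pow_right hppos (by omega)
    have hdvd : (Subgroup.centralizer ({h} : Set G)).index ∣ W.index :=
      Subgroup.index_dvd_of_le hWc
    have hWpos : 0 < W.index := by rw [ha]; exact Nat.pow_pos hppos
    exact le_trans (Nat.le_of_dvd hWpos hdvd) hWle

end Cfsg.Agent.Lib.H21.S3777Gen
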