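import Mathlib
import Cfsg.Agent.Lib.H21.S3777Gen

/-!
helper21: S3777 (Vaughan-Lee), (P1)-step: the dichotomy (i)/(ii) for `K₀ = A ⊔ zpowers y₀`.
-/

set_option autoImplicit false

namespace Cfsg.Agent.Lib.H21.S3777Cases

open Subgroup
open scoped Pointwise commutatorElement

variable {G : Type*} [Group G]

/-- elements of `A ⊔ zpowers y` for normal `A` -/
theorem mem_sup_zpowers (A : Subgroup G) [A.Normal] (y g : G) :
    g ∈ A ⊔ zpowers y ↔ ∃ a ∈ A, ∃ i : ℤ, g = a * y ^ i := by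
  constructor
  · intro hg
    have h1 : (↑(A ⊔ zpowers y) : Set G) = (A : Set G) * (zpowers y : Set G) :=
      Subgroup.normal_mul A (zpowers y)
    have h2 : g ∈ (A : Set G) * (zpowers y : Set G) := by
      rw [← h1]; exact hg
    obtain ⟨a, ha, z, hz, rfl⟩ := Set.mem_mul.mp h2
    obtain ⟨i, rfl⟩ := Subgroup.mem_zpowers_iff.mp hz
    exact ⟨a, ha, i, rfl⟩
  · rintro ⟨a, ha, i, rfl⟩
    exact Subgroup.mul_mem _ (Subgroup.mem_sup_left ha)
      (Subgroup.mem_sup_right (Subgroup.zpow_mem_zpowers y i))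

/-- (K1) `K₀' ≤ [A,G]` -/
theorem commutator_sup_zpowers_le (A : Subgroup G) [A.Normal] (y : G) :
    ⁅A ⊔ zpowers y, A ⊔ zpowers y⁆ ≤ ⁅A, (⊤ : Subgroup G)⁆ := by
  rw [Subgroup.commutator_le]
  intro g₁ h₁ g₂ h₂
  obtain ⟨a₁, ha₁, i, rfl⟩ := (mem_sup_zpowers A y g₁).mp h₁
  obtain ⟨a₂, ha₂, j, rfl⟩ := (mem_sup_zpowers A y g₂).mp h₂
  set N : Subgroup G := ⁅A, (⊤ : Subgroup G)⁆ with hN
  have hNn : N.Normal := by rw [hN]; infer_instance
  have key : QuotientGroup.mk' N ⁅a₁ * y ^ i, a₂ * y ^ j⁆ = 1 := by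
    rw [map_commutatorElement, commutatorElement_eq_one_iff_commute]
    have hc : ∀ a ∈ A, ∀ g : G, Commute (QuotientGroup.mk' N a) (QuotientGroup.mk' N g) := by
      intro a ha g
      rw [← commutatorElement_eq_one_iff_commute, ← map_commutatorElement]
      exact (QuotientGroup.eq_one_iff _).mpr
        (Subgroup.commutator_mem_commutator ha (Subgroup.mem_top g))
    have hz : Commute (QuotientGroup.mk' N (y ^ i)) (QuotientGroup.mk' N (y ^ j)) := by
      rw [map_zpow, map_zpow]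
      exact (Commute.refl _).zpow_zpow i j
    rw [map_mul, map_mul]
    exact Commute.mul_left (hc a₁ ha₁ _) (Commute.mul_right ((hc a₂ ha₂ _).symm) hz)
  exact (QuotientGroup.eq_one_iff _).mp key

/-- (K2) `A' ≤ K₀'` -/
theorem commutator_le_commutator_sup (A : Subgroup G) (y : G) :
    ⁅A, A⁆ ≤ ⁅A ⊔ zpowers y, A ⊔ zpowers y⁆ :=
  Subgroup.commutator_mono le_sup_left le_sup_left

/-- the elements `g` with `[A, g] ⊆ A'` form a subgroup -/
def stab (A : Subgroup G) [A.Normal] : Subgroup G where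
  carrier := {g | ∀ a ∈ A, ⁅a, g⁆ ∈ ⁅A, A⁆}
  one_mem' := by
    intro a _
    simp
  mul_mem' := by
    intro g h hg hh a ha
    have e : ⁅a, g * h⁆ = ⁅a, g⁆ * (g * ⁅a, h⁆ * g⁻¹) := by
      simp only [commutatorElement_def]; group
    rw [e]
    exact Subgroup.mul_mem _ (hg a ha) (Subgroup.Normal.conj_mem inferInstance _ (hh a ha) g)
  inv_mem' := by
    intro g hg a ha
    have e : ⁅a, g⁻¹⁆ = g⁻¹ * (⁅a, g⁆)⁻¹ * g⁻¹⁻¹ := by
      simp only [commutatorElement_def]; group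
    rw [e]
    exact Subgroup.Normal.conj_mem inferInstance _ (Subgroup.inv_mem _ (hg a ha)) g⁻¹

theorem mem_stab (A : Subgroup G) [A.Normal] (g : G) :
    g ∈ stab A ↔ ∀ a ∈ A, ⁅a, g⁆ ∈ ⁅A, A⁆ := Iff.rfl

/-- (CASES) either `[A,G] = A'` and every `(K₀, A)` is residual, or some `y₀ ∉ M` gives a
non-residual `(K₀, A)`. -/
theorem cases (A : Subgroup G) [A.Normal] (M : Subgroup G) (hM : M ≠ ⊤) :
    (⁅A, (⊤ : Subgroup G)⁆ = ⁅A, A⁆ ∧
        ∀ y : G, ⁅A ⊔ zpowers y, A ⊔ zpowers y⁆ = ⁅A, A⁆) ∨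
      (∃ y₀ : G, y₀ ∉ M ∧ ⁅A ⊔ zpowers y₀, A ⊔ zpowers y₀⁆ ≠ ⁅A, A⁆) := by
  by_cases hB : stab A = ⊤
  · left
    have h1 : ⁅A, (⊤ : Subgroup G)⁆ = ⁅A, A⁆ := by
      apply le_antisymm
      · rw [Subgroup.commutator_le]
        intro a ha g _
        have hg : g ∈ stab A := by rw [hB]; trivial
        exact hg a ha
      · exact Subgroup.commutator_mono le_rfl le_top
    refine ⟨h1, fun y => le_antisymm ?_ (commutator_le_commutator_sup A y)⟩
    rw [← h1]
    exact commutator_sup_zpowers_le A y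
  · right
    obtain ⟨y₀, hy₀M, hy₀B⟩ := Cfsg.Agent.Lib.H21.S3777Gen.exists_notMem_notMem M (stab A) hM hB
    refine ⟨y₀, hy₀M, ?_⟩
    intro heq
    apply hy₀B
    intro a ha
    rw [← heq]
    exact Subgroup.commutator_mem_commutator (Subgroup.mem_sup_left ha)
      (Subgroup.mem_sup_right (Subgroup.mem_zpowers y₀))

end Cfsg.Agent.Lib.H21.S3777Cases
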