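import Cfsg.Agent.Lib.H5.S3777P1Defs
import Cfsg.Agent.Lib.H21.S3777Cases

/-!
helper21: S3777 (P1)-step piece `S6Stmt` (exact shape), from the landed `stab` subgroup and
`closure_compl_eq_top`.
-/

set_option autoImplicit false

namespace Cfsg.Agent.Lib.H21.S3777S6

open Cfsg.Agent.Lib.H5.S3777

universe u

theorem s6 : S6Stmt.{u} := by
  intro p _ G _ _ M A hM hA hy
  have : A.Normal := hA
  have hMtop : M ≠ ⊤ := by
    intro h
    rw [h, Subgroup.index_top] at hM
    exact (Fact.out : p.Prime).ne_one hM.symm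
  have hst : Cfsg.Agent.Lib.H21.S3777Cases.stab A = ⊤ := by
    rw [eq_top_iff, ← Cfsg.Agent.Lib.H21.S3777Gen.closure_compl_eq_top M hMtop,
      Subgroup.closure_le]
    intro y hy' a ha
    exact hy y hy' (Subgroup.commutator_mem_commutator ha (Subgroup.mem_zpowers y))
  rw [Subgroup.commutator_le]
  intro a ha g _
  have hg : g ∈ Cfsg.Agent.Lib.H21.S3777Cases.stab A := by rw [hst]; trivial
  exact hg a ha

end Cfsg.Agent.Lib.H21.S3777S6
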