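import Cfsg.Agent.Lib.H15.S3797M1Defs

/-!
helper21: S3797 (M1) sub-piece ARITH (exact shape of `Lib/H15/S3797M1Defs`).
-/

set_option autoImplicit false

namespace Cfsg.Agent.Lib.H21.S3797M1Arith

open Cfsg.Agent.H15.S3797M1

/-- `2^a * A = 2^b * B` with `A`, `B` odd forces `a = b`. -/
theorem exp_eq_of_odd {a b A B : ℕ} (h : 2 ^ a * A = 2 ^ b * B) (hA : A % 2 = 1)
    (hB : B % 2 = 1) : a = b := by
  rcases Nat.lt_trichotomy a b with hlt | heq | hgt
  · exfalso
    obtain ⟨d, rfl⟩ : ∃ d, b = a + (d + 1) := ⟨b - a - 1, by omega⟩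
    rw [pow_add, mul_assoc] at h
    have h1 : A = 2 ^ (d + 1) * B := Nat.eq_of_mul_eq_mul_left (by positivity) h
    rw [pow_succ, mul_assoc] at h1
    have h2 : A = 2 * (2 ^ d * B) := by rw [h1]; ring
    omega
  · exact heq
  · exfalso
    obtain ⟨d, rfl⟩ : ∃ d, a = b + (d + 1) := ⟨a - b - 1, by omega⟩
    rw [pow_add, mul_assoc] at h
    have h1 : 2 ^ (d + 1) * A = B := Nat.eq_of_mul_eq_mul_left (by positivity) h
    have h2 : B = 2 * (2 ^ d * A) := by rw [← h1]; ring
    omega

theorem arith : ArithStmt := by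
  intro u n r N hu hsq
  rcases hsq with h0 | h1
  · -- N = 1
    have hN : (N : ℤ) = 1 := by nlinarith [sq_nonneg (1 - (N : ℤ)), pow_eq_zero_iff (n := 2) (by norm_num) |>.mp h0]
    have hN' : N = 1 := by exact_mod_cast hN
    right; left
    subst hN'
    have : 1 ≤ 2 ^ n := Nat.one_le_two_pow
    omega
  · rcases Nat.eq_zero_or_pos N with hN0 | hNpos
    · left; subst hN0; simpa using hu
    rcases Nat.eq_zero_or_pos n with hn0 | hnpos
    · left; subst hn0; simpa using hu
    -- N ≥ 1, n ≥ 1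
    have h2 : ((N - 1 : ℕ) : ℤ) ^ 2 = (2 : ℤ) ^ (u + r) := by
      rw [pow_add, ← h1]
      have : ((N - 1 : ℕ) : ℤ) = (N : ℤ) - 1 := by
        rw [Nat.cast_sub hNpos]; simp
      rw [this]; ring
    have h3 : (N - 1) ^ 2 = 2 ^ (u + r) := by exact_mod_cast h2
    have hdvd : (N - 1) ∣ 2 ^ (u + r) := ⟨N - 1, by rw [← h3]; ring⟩
    obtain ⟨j, _, hj⟩ := (Nat.dvd_prime_pow Nat.prime_two).1 hdvd
    have hjr : 2 * j = u + r := by
      rw [hj, ← pow_mul] at h3
      have := Nat.pow_right_injective (le_refl 2) h3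
      omega
    have hN : N = 1 + 2 ^ j := by omega
    -- main equation
    have hmain : 2 ^ u + 2 ^ j = 2 ^ n * (1 + 2 ^ j) := by
      have h1n : 1 ≤ 2 ^ n := Nat.one_le_two_pow
      obtain ⟨c, hc⟩ : ∃ c, 2 ^ n = c + 1 := ⟨2 ^ n - 1, by omega⟩
      rw [hN, hc] at hu
      rw [hc, hu]
      simp only [Nat.add_sub_cancel]
      ring
    rcases Nat.lt_trichotomy u j with hlt | heq | hgt
    · -- u < j : u = n
      obtain ⟨k, rfl⟩ : ∃ k, j = u + (k + 1) := ⟨j - u - 1, by omega⟩
      have e : 2 ^ u * (1 + 2 ^ (k + 1)) = 2 ^ n * (1 + 2 ^ (u + (k + 1))) := by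
        rw [← hmain]; ring
      have hA : (1 + 2 ^ (k + 1)) % 2 = 1 := by rw [pow_succ]; omega
      have hB : (1 + 2 ^ (u + (k + 1))) % 2 = 1 := by
        rw [← add_assoc, pow_succ]; omega
      have := exp_eq_of_odd e hA hB
      right; left; rw [this]
    · -- u = j : impossible
      exfalso
      subst heq
      have e : 2 ^ (u + 1) * 1 = 2 ^ n * (1 + 2 ^ u) := by
        rw [← hmain]; ring
      rcases Nat.eq_zero_or_pos u with hu0 | hupos
      · subst hu0
        simp at e
        -- 2 = 2^n * 2 → 2^n = 1 → n = 0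
        have : 2 ^ n = 1 := by omega
        have : n = 0 := by
          rcases Nat.eq_zero_or_pos n with h | h
          · exact h
          · have : 2 ≤ 2 ^ n := by
              calc 2 = 2 ^ 1 := by norm_num
                _ ≤ 2 ^ n := Nat.pow_le_pow_right (by norm_num) h
            omega
        omega
      · obtain ⟨v, rfl⟩ : ∃ v, u = v + 1 := ⟨u - 1, by omega⟩
        have hB : (1 + 2 ^ (v + 1)) % 2 = 1 := by rw [pow_succ]; omega
        have hn := exp_eq_of_odd e (by norm_num) hB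
        rw [← hn] at e
        have : 1 = 1 + 2 ^ (v + 1) := Nat.eq_of_mul_eq_mul_left (by positivity) e
        have : 0 < 2 ^ (v + 1) := by positivity
        omega
    · -- u > j : j = n, u = 2n, r = 0
      obtain ⟨k, rfl⟩ : ∃ k, u = j + (k + 1) := ⟨u - j - 1, by omega⟩
      have e : 2 ^ j * (2 ^ (k + 1) + 1) = 2 ^ n * (1 + 2 ^ j) := by
        rw [← hmain]; ring
      have hA : (2 ^ (k + 1) + 1) % 2 = 1 := by rw [pow_succ]; omega
      rcases Nat.eq_zero_or_pos j with hj0 | hjpos
      · -- j = 0: 2^(k+1) + 1 = 2^n * 2 : parity contradiction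
        exfalso
        subst hj0
        simp at e
        rw [pow_succ] at e
        omega
      · obtain ⟨v, rfl⟩ : ∃ v, j = v + 1 := ⟨j - 1, by omega⟩
        have hB : (1 + 2 ^ (v + 1)) % 2 = 1 := by rw [pow_succ]; omega
        have hjn := exp_eq_of_odd e hA hB
        rw [← hjn] at e
        have e2 : 2 ^ (k + 1) + 1 = 1 + 2 ^ (v + 1) := Nat.eq_of_mul_eq_mul_left (by positivity) e
        have e3 : 2 ^ (k + 1) = 2 ^ (v + 1) := by omega
        have e4 : k + 1 = v + 1 := Nat.pow_right_injective (le_refl 2) e3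
        right; right
        refine ⟨?_, Or.inr (by omega)⟩
        rw [← hjn, ← pow_mul]
        congr 1
        omega

end Cfsg.Agent.Lib.H21.S3797M1Arith
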