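import Cfsg.Agent.Lib.H27.S3814C1Defs
import Cfsg.Agent.Lib.H21.S3814FactA
import Cfsg.Agent.Lib.H1.CoprimeAbelian

/-!
# S3814, Case 1, piece (12) A4 (helper21)

`a4 : A4Stmt` : an element `y ∈ X` of prime order that is fixed-point-free on `V`
centralises `M`.

Route (the docstring of the cut): `N := [M, ⟨y⟩] ≤ M` is abelian, normalised by `y`, and
`C_N(y) = 1` (coprime action on the abelian `M`: `C_M(y) ⊓ [M, y] = 1`,
`Lib/H1/CoprimeAbelian`), so `⟨y⟩` is semiregular on `N` (prime order).  T1 with a cyclic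
complement (`Lib/H10/FrobActGen.t1_cyclic`): `C_V(y) = 1` gives `[V, N] = 1`, so `N = 1` by
`ShapeI.faithful`, i.e. `y` centralises `M`.

Reusable: `comm_fpf` (generic, any abelian `M` normalised by `y` of prime order coprime to
`|M|`), `t1_comm` (T1 for the kernel `[M, ⟨y⟩]`).
-/

set_option linter.unusedSectionVars false

namespace Cfsg.Agent.Lib.H21.S3814C1A4

open Cfsg.Agent.H7.S3814Defs Cfsg.Agent.H27.S3814C1 Cfsg.Agent.Lib.H21.S3814FactA
open scoped commutatorElement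

universe u

variable {G : Type u} [Group G]

/-- `[M, A] ≤ M` when `A` normalises `M`. -/
theorem comm_le {M A : Subgroup G} (hA : A ≤ Subgroup.normalizer (M : Set G)) :
    ⁅M, A⁆ ≤ M := by
  rw [Subgroup.commutator_le]
  intro m hm a ha
  have h1 : a * m⁻¹ * a⁻¹ ∈ M :=
    (Subgroup.mem_normalizer_iff.mp (hA ha) m⁻¹).mp (M.inv_mem hm)
  have e : ⁅m, a⁆ = m * (a * m⁻¹ * a⁻¹) := by
    rw [commutatorElement_def]; group
  rw [e]
  exact M.mul_mem hm h1

/-- `zpowers y` normalises `M` when `y` does. -/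
theorem zpowers_le_normalizer {M : Subgroup G} {y : G}
    (hy : y ∈ Subgroup.normalizer (M : Set G)) :
    Subgroup.zpowers y ≤ Subgroup.normalizer (M : Set G) :=
  (Subgroup.zpowers_le).mpr hy

/-- Generic brick: an abelian `M` normalised by `y` of prime order `s` coprime to `|M|`:
the group `⟨y⟩` is semiregular on `N := [M, ⟨y⟩]`. -/
theorem comm_fpf [Finite G] {M : Subgroup G} (hMc : ∀ a ∈ M, ∀ b ∈ M, a * b = b * a) {y : G}
    {s : ℕ} (hs : s.Prime) (hy : orderOf y = s)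
    (hyM : y ∈ Subgroup.normalizer (M : Set G)) (hcop : s.Coprime (Nat.card M)) :
    ∀ z ∈ Subgroup.zpowers y, z ≠ 1 → ∀ k ∈ ⁅M, Subgroup.zpowers y⁆,
      z * k * z⁻¹ = k → k = 1 := by
  intro z hz hz1 k hk hzk
  have : IsMulCommutative ↥M := ⟨⟨fun a b => Subtype.ext (hMc a.1 a.2 b.1 b.2)⟩⟩
  have hAM := zpowers_le_normalizer hyM
  have hyz : y ∈ Subgroup.zpowers z := mem_zpowers_of_prime hs hy hz hz1
  have hcz : Commute z k := by
    have : z * k = k * z := by
      calc z * k = (z * k * z⁻¹) * z := by group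
        _ = k * z := by rw [hzk]
    exact this
  have hcy : Commute y k := by
    obtain ⟨j, rfl⟩ := Subgroup.mem_zpowers_iff.mp hyz
    exact hcz.zpow_left j
  have hkC : k ∈ Subgroup.centralizer ((Subgroup.zpowers y : Subgroup G) : Set G) := by
    rw [Subgroup.mem_centralizer_iff]
    intro a ha
    obtain ⟨j, rfl⟩ := Subgroup.mem_zpowers_iff.mp ha
    exact (hcy.zpow_left j).eq
  have hcop' : (Nat.card (Subgroup.zpowers y)).Coprime (Nat.card M) := by
    rw [Nat.card_zpowers, hy]; exact hcop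
  have hbot := Cfsg.Agent.Lib.H1.coprime_abelian_centralizer_inf_commutator hAM hcop'
  have hmem : k ∈ (M ⊓ Subgroup.centralizer ((Subgroup.zpowers y : Subgroup G) : Set G)) ⊓
      ⁅M, Subgroup.zpowers y⁆ :=
    Subgroup.mem_inf.mpr ⟨Subgroup.mem_inf.mpr ⟨comm_le hAM hk, hkC⟩, hk⟩
  rw [hbot] at hmem
  exact Subgroup.mem_bot.mp hmem

/-- conjugation by `y` and `y⁻¹` preserves `[M, ⟨y⟩]`. -/
theorem conj_mem_comm {M : Subgroup G} {y : G} :
    (∀ k ∈ ⁅M, Subgroup.zpowers y⁆, y * k * y⁻¹ ∈ ⁅M, Subgroup.zpowers y⁆) ∧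
    (∀ k ∈ ⁅M, Subgroup.zpowers y⁆, y⁻¹ * k * y ∈ ⁅M, Subgroup.zpowers y⁆) := by
  have hn : Subgroup.zpowers y ≤ Subgroup.normalizer ((⁅M, Subgroup.zpowers y⁆ : Subgroup G) : Set G) :=
    Subgroup.normalizer_commutator_ge_right M (Subgroup.zpowers y)
  have h1 := hn (Subgroup.mem_zpowers y)
  have h2 := hn ((Subgroup.zpowers y).inv_mem (Subgroup.mem_zpowers y))
  refine ⟨fun k hk => (Subgroup.mem_normalizer_iff.mp h1 k).mp hk, fun k hk => ?_⟩
  have := (Subgroup.mem_normalizer_iff.mp h2 k).mp hk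
  simpa using this

/-- T1 for the kernel `[M, ⟨y⟩]` (`M ≤ K` abelian, normalised by `y ∈ K` of prime order
coprime to `|M|`) and the complement `⟨y⟩`: if `y` is fixed-point-free on `V` then
`[M, ⟨y⟩] = 1`, i.e. `y` centralises `M`. -/
theorem t1_comm [Finite G] {σ : Finset ℕ} {p : ℕ} {V K : Subgroup G} (hI : ShapeI σ p V K)
    {M : Subgroup G} (hMK : M ≤ K) (hMc : ∀ a ∈ M, ∀ b ∈ M, a * b = b * a) {y : G}
    {s : ℕ} (hs : s.Prime) (hy : orderOf y = s)
    (hyM : y ∈ Subgroup.normalizer (M : Set G)) (hcop : s.Coprime (Nat.card M))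
    (hfpf : Fpf y V) : ∀ m ∈ M, y * m = m * y := by
  have hAM := zpowers_le_normalizer hyM
  have hNM : ⁅M, Subgroup.zpowers y⁆ ≤ M := comm_le hAM
  have hNK : ⁅M, Subgroup.zpowers y⁆ ≤ K := hNM.trans hMK
  obtain ⟨hc1, hc2⟩ := conj_mem_comm (M := M) (y := y)
  have hpN : p.Coprime (Nat.card (⁅M, Subgroup.zpowers y⁆ : Subgroup G)) :=
    (Nat.Coprime.coprime_dvd_left (Subgroup.card_dvd_of_le hNK) hI.coprime).symm
  have hcent := Cfsg.Agent.Lib.H10.FrobActGen.t1_cyclic (⁅M, Subgroup.zpowers y⁆) V y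
    (isOfFinOrder_of_finite y) hI.elem.1
    (fun k _ v hv => hI.normal.conj_mem v hv k)
    (fun v hv => hI.normal.conj_mem v hv y)
    (fun v hv => by
      have := hI.normal.conj_mem v hv y⁻¹
      simpa using this)
    hc1 hc2
    (comm_fpf hMc hs hy hyM hcop)
    (fun v hv hvc => eq_one_of_pow_pow hpN (hI.elem.2 v hv) hvc)
    (fun v hv h => hfpf v hv (by
      calc y * v = (y * v * y⁻¹) * y := by group
        _ = v * y := by rw [h]))
  intro m hm
  have hmem : ⁅m, y⁆ ∈ ⁅M, Subgroup.zpowers y⁆ :=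
    Subgroup.commutator_mem_commutator hm (Subgroup.mem_zpowers y)
  have h1 : ⁅m, y⁆ = 1 :=
    hI.faithful _ (hNK hmem) (fun v hv => hcent _ hmem v hv)
  exact (commutatorElement_eq_one_iff_mul_comm.mp h1).symm

/-- `|M|` is a power of `c` for an elementary abelian `c`-group, so anything coprime to `c` is
coprime to `|M|`. -/
theorem coprime_card_of_elemAb [Finite G] {c : ℕ} (hc : c.Prime) {M : Subgroup G}
    (hMe : ElemAb c M) {s : ℕ} (hsc : s.Coprime c) : s.Coprime (Nat.card M) := by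
  have : Fact c.Prime := ⟨hc⟩
  have hMp : IsPGroup c M := fun m => ⟨1, by
    rw [pow_one]
    exact Subtype.ext (hMe.2 m.1 m.2)⟩
  obtain ⟨n, hn⟩ := IsPGroup.iff_card.mp hMp
  rw [hn]
  exact Nat.Coprime.pow_right n hsc

/-- **PIECE (12) A4.** -/
theorem a4 : A4Stmt.{u} := by
  intro G _ σ p V K c M X t t' h y hyX hyp hfpf
  have : Finite G := h.c0.cex.fin
  have hyK : y ∈ K := h.compl.le hyX
  have hoy : orderOf y ∣ Nat.card X := orderOf_dvd_card hyX
  have hsc : (orderOf y).Coprime c := Nat.Coprime.coprime_dvd_left hoy h.compl.cop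
  exact t1_comm h.c0.shape h.c0.hMK h.c0.hMe.1 hyp rfl (h.c0.hMn hyK)
    (coprime_card_of_elemAb h.c0.hc h.c0.hMe hsc) hfpf

example : A4Stmt.{0} := a4

end Cfsg.Agent.Lib.H21.S3814C1A4
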