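import Cfsg.Agent.Lib.H27.S3814C1Defs
import Cfsg.Agent.Lib.H21.S3814FactA
import Cfsg.Agent.Lib.H21.S3814C1A4
import Cfsg.Agent.Lib.H1.CoprimeAction

/-!
# S3814, Case 1, piece (13) A5 (helper21)

`a5 : A5Stmt` : for a `tt'`-element `u w` of `X` (`u`, `w` commuting of orders `t`, `t'`):
`M = C_M(u) C_M(w)`.

Route (the docstring of the cut): `M1 := [M, ⟨u⟩]`, `M = M1 · C_M(u)` (coprime action,
`Lib/H1/CoprimeAction`), `M2 := [M1, ⟨w⟩]`.  `u` has no fixed point on `M1`, `w` none on `M2`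
(`comm_fpf` of `Lib/H21/S3814C1A4`), both normalise `M2`, so `⟨u w⟩` is semiregular on `M2`;
`u w` is fixed-point-free on `V` (`KFacts.n1`); T1 with a cyclic complement
(`Lib/H10/FrobActGen.t1_cyclic`) gives `[V, M2] = 1`, so `M2 = 1` (`ShapeI.faithful`): `w`
centralises `M1`.
-/

set_option linter.unusedSectionVars false

namespace Cfsg.Agent.Lib.H21.S3814C1A5

open Cfsg.Agent.H7.S3814Defs Cfsg.Agent.H27.S3814C1 Cfsg.Agent.Lib.H21.S3814FactA
open Cfsg.Agent.Lib.H21.S3814C1A4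
open scoped commutatorElement

universe u

variable {G : Type u} [Group G]

/-- an element normalising `H₁` and `H₂` normalises `[H₁, H₂]` (one direction, elementwise). -/
theorem conj_mem_commutator {H₁ H₂ : Subgroup G} {g : G}
    (h1 : ∀ a ∈ H₁, g * a * g⁻¹ ∈ H₁) (h2 : ∀ b ∈ H₂, g * b * g⁻¹ ∈ H₂) :
    ∀ k ∈ ⁅H₁, H₂⁆, g * k * g⁻¹ ∈ ⁅H₁, H₂⁆ := by
  have hle : ⁅H₁, H₂⁆ ≤ (⁅H₁, H₂⁆ : Subgroup G).comap (MulAut.conj g).toMonoidHom := by
    rw [Subgroup.commutator_le]
    intro a ha b hb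
    rw [Subgroup.mem_comap]
    have e : (MulAut.conj g).toMonoidHom ⁅a, b⁆ = ⁅g * a * g⁻¹, g * b * g⁻¹⁆ := by
      simp only [MulEquiv.coe_toMonoidHom, MulAut.conj_apply, commutatorElement_def]
      group
    rw [e]
    exact Subgroup.commutator_mem_commutator (h1 a ha) (h2 b hb)
  intro k hk
  have := hle hk
  rw [Subgroup.mem_comap] at this
  simpa using this

/-- conjugation by an element commuting with `w` preserves `⟨w⟩`. -/
theorem conj_mem_zpowers_of_commute {g w : G} (h : g * w = w * g) :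
    ∀ b ∈ Subgroup.zpowers w, g * b * g⁻¹ ∈ Subgroup.zpowers w := by
  intro b hb
  obtain ⟨j, rfl⟩ := Subgroup.mem_zpowers_iff.mp hb
  have hc : Commute g (w ^ j) := (show Commute g w from h).zpow_right j
  have e : g * w ^ j * g⁻¹ = w ^ j := by
    rw [hc.eq]; group
  rw [e]
  exact Subgroup.zpow_mem _ (Subgroup.mem_zpowers w) j

/-- a nontrivial element `y` of `⟨u w⟩` (`u`, `w` commuting of distinct prime orders `a`, `b`)
commuting with `k`: then `u` or `w` commutes with `k`. -/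
theorem part_commute {a b : ℕ} (ha : a.Prime) (hb : b.Prime) (hab : a ≠ b) {u w k : G}
    (hu : orderOf u = a) (hw : orderOf w = b) (huw : Commute u w) {y : G}
    (hy : y ∈ Subgroup.zpowers (u * w)) (hy1 : y ≠ 1) (hyk : Commute y k) :
    Commute u k ∨ Commute w k := by
  obtain ⟨i, rfl⟩ := Subgroup.mem_zpowers_iff.mp hy
  have e : (u * w) ^ i = u ^ i * w ^ i := huw.mul_zpow i
  have hcz : Commute (u ^ i) (w ^ i) := huw.zpow_zpow i i
  have hwb : (w ^ i) ^ b = 1 := zpow_pow_eq_one (by rw [← hw]; exact pow_orderOf_eq_one w) i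
  have hua : (u ^ i) ^ a = 1 := zpow_pow_eq_one (by rw [← hu]; exact pow_orderOf_eq_one u) i
  have hyb : ((u * w) ^ i) ^ b = (u ^ i) ^ b := by rw [e, hcz.mul_pow, hwb, mul_one]
  have hya : ((u * w) ^ i) ^ a = (w ^ i) ^ a := by rw [e, hcz.mul_pow, hua, one_mul]
  by_cases h1 : (u ^ i) ^ b = 1
  · by_cases h2 : (w ^ i) ^ a = 1
    · rw [← hyb] at h1
      rw [← hya] at h2
      exact absurd (eq_one_of_pow_pow ((Nat.coprime_primes ha hb).mpr hab) h2 h1) hy1
    · right
      have hmem : (w ^ i) ^ a ∈ Subgroup.zpowers w :=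
        Subgroup.pow_mem _ (Subgroup.zpow_mem _ (Subgroup.mem_zpowers w) i) a
      have hw' : w ∈ Subgroup.zpowers ((w ^ i) ^ a) := mem_zpowers_of_prime hb hw hmem h2
      obtain ⟨j, hj⟩ := Subgroup.mem_zpowers_iff.mp hw'
      have hc1 : Commute (((u * w) ^ i) ^ a) k := hyk.pow_left a
      rw [hya] at hc1
      rw [← hj]
      exact hc1.zpow_left j
  · left
    have hmem : (u ^ i) ^ b ∈ Subgroup.zpowers u :=
      Subgroup.pow_mem _ (Subgroup.zpow_mem _ (Subgroup.mem_zpowers u) i) b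
    have hu' : u ∈ Subgroup.zpowers ((u ^ i) ^ b) := mem_zpowers_of_prime ha hu hmem h1
    obtain ⟨j, hj⟩ := Subgroup.mem_zpowers_iff.mp hu'
    have hc1 : Commute (((u * w) ^ i) ^ b) k := hyk.pow_left b
    rw [hyb] at hc1
    rw [← hj]
    exact hc1.zpow_left j

/-- `x ≠ 1` for an element of prime order. -/
theorem ne_one_of_orderOf_prime {x : G} {s : ℕ} (hs : s.Prime) (hx : orderOf x = s) : x ≠ 1 := by
  intro h
  rw [h, orderOf_one] at hx
  exact hs.one_lt.ne hx

/-- elementwise normaliser facts for `g ∈ normalizer M`. -/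
theorem conj_mem_of_mem_normalizer {M : Subgroup G} {g : G}
    (hg : g ∈ Subgroup.normalizer (M : Set G)) : ∀ a ∈ M, g * a * g⁻¹ ∈ M :=
  fun a ha => (Subgroup.mem_normalizer_iff.mp hg a).mp ha

/-- **Core of A5**: `w` centralises `[M, ⟨u⟩]`. -/
theorem w_cent_comm [Finite G] {σ : Finset ℕ} {p : ℕ} {V K : Subgroup G} (hI : ShapeI σ p V K)
    {M : Subgroup G} (hMK : M ≤ K) (hMc : ∀ a ∈ M, ∀ b ∈ M, a * b = b * a)
    {a b : ℕ} (ha : a.Prime) (hb : b.Prime) (hab : a ≠ b) {u w : G}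
    (hu : orderOf u = a) (hw : orderOf w = b) (huw : u * w = w * u)
    (huM : u ∈ Subgroup.normalizer (M : Set G)) (hwM : w ∈ Subgroup.normalizer (M : Set G))
    (hacop : a.Coprime (Nat.card M)) (hbcop : b.Coprime (Nat.card M))
    (hfpf : Fpf (u * w) V) :
    ∀ x ∈ ⁅M, Subgroup.zpowers u⁆, w * x = x * w := by
  have hAM := zpowers_le_normalizer huM
  have hM1M : ⁅M, Subgroup.zpowers u⁆ ≤ M := comm_le hAM
  -- `w` normalises `M1`
  have hwM1 : ∀ k ∈ ⁅M, Subgroup.zpowers u⁆, w * k * w⁻¹ ∈ ⁅M, Subgroup.zpowers u⁆ :=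
    conj_mem_commutator (conj_mem_of_mem_normalizer hwM) (conj_mem_zpowers_of_commute huw.symm)
  have hwM1' : w ∈ Subgroup.normalizer ((⁅M, Subgroup.zpowers u⁆ : Subgroup G) : Set G) := by
    rw [Subgroup.mem_normalizer_iff]
    intro k
    refine ⟨hwM1 k, fun hk => ?_⟩
    -- `w⁻¹ = w ^ (b - 1)` normalises too: use finiteness through zpowers
    have hwinv : ∀ k ∈ ⁅M, Subgroup.zpowers u⁆, w⁻¹ * k * w⁻¹⁻¹ ∈ ⁅M, Subgroup.zpowers u⁆ :=
      conj_mem_commutator
        (conj_mem_of_mem_normalizer ((Subgroup.normalizer (M : Set G)).inv_mem hwM))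
        (conj_mem_zpowers_of_commute (by
          have h : Commute w⁻¹ u := (show Commute w u from huw.symm).inv_left
          exact h.eq))
    have := hwinv _ hk
    have e : w⁻¹ * (w * k * w⁻¹) * w⁻¹⁻¹ = k := by group
    rwa [e] at this
  have hM1c : ∀ x ∈ ⁅M, Subgroup.zpowers u⁆, ∀ y ∈ ⁅M, Subgroup.zpowers u⁆, x * y = y * x :=
    fun x hx y hy => hMc x (hM1M hx) y (hM1M hy)
  have hbcop1 : b.Coprime (Nat.card (⁅M, Subgroup.zpowers u⁆ : Subgroup G)) :=
    Nat.Coprime.coprime_dvd_right (Subgroup.card_dvd_of_le hM1M) hbcop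
  -- the kernel `M2`
  have hBM1 := zpowers_le_normalizer hwM1'
  have hM2M1 : ⁅⁅M, Subgroup.zpowers u⁆, Subgroup.zpowers w⁆ ≤ ⁅M, Subgroup.zpowers u⁆ :=
    comm_le hBM1
  have hM2K : ⁅⁅M, Subgroup.zpowers u⁆, Subgroup.zpowers w⁆ ≤ K :=
    hM2M1.trans (hM1M.trans hMK)
  -- fixed-point-freeness of the parts
  have hufix : ∀ k ∈ ⁅M, Subgroup.zpowers u⁆, Commute u k → k = 1 := by
    intro k hk hc
    refine comm_fpf hMc ha hu huM hacop u (Subgroup.mem_zpowers u)
      (ne_one_of_orderOf_prime ha hu) k hk ?_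
    rw [hc.eq]; group
  have hwfix : ∀ k ∈ ⁅⁅M, Subgroup.zpowers u⁆, Subgroup.zpowers w⁆, Commute w k → k = 1 := by
    intro k hk hc
    refine comm_fpf hM1c hb hw hwM1' hbcop1 w (Subgroup.mem_zpowers w)
      (ne_one_of_orderOf_prime hb hw) k hk ?_
    rw [hc.eq]; group
  -- `u`, `w` and their inverses normalise `M2`
  obtain ⟨huM1a, huM1b⟩ := conj_mem_comm (M := M) (y := u)
  obtain ⟨hwM2a, hwM2b⟩ := conj_mem_comm (M := ⁅M, Subgroup.zpowers u⁆) (y := w)
  have huM2a : ∀ k ∈ ⁅⁅M, Subgroup.zpowers u⁆, Subgroup.zpowers w⁆,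
      u * k * u⁻¹ ∈ ⁅⁅M, Subgroup.zpowers u⁆, Subgroup.zpowers w⁆ :=
    conj_mem_commutator huM1a (conj_mem_zpowers_of_commute huw)
  have huM2b : ∀ k ∈ ⁅⁅M, Subgroup.zpowers u⁆, Subgroup.zpowers w⁆,
      u⁻¹ * k * u ∈ ⁅⁅M, Subgroup.zpowers u⁆, Subgroup.zpowers w⁆ := by
    have h := conj_mem_commutator (H₁ := ⁅M, Subgroup.zpowers u⁆) (H₂ := Subgroup.zpowers w)
      (g := u⁻¹)
      (fun a ha => by simpa using huM1b a ha)
      (conj_mem_zpowers_of_commute (by
        have h : Commute u⁻¹ w := (show Commute u w from huw).inv_left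
        exact h.eq))
    intro k hk
    simpa using h k hk
  have hpN : p.Coprime (Nat.card (⁅⁅M, Subgroup.zpowers u⁆, Subgroup.zpowers w⁆ : Subgroup G)) :=
    (Nat.Coprime.coprime_dvd_left (Subgroup.card_dvd_of_le hM2K) hI.coprime).symm
  have hcent := Cfsg.Agent.Lib.H10.FrobActGen.t1_cyclic
    (⁅⁅M, Subgroup.zpowers u⁆, Subgroup.zpowers w⁆) V (u * w)
    (isOfFinOrder_of_finite (u * w)) hI.elem.1
    (fun k _ v hv => hI.normal.conj_mem v hv k)
    (fun v hv => hI.normal.conj_mem v hv (u * w))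
    (fun v hv => by
      have := hI.normal.conj_mem v hv (u * w)⁻¹
      simpa using this)
    (fun k hk => by
      have := huM2a _ (hwM2a k hk)
      have e : u * (w * k * w⁻¹) * u⁻¹ = u * w * k * (u * w)⁻¹ := by group
      rwa [e] at this)
    (fun k hk => by
      have := hwM2b _ (huM2b k hk)
      have e : w⁻¹ * (u⁻¹ * k * u) * w = (u * w)⁻¹ * k * (u * w) := by group
      rwa [e] at this)
    (fun y hy hy1 k hk hyk => by
      have hc : Commute y k := by
        have : y * k = k * y := by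
          calc y * k = (y * k * y⁻¹) * y := by group
            _ = k * y := by rw [hyk]
        exact this
      rcases part_commute ha hb hab hu hw huw hy hy1 hc with h | h
      · exact hufix k (hM2M1 hk) h
      · exact hwfix k hk h)
    (fun v hv hvc => eq_one_of_pow_pow hpN (hI.elem.2 v hv) hvc)
    (fun v hv h => hfpf v hv (by
      calc u * w * v = (u * w * v * (u * w)⁻¹) * (u * w) := by group
        _ = v * (u * w) := by rw [h]))
  intro x hx
  have hmem : ⁅x, w⁆ ∈ ⁅⁅M, Subgroup.zpowers u⁆, Subgroup.zpowers w⁆ :=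
    Subgroup.commutator_mem_commutator hx (Subgroup.mem_zpowers w)
  have h1 : ⁅x, w⁆ = 1 :=
    hI.faithful _ (hM2K hmem) (fun v hv => hcent _ hmem v hv)
  exact (commutatorElement_eq_one_iff_mul_comm.mp h1).symm

/-- `M = [M, ⟨u⟩] · C_M(u)` elementwise, for a coprime action on an abelian `M`. -/
theorem decomp [Finite G] {M : Subgroup G} (hMc : ∀ a ∈ M, ∀ b ∈ M, a * b = b * a) {u : G}
    {a : ℕ} (hu : orderOf u = a) (huM : u ∈ Subgroup.normalizer (M : Set G))
    (hacop : a.Coprime (Nat.card M)) :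
    ∀ m ∈ M, ∃ x ∈ ⁅M, Subgroup.zpowers u⁆, ∃ y ∈ M, u * y = y * u ∧ m = x * y := by
  have hAM := zpowers_le_normalizer huM
  have hM1M : ⁅M, Subgroup.zpowers u⁆ ≤ M := comm_le hAM
  have hca : Cfsg.Agent.Lib.H1.CoprimeAction (Subgroup.zpowers u) M :=
    ⟨hAM, by rw [Nat.card_zpowers, hu]; exact hacop, Or.inl inferInstance⟩
  have hsup := Cfsg.Agent.Lib.H1.coprime_commutator_sup_centralizer hca
  intro m hm
  have hm' : m ∈ ⁅M, Subgroup.zpowers u⁆ ⊔
      (M ⊓ Subgroup.centralizer ((Subgroup.zpowers u : Subgroup G) : Set G)) := by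
    rw [hsup]; exact hm
  -- `C_M(u)` normalises `[M, ⟨u⟩]` (everything is inside the abelian `M`)
  have hnorm : (M ⊓ Subgroup.centralizer ((Subgroup.zpowers u : Subgroup G) : Set G)) ≤
      Subgroup.normalizer ((⁅M, Subgroup.zpowers u⁆ : Subgroup G) : Set G) := by
    intro y hy
    have hyM : y ∈ M := (Subgroup.mem_inf.mp hy).1
    rw [Subgroup.mem_normalizer_iff]
    intro k
    constructor
    · intro hk
      have e : y * k * y⁻¹ = k := by
        rw [hMc y hyM k (hM1M hk)]; group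
      rwa [e]
    · intro hk
      have hkM : k ∈ M := by
        have h1 : y * k * y⁻¹ ∈ M := hM1M hk
        have h2 := M.mul_mem (M.mul_mem (M.inv_mem hyM) h1) hyM
        have e : y⁻¹ * (y * k * y⁻¹) * y = k := by group
        rwa [e] at h2
      have e : y * k * y⁻¹ = k := by
        rw [hMc y hyM k hkM]; group
      rwa [e] at hk
  have h := Subgroup.coe_mul_of_right_le_normalizer_left (⁅M, Subgroup.zpowers u⁆)
    (M ⊓ Subgroup.centralizer ((Subgroup.zpowers u : Subgroup G) : Set G)) hnorm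
  have hm'' : m ∈ ((⁅M, Subgroup.zpowers u⁆ ⊔
      (M ⊓ Subgroup.centralizer ((Subgroup.zpowers u : Subgroup G) : Set G)) : Subgroup G) :
      Set G) := hm'
  rw [h] at hm''
  obtain ⟨x, hx, y, hy, rfl⟩ := hm''
  have hy' := Subgroup.mem_inf.mp hy
  refine ⟨x, hx, y, hy'.1, ?_, rfl⟩
  exact ((Subgroup.mem_centralizer_iff.mp hy'.2) u (Subgroup.mem_zpowers u)).symm ▸ rfl

/-- **PIECE (13) A5.** -/
theorem a5 : A5Stmt.{u} := by
  intro G _ σ p V K c M X t t' h u hu w hw huw ou ow m hm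
  have : Finite G := h.c0.cex.fin
  have ht : t.Prime := h.c0.cex.prime t h.oth.ht
  have ht' : t'.Prime := h.c0.cex.prime t' h.oth.ht'
  have huK : u ∈ K := h.compl.le hu
  have hwK : w ∈ K := h.compl.le hw
  have hcu : t.Coprime c := by
    have := orderOf_dvd_card hu
    rw [ou] at this
    exact Nat.Coprime.coprime_dvd_left this h.compl.cop
  have hcw : t'.Coprime c := by
    have := orderOf_dvd_card hw
    rw [ow] at this
    exact Nat.Coprime.coprime_dvd_left this h.compl.cop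
  have hacop := coprime_card_of_elemAb h.c0.hc h.c0.hMe hcu
  have hbcop := coprime_card_of_elemAb h.c0.hc h.c0.hMe hcw
  have hord : orderOf (u * w) = t * t' := by
    have hc : Commute u w := huw
    have := hc.orderOf_mul_eq_mul_orderOf_of_coprime
      (by rw [ou, ow]; exact (Nat.coprime_primes ht ht').mpr h.oth.tt')
    rw [this, ou, ow]
  have hfpf : Fpf (u * w) V :=
    h.c0.kf.n1 (u * w) (K.mul_mem huK hwK) t h.oth.ht t' h.oth.ht' h.oth.tp h.oth.t'p h.oth.tt'
      (by rw [hord])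
  have hwc := w_cent_comm h.c0.shape h.c0.hMK h.c0.hMe.1 ht ht' h.oth.tt' ou ow huw
    (h.c0.hMn huK) (h.c0.hMn hwK) hacop hbcop hfpf
  obtain ⟨x, hx, y, hyM, hyu, rfl⟩ := decomp h.c0.hMe.1 ou (h.c0.hMn huK) hacop m hm
  have hxM : x ∈ M := comm_le (zpowers_le_normalizer (h.c0.hMn huK)) hx
  exact ⟨y, hyM, x, hxM, h.c0.hMe.1 x hxM y hyM, hyu, hwc x hx⟩

example : A5Stmt.{0} := a5

end Cfsg.Agent.Lib.H21.S3814C1A5
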