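import Cfsg.Agent.Lib.H8.S3814MPDefs

/-!
# S3814, block (MP): piece (10) Q

`q : QStmt` : if the `r`-subgroup `D ≤ X` has a neutral central element `z` of order `r`, then
every element of order `r` of `D` is central in `D`.
-/

set_option autoImplicit false
set_option linter.unusedSectionVars false

namespace Cfsg.Agent.Lib.H21.S3814MPQ

open Cfsg.Agent.H7.S3814Defs Cfsg.Agent.Lib.H8.S3814MP

universe u

variable {G : Type u} [Group G]

/-- a nontrivial element of a group of prime order generates it -/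
theorem mem_zpowers_of_prime {g h : G} {t : ℕ} (ht : t.Prime) (hg : orderOf g = t)
    (hh : h ∈ Subgroup.zpowers g) (h1 : h ≠ 1) : g ∈ Subgroup.zpowers h := by
  have hle : Subgroup.zpowers h ≤ Subgroup.zpowers g := Subgroup.zpowers_le.mpr hh
  have hd : orderOf h ∣ orderOf g := orderOf_dvd_of_mem_zpowers hh
  rw [hg] at hd
  have ho : orderOf h = t := by
    rcases (Nat.dvd_prime ht).mp hd with h0 | h0
    · exact absurd (orderOf_eq_one_iff.mp h0) h1
    · exact h0
  have hfin : Finite (Subgroup.zpowers g) := by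
    apply Nat.finite_of_card_ne_zero
    rw [Nat.card_zpowers, hg]
    exact ht.pos.ne'
  have heq : Subgroup.zpowers h = Subgroup.zpowers g := by
    apply Subgroup.eq_of_le_of_card_ge hle
    rw [Nat.card_zpowers, Nat.card_zpowers, hg, ho]
  rw [heq]
  exact Subgroup.mem_zpowers g

/-- elements of `⟨z, x⟩` for commuting `z`, `x` -/
theorem closure_pair {z x : G} (hzx : Commute z x) :
    ∀ e ∈ Subgroup.closure ({z, x} : Set G), ∃ a b : ℤ, e = z ^ a * x ^ b := by
  intro e he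
  induction he using Subgroup.closure_induction with
  | mem y hy =>
    rcases hy with rfl | rfl
    · exact ⟨1, 0, by simp⟩
    · exact ⟨0, 1, by simp⟩
  | one => exact ⟨0, 0, by simp⟩
  | mul y y' _ _ ih ih' =>
    obtain ⟨a, b, rfl⟩ := ih
    obtain ⟨a', b', rfl⟩ := ih'
    refine ⟨a + a', b + b', ?_⟩
    have h1 : Commute (x ^ b) (z ^ a') := (hzx.zpow_zpow a' b).symm
    calc z ^ a * x ^ b * (z ^ a' * x ^ b') = z ^ a * (x ^ b * z ^ a') * x ^ b' := by group
      _ = z ^ a * (z ^ a' * x ^ b) * x ^ b' := by rw [h1.eq]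
      _ = z ^ (a + a') * x ^ (b + b') := by rw [zpow_add, zpow_add]; group
  | inv y _ ih =>
    obtain ⟨a, b, rfl⟩ := ih
    refine ⟨-a, -b, ?_⟩
    have h1 : Commute (x ^ (-b)) (z ^ (-a)) := (hzx.zpow_zpow (-a) (-b)).symm
    calc (z ^ a * x ^ b)⁻¹ = x ^ (-b) * z ^ (-a) := by rw [mul_inv_rev, zpow_neg, zpow_neg]
      _ = z ^ (-a) * x ^ (-b) := h1.eq

/-- in a finite group integer powers are natural powers -/
theorem zpow_eq_pow [Finite G] (z : G) (a : ℤ) : ∃ n : ℕ, z ^ a = z ^ n := by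
  have h : z ^ a ∈ Subgroup.zpowers z := ⟨a, rfl⟩
  obtain ⟨n, hn⟩ := mem_powers_iff_mem_zpowers.mpr h
  exact ⟨n, hn.symm⟩

/-- colours are invariant under conjugation by elements normalising `U` -/
theorem col_of_col_conj {U : Subgroup G} {h e : G} (hU : ∀ u ∈ U, h⁻¹ * u * h ∈ U)
    (hc : Col (h * e * h⁻¹) U) : Col e U := by
  obtain ⟨v, hv, v1, hcv⟩ := hc
  refine ⟨h⁻¹ * v * h, hU v hv, ?_, ?_⟩
  · intro h1
    apply v1
    calc v = h * (h⁻¹ * v * h) * h⁻¹ := by group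
      _ = 1 := by rw [h1]; group
  · calc e * (h⁻¹ * v * h) = h⁻¹ * ((h * e * h⁻¹) * v) * h := by group
      _ = h⁻¹ * (v * (h * e * h⁻¹)) * h := by rw [hcv]
      _ = h⁻¹ * v * h * e := by group

theorem col_pow {U : Subgroup G} {e : G} (hc : Col e U) (n : ℕ) : Col (e ^ n) U := by
  obtain ⟨v, hv, v1, hcv⟩ := hc
  exact ⟨v, hv, v1, ((show Commute e v from hcv).pow_left n).eq⟩

/-- a nontrivial power of an element of prime order has the same colour -/
theorem col_of_col_pow {U : Subgroup G} {z : G} {t : ℕ} (ht : t.Prime) (hz : orderOf z = t)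
    {w : G} (hw : w ∈ Subgroup.zpowers z) (hw1 : w ≠ 1) (hc : Col w U) : Col z U := by
  obtain ⟨v, hv, v1, hcv⟩ := hc
  obtain ⟨i, hi⟩ := Subgroup.mem_zpowers_iff.mp (mem_zpowers_of_prime ht hz hw hw1)
  refine ⟨v, hv, v1, ?_⟩
  rw [← hi]
  exact ((show Commute w v from hcv).zpow_left i).eq

/-- (Q) -/
theorem q : QStmt.{u} := by
  intro hLine hK1 G _ _ r s V W X hH D hDX hDp z hzD hz hzc hzV hzW x hxD hx
  by_contra hcon
  push Not at hcon
  obtain ⟨d0, hd0D, hd0⟩ := hcon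
  have hr := hH.hr
  haveI : Fact r.Prime := ⟨hr⟩
  have hz1 : z ≠ 1 := by
    intro h
    rw [h, orderOf_one] at hz
    exact hr.one_lt.ne hz
  have hx1 : x ≠ 1 := by
    intro h
    rw [h, orderOf_one] at hx
    exact hr.one_lt.ne hx
  have hzx : Commute z x := (show Commute x z from hzc x hxD).symm
  have hxz : x ∉ Subgroup.zpowers z := by
    intro h
    obtain ⟨i, rfl⟩ := Subgroup.mem_zpowers_iff.mp h
    exact hd0 ((show Commute d0 z from hzc d0 hd0D).zpow_right i).eq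
  -- normalisation of `V`, `W` by elements of `D`
  have hnV : ∀ h ∈ X, ∀ u ∈ V, h * u * h⁻¹ ∈ V := fun h hh u hu =>
    (Subgroup.mem_normalizer_iff.mp (hH.normV hh) u).mp hu
  have hnW : ∀ h ∈ X, ∀ u ∈ W, h * u * h⁻¹ ∈ W := fun h hh u hu =>
    (Subgroup.mem_normalizer_iff.mp (hH.normW hh) u).mp hu
  have hnV' : ∀ h ∈ X, ∀ u ∈ V, h⁻¹ * u * h ∈ V := fun h hh u hu => by
    simpa using hnV h⁻¹ (X.inv_mem hh) u hu
  have hnW' : ∀ h ∈ X, ∀ u ∈ W, h⁻¹ * u * h ∈ W := fun h hh u hu => by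
    simpa using hnW h⁻¹ (X.inv_mem hh) u hu
  -- the centraliser of `x` in `D` and the normaliser condition
  let xD : ↥D := ⟨x, hxD⟩
  let C' : Subgroup ↥D := Subgroup.centralizer ({xD} : Set ↥D)
  have hC'ne : C' < ⊤ := by
    rw [lt_top_iff_ne_top]
    intro h
    have h2 : (⟨d0, hd0D⟩ : ↥D) ∈ C' := by rw [h]; exact Subgroup.mem_top _
    rw [Subgroup.mem_centralizer_singleton_iff] at h2
    exact hd0 (congrArg Subtype.val h2)
  haveI : Group.IsNilpotent ↥D := hDp.isNilpotent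
  have hnc := Group.normalizerCondition_of_isNilpotent (G := ↥D) C' hC'ne
  obtain ⟨g', hg'N, hg'C⟩ := SetLike.exists_of_lt hnc
  -- `g = g'` does not commute with `x`, and `y = g x g⁻¹` commutes with `x`
  have hgD : (g' : G) ∈ D := g'.2
  have hgx : (g' : G) * x ≠ x * (g' : G) := by
    intro h
    apply hg'C
    rw [Subgroup.mem_centralizer_singleton_iff]
    exact Subtype.ext h
  have hxC' : xD ∈ C' := by
    rw [Subgroup.mem_centralizer_singleton_iff]
  have hyC' : g' * xD * g'⁻¹ ∈ C' := (Subgroup.mem_normalizer_iff.mp hg'N xD).mp hxC'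
  set g : G := (g' : G) with hg
  set y : G := g * x * g⁻¹ with hy
  have hyx : y * x = x * y := by
    rw [Subgroup.mem_centralizer_singleton_iff] at hyC'
    exact congrArg Subtype.val hyC'
  have hyD : y ∈ D := D.mul_mem (D.mul_mem hgD hxD) (D.inv_mem hgD)
  have hyo : orderOf y = r := by
    have h := orderOf_injective ((MulAut.conj g).toMonoidHom) (MulAut.conj g).injective x
    simpa [MulAut.conj_apply, hx] using h
  have hyz : Commute z y := (show Commute y z from hzc y hyD).symm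
  have hgz : Commute g z := hzc g hgD
  by_cases hyE : y ∈ Subgroup.closure ({z, x} : Set G)
  swap
  · exact hK1 hH hr (hDX hzD) (hDX hxD) (hDX hyD) hz hx hyo hzx.eq hyz.eq hyx.symm hxz hyE
  -- the bad case: `g` normalises `⟨z, x⟩`
  obtain ⟨a, b, hab⟩ := closure_pair hzx y hyE
  obtain ⟨j, hj⟩ := zpow_eq_pow z a
  obtain ⟨k, hk⟩ := zpow_eq_pow x b
  rw [hj, hk] at hab
  have e3 : g * z * g⁻¹ = z := by rw [hgz.eq]; group
  -- conjugation by powers of `g`
  have hconj : ∀ i : ℕ, ∃ ji : ℕ, g ^ i * x * (g ^ i)⁻¹ = z ^ ji * x ^ (k ^ i) := by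
    intro i
    induction i with
    | zero => exact ⟨0, by simp⟩
    | succ i ih =>
      obtain ⟨ji, hji⟩ := ih
      refine ⟨ji + j * k ^ i, ?_⟩
      have e1 : g ^ (i + 1) * x * (g ^ (i + 1))⁻¹ = g * (g ^ i * x * (g ^ i)⁻¹) * g⁻¹ := by
        rw [pow_succ']; group
      have e2 : g * (z ^ ji * x ^ (k ^ i)) * g⁻¹
          = (g * z * g⁻¹) ^ ji * (g * x * g⁻¹) ^ (k ^ i) := by
        rw [conj_pow, conj_pow]; group
      rw [e1, hji, e2, e3, ← hy, hab, (hzx.pow_pow j k).mul_pow, ← pow_mul, ← pow_mul,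
        ← mul_assoc, ← pow_add, ← pow_succ']
  -- `x ^ k = x`
  obtain ⟨n, hn⟩ := (IsPGroup.iff_orderOf.mp hDp) g'
  have hgn : g ^ (r ^ n) = 1 := by
    have h1 : orderOf g = r ^ n := by rw [hg, Subgroup.orderOf_coe, hn]
    rw [← h1]
    exact pow_orderOf_eq_one g
  obtain ⟨jn, hjn⟩ := hconj (r ^ n)
  rw [hgn] at hjn
  have hjn' : x = z ^ jn * x ^ (k ^ (r ^ n)) := by simpa using hjn
  have hzjn : z ^ jn = 1 := by
    by_contra hne
    have h1 : z ^ jn = x * (x ^ (k ^ (r ^ n)))⁻¹ := by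
      calc z ^ jn = (z ^ jn * x ^ (k ^ (r ^ n))) * (x ^ (k ^ (r ^ n)))⁻¹ := by group
        _ = x * (x ^ (k ^ (r ^ n)))⁻¹ := by rw [← hjn']
    have h2 : z ^ jn ∈ Subgroup.zpowers x := by
      rw [h1]
      exact Subgroup.mul_mem _ (Subgroup.mem_zpowers x)
        (Subgroup.inv_mem _ (Subgroup.pow_mem _ (Subgroup.mem_zpowers x) _))
    have h3 : z ∈ Subgroup.zpowers (z ^ jn) :=
      mem_zpowers_of_prime hr hz (Subgroup.pow_mem _ (Subgroup.mem_zpowers z) _) hne
    have h4 : z ∈ Subgroup.zpowers x := (Subgroup.zpowers_le.mpr h2) h3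
    exact hxz (mem_zpowers_of_prime hr hx h4 hz1)
  have hxk : x ^ k = x := by
    have hK : x ^ (k ^ (r ^ n)) = x ^ 1 := by
      rw [pow_one]
      rw [hzjn, one_mul] at hjn'
      exact hjn'.symm
    have h1 : k ^ (r ^ n) ≡ 1 [MOD r] := by
      have h0 := pow_eq_pow_iff_modEq.mp hK
      rwa [hx] at h0
    have h2 : ((k ^ (r ^ n) : ℕ) : ZMod r) = ((1 : ℕ) : ZMod r) :=
      (ZMod.natCast_eq_natCast_iff _ _ _).mpr h1
    rw [Nat.cast_pow, ZMod.pow_card_pow] at h2
    have h3 : k ≡ 1 [MOD r] := (ZMod.natCast_eq_natCast_iff _ _ _).mp h2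
    have h4 : x ^ k = x ^ 1 := by
      apply pow_eq_pow_iff_modEq.mpr
      rw [hx]
      exact h3
    rw [h4, pow_one]
  rw [hxk] at hab
  set w0 : G := z ^ j with hw0
  have hw0z : w0 ∈ Subgroup.zpowers z := Subgroup.pow_mem _ (Subgroup.mem_zpowers z) _
  have hw01 : w0 ≠ 1 := by
    intro h
    rw [h, one_mul] at hab
    apply hgx
    calc g * x = (g * x * g⁻¹) * g := by group
      _ = x * g := by rw [← hy, hab]
  have hgw : ∀ w ∈ Subgroup.zpowers z, ∀ i : ℕ, Commute (g ^ i) w := by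
    intro w hw i
    obtain ⟨m, rfl⟩ := Subgroup.mem_zpowers_iff.mp hw
    exact (hgz.pow_left i).zpow_right m
  have hconj2 : ∀ i : ℕ, g ^ i * x * (g ^ i)⁻¹ = w0 ^ i * x := by
    intro i
    induction i with
    | zero => simp
    | succ i ih =>
      have e1 : g ^ (i + 1) * x * (g ^ (i + 1))⁻¹ = g * (g ^ i * x * (g ^ i)⁻¹) * g⁻¹ := by
        rw [pow_succ']; group
      have e4 : Commute g (w0 ^ i) := by
        have := hgw (w0 ^ i) (Subgroup.pow_mem _ hw0z i) 1
        simpa using this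
      rw [e1, ih]
      calc g * (w0 ^ i * x) * g⁻¹ = (g * w0 ^ i) * (x * g⁻¹) := by group
        _ = (w0 ^ i * g) * (x * g⁻¹) := by rw [e4.eq]
        _ = w0 ^ i * (g * x * g⁻¹) := by group
        _ = w0 ^ i * (w0 * x) := by rw [← hy, hab]
        _ = w0 ^ (i + 1) * x := by rw [pow_succ]; group
  have hzw0 : z ∈ Subgroup.zpowers w0 := mem_zpowers_of_prime hr hz hw0z hw01
  -- the colour argument
  have key : ∀ U : Subgroup G, (∀ h ∈ X, ∀ u ∈ U, h * u * h⁻¹ ∈ U) → ¬ Col z U →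
      (∃ e ∈ Subgroup.closure ({z, x} : Set G), e ≠ 1 ∧ Col e U) → Col x U := by
    intro U hU hzU ⟨e, heE, he1, hec⟩
    obtain ⟨a', b', rfl⟩ := closure_pair hzx e heE
    by_cases hxb : x ^ b' = 1
    · exfalso
      rw [hxb, mul_one] at he1 hec
      exact hzU (col_of_col_pow hr hz ⟨a', rfl⟩ he1 hec)
    · have hxin : x ∈ Subgroup.zpowers (x ^ b') := mem_zpowers_of_prime hr hx ⟨b', rfl⟩ hxb
      obtain ⟨c, hc⟩ := mem_powers_iff_mem_zpowers.mpr hxin
      have hc' : (x ^ b') ^ c = x := hc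
      have hcm : Commute (z ^ a') (x ^ b') := hzx.zpow_zpow a' b'
      have hpow : (z ^ a' * x ^ b') ^ c = (z ^ a') ^ c * x := by rw [hcm.mul_pow, hc']
      have hcol : Col ((z ^ a') ^ c * x) U := by
        rw [← hpow]
        exact col_pow hec c
      set w : G := (z ^ a') ^ c with hw
      have hwz : w ∈ Subgroup.zpowers z :=
        Subgroup.pow_mem _ (Subgroup.zpow_mem _ (Subgroup.mem_zpowers z) a') c
      have hwinv : w⁻¹ ∈ Subgroup.zpowers w0 :=
        (Subgroup.zpowers_le.mpr hzw0) (Subgroup.inv_mem _ hwz)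
      obtain ⟨i, hi⟩ := mem_powers_iff_mem_zpowers.mpr hwinv
      have hi' : w0 ^ i = w⁻¹ := hi
      have hgi : g ^ i ∈ X := hDX (D.pow_mem hgD i)
      -- `w * x = (g^i)⁻¹ * x * g^i`
      have hwx : w * x = (g ^ i)⁻¹ * x * ((g ^ i)⁻¹)⁻¹ := by
        have h1 : g ^ i * (w * x) * (g ^ i)⁻¹ = x := by
          have e5 : Commute (g ^ i) w := hgw w hwz i
          calc g ^ i * (w * x) * (g ^ i)⁻¹ = (g ^ i * w) * (x * (g ^ i)⁻¹) := by group
            _ = (w * g ^ i) * (x * (g ^ i)⁻¹) := by rw [e5.eq]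
            _ = w * (g ^ i * x * (g ^ i)⁻¹) := by group
            _ = w * (w0 ^ i * x) := by rw [hconj2 i]
            _ = x := by rw [hi']; group
        calc w * x = (g ^ i)⁻¹ * (g ^ i * (w * x) * (g ^ i)⁻¹) * ((g ^ i)⁻¹)⁻¹ := by group
          _ = (g ^ i)⁻¹ * x * ((g ^ i)⁻¹)⁻¹ := by rw [h1]
      rw [hwx] at hcol
      refine col_of_col_conj (h := (g ^ i)⁻¹) ?_ hcol
      intro u hu
      have := hU (g ^ i) hgi u hu
      simpa using this
  have hpair : IsRank2Pair r z x := ⟨hz, hx, hzx.eq, hxz⟩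
  have hcV : Col x V :=
    key V hnV hzV (hLine hH hr (hDX hzD) (hDX hxD) hpair V le_rfl hH.neV
      (fun u hu => hnV z (hDX hzD) u hu) (fun u hu => hnV x (hDX hxD) u hu))
  have hcW : Col x W :=
    key W hnW hzW (hLine hH.swapVW hr (hDX hzD) (hDX hxD) hpair W le_rfl hH.neW
      (fun u hu => hnW z (hDX hzD) u hu) (fun u hu => hnW x (hDX hxD) u hu))
  exact hH.h1 x (hDX hxD) hx1 hcV hcW

example : QStmt.{0} := q

end Cfsg.Agent.Lib.H21.S3814MPQ
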