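import Mathlib
import Cfsg.Agent.Lib.H10.S4415Defs
import Cfsg.Agent.Lib.H1.CoprimeAction
import Cfsg.Agent.Lib.H22.PPrimeCore

/-!
# S4415, FRONT block, piece F2 (helper21): the group-side fields of `LinCtx`

`K = O_{3'}(S)`, `B = ⟨b⟩` of order `3`, `R = [K, B]`: `b` has order `3`, `R ≤ K`, `|R|` is prime to
`3`, `b` normalises `R`, `[R, ⟨b⟩] = R` (coprime action) and `R` is solvable - in exactly the field
types of `Cfsg.Agent.Lib.H10.S4415.LinCtx`.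
-/

set_option autoImplicit false

namespace Cfsg.Agent.Lib.H21.S4415F2

open Cfsg.Agent.Lib.H1

variable {S : Type*} [Group S]

/-- (a) `b` has order `3`. -/
theorem b_ord (B : Subgroup S) (hB : Nat.card ↥B = 3) (b : S) (hb : Subgroup.zpowers b = B) :
    orderOf b = 3 := by
  rw [← Nat.card_zpowers, hb, hB]

/-- (b) `R ≤ K`. -/
theorem R_le_K (B : Subgroup S) : ⁅Cfsg.pPrimeCore 3 S, B⁆ ≤ Cfsg.pPrimeCore 3 S := by
  have := Cfsg.Agent.Lib.H22.pPrimeCore_normal (G := S) 3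
  exact Subgroup.commutator_le_left _ _

/-- (c) `|R|` is prime to `3`. -/
theorem R_coprime [Finite S] (B : Subgroup S) :
    (Nat.card ↥⁅Cfsg.pPrimeCore 3 S, B⁆).Coprime 3 :=
  Nat.Coprime.coprime_dvd_left (Subgroup.card_dvd_of_le (R_le_K B))
    (Cfsg.Agent.Lib.H22.card_pPrimeCore_coprime 3)

/-- the coprime action of `B` on `K` -/
theorem coprimeAction [Finite S] (B : Subgroup S) (hB : Nat.card ↥B = 3) :
    CoprimeAction B (Cfsg.pPrimeCore 3 S) := by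
  have hn := Cfsg.Agent.Lib.H22.pPrimeCore_normal (G := S) 3
  refine ⟨?_, ?_, Or.inl ?_⟩
  · rw [Subgroup.normalizer_eq_top]
    exact le_top
  · rw [hB]
    exact (Cfsg.Agent.Lib.H22.card_pPrimeCore_coprime 3).symm
  · have : Fact (Nat.Prime 3) := ⟨Nat.prime_three⟩
    have hc : IsCyclic ↥B := isCyclic_of_prime_card hB
    have := IsCyclic.commGroup (α := ↥B)
    infer_instance

/-- (d) `b` normalises `R`. -/
theorem b_norm (B : Subgroup S) (b : S) (hb : Subgroup.zpowers b = B) :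
    ∀ r ∈ ⁅Cfsg.pPrimeCore 3 S, B⁆, b * r * b⁻¹ ∈ ⁅Cfsg.pPrimeCore 3 S, B⁆ := by
  intro r hr
  have hbB : b ∈ B := hb ▸ Subgroup.mem_zpowers b
  have hbn : b ∈ Subgroup.normalizer ((⁅Cfsg.pPrimeCore 3 S, B⁆ : Subgroup S) : Set S) :=
    Subgroup.normalizer_commutator_ge_right _ _ hbB
  exact ((Subgroup.mem_normalizer_iff.1 hbn) r).1 hr

/-- (d') `K` normalises `R`. -/
theorem K_norm (B : Subgroup S) :
    ∀ k ∈ Cfsg.pPrimeCore 3 S, ∀ r ∈ ⁅Cfsg.pPrimeCore 3 S, B⁆,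
      k * r * k⁻¹ ∈ ⁅Cfsg.pPrimeCore 3 S, B⁆ := by
  intro k hk r hr
  have hkn : k ∈ Subgroup.normalizer ((⁅Cfsg.pPrimeCore 3 S, B⁆ : Subgroup S) : Set S) :=
    Subgroup.normalizer_commutator_ge_left _ _ hk
  exact ((Subgroup.mem_normalizer_iff.1 hkn) r).1 hr

/-- (e) `[R, ⟨b⟩] = R`. -/
theorem R_comm [Finite S] (B : Subgroup S) (hB : Nat.card ↥B = 3) (b : S)
    (hb : Subgroup.zpowers b = B) :
    ⁅⁅Cfsg.pPrimeCore 3 S, B⁆, Subgroup.zpowers b⁆ = ⁅Cfsg.pPrimeCore 3 S, B⁆ := by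
  rw [hb]
  exact coprime_commutator_commutator (coprimeAction B hB)

/-- (f) `R` is solvable. -/
theorem R_solv [Group.IsSolvable S] (B : Subgroup S) :
    Group.IsSolvable ↥⁅Cfsg.pPrimeCore 3 S, B⁆ :=
  inferInstance

end Cfsg.Agent.Lib.H21.S4415F2
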