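import Cfsg.Agent.Lib.H24.S4415GD

/-!
helper21: S4415 GOOD block, FourStmt parts (b) + (d), directly in the input shapes `hV` / `hT` of
helper12's `xs_of_mono`: in a monomial frame with four lines the permutation part of `R` lies in the
four-group (`hV`), and `R` is transitive on the four lines (`hT`).
-/

set_option autoImplicit false

namespace Cfsg.Agent.Lib.H21.S4415G5VT

open Cfsg.Agent.Lib.H10.S4415 Cfsg.Agent.Lib.H24.S4415G

variable {S E : Type*} [Group S] [AddCommGroup E] [Module (ZMod 3) E]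
variable {ρ : Representation (ZMod 3) S E} {R : Subgroup S} {b : S} {W : Submodule (ZMod 3) E}

/-- The combinatorial core: a permutation `σ` of four points such that `σ` and `[c, σ]` have order
prime to `3`, for some element `c` of order `3`, lies in the four-group. -/
theorem v4_core : ∀ c σ : Equiv.Perm (Fin 4), c ^ 3 = 1 → c ≠ 1 → (σ ^ 3 = 1 → σ = 1) →
    ((c * σ * c⁻¹ * σ⁻¹) ^ 3 = 1 → c * σ * c⁻¹ * σ⁻¹ = 1) →
    (∀ i, σ (σ i) = i) ∧ ((∃ i, σ i = i) → σ = 1) := by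
  decide +kernel

section frame

variable {n : ℕ} {f : Fin n → E} {φ : ↥(RB R b) → Equiv.Perm (Fin n)}

theorem phi_pow (hM : MonoFrame ρ R b W f φ) (g : ↥(RB R b)) (k : ℕ) : φ (g ^ k) = φ g ^ k :=
  map_pow (phiHom hM) g k

theorem phi_inv (hM : MonoFrame ρ R b W f φ) (g : ↥(RB R b)) : φ g⁻¹ = (φ g)⁻¹ :=
  map_inv (phiHom hM) g

/-- The permutation of an element of `R` has order dividing `|R|`. -/
theorem phi_pow_card (hM : MonoFrame ρ R b W f φ) (r : ↥(RB R b)) (hr : (r : S) ∈ R) :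
    φ r ^ Nat.card ↥R = 1 := by
  have h1 : (⟨(r : S), hr⟩ : ↥R) ^ Nat.card ↥R = 1 := pow_card_eq_one'
  have h2 : (r : S) ^ Nat.card ↥R = 1 := by
    have := congrArg (fun x : ↥R => (x : S)) h1
    simp only [Subgroup.coe_pow, Subgroup.coe_one] at this
    exact this
  have h3 : r ^ Nat.card ↥R = 1 := by
    apply Subtype.ext
    rw [Subgroup.coe_pow, h2]; rfl
  rw [← phi_pow hM, h3, phi_one hM]

/-- No permutation coming from `R` has order `3`. -/
theorem phi_ord3 (hL : LinCtx ρ R b W) (hM : MonoFrame ρ R b W f φ) (r : ↥(RB R b))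
    (hr : (r : S) ∈ R) (h3 : φ r ^ 3 = 1) : φ r = 1 := by
  have h1 : orderOf (φ r) ∣ Nat.card ↥R := orderOf_dvd_of_pow_eq_one (phi_pow_card hM r hr)
  have h2 : orderOf (φ r) ∣ 3 := orderOf_dvd_of_pow_eq_one h3
  have h4 : orderOf (φ r) ∣ Nat.gcd (Nat.card ↥R) 3 := Nat.dvd_gcd h1 h2
  have hc : Nat.gcd (Nat.card ↥R) 3 = 1 := hL.R_coprime
  rw [hc, Nat.dvd_one] at h4
  exact orderOf_eq_one_iff.mp h4

end frame

variable {f : Fin 4 → E} {φ : ↥(RB R b) → Equiv.Perm (Fin 4)}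

/-- (b) in the shape of `xs_of_mono`: the permutation part of `R` lies in the four-group. -/
theorem hV (hL : LinCtx ρ R b W) (hM : MonoFrame ρ R b W f φ) :
    ∀ r : ↥(RB R b), (r : S) ∈ R →
      (∀ i, φ r (φ r i) = i) ∧ ((∃ i, φ r i = i) → φ r = 1) := by
  intro r hr
  have hc3 : φ (bRB R b) ^ 3 = 1 := by
    rw [← hM.three.orderOf]; exact pow_orderOf_eq_one _
  have hc1 : φ (bRB R b) ≠ 1 := by
    intro h
    have := hM.three.orderOf
    rw [h, orderOf_one] at this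
    omega
  -- the commutator `b r b⁻¹ r⁻¹` lies in `R`
  have hq : ((bRB R b * r * (bRB R b)⁻¹ * r⁻¹ : ↥(RB R b)) : S) ∈ R := by
    have h1 : b * (r : S) * b⁻¹ ∈ R := hL.b_norm _ hr
    have h2 : b * (r : S) * b⁻¹ * (r : S)⁻¹ ∈ R := R.mul_mem h1 (R.inv_mem hr)
    simpa [bRB] using h2
  have hτ : φ (bRB R b * r * (bRB R b)⁻¹ * r⁻¹) = φ (bRB R b) * φ r * (φ (bRB R b))⁻¹ * (φ r)⁻¹ := by
    rw [phi_mul hM, phi_mul hM, phi_mul hM, phi_inv hM, phi_inv hM]
  refine v4_core (φ (bRB R b)) (φ r) hc3 hc1 (phi_ord3 hL hM r hr) ?_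
  intro h
  rw [← hτ] at h ⊢
  exact phi_ord3 hL hM _ hq h

/-- Every element of `R<b>` is `r * b ^ k` with `r ∈ R`. -/
theorem exists_mul_pow (hL : LinCtx ρ R b W) (g : ↥(RB R b)) :
    ∃ r : ↥(RB R b), (r : S) ∈ R ∧ ∃ k : ℕ, g = r * bRB R b ^ k := by
  classical
  have hbN : b ∈ Subgroup.normalizer (R : Set S) := by
    rw [Subgroup.mem_normalizer_iff]
    intro r
    constructor
    · intro hr; exact hL.b_norm r hr
    · intro hr
      -- `r = b² (b r b⁻¹) b⁻²` and `b² = b⁻¹`: use `b ^ 3 = 1`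
      have hb3 : b ^ 3 = 1 := by rw [← hL.b_ord]; exact pow_orderOf_eq_one b
      have h1 := hL.b_norm _ (hL.b_norm _ hr)
      have h2 : b * (b * (b * r * b⁻¹) * b⁻¹) * b⁻¹ = r := by
        have e : b * (b * (b * r * b⁻¹) * b⁻¹) * b⁻¹ = b ^ 3 * r * (b ^ 3)⁻¹ := by
          simp [pow_succ, mul_assoc]
        rw [e, hb3]; simp
      rw [← h2]; exact h1
  have hRBN : RB R b ≤ Subgroup.normalizer (R : Set S) := by
    unfold RB
    apply sup_le Subgroup.le_normalizer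
    rw [Subgroup.zpowers_le]
    exact hbN
  have hnorm : (R.subgroupOf (RB R b)).Normal := Subgroup.normal_subgroupOf_of_le_normalizer hRBN
  have htop : R.subgroupOf (RB R b) ⊔ (Subgroup.zpowers b).subgroupOf (RB R b) = ⊤ := by
    have := Subgroup.codisjoint_subgroupOf_sup R (Subgroup.zpowers b)
    rw [codisjoint_iff] at this
    exact this
  have hg : g ∈ ((R.subgroupOf (RB R b) ⊔ (Subgroup.zpowers b).subgroupOf (RB R b) :
      Subgroup ↥(RB R b)) : Set ↥(RB R b)) := by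
    rw [htop]
    trivial
  rw [Subgroup.normal_mul] at hg
  obtain ⟨r, hr, z, hz, hrz⟩ := Set.mem_mul.mp hg
  refine ⟨r, Subgroup.mem_subgroupOf.mp hr, ?_⟩
  have hz' : (z : S) ∈ Subgroup.zpowers b := Subgroup.mem_subgroupOf.mp hz
  obtain ⟨k, hk⟩ := Subgroup.mem_zpowers_iff.mp hz'
  refine ⟨(k % 3).toNat, ?_⟩
  rw [← hrz]
  congr 1
  apply Subtype.ext
  rw [Subgroup.coe_pow]
  show (z : S) = b ^ (k % 3).toNat
  have h3 : (0 : ℤ) ≤ k % 3 := Int.emod_nonneg k (by norm_num)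
  rw [← zpow_natCast, Int.toNat_of_nonneg h3, ← hk]
  have := zpow_mod_orderOf b k
  rw [hL.b_ord] at this
  exact this.symm

/-- (d) in the shape of `xs_of_mono`: `R` is transitive on the four lines. -/
theorem hT (hL : LinCtx ρ R b W) (hM : MonoFrame ρ R b W f φ) :
    ∀ i j : Fin 4, ∃ r : ↥(RB R b), (r : S) ∈ R ∧ φ r i = j := by
  -- the fixed point of the three-cycle `φ b`
  obtain ⟨p, hp⟩ : ∃ p : Fin 4, φ (bRB R b) p = p := by
    have hcard := hM.three.card_support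
    by_contra h
    push Not at h
    have : (φ (bRB R b)).support = Finset.univ := by
      rw [Finset.eq_univ_iff_forall]
      intro x
      rw [Equiv.Perm.mem_support]
      exact h x
    rw [this] at hcard
    simp at hcard
  have hpk : ∀ k : ℕ, (φ (bRB R b) ^ k) p = p := by
    intro k
    induction k with
    | zero => simp
    | succ k ih => rw [pow_succ, Equiv.Perm.mul_apply, hp, ih]
  -- the `R`-orbit of `p` is everything
  have key : ∀ i : Fin 4, ∃ r : ↥(RB R b), (r : S) ∈ R ∧ φ r p = i := by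
    intro i
    obtain ⟨g, hg⟩ := hM.trans p i
    obtain ⟨r, hr, k, rfl⟩ := exists_mul_pow hL g
    refine ⟨r, hr, ?_⟩
    rw [phi_mul hM, phi_pow hM, Equiv.Perm.mul_apply, hpk] at hg
    exact hg
  intro i j
  obtain ⟨ri, hri, hi⟩ := key i
  obtain ⟨rj, hrj, hj⟩ := key j
  refine ⟨rj * ri⁻¹, ?_, ?_⟩
  · rw [Subgroup.coe_mul, Subgroup.coe_inv]
    exact R.mul_mem hrj (R.inv_mem hri)
  · rw [phi_mul hM, phi_inv hM, Equiv.Perm.mul_apply]
    have : (φ ri)⁻¹ i = p := by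
      rw [Equiv.Perm.inv_eq_iff_eq]; exact hi.symm
    rw [this, hj]

end Cfsg.Agent.Lib.H21.S4415G5VT
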