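import Mathlib
import Cfsg.Agent.Lib.H1.QuadPair

/-! Eigenvectors for automorphisms of exponent `p - 1` of elementary abelian `p`-groups (helper21). -/

set_option autoImplicit false

namespace Cfsg.Agent.Lib.H21.SCl

open Cfsg.Agent.Lib.H1

/-- additive version -/
theorem exists_eigen_add {V : Type*} [AddCommGroup V] [Finite V] [Nontrivial V] {p : ℕ}
    [hp : Fact p.Prime] (hV : ∀ v : V, p • v = 0) (σ : V →+ V) (hσ : ∀ v, (σ^[p - 1]) v = v) :
    ∃ v : V, v ≠ 0 ∧ ∃ k : ℕ, σ v = k • v := by
  let _ : Module (ZMod p) V := AddCommGroup.zmodModule (n := p) hV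
  let f : Module.End (ZMod p) V := σ.toZModLinearMap p
  have hfpow : ∀ n : ℕ, ∀ x : V, (f ^ n) x = (σ^[n]) x := by
    intro n
    induction n with
    | zero => intro x; simp
    | succ n ih =>
      intro x
      rw [pow_succ', Module.End.mul_apply, ih, Function.iterate_succ_apply']
      rfl
  have hf : f ^ (p ^ 0 * (Fintype.card (ZMod p) - 1)) = 1 := by
    rw [pow_zero, one_mul, ZMod.card]
    apply LinearMap.ext
    intro x
    rw [hfpow, hσ]
    rfl
  haveI : FiniteDimensional (ZMod p) V := Module.Finite.of_finite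
  obtain ⟨μ, w, hw0, hw⟩ := QuadPair.exists_eigenvector (K := ZMod p) (p := p) f 0 hf
  refine ⟨w, hw0, μ.val, ?_⟩
  have h1 : μ • w = (μ.val : ℕ) • w := by
    conv_lhs => rw [← ZMod.natCast_zmod_val μ]
    rw [Nat.cast_smul_eq_nsmul]
  rw [h1] at hw
  exact hw

/-- An endomorphism `σ` with `σ ^ (p - 1) = id` of a nontrivial finite elementary abelian `p`-group
has an eigenvector. -/
theorem exists_eigen {W : Type*} [CommGroup W] [Finite W] [Nontrivial W] {p : ℕ}
    [hp : Fact p.Prime] (hW : ∀ w : W, w ^ p = 1) (σ : W →* W) (hσ : ∀ w, (σ^[p - 1]) w = w) :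
    ∃ w : W, w ≠ 1 ∧ ∃ k : ℕ, σ w = w ^ k := by
  haveI : Finite (Additive W) := inferInstanceAs (Finite W)
  haveI : Nontrivial (Additive W) := inferInstanceAs (Nontrivial W)
  obtain ⟨v, hv0, k, hk⟩ := exists_eigen_add (V := Additive W) (p := p)
    (fun x => congrArg Additive.ofMul (hW x.toMul)) (MonoidHom.toAdditive σ) (by
      intro v
      have h : ∀ n : ℕ, ∀ x : Additive W,
          ((MonoidHom.toAdditive σ)^[n]) x = Additive.ofMul ((σ^[n]) x.toMul) := by
        intro n
        induction n with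
        | zero => intro x; rfl
        | succ n ih =>
          intro x
          rw [Function.iterate_succ_apply', ih, Function.iterate_succ_apply']
          rfl
      rw [h, hσ]
      rfl)
  refine ⟨v.toMul, ?_, k, ?_⟩
  · intro h
    apply hv0
    exact congrArg Additive.ofMul h
  · exact congrArg Additive.toMul hk

/-- version for a group with a commutativity hypothesis -/
theorem exists_eigen' {W : Type*} [Group W] [Finite W] [Nontrivial W] {p : ℕ}
    [hp : Fact p.Prime] (hc : ∀ a b : W, a * b = b * a) (hW : ∀ w : W, w ^ p = 1) (σ : W →* W)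
    (hσ : ∀ w, (σ^[p - 1]) w = w) :
    ∃ w : W, w ≠ 1 ∧ ∃ k : ℕ, σ w = w ^ k := by
  letI : CommGroup W := { (inferInstance : Group W) with mul_comm := hc }
  exact exists_eigen hW σ hσ

end Cfsg.Agent.Lib.H21.SCl
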