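import Mathlib
import Cfsg.Agent.Lib.H21.SClA
import Cfsg.Agent.Lib.H9.Huppert

/-! Chief factors of order `p` inside a normal `p`-subgroup on which `G` acts through an abelian
group of exponent `p - 1` extended by a `p`-group (helper21). -/

set_option autoImplicit false

namespace Cfsg.Agent.Lib.H21.SCl

open Cfsg.Agent.Lib.H9.Huppert
open scoped commutatorElement

variable {G : Type*} [Group G] [Finite G] {p : ℕ} [hp : Fact p.Prime]

/-- `T` centralizes the minimal normal `p`-subgroup `V` if it acts on it as a `p`-group. -/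
theorem conj_eq_of_minimal {V T : Subgroup G} (hVn : V.Normal) (hTn : T.Normal)
    (hVp : IsPGroup p V) (hV1 : V ≠ ⊥)
    (hmin : ∀ W : Subgroup G, W.Normal → W ≤ V → W = ⊥ ∨ W = V)
    (hTa : ∀ y ∈ T, ∃ k : ℕ, ∀ x ∈ V, y ^ (p ^ k) * x = x * y ^ (p ^ k)) :
    ∀ t ∈ T, ∀ v ∈ V, t * v * t⁻¹ = v := by
  haveI := hVn
  haveI := hTn
  let φ : T →* MulAut V := (MulAut.conjNormal (H := V)).comp T.subtype
  have hφ : ∀ (t : T) (v : V), ((φ t) v : G) = (t : G) * v * (t : G)⁻¹ := by
    intro t v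
    rfl
  have hA : IsPGroup p φ.range := by
    rintro ⟨a, t, rfl⟩
    obtain ⟨k, hk⟩ := hTa t t.2
    refine ⟨k, ?_⟩
    apply Subtype.ext
    show (φ t) ^ (p ^ k) = 1
    rw [← map_pow]
    apply MulEquiv.ext
    intro v
    apply Subtype.ext
    rw [hφ]
    have := hk v v.2
    simp only [Subgroup.coe_pow, MulAut.one_apply]
    rw [this]
    group
  have hdvd : p ∣ Nat.card V := by
    have hnt : Nontrivial V := (Subgroup.nontrivial_iff_ne_bot V).mpr hV1
    obtain ⟨k, hk0, hk⟩ := hVp.nontrivial_iff_card.mp hnt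
    exact hk.symm ▸ dvd_pow_self _ (ne_of_gt hk0)
  have h1 : (1 : V) ∈ MulAction.fixedPoints φ.range V := by
    intro a
    show (a : MulAut V) (1 : V) = 1
    exact map_one _
  obtain ⟨b, hb, hb1⟩ := hA.exists_fixed_point_of_prime_dvd_card_of_fixed_point V hdvd h1
  let C : Subgroup G := V ⊓ Subgroup.centralizer (T : Set G)
  have hCn : C.Normal := inferInstance
  have hbC : (b : G) ∈ C := by
    refine Subgroup.mem_inf.mpr ⟨b.2, ?_⟩
    rw [Subgroup.mem_centralizer_iff]
    intro t ht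
    have h2 := hb ⟨φ ⟨t, ht⟩, ⟨⟨t, ht⟩, rfl⟩⟩
    have h3 : ((φ ⟨t, ht⟩) b : G) = b := congrArg Subtype.val h2
    rw [hφ] at h3
    have h4 : t * (b : G) * t⁻¹ * t = (b : G) * t := by rw [h3]
    rw [← h4]; group
  have hC1 : C ≠ ⊥ := by
    intro h
    rw [h, Subgroup.mem_bot] at hbC
    exact hb1 (Subtype.ext hbC).symm
  have hCV : C = V := by
    rcases hmin C hCn inf_le_left with h | h
    · exact absurd h hC1
    · exact h
  intro t ht v hv
  have hvC : v ∈ C := hCV ▸ hv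
  have := Subgroup.mem_centralizer_iff.mp (Subgroup.mem_inf.mp hvC).2 t ht
  rw [this]; group

/-- A minimal normal `p`-subgroup `V` has order `p` if `G` acts on it through an extension of a
`p`-group by an abelian group of exponent dividing `p - 1`. -/
theorem card_eq_prime_of_minimal {V T : Subgroup G} (hVn : V.Normal) (hTn : T.Normal)
    (hVp : IsPGroup p V) (hV1 : V ≠ ⊥)
    (hmin : ∀ W : Subgroup G, W.Normal → W ≤ V → W = ⊥ ∨ W = V)
    (hTa : ∀ y ∈ T, ∃ k : ℕ, ∀ x ∈ V, y ^ (p ^ k) * x = x * y ^ (p ^ k))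
    (hTb : ∀ g h : G, ⁅g, h⁆ ∈ T) (hTc : ∀ g : G, g ^ (p - 1) ∈ T) :
    Nat.card V = p := by
  have hN : MinNormalIn V V := by
    refine ⟨⟨hVn, hV1, le_rfl⟩, ?_⟩
    rintro K ⟨hKn, hK1, hKV⟩ _
    rcases hmin K hKn hKV with h | h
    · exact absurd h hK1
    · exact h.ge
  have hcomm : ∀ n ∈ V, ∀ u ∈ V, u * n = n * u := hN.central hVn hVp
  have hexp : ∀ n ∈ V, n ^ p = 1 := hN.pow_eq_one hVn hVp
  have hTV := conj_eq_of_minimal hVn hTn hVp hV1 hmin hTa
  haveI := hVn
  haveI hnt : Nontrivial V := (Subgroup.nontrivial_iff_ne_bot V).mpr hV1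
  -- each `g` acts as a power map
  have hpowmap : ∀ g : G, ∃ k : ℕ, ∀ v ∈ V, g * v * g⁻¹ = v ^ k := by
    intro g
    let σ : V →* V := (MulAut.conjNormal g : MulAut V).toMonoidHom
    have hσ1 : ∀ v : V, ((σ v : V) : G) = g * v * g⁻¹ := fun v => rfl
    have hσ : ∀ (n : ℕ) (v : V), (((σ^[n]) v : V) : G) = g ^ n * v * (g ^ n)⁻¹ := by
      intro n
      induction n with
      | zero => intro v; simp
      | succ n ih =>
        intro v
        rw [Function.iterate_succ_apply', hσ1, ih, pow_succ']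
        group
    obtain ⟨w, hw1, k, hk⟩ := exists_eigen' (p := p) (W := V)
      (fun a b => Subtype.ext (hcomm b b.2 a a.2)) (fun w => Subtype.ext (hexp w w.2)) σ
      (fun w => Subtype.ext (by rw [hσ]; exact hTV _ (hTc g) w w.2))
    let Vk : Subgroup G :=
      { carrier := {v | v ∈ V ∧ g * v * g⁻¹ = v ^ k}
        mul_mem' := by
          rintro a b ⟨ha, hak⟩ ⟨hb, hbk⟩
          refine ⟨V.mul_mem ha hb, ?_⟩
          have hc : Commute a b := hcomm b hb a ha
          rw [hc.mul_pow, ← hak, ← hbk]; group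
        one_mem' := ⟨V.one_mem, by simp⟩
        inv_mem' := by
          rintro a ⟨ha, hak⟩
          refine ⟨V.inv_mem ha, ?_⟩
          rw [inv_pow, ← hak]; group }
    have hVkmem : ∀ v, v ∈ Vk ↔ v ∈ V ∧ g * v * g⁻¹ = v ^ k := fun v => Iff.rfl
    have hVkn : Vk.Normal := by
      constructor
      intro v hv h
      rw [hVkmem] at hv ⊢
      refine ⟨hVn.conj_mem v hv.1 h, ?_⟩
      have hc : ⁅g⁻¹, h⁻¹⁆ ∈ T := hTb _ _
      have h1 := hTV _ hc v hv.1
      have h2 : g * (h * v * h⁻¹) * g⁻¹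
          = h * (g * (⁅g⁻¹, h⁻¹⁆ * v * ⁅g⁻¹, h⁻¹⁆⁻¹) * g⁻¹) * h⁻¹ := by
        rw [commutatorElement_def]; group
      rw [h2, h1, hv.2]
      simpa using (map_pow (MulAut.conj h) v k)
    have hVk1 : Vk ≠ ⊥ := by
      intro h
      have hwk : (w : G) ∈ Vk := by
        rw [hVkmem]
        refine ⟨w.2, ?_⟩
        have := congrArg Subtype.val hk
        rw [hσ1] at this
        rw [this]; simp
      rw [h, Subgroup.mem_bot] at hwk
      exact hw1 (Subtype.ext hwk)
    have hVkV : Vk = V := by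
      rcases hmin Vk hVkn (fun v hv => ((hVkmem v).mp hv).1) with h | h
      · exact absurd h hVk1
      · exact h
    refine ⟨k, fun v hv => ?_⟩
    have : v ∈ Vk := hVkV ▸ hv
    exact ((hVkmem v).mp this).2
  -- conclusion
  obtain ⟨w, hw1⟩ := exists_ne (1 : V)
  have hw1' : (w : G) ≠ 1 := fun h => hw1 (Subtype.ext h)
  have hzn : (Subgroup.zpowers (w : G)).Normal := by
    constructor
    intro v hv g
    obtain ⟨n, rfl⟩ := Subgroup.mem_zpowers_iff.mp hv
    obtain ⟨k, hk⟩ := hpowmap g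
    have h1 : g * (w : G) ^ n * g⁻¹ = (g * (w : G) * g⁻¹) ^ n := by
      simpa using (map_zpow (MulAut.conj g) (w : G) n)
    rw [h1, hk _ w.2]
    exact Subgroup.zpow_mem _ (Subgroup.pow_mem _ (Subgroup.mem_zpowers _) k) n
  have hzV : Subgroup.zpowers (w : G) ≤ V := (Subgroup.zpowers_le).mpr w.2
  have hz1 : Subgroup.zpowers (w : G) ≠ ⊥ := by
    rw [Ne, Subgroup.zpowers_eq_bot]; exact hw1'
  have hzeq : Subgroup.zpowers (w : G) = V := by
    rcases hmin _ hzn hzV with h | h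
    · exact absurd h hz1
    · exact h
  rw [← hzeq, Nat.card_zpowers]
  exact orderOf_eq_prime (hexp _ w.2) hw1'

end Cfsg.Agent.Lib.H21.SCl
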