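import Mathlib
import Cfsg.Agent.Lib.H21.SClB
import Cfsg.Agent.Lib.H21.HSubF
import Cfsg.Agent.Lib.H3.Supersolvable4

/-! Chief factors in quotient form and the maximal-subgroup criterion (helper21). -/

set_option autoImplicit false

namespace Cfsg.Agent.Lib.H21.SCl

open Cfsg.Agent.Lib.H9.Huppert Cfsg.Agent.Lib.H3 Cfsg.Agent.Lib.H21.HSub
open scoped commutatorElement

variable {G : Type*} [Group G] [Finite G] {p : ℕ} [hp : Fact p.Prime]

/-- A chief factor `P / U` inside a normal `p`-subgroup has order `p` under the `T`-hypotheses. -/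
theorem relIndex_eq_prime_of_chief {P U T : Subgroup G} (hPn : P.Normal) (hUn : U.Normal)
    (hTn : T.Normal) (hP : IsPGroup p P) (hUP : U < P)
    (hmin : ∀ W : Subgroup G, W.Normal → U ≤ W → W ≤ P → W = U ∨ W = P)
    (hTa : ∀ y ∈ T, ∃ k : ℕ, ∀ x ∈ P, y ^ (p ^ k) * x = x * y ^ (p ^ k))
    (hTb : ∀ g h : G, ⁅g, h⁆ ∈ T) (hTc : ∀ g : G, g ^ (p - 1) ∈ T) :
    U.relIndex P = p := by
  haveI := hUn
  have hsurj := QuotientGroup.mk'_surjective U
  have hker : (QuotientGroup.mk' U).ker = U := QuotientGroup.ker_mk' U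
  have hcomap : (P.map (QuotientGroup.mk' U)).comap (QuotientGroup.mk' U) = P := by
    rw [Subgroup.comap_map_eq, hker, sup_eq_left.mpr hUP.le]
  have hcard : Nat.card (P.map (QuotientGroup.mk' U)) = p := by
    apply card_eq_prime_of_minimal (T := T.map (QuotientGroup.mk' U)) (hPn.map _ hsurj)
      (hTn.map _ hsurj) (hP.map _)
    · intro h
      rw [Subgroup.map_eq_bot_iff, hker] at h
      exact not_le_of_gt hUP h
    · intro W hWn hWV
      have h1 : U ≤ W.comap (QuotientGroup.mk' U) := by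
        have := Subgroup.ker_le_comap (QuotientGroup.mk' U) W
        rwa [hker] at this
      have h2 : W.comap (QuotientGroup.mk' U) ≤ P := by
        rw [← hcomap]
        exact Subgroup.comap_mono hWV
      rcases hmin _ (hWn.comap _) h1 h2 with h | h
      · left
        rw [← Subgroup.map_comap_eq_self_of_surjective hsurj W, h, Subgroup.map_eq_bot_iff, hker]
      · right
        rw [← Subgroup.map_comap_eq_self_of_surjective hsurj W, h]
    · rintro _ ⟨y, hy, rfl⟩
      obtain ⟨k, hk⟩ := hTa y hy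
      refine ⟨k, ?_⟩
      rintro _ ⟨x, hx, rfl⟩
      rw [← map_pow, ← map_mul, ← map_mul, hk x hx]
    · intro g h
      obtain ⟨g, rfl⟩ := hsurj g
      obtain ⟨h, rfl⟩ := hsurj h
      rw [← map_commutatorElement]
      exact Subgroup.mem_map_of_mem _ (hTb g h)
    · intro g
      obtain ⟨g, rfl⟩ := hsurj g
      rw [← map_pow]
      exact Subgroup.mem_map_of_mem _ (hTc g)
  have h1 := card_comap_mk' U (P.map (QuotientGroup.mk' U))
  rw [hcomap, hcard] at h1
  have h2 := card_mul_relIndex_of_le hUP.le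
  rw [h1, mul_comm] at h2
  exact Nat.eq_of_mul_eq_mul_right Nat.card_pos h2

/-- A maximal subgroup not containing the normal `p`-subgroup `P` cuts out a chief factor. -/
theorem coatom_inf {P M : Subgroup G} (hPn : P.Normal) (hP : IsPGroup p P) (hM : IsCoatom M)
    (hPM : ¬ P ≤ M) :
    (P ⊓ M).Normal ∧ P ⊓ M < P ∧
      (∀ W : Subgroup G, W.Normal → P ⊓ M ≤ W → W ≤ P → W = P ⊓ M ∨ W = P) ∧
      M.index = (P ⊓ M).relIndex P := by
  have hUP : P ⊓ M < P := lt_of_le_of_ne inf_le_left (fun h => hPM (h ▸ inf_le_right))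
  have hsup : P ⊔ M = ⊤ := by
    apply hM.2
    apply lt_of_le_of_ne le_sup_right
    intro h
    exact hPM (h ▸ le_sup_left)
  have hUn : (P ⊓ M).Normal := by
    rw [← Subgroup.normalizer_eq_top_iff]
    obtain ⟨u, huP, huN, hu⟩ := exists_mem_normalizer_not_mem hP hUP
    have hMN : M ≤ Subgroup.normalizer ((P ⊓ M : Subgroup G) : Set G) := by
      intro m hm
      rw [Subgroup.mem_normalizer_iff]
      intro x
      constructor
      · rintro ⟨h1, h2⟩
        exact ⟨hPn.conj_mem x h1 m, M.mul_mem (M.mul_mem hm h2) (M.inv_mem hm)⟩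
      · rintro ⟨h1, h2⟩
        refine ⟨?_, ?_⟩
        · have := hPn.conj_mem _ h1 m⁻¹
          simpa [mul_assoc] using this
        · have := M.mul_mem (M.mul_mem (M.inv_mem hm) h2) hm
          simpa [mul_assoc] using this
    apply hM.2
    apply lt_of_le_of_ne hMN
    intro h
    apply hu
    exact ⟨huP, h ▸ huN⟩
  refine ⟨hUn, hUP, ?_, ?_⟩
  · intro W hWn hUW hWP
    by_cases hWM : W ≤ M
    · left
      exact le_antisymm (le_inf hWP hWM) hUW
    · right
      have hsupW : W ⊔ M = ⊤ := by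
        apply hM.2
        apply lt_of_le_of_ne le_sup_right
        intro h
        exact hWM (h ▸ le_sup_left)
      apply le_antisymm hWP
      intro x hx
      have hx' : x ∈ W ⊔ M := by rw [hsupW]; trivial
      haveI := hWn
      obtain ⟨w, hw, m, hm, rfl⟩ := Subgroup.mem_sup_of_normal_left.mp hx'
      have hmP : m ∈ P := by
        have := P.mul_mem (P.inv_mem (hWP hw)) hx
        simpa using this
      exact W.mul_mem hw (hUW ⟨hmP, hm⟩)
  · haveI := hPn
    have h1 : P.index = (P ⊓ M).relIndex M := by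
      rw [Subgroup.inf_relIndex_right, ← Subgroup.relIndex_sup_left M P, hsup,
        Subgroup.relIndex_top_right]
    have h2 := card_mul_relIndex_of_le (inf_le_left : P ⊓ M ≤ P)
    have h3 := card_mul_relIndex_of_le (inf_le_right : P ⊓ M ≤ M)
    have h4 := P.card_mul_index
    have h5 := M.card_mul_index
    rw [h1, ← h2, ← h5, ← h3] at h4
    have hpos1 : 0 < Nat.card (P ⊓ M : Subgroup G) := Nat.card_pos
    have hpos2 : 0 < (P ⊓ M).relIndex M := by
      apply Nat.pos_of_ne_zero
      intro h0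
      rw [h0, mul_zero] at h3
      exact absurd h3.symm Nat.card_pos.ne'
    have h6 : Nat.card (P ⊓ M : Subgroup G) * (P ⊓ M).relIndex M * (P ⊓ M).relIndex P
        = Nat.card (P ⊓ M : Subgroup G) * (P ⊓ M).relIndex M * M.index := by
      rw [← h4]; ring
    exact (Nat.eq_of_mul_eq_mul_left (Nat.mul_pos hpos1 hpos2) h6).symm

/-- A maximal subgroup containing `P` has prime index if `G / P` is supersolvable. -/
theorem index_prime_of_le {P M : Subgroup G} [hPn : P.Normal]
    (hGP : SSReach (⊤ : Subgroup (G ⧸ P))) (hM : IsCoatom M) (hPM : P ≤ M) : M.index.Prime := by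
  have hker : (QuotientGroup.mk' P).ker ≤ M := by rw [QuotientGroup.ker_mk']; exact hPM
  have h1 := isCoatom_map_of_surjective (QuotientGroup.mk'_surjective P) hker hM
  have h2 := index_prime_of_isCoatom_of_ssReach hGP h1
  rwa [Subgroup.index_map_eq _ (QuotientGroup.mk'_surjective P) hker] at h2

/-- Supersolvability from the `T`-hypotheses. -/
theorem ssReach_top_of_T {P T : Subgroup G} (hPn : P.Normal) (hTn : T.Normal) (hP : IsPGroup p P)
    (hGP : haveI := hPn; SSReach (⊤ : Subgroup (G ⧸ P)))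
    (hTa : ∀ y ∈ T, ∃ k : ℕ, ∀ x ∈ P, y ^ (p ^ k) * x = x * y ^ (p ^ k))
    (hTb : ∀ g h : G, ⁅g, h⁆ ∈ T) (hTc : ∀ g : G, g ^ (p - 1) ∈ T) :
    SSReach (⊤ : Subgroup G) := by
  haveI := hPn
  apply huppert _ G rfl
  intro M hM
  by_cases hPM : P ≤ M
  · exact index_prime_of_le hGP hM hPM
  · obtain ⟨hUn, hUP, hmin, hidx⟩ := coatom_inf hPn hP hM hPM
    rw [hidx, relIndex_eq_prime_of_chief hPn hUn hTn hP hUP hmin hTa hTb hTc]
    exact hp.out

end Cfsg.Agent.Lib.H21.SCl
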