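import Mathlib
import Cfsg.Agent.Lib.H21.SClC
import Cfsg.Agent.Lib.H21.CPairI
import Cfsg.Agent.S0120

/-! Normal `p`-subgroups all of whose subgroups of order `p` are normal (`p` odd) (helper21). -/

set_option autoImplicit false

namespace Cfsg.Agent.Lib.H21.SCl

open Cfsg.Agent.Lib.H9.Huppert Cfsg.Agent.Lib.H3 Cfsg.Agent.Lib.H21.HSub Cfsg.Agent.Lib.H21.CPair
open scoped commutatorElement

variable {G : Type*} [Group G] [Finite G] {p : ℕ} [hp : Fact p.Prime]

omit [Finite G] in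
/-- from centralization by `p'`-elements to the `p`-power form -/
theorem exists_pow_comm_of_coprime [Finite G] {P T : Subgroup G}
    (h : ∀ y ∈ T, Nat.Coprime (orderOf y) p → ∀ x ∈ P, y * x = x * y) :
    ∀ y ∈ T, ∃ k : ℕ, ∀ x ∈ P, y ^ (p ^ k) * x = x * y ^ (p ^ k) := by
  intro y hy
  obtain ⟨k, m, hm, hkm⟩ :=
    Nat.exists_eq_pow_mul_and_not_dvd (orderOf_pos y).ne' p hp.out.ne_one
  have hpk : 0 < p ^ k := pow_pos hp.out.pos k
  refine ⟨k, h _ (T.pow_mem hy _) ?_⟩
  have ho : orderOf (y ^ p ^ k) = m := by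
    rw [orderOf_pow' _ hpk.ne', hkm, Nat.gcd_eq_right (Dvd.intro _ rfl)]
    exact Nat.mul_div_cancel_left m hpk
  rw [ho]
  exact ((Nat.Prime.coprime_iff_not_dvd hp.out).2 hm).symm

/-- the centralizer of the elements of order dividing `p` in `P` -/
def omegaCent (p : ℕ) (P : Subgroup G) : Subgroup G :=
  Subgroup.centralizer {x | x ∈ P ∧ x ^ p = 1}

omit [Finite G] hp in
theorem mem_omegaCent {P : Subgroup G} {t : G} :
    t ∈ omegaCent p P ↔ ∀ x ∈ P, x ^ p = 1 → x * t = t * x := by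
  unfold omegaCent
  rw [Subgroup.mem_centralizer_iff]
  constructor
  · intro h x hx hxp
    exact h x ⟨hx, hxp⟩
  · rintro h x ⟨hx, hxp⟩
    exact h x hx hxp

omit [Finite G] hp in
theorem omegaCent_normal {P : Subgroup G} (hPn : P.Normal) : (omegaCent p P).Normal := by
  constructor
  intro t ht g
  rw [mem_omegaCent] at ht ⊢
  intro x hx hxp
  have h1 : g⁻¹ * x * g ∈ P := by
    have := hPn.conj_mem x hx g⁻¹
    simpa using this
  have h2 : (g⁻¹ * x * g) ^ p = 1 := by
    have : (g⁻¹ * x * g) ^ p = g⁻¹ * x ^ p * g := by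
      simpa using (map_pow (MulAut.conj g⁻¹) x p).symm
    rw [this, hxp]; group
  have h3 := ht _ h1 h2
  calc x * (g * t * g⁻¹) = g * ((g⁻¹ * x * g) * t) * g⁻¹ := by group
    _ = g * (t * (g⁻¹ * x * g)) * g⁻¹ := by rw [h3]
    _ = g * t * g⁻¹ * x := by group

/-- `p'`-elements of `omegaCent` centralize `P` (`p` odd). -/
theorem comm_of_mem_omegaCent {P : Subgroup G} (hp2 : p ≠ 2) (hPn : P.Normal)
    (hP : IsPGroup p P) {y : G} (hy : y ∈ omegaCent p P) (hyo : Nat.Coprime (orderOf y) p) :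
    ∀ x ∈ P, y * x = x * y := by
  haveI := hPn
  let a : MulAut P := MulAut.conjNormal y
  have ha1 : ∀ x : P, ((a x : P) : G) = y * x * y⁻¹ := fun x => rfl
  have hdvd : orderOf a ∣ orderOf y := by
    apply orderOf_dvd_of_pow_eq_one
    show (MulAut.conjNormal y : MulAut P) ^ orderOf y = 1
    rw [← map_pow, pow_orderOf_eq_one, map_one]
  have hcop : Nat.Coprime (orderOf a) p := Nat.Coprime.coprime_dvd_left hdvd hyo
  have hfix : ∀ x : P, x ^ p = 1 → a x = x := by
    intro x hx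
    apply Subtype.ext
    rw [ha1]
    have hx' : (x : G) ^ p = 1 := by
      have := congrArg Subtype.val hx
      simpa using this
    have := mem_omegaCent.mp hy x x.2 hx'
    rw [← this]; group
  have h1 := Cfsg.Agent.S0120.result hp2 hP a hcop hfix
  intro x hx
  have h2 : ((a ⟨x, hx⟩ : P) : G) = x := by rw [h1]; rfl
  rw [ha1] at h2
  calc y * x = (y * x * y⁻¹) * y := by group
    _ = x * y := by rw [h2]

omit [Finite G] in
/-- commutators lie in `omegaCent` if all subgroups of order `p` of `P` are normal -/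
theorem commutator_mem_omegaCent {P : Subgroup G}
    (hO : ∀ x ∈ P, x ^ p = 1 → (Subgroup.zpowers x).Normal) (g h : G) :
    ⁅g, h⁆ ∈ omegaCent p P := by
  rw [mem_omegaCent]
  intro x hx hxp
  have hn := hO x hx hxp
  have key : ∀ u v : G, (u * v) * x * (u * v)⁻¹ = (v * u) * x * (v * u)⁻¹ := by
    intro u v
    obtain ⟨a, ha⟩ := Subgroup.mem_zpowers_iff.mp (hn.conj_mem x (Subgroup.mem_zpowers x) u)
    obtain ⟨b, hb⟩ := Subgroup.mem_zpowers_iff.mp (hn.conj_mem x (Subgroup.mem_zpowers x) v)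
    have h1 : (u * v) * x * (u * v)⁻¹ = u * (v * x * v⁻¹) * u⁻¹ := by group
    have h2 : (v * u) * x * (v * u)⁻¹ = v * (u * x * u⁻¹) * v⁻¹ := by group
    rw [h1, h2, ← ha, ← hb, conj_zpow_of_conj_eq ha.symm, conj_zpow_of_conj_eq hb.symm, mul_comm]
  have h3 := commute_of_conj_eq (key h⁻¹ g⁻¹)
  have h4 : (h⁻¹ * g⁻¹)⁻¹ * (g⁻¹ * h⁻¹) = ⁅g, h⁆ := by
    rw [commutatorElement_def]; group
  rw [h4] at h3
  exact h3.symm

omit [Finite G] in
/-- `(p-1)`-st powers lie in `omegaCent` if all subgroups of order `p` of `P` are normal -/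
theorem pow_pred_mem_omegaCent {P : Subgroup G}
    (hO : ∀ x ∈ P, x ^ p = 1 → (Subgroup.zpowers x).Normal) (g : G) :
    g ^ (p - 1) ∈ omegaCent p P := by
  rw [mem_omegaCent]
  intro x hx hxp
  by_cases hx1 : x = 1
  · rw [hx1]; simp
  have hn := hO x hx hxp
  have ho : orderOf x = p := orderOf_eq_prime hxp hx1
  have h1 := conj_pow_pred_eq hp.out ho (hn.conj_mem x (Subgroup.mem_zpowers x) g)
  calc x * g ^ (p - 1) = (g ^ (p - 1) * x * (g ^ (p - 1))⁻¹)  * g ^ (p - 1) := by rw [h1]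
    _ = g ^ (p - 1) * x := by group

/-- **`d = 1`, `p` odd**: if all subgroups of order `p` of the normal `p`-subgroup `P` are normal
in `G` and `G / P` is supersolvable then `G` is supersolvable. -/
theorem ssReach_top_of_prime_normal {P : Subgroup G} (hp2 : p ≠ 2) (hPn : P.Normal)
    (hP : IsPGroup p P) (hGP : haveI := hPn; SSReach (⊤ : Subgroup (G ⧸ P)))
    (hO : ∀ x ∈ P, x ^ p = 1 → (Subgroup.zpowers x).Normal) : SSReach (⊤ : Subgroup G) := by
  apply ssReach_top_of_T hPn (omegaCent_normal (p := p) hPn) hP hGP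
  · apply exists_pow_comm_of_coprime
    intro y hy hyo
    exact comm_of_mem_omegaCent hp2 hPn hP hy hyo
  · exact commutator_mem_omegaCent hO
  · exact pow_pred_mem_omegaCent hO

end Cfsg.Agent.Lib.H21.SCl
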