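import Mathlib
import Cfsg.Agent.Lib.H21.SClD
import Cfsg.Agent.Lib.H21.HSubC
import Cfsg.Agent.Lib.L0.TransferPC
import Cfsg.Agent.S3031

/-! Normal `2`-subgroups all of whose subgroups of a fixed order are normal (helper21). -/

set_option autoImplicit false

namespace Cfsg.Agent.Lib.H21.SCl

open Cfsg.Agent.Lib.H9.Huppert Cfsg.Agent.Lib.H3 Cfsg.Agent.Lib.H21.HSub Cfsg.Agent.Lib.H21.CPair
open Cfsg.Agent.Lib.L0
open scoped commutatorElement

variable {G : Type*} [Group G] [Finite G] {p : ℕ} [hp : Fact p.Prime]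

/-- In a group with a normal `p`-complement, `p'`-elements centralize normal `p`-subgroups. -/
theorem comm_of_hnpc {P : Subgroup G} (hPn : P.Normal) (hP : IsPGroup p P)
    (h : Cfsg.HasNormalPComplement p G) {y : G} (hy : Nat.Coprime (orderOf y) p) :
    ∀ x ∈ P, y * x = x * y := by
  obtain ⟨N, hNn, hpN, k, hk⟩ := HasNormalPComplement.exists_normal h
  haveI := hNn
  have hyN : y ∈ N := mem_of_coprime_orderOf_of_index_pow N k hk y hy
  intro x hx
  have h1 : y * x * y⁻¹ * x⁻¹ ∈ N := by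
    have h2 : x * y⁻¹ * x⁻¹ ∈ N := hNn.conj_mem _ (N.inv_mem hyN) x
    have h3 : y * x * y⁻¹ * x⁻¹ = y * (x * y⁻¹ * x⁻¹) := by group
    rw [h3]; exact N.mul_mem hyN h2
  have h2 : y * x * y⁻¹ * x⁻¹ ∈ P := P.mul_mem (hPn.conj_mem x hx y) (P.inv_mem hx)
  have h3 : y * x * y⁻¹ * x⁻¹ = 1 := by
    obtain ⟨j, hj⟩ := (hP.to_le le_rfl).exists_card_eq
    have h4 : orderOf (y * x * y⁻¹ * x⁻¹) ∣ Nat.card P := by
      have := orderOf_dvd_natCard (⟨_, h2⟩ : P)
      rwa [Subgroup.orderOf_mk] at this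
    have h5 : orderOf (y * x * y⁻¹ * x⁻¹) ∣ Nat.card N := by
      have := orderOf_dvd_natCard (⟨_, h1⟩ : N)
      rwa [Subgroup.orderOf_mk] at this
    have hcop : Nat.Coprime (Nat.card P) (Nat.card N) := by
      rw [hj]
      exact (((Nat.Prime.coprime_iff_not_dvd hp.out).2 hpN)).pow_left j
    have := Nat.dvd_gcd h4 h5
    rw [hcop.gcd_eq_one, Nat.dvd_one] at this
    exact orderOf_eq_one_iff.mp this
  calc y * x = (y * x * y⁻¹ * x⁻¹) * x * y := by group
    _ = x * y := by rw [h3, one_mul]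

/-- **`p = 2`**: elements of odd order centralize `P`. -/
theorem comm_of_two {P : Subgroup G} (hPn : P.Normal) (hP : IsPGroup 2 P) {d : ℕ} (hd : 1 ≤ d)
    (hdP : 2 ^ d < Nat.card P)
    (hO : ∀ F : Subgroup G, F ≤ P → (Nat.card F = 2 ^ d ∨ (2 ^ d = 2 ∧ Nat.card F = 4)) →
      F.Normal)
    {y : G} (hy : Nat.Coprime (orderOf y) 2) : ∀ x ∈ P, y * x = x * y := by
  haveI : Fact (Nat.Prime 2) := ⟨Nat.prime_two⟩
  haveI := hPn
  obtain ⟨H, hH⟩ : ∃ H : Subgroup G, H = P ⊔ Subgroup.zpowers y := ⟨_, rfl⟩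
  have hPH : P ≤ H := hH ▸ le_sup_left
  have hyH : y ∈ H := hH ▸ (le_sup_right : Subgroup.zpowers y ≤ _) (Subgroup.mem_zpowers y)
  have hPHp : IsPGroup 2 (P.subgroupOf H) :=
    hP.comap_of_injective H.subtype H.subtype_injective
  have hidx : (P.subgroupOf H).index ∣ orderOf y := by
    show P.relIndex H ∣ orderOf y
    rw [hH, Subgroup.relIndex_sup_left, ← Nat.card_zpowers]
    exact Subgroup.relIndex_dvd_card _ _
  have hodd : ¬ 2 ∣ (P.subgroupOf H).index := by
    intro h2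
    have := Nat.dvd_gcd (h2.trans hidx) (dvd_refl 2)
    rw [hy.gcd_eq_one] at this
    omega
  let S : Sylow 2 H := hPHp.toSylow hodd
  have hS : (S : Subgroup H) = P.subgroupOf H := hPHp.toSylow_coe hodd
  have hcardS : Nat.card (P.subgroupOf H) = Nat.card P :=
    Nat.card_congr (Subgroup.subgroupOfEquivOfLe hPH).toEquiv
  have hcardmap : ∀ E : Subgroup H, Nat.card (E.map H.subtype) = Nat.card E := fun E =>
    Subgroup.card_map_of_injective H.subtype_injective
  have hdiv : 2 ∣ Nat.card H := by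
    have h1 : 2 ∣ Nat.card P := by
      obtain ⟨j, hj⟩ := hP.exists_card_eq
      rw [hj]
      apply dvd_pow_self
      rintro rfl
      rw [pow_zero] at hj
      have : 2 ^ 1 ≤ 2 ^ d := Nat.pow_le_pow_right (by norm_num) hd
      omega
    exact h1.trans (Subgroup.card_dvd_of_le hPH)
  have hnpc : Cfsg.HasNormalPComplement 2 H := by
    apply Cfsg.Agent.S3031.result hdiv (fun q hq _ => hq.two_le) S
    right
    obtain ⟨D, -, hDS, hDcard⟩ := exists_between (p := 2) (G := H) (C := ⊥) (S := P.subgroupOf H)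
      hPHp bot_le (m := d) (by rw [Subgroup.card_bot]; exact Nat.one_le_two_pow)
      (by rw [hcardS]; exact hdP.le)
    refine ⟨D, hS ▸ hDS, ?_, ?_, ?_⟩
    · rw [hDcard]
      calc 1 < 2 ^ 1 := by norm_num
        _ ≤ 2 ^ d := Nat.pow_le_pow_right (by norm_num) hd
    · rw [hDcard, hS, hcardS]; exact hdP
    · intro E hE hEcard g
      have hEP : E.map H.subtype ≤ P := by
        rintro _ ⟨e, he, rfl⟩
        have := hS ▸ hE he
        exact Subgroup.mem_subgroupOf.mp this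
      have hEn : (E.map H.subtype).Normal := by
        apply hO _ hEP
        rw [hcardmap]
        rcases hEcard with h1 | ⟨h1, h2⟩
        · left; rw [h1, hDcard]
        · right; exact ⟨by rw [← hDcard, h1], h2⟩
      refine inf_le_left.trans ?_
      rintro _ ⟨e, he, rfl⟩
      have h1 : ((g : G) * (e : G) * (g : G)⁻¹) ∈ E.map H.subtype :=
        hEn.conj_mem _ ⟨e, he, rfl⟩ g
      obtain ⟨e', he', hee'⟩ := h1
      have : e' = g * e * g⁻¹ := Subtype.ext (by simpa using hee')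
      show g * e * g⁻¹ ∈ E
      rw [← this]; exact he'
  have hPHn : (P.subgroupOf H).Normal := Subgroup.normal_subgroupOf
  have hyo : Nat.Coprime (orderOf (⟨y, hyH⟩ : H)) 2 := by
    rw [Subgroup.orderOf_mk]; exact hy
  intro x hx
  have := comm_of_hnpc hPHn hPHp hnpc hyo ⟨x, hPH hx⟩ (Subgroup.mem_subgroupOf.mpr hx)
  exact congrArg Subtype.val this

/-- **`p = 2`**: supersolvability. -/
theorem ssReach_top_of_two {P : Subgroup G} (hPn : P.Normal) (hP : IsPGroup 2 P) {d : ℕ}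
    (hd : 1 ≤ d) (hdP : 2 ^ d < Nat.card P)
    (hGP : haveI := hPn; SSReach (⊤ : Subgroup (G ⧸ P)))
    (hO : ∀ F : Subgroup G, F ≤ P → (Nat.card F = 2 ^ d ∨ (2 ^ d = 2 ∧ Nat.card F = 4)) →
      F.Normal) : SSReach (⊤ : Subgroup G) := by
  haveI : Fact (Nat.Prime 2) := ⟨Nat.prime_two⟩
  apply ssReach_top_of_T (p := 2) (T := ⊤) hPn inferInstance hP hGP
  · apply exists_pow_comm_of_coprime
    intro y _ hyo
    exact comm_of_two hPn hP hd hdP hO hyo
  · intro g h; trivial
  · intro g; trivial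

end Cfsg.Agent.Lib.H21.SCl
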