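import Mathlib
import Cfsg.Agent.Lib.H21.SClE
import Cfsg.Agent.Lib.H3.SSHall

/-! Normal `p`-subgroups (`p` odd) all of whose subgroups of a fixed order are normal (helper21). -/

set_option autoImplicit false

namespace Cfsg.Agent.Lib.H21.SCl

open Cfsg.Agent.Lib.H9.Huppert Cfsg.Agent.Lib.H3 Cfsg.Agent.Lib.H21.HSub Cfsg.Agent.Lib.H21.CPair
open scoped commutatorElement

variable {G : Type*} [Group G] [Finite G] {p : ℕ} [hp : Fact p.Prime]

omit [Finite G] hp in
/-- a chief factor becomes a minimal normal subgroup of the quotient -/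
theorem map_minimal {P U : Subgroup G} (hUn : U.Normal) (hUP : U < P)
    (hmin : ∀ W : Subgroup G, W.Normal → U ≤ W → W ≤ P → W = U ∨ W = P) :
    haveI := hUn
    P.map (QuotientGroup.mk' U) ≠ ⊥ ∧ ∀ W : Subgroup (G ⧸ U), W.Normal →
      W ≤ P.map (QuotientGroup.mk' U) → W = ⊥ ∨ W = P.map (QuotientGroup.mk' U) := by
  haveI := hUn
  have hsurj := QuotientGroup.mk'_surjective U
  have hker : (QuotientGroup.mk' U).ker = U := QuotientGroup.ker_mk' U
  have hcomap : (P.map (QuotientGroup.mk' U)).comap (QuotientGroup.mk' U) = P := by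
    rw [Subgroup.comap_map_eq, hker, sup_eq_left.mpr hUP.le]
  constructor
  · intro h
    rw [Subgroup.map_eq_bot_iff, hker] at h
    exact not_le_of_gt hUP h
  · intro W hWn hWV
    have h1 : U ≤ W.comap (QuotientGroup.mk' U) := by
      have := Subgroup.ker_le_comap (QuotientGroup.mk' U) W
      rwa [hker] at this
    have h2 : W.comap (QuotientGroup.mk' U) ≤ P := by
      rw [← hcomap]
      exact Subgroup.comap_mono hWV
    rcases hmin _ (hWn.comap _) h1 h2 with h | h
    · left
      rw [← Subgroup.map_comap_eq_self_of_surjective hsurj W, h, Subgroup.map_eq_bot_iff, hker]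
    · right
      rw [← Subgroup.map_comap_eq_self_of_surjective hsurj W, h]

/-- a chief factor inside a normal `p`-subgroup has exponent `p` -/
theorem pow_mem_of_chief {P U : Subgroup G} (hPn : P.Normal) (hUn : U.Normal)
    (hP : IsPGroup p P) (hUP : U < P)
    (hmin : ∀ W : Subgroup G, W.Normal → U ≤ W → W ≤ P → W = U ∨ W = P) :
    ∀ x ∈ P, x ^ p ∈ U := by
  haveI := hUn
  obtain ⟨h1, h2⟩ := map_minimal hUn hUP hmin
  have hVn : (P.map (QuotientGroup.mk' U)).Normal := hPn.map _ (QuotientGroup.mk'_surjective U)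
  have hN : MinNormalIn (P.map (QuotientGroup.mk' U)) (P.map (QuotientGroup.mk' U)) := by
    refine ⟨⟨hVn, h1, le_rfl⟩, ?_⟩
    rintro K ⟨hKn, hK1, hKV⟩ _
    rcases h2 K hKn hKV with h | h
    · exact absurd h hK1
    · exact h.ge
  have hexp := hN.pow_eq_one hVn (hP.map _)
  intro x hx
  have := hexp _ (Subgroup.mem_map_of_mem _ hx)
  rw [← map_pow] at this
  exact (QuotientGroup.eq_one_iff _).mp this

/-- index as the order of the image in the quotient -/
theorem relIndex_eq_card_map {P U : Subgroup G} [hUn : U.Normal] (hUP : U ≤ P) :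
    U.relIndex P = Nat.card (P.map (QuotientGroup.mk' U)) := by
  have hcomap : (P.map (QuotientGroup.mk' U)).comap (QuotientGroup.mk' U) = P := by
    rw [Subgroup.comap_map_eq, QuotientGroup.ker_mk', sup_eq_left.mpr hUP]
  have h1 := card_comap_mk' U (P.map (QuotientGroup.mk' U))
  rw [hcomap] at h1
  have h2 := card_mul_relIndex_of_le hUP
  rw [h1, mul_comm] at h2
  exact Nat.eq_of_mul_eq_mul_right Nat.card_pos h2

omit [Finite G] in
/-- the quotient of a quotient -/
theorem ssReach_quot_map {R P : Subgroup G} [hRn : R.Normal] [hPn : P.Normal]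
    (hGP : SSReach (⊤ : Subgroup (G ⧸ P))) (hn : (P.map (QuotientGroup.mk' R)).Normal) :
    haveI := hn
    SSReach (⊤ : Subgroup ((G ⧸ R) ⧸ P.map (QuotientGroup.mk' R))) := by
  haveI := hn
  have hle : P ≤ (P.map (QuotientGroup.mk' R)).comap (QuotientGroup.mk' R) :=
    Subgroup.le_comap_map _ _
  apply ssReach_top_of_surjective
    (QuotientGroup.map P (P.map (QuotientGroup.mk' R)) (QuotientGroup.mk' R) hle) _ hGP
  intro x
  obtain ⟨x, rfl⟩ := QuotientGroup.mk'_surjective _ x
  obtain ⟨x, rfl⟩ := QuotientGroup.mk'_surjective _ x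
  exact ⟨QuotientGroup.mk' P x, rfl⟩

/-- large exponent: reduce to `d = 1` modulo a cyclic normal subgroup -/
theorem ssReach_top_of_odd_large {P : Subgroup G} (hp2 : p ≠ 2) (hPn : P.Normal)
    (hP : IsPGroup p P) {d : ℕ} (hd : 1 ≤ d)
    (hGP : haveI := hPn; SSReach (⊤ : Subgroup (G ⧸ P)))
    (hO : ∀ F : Subgroup G, F ≤ P → Nat.card F = p ^ d → F.Normal)
    {x : G} (hx : x ∈ P) (hxo : p ^ d ≤ orderOf x) : SSReach (⊤ : Subgroup G) := by
  haveI := hPn
  obtain ⟨e, he⟩ : ∃ e, orderOf x = p ^ e := by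
    obtain ⟨e, he⟩ := (IsPGroup.iff_orderOf.mp hP) ⟨x, hx⟩
    rw [Subgroup.orderOf_mk] at he
    exact ⟨e, he⟩
  have hde : d ≤ e := by
    rw [he] at hxo
    exact (Nat.pow_le_pow_iff_right hp.out.one_lt).mp hxo
  have hppos : ∀ k, 0 < p ^ k := fun k => pow_pos hp.out.pos k
  obtain ⟨z, hz⟩ : ∃ z, z = x ^ (p ^ (e - d)) := ⟨_, rfl⟩
  have hzo : orderOf z = p ^ d := by
    rw [hz, orderOf_pow' _ (hppos _).ne', he, Nat.gcd_eq_right (pow_dvd_pow p (Nat.sub_le e d)),
      Nat.pow_div (Nat.sub_le e d) hp.out.pos]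
    congr 1
    omega
  have hzP : z ∈ P := hz ▸ P.pow_mem hx _
  obtain ⟨c, hc⟩ : ∃ c, c = z ^ p := ⟨_, rfl⟩
  have hco : orderOf c = p ^ (d - 1) := by
    rw [hc, orderOf_pow' _ hp.out.ne_zero, hzo]
    have h1 : p ∣ p ^ d := dvd_pow_self p (by omega)
    rw [Nat.gcd_eq_right h1]
    conv_lhs => rw [show p ^ d = p ^ (d - 1 + 1) by congr 1; omega]
    rw [pow_succ, Nat.mul_div_cancel _ hp.out.pos]
  have hcP : c ∈ P := hc ▸ P.pow_mem hzP _
  have hzn : (Subgroup.zpowers z).Normal :=
    hO _ (Subgroup.zpowers_le.mpr hzP) (by rw [Nat.card_zpowers, hzo])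
  have hcn : (Subgroup.zpowers c).Normal := by
    apply normal_of_le_normal_zpowers hzn
    rw [Subgroup.zpowers_le, hc]
    exact Subgroup.pow_mem _ (Subgroup.mem_zpowers z) p
  haveI := hcn
  obtain ⟨R, hR⟩ : ∃ R, R = Subgroup.zpowers c := ⟨_, rfl⟩
  haveI hRn : R.Normal := hR ▸ hcn
  have hRP : R ≤ P := by rw [hR, Subgroup.zpowers_le]; exact hcP
  have hRcard : Nat.card R = p ^ (d - 1) := by rw [hR, Nat.card_zpowers, hco]
  have hsurj := QuotientGroup.mk'_surjective R
  have hPn' : (P.map (QuotientGroup.mk' R)).Normal := hPn.map _ hsurj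
  have hQ : SSReach (⊤ : Subgroup (G ⧸ R)) := by
    apply ssReach_top_of_prime_normal hp2 hPn' (hP.map _) (ssReach_quot_map hGP hPn')
    rintro _ ⟨y, hy, rfl⟩ hyp
    by_cases hy1 : (QuotientGroup.mk' R) y = 1
    · rw [hy1, Subgroup.zpowers_one_eq_bot]; infer_instance
    have ho : orderOf ((QuotientGroup.mk' R) y) = p := orderOf_eq_prime hyp hy1
    have hcard := card_comap_mk' R (Subgroup.zpowers ((QuotientGroup.mk' R) y))
    rw [Nat.card_zpowers, ho, hRcard] at hcard
    have hle : (Subgroup.zpowers ((QuotientGroup.mk' R) y)).comap (QuotientGroup.mk' R) ≤ P := by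
      intro g hg
      rw [Subgroup.mem_comap] at hg
      obtain ⟨n, hn⟩ := Subgroup.mem_zpowers_iff.mp hg
      rw [← map_zpow] at hn
      have h1 : (y ^ n)⁻¹ * g ∈ R := by
        rw [← QuotientGroup.eq_one_iff, ← QuotientGroup.mk'_apply, map_mul, map_inv, hn]
        simp
      have h2 : g = y ^ n * ((y ^ n)⁻¹ * g) := by group
      rw [h2]
      exact P.mul_mem (P.zpow_mem hy n) (hRP h1)
    have hn := hO _ hle (by
      rw [hcard, ← pow_succ']
      congr 1
      omega)
    have := hn.map (QuotientGroup.mk' R) hsurj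
    rwa [Subgroup.map_comap_eq_self_of_surjective hsurj] at this
  subst hR
  exact ssReach_top_of_normal_zpowers c hcn hQ

end Cfsg.Agent.Lib.H21.SCl
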