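import Mathlib
import Cfsg.Agent.Lib.H21.SClF

/-! Normal `p`-subgroups all of whose subgroups of a fixed order are normal: the general statement
(helper21). -/

set_option autoImplicit false

namespace Cfsg.Agent.Lib.H21.SCl

open Cfsg.Agent.Lib.H9.Huppert Cfsg.Agent.Lib.H3 Cfsg.Agent.Lib.H21.HSub Cfsg.Agent.Lib.H21.CPair
open scoped commutatorElement

variable {G : Type*} [Group G] [Finite G] {p : ℕ} [hp : Fact p.Prime]

/-- **`p` odd**. -/
theorem ssReach_top_of_odd {P : Subgroup G} (hp2 : p ≠ 2) (hPn : P.Normal)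
    (hP : IsPGroup p P) {d : ℕ} (hd : 1 ≤ d) (hdP : p ^ d < Nat.card P)
    (hGP : haveI := hPn; SSReach (⊤ : Subgroup (G ⧸ P)))
    (hO : ∀ F : Subgroup G, F ≤ P → Nat.card F = p ^ d → F.Normal) :
    SSReach (⊤ : Subgroup G) := by
  haveI := hPn
  by_cases hex : ∃ x ∈ P, p ^ d ≤ orderOf x
  · obtain ⟨x, hx, hxo⟩ := hex
    exact ssReach_top_of_odd_large hp2 hPn hP hd hGP hO hx hxo
  push Not at hex
  apply huppert _ G rfl
  intro M hM
  by_cases hPM : P ≤ M
  · exact index_prime_of_le hGP hM hPM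
  obtain ⟨hUn, hUP, hmin, hidx⟩ := coatom_inf hPn hP hM hPM
  rw [hidx]
  obtain ⟨U, hU⟩ : ∃ U, U = P ⊓ M := ⟨_, rfl⟩
  rw [← hU] at hUn hUP hmin ⊢
  haveI := hUn
  have hpow := pow_mem_of_chief hPn hUn hP hUP hmin
  by_cases hUd : Nat.card U < p ^ d
  · exfalso
    obtain ⟨F, hUF, hFP, hFcard⟩ := exists_between hP hUP.le hUd.le hdP.le
    have hFn := hO F hFP hFcard
    rcases hmin F hFn hUF hFP with h | h
    · rw [h] at hFcard; omega
    · rw [h] at hFcard; omega
  · push Not at hUd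
    obtain ⟨x, hxP, hxU⟩ := SetLike.exists_of_lt hUP
    obtain ⟨S', hS'⟩ : ∃ S', S' = U ⊔ Subgroup.zpowers x := ⟨_, rfl⟩
    have hS'P : S' ≤ P := hS' ▸ sup_le hUP.le (Subgroup.zpowers_le.mpr hxP)
    have hxS' : Subgroup.zpowers x ≤ S' := hS' ▸ le_sup_right
    have hUS' : U ≤ S' := hS' ▸ le_sup_left
    have hxcard : Nat.card (Subgroup.zpowers x) ≤ p ^ d := by
      rw [Nat.card_zpowers]; exact (hex x hxP).le
    have hS'card : p ^ d ≤ Nat.card S' := hUd.trans (Subgroup.card_le_of_le hUS')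
    obtain ⟨F, hxF, hFS', hFcard⟩ := exists_between (hP.to_le hS'P) hxS' hxcard hS'card
    have hFn := hO F (hFS'.trans hS'P) hFcard
    have hW : U ⊔ F = P := by
      haveI := hFn
      rcases hmin (U ⊔ F) inferInstance le_sup_left (sup_le hUP.le (hFS'.trans hS'P)) with h | h
      · exfalso
        apply hxU
        rw [← h]
        exact (le_sup_right : F ≤ U ⊔ F) (hxF (Subgroup.mem_zpowers x))
      · exact h
    have hPeq : P = U ⊔ Subgroup.zpowers x := by
      apply le_antisymm _ (hS' ▸ hS'P)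
      rw [← hW, ← hS']
      exact sup_le hUS' hFS'
    have hmapU : U.map (QuotientGroup.mk' U) = ⊥ := by
      rw [Subgroup.map_eq_bot_iff, QuotientGroup.ker_mk']
    have hx1 : (QuotientGroup.mk' U) x ≠ 1 := by
      intro h
      exact hxU ((QuotientGroup.eq_one_iff x).mp h)
    have hxp : ((QuotientGroup.mk' U) x) ^ p = 1 := by
      rw [← map_pow]
      exact (QuotientGroup.eq_one_iff _).mpr (hpow x hxP)
    have hmapP : P.map (QuotientGroup.mk' U) = Subgroup.zpowers ((QuotientGroup.mk' U) x) := by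
      conv_lhs => rw [hPeq]
      rw [Subgroup.map_sup, hmapU, bot_sup_eq, MonoidHom.map_zpowers]
    rw [relIndex_eq_card_map hUP.le, hmapP, Nat.card_zpowers, orderOf_eq_prime hxp hx1]
    exact hp.out

/-- **General statement**: a normal `p`-subgroup `P` with supersolvable quotient, all of whose
subgroups of order `p ^ d` (and `4` if `p ^ d = 2`) are normal in `G`, where `1 ≤ d`,
`p ^ d < |P|`. -/
theorem ssReach_top_of_normal_subgroups {P : Subgroup G} (hPn : P.Normal)
    (hP : IsPGroup p P) {d : ℕ} (hd : 1 ≤ d) (hdP : p ^ d < Nat.card P)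
    (hGP : haveI := hPn; SSReach (⊤ : Subgroup (G ⧸ P)))
    (hO : ∀ F : Subgroup G, F ≤ P → (Nat.card F = p ^ d ∨ (p ^ d = 2 ∧ Nat.card F = 4)) →
      F.Normal) :
    SSReach (⊤ : Subgroup G) := by
  by_cases hp2 : p = 2
  · subst hp2
    exact ssReach_top_of_two hPn hP hd hdP hGP hO
  · exact ssReach_top_of_odd hp2 hPn hP hd hdP hGP (fun F hFP hF => hO F hFP (Or.inl hF))

end Cfsg.Agent.Lib.H21.SCl
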