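import Mathlib
import Cfsg.Agent.Lib.H21.SClG
import Cfsg.Agent.Lib.H21.HSubH

/-! Coprime conjugacy and normal `p`-complements of a normal subgroup (helper21). -/

set_option autoImplicit false

namespace Cfsg.Agent.Lib.H21.SCl

open Cfsg.Agent.Lib.H9.Huppert Cfsg.Agent.Lib.H3 Cfsg.Agent.Lib.H21.HSub Cfsg.Agent.Lib.H21.CPair
open Cfsg.Agent.Lib.H15 Cfsg.Agent.Lib.L0
open scoped commutatorElement

variable {G : Type*} [Group G] [Finite G] {p : ℕ} [hp : Fact p.Prime]

/-- the order of `K A` for `K` normal with `|K|`, `|A|` coprime -/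
theorem card_sup_of_coprime {K A : Subgroup G} [hKn : K.Normal]
    (hcop : Nat.Coprime (Nat.card K) (Nat.card A)) :
    Nat.card (K ⊔ A : Subgroup G) = Nat.card K * Nat.card A := by
  have hinf : K ⊓ A = ⊥ := by
    rw [← Subgroup.card_eq_one]
    have h1 := Subgroup.card_dvd_of_le (inf_le_left : K ⊓ A ≤ K)
    have h2 := Subgroup.card_dvd_of_le (inf_le_right : K ⊓ A ≤ A)
    exact Nat.eq_one_of_dvd_coprimes hcop h1 h2
  have h1 : K.relIndex (K ⊔ A) = Nat.card A := by
    rw [Subgroup.relIndex_sup_left, ← Subgroup.inf_relIndex_right, hinf,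
      Subgroup.relIndex_bot_left]
  rw [← card_mul_relIndex_of_le (le_sup_left : K ≤ K ⊔ A), h1]

/-- **coprime conjugacy**: a `p`-subgroup of `K A` (`K` a normal `p'`-subgroup, `A` a `p`-group)
is conjugate into `A` by an element of `K`. -/
theorem exists_cj_le_of_le_sup {K A B : Subgroup G} (hKn : K.Normal) (hK : ¬ p ∣ Nat.card K)
    (hA : IsPGroup p A) (hB : IsPGroup p B) (hBX : B ≤ K ⊔ A) :
    ∃ k ∈ K, cj k B ≤ A := by
  haveI := hKn
  obtain ⟨X, hX⟩ : ∃ X, X = K ⊔ A := ⟨_, rfl⟩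
  have hAX : A ≤ X := hX ▸ le_sup_right
  have hBX' : B ≤ X := hX ▸ hBX
  have hcop : Nat.Coprime (Nat.card K) (Nat.card A) := by
    obtain ⟨j, hj⟩ := hA.exists_card_eq
    rw [hj]
    exact ((Nat.Prime.coprime_iff_not_dvd hp.out).2 hK).symm.pow_right j
  have hcardX : Nat.card X = Nat.card K * Nat.card A := hX ▸ card_sup_of_coprime hcop
  have hA' : IsPGroup p (A.subgroupOf X) := hA.comap_of_injective X.subtype X.subtype_injective
  have hB' : IsPGroup p (B.subgroupOf X) := hB.comap_of_injective X.subtype X.subtype_injective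
  have hidx : ¬ p ∣ (A.subgroupOf X).index := by
    have h1 : A.relIndex X = Nat.card K := by
      have h2 := card_mul_relIndex_of_le hAX
      rw [hcardX, mul_comm] at h2
      exact Nat.eq_of_mul_eq_mul_right Nat.card_pos h2
    show ¬ p ∣ A.relIndex X
    rw [h1]; exact hK
  obtain ⟨x, hx⟩ := exists_cj_le_sylow (hA'.toSylow hidx) hB'
  rw [hA'.toSylow_coe hidx] at hx
  have hxX : (x : G) ∈ A ⊔ K := by rw [sup_comm, ← hX]; exact x.2
  obtain ⟨a, ha, k, hk, hak⟩ := Subgroup.mem_sup_of_normal_right.mp hxX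
  refine ⟨k, hk, ?_⟩
  rintro _ ⟨b, hb, rfl⟩
  have h1 : x * ⟨b, hBX' hb⟩ * x⁻¹ ∈ A.subgroupOf X :=
    hx ⟨⟨b, hBX' hb⟩, Subgroup.mem_subgroupOf.mpr hb, rfl⟩
  have h2 : (x : G) * b * (x : G)⁻¹ ∈ A := Subgroup.mem_subgroupOf.mp h1
  rw [← hak] at h2
  have h3 : k * b * k⁻¹ = a⁻¹ * (a * k * b * (a * k)⁻¹) * a := by group
  show k * b * k⁻¹ ∈ A
  rw [h3]
  exact A.mul_mem (A.mul_mem (A.inv_mem ha) h2) ha

omit [Finite G] in
/-- the H-property passes to subgroups -/
theorem HS_of_map {H : Subgroup G} (F : Subgroup H) (h : HS (F.map H.subtype)) : HS F := by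
  intro g x hx
  obtain ⟨hx1, hx2⟩ := Subgroup.mem_inf.mp hx
  have h1 : (x : G) ∈ cj (g : G) (F.map H.subtype) ⊓
      Subgroup.normalizer ((F.map H.subtype : Subgroup G) : Set G) := by
    refine Subgroup.mem_inf.mpr ⟨?_, ?_⟩
    · obtain ⟨f, hf, rfl⟩ := hx1
      exact ⟨(f : G), ⟨f, hf, rfl⟩, by simp⟩
    · rw [Subgroup.mem_normalizer_iff] at hx2 ⊢
      intro y
      constructor
      · rintro ⟨f, hf, rfl⟩
        exact ⟨x * f * x⁻¹, (hx2 f).mp hf, by simp⟩
      · rintro ⟨f, hf, hfy⟩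
        have h2 : x⁻¹ * f * x ∈ F := by
          rw [hx2]
          have : x * (x⁻¹ * f * x) * x⁻¹ = f := by group
          rw [this]; exact hf
        refine ⟨x⁻¹ * f * x, h2, ?_⟩
        have h3 : (H.subtype f : G) = (x : G) * y * (x : G)⁻¹ := hfy
        simp only [Subgroup.subtype_apply, Subgroup.coe_mul, Subgroup.coe_inv]
        have h4 : ((f : H) : G) = (x : G) * y * (x : G)⁻¹ := h3
        rw [h4]; group
  obtain ⟨f, hf, hfx⟩ := h (g : G) h1
  have : f = x := Subtype.ext hfx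
  rw [← this]; exact hf

/-- normal `p`-complement data for a normal subgroup `E` with `HasNormalPComplement p E` -/
theorem exists_compl_data {E : Subgroup G} (hEn : E.Normal)
    (h : Cfsg.HasNormalPComplement p E) :
    ∃ K P₀ : Subgroup G, K.Normal ∧ K ≤ E ∧ P₀ ≤ E ∧ IsPGroup p P₀ ∧ ¬ p ∣ Nat.card K ∧
      K ⊔ P₀ = E ∧ Nat.card E = Nat.card K * Nat.card P₀ := by
  obtain ⟨S, N, hNn, hc⟩ := h
  haveI := hNn
  have hcardN : Nat.card (N.map E.subtype) = Nat.card N :=
    Subgroup.card_map_of_injective E.subtype_injective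
  have hcardS : Nat.card ((S : Subgroup E).map E.subtype) = Nat.card (S : Subgroup E) :=
    Subgroup.card_map_of_injective E.subtype_injective
  have hpN : ¬ p ∣ Nat.card N := by
    rw [← hc.index_eq_card]
    exact S.not_dvd_index
  obtain ⟨k, hk⟩ : ∃ k, N.index = p ^ k := by
    rw [hc.symm.index_eq_card]
    exact S.2.exists_card_eq
  have hmemK : ∀ x : G, x ∈ N.map E.subtype ↔ x ∈ E ∧ Nat.Coprime (orderOf x) p := by
    intro x
    constructor
    · rintro ⟨n, hn, rfl⟩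
      refine ⟨n.2, ?_⟩
      have h1 : orderOf (n : G) ∣ Nat.card N := by
        rw [Subgroup.orderOf_coe]
        have := orderOf_dvd_natCard (⟨n, hn⟩ : N)
        rwa [Subgroup.orderOf_mk] at this
      exact Nat.Coprime.coprime_dvd_left h1 ((Nat.Prime.coprime_iff_not_dvd hp.out).2 hpN).symm
    · rintro ⟨hxE, hxo⟩
      have h1 : Nat.Coprime (orderOf (⟨x, hxE⟩ : E)) p := by
        rw [Subgroup.orderOf_mk]; exact hxo
      exact ⟨⟨x, hxE⟩, mem_of_coprime_orderOf_of_index_pow N k hk _ h1, rfl⟩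
  refine ⟨N.map E.subtype, (S : Subgroup E).map E.subtype, ?_, ?_, ?_, ?_, ?_, ?_, ?_⟩
  · constructor
    intro x hx g
    rw [hmemK] at hx ⊢
    refine ⟨hEn.conj_mem x hx.1 g, ?_⟩
    have : orderOf (g * x * g⁻¹) = orderOf x := by
      simpa using orderOf_injective (MulAut.conj g).toMonoidHom (MulAut.conj g).injective x
    rw [this]; exact hx.2
  · rintro _ ⟨n, -, rfl⟩; exact n.2
  · rintro _ ⟨n, -, rfl⟩; exact n.2
  · exact S.2.map _
  · rw [hcardN]; exact hpN
  · rw [← Subgroup.map_sup, hc.sup_eq_top, ← MonoidHom.range_eq_map, Subgroup.range_subtype]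
  · rw [hcardN, hcardS]
    exact hc.card_mul_card.symm

end Cfsg.Agent.Lib.H21.SCl
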