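import Mathlib
import Cfsg.Agent.Lib.H21.SClH

/-! Supersolvability from H-subgroups of fixed order in the Sylow subgroups of a normal subgroup
with supersolvable quotient: the induction (helper21). -/

set_option autoImplicit false

namespace Cfsg.Agent.Lib.H21.SCl

open Cfsg.Agent.Lib.H9.Huppert Cfsg.Agent.Lib.H3 Cfsg.Agent.Lib.H21.HSub Cfsg.Agent.Lib.H21.CPair
open Cfsg.Agent.Lib.H15 Cfsg.Agent.Lib.L0
open scoped commutatorElement

variable {G : Type*} [Group G] [Finite G] {p : ℕ} [hp : Fact p.Prime]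

/-- the hypothesis in conjugation-invariant form -/
def SHyp (E : Subgroup G) : Prop :=
  ∀ p : ℕ, p.Prime → (∀ Q : Subgroup G, Q ≤ E → IsPGroup p Q → IsCyclic Q) ∨
    ∃ d : ℕ, 1 ≤ d ∧ p ^ (d + 1) ∣ Nat.card E ∧
      ∀ F : Subgroup G, F ≤ E → (Nat.card F = p ^ d ∨ (p ^ d = 2 ∧ Nat.card F = 4)) → HS F

/-- subgroups of `E / K` whose lifts are H-subgroups are normal -/
theorem normal_of_HS_lift {E K P₀ : Subgroup G} (hEn : E.Normal) (hKn : K.Normal)
    (hKE : K ≤ E) (hP₀ : IsPGroup p P₀) (hK : ¬ p ∣ Nat.card K) (hsup : K ⊔ P₀ = E)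
    {c : ℕ} (hHS : ∀ F : Subgroup G, F ≤ E → Nat.card F = c → HS F)
    (F' : Subgroup (G ⧸ K)) (hF'P : F' ≤ E.map (QuotientGroup.mk' K)) (hF'c : Nat.card F' = c) :
    F'.Normal := by
  haveI := hKn
  have hsurj := QuotientGroup.mk'_surjective K
  have hP₀E : P₀ ≤ E := hsup ▸ le_sup_right
  obtain ⟨F₁, hF₁⟩ : ∃ F₁, F₁ = F'.comap (QuotientGroup.mk' K) := ⟨_, rfl⟩
  have hKF₁ : K ≤ F₁ := by
    have := Subgroup.ker_le_comap (QuotientGroup.mk' K) F'
    rwa [QuotientGroup.ker_mk', ← hF₁] at this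
  have hF₁E : F₁ ≤ E := by
    have h1 : (E.map (QuotientGroup.mk' K)).comap (QuotientGroup.mk' K) = E := by
      rw [Subgroup.comap_map_eq, QuotientGroup.ker_mk', sup_eq_left.mpr hKE]
    rw [hF₁, ← h1]
    exact Subgroup.comap_mono hF'P
  obtain ⟨F₀, hF₀⟩ : ∃ F₀, F₀ = F₁ ⊓ P₀ := ⟨_, rfl⟩
  have hF₀F₁ : F₀ ≤ F₁ := hF₀ ▸ inf_le_left
  have hF₀P₀ : F₀ ≤ P₀ := hF₀ ▸ inf_le_right
  have hF₁eq : F₁ = K ⊔ F₀ := by
    apply le_antisymm _ (sup_le hKF₁ hF₀F₁)
    intro x hx
    have hxE : x ∈ K ⊔ P₀ := hsup ▸ hF₁E hx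
    obtain ⟨k, hk, s, hs, rfl⟩ := Subgroup.mem_sup_of_normal_left.mp hxE
    have hs1 : s ∈ F₁ := by
      have := F₁.mul_mem (F₁.inv_mem (hKF₁ hk)) hx
      simpa using this
    exact Subgroup.mul_mem _ ((le_sup_left : K ≤ K ⊔ F₀) hk)
      ((le_sup_right : F₀ ≤ K ⊔ F₀) (hF₀ ▸ ⟨hs1, hs⟩))
  have hF₀p : IsPGroup p F₀ := hP₀.to_le hF₀P₀
  have hcop : Nat.Coprime (Nat.card K) (Nat.card F₀) := by
    obtain ⟨j, hj⟩ := hF₀p.exists_card_eq
    rw [hj]
    exact ((Nat.Prime.coprime_iff_not_dvd hp.out).2 hK).symm.pow_right j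
  have hF₀c : Nat.card F₀ = c := by
    have h1 := card_comap_mk' K F'
    rw [← hF₁, hF₁eq, card_sup_of_coprime hcop, mul_comm] at h1
    rw [← hF'c]
    exact Nat.eq_of_mul_eq_mul_right Nat.card_pos h1
  have hF₀HS : HS F₀ := hHS F₀ (hF₀P₀.trans hP₀E) hF₀c
  have hnorm : P₀ ≤ Subgroup.normalizer (F₀ : Set G) := hF₀HS.le_normalizer hF₀P₀ hP₀
  have hconj : ∀ g : G, ∀ f ∈ F₀, g * f * g⁻¹ ∈ F₁ := by
    intro g f hf
    have hB : IsPGroup p (cj g F₀) := hF₀p.map _
    have hBX : cj g F₀ ≤ K ⊔ P₀ := by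
      rw [hsup]
      rintro _ ⟨y, hy, rfl⟩
      exact hEn.conj_mem y (hP₀E (hF₀P₀ hy)) g
    obtain ⟨k, hk, hkB⟩ := exists_cj_le_of_le_sup hKn hK hP₀ hB hBX
    rw [cj_cj] at hkB
    have h1 : cj (k * g) F₀ ≤ F₀ :=
      (le_inf le_rfl (hkB.trans hnorm)).trans (hF₀HS (k * g))
    have h2 : (k * g) * f * (k * g)⁻¹ ∈ F₀ := h1 (conj_mem_cj hf)
    have h3 : g * f * g⁻¹ = k⁻¹ * ((k * g) * f * (k * g)⁻¹) * k := by group
    rw [h3]
    exact F₁.mul_mem (F₁.mul_mem (F₁.inv_mem (hKF₁ hk)) (hF₀F₁ h2)) (hKF₁ hk)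
  have hF₁n : F₁.Normal := by
    constructor
    intro x hx g
    rw [hF₁eq] at hx
    obtain ⟨k, hk, s, hs, rfl⟩ := Subgroup.mem_sup_of_normal_left.mp hx
    have h1 : g * (k * s) * g⁻¹ = (g * k * g⁻¹) * (g * s * g⁻¹) := by group
    rw [h1]
    exact F₁.mul_mem (hKF₁ (hKn.conj_mem k hk g)) (hconj g s hs)
  have := hF₁n.map (QuotientGroup.mk' K) hsurj
  rwa [hF₁, Subgroup.map_comap_eq_self_of_surjective hsurj] at this

omit [Finite G] in
/-- a cyclic normal subgroup with supersolvable quotient -/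
theorem ssReach_top_of_cyclic_normal {P : Subgroup G} (hPn : P.Normal) (hc : IsCyclic P)
    (hGP : haveI := hPn; SSReach (⊤ : Subgroup (G ⧸ P))) : SSReach (⊤ : Subgroup G) := by
  obtain ⟨g, hg⟩ := (Subgroup.isCyclic_iff_exists_zpowers_eq_top P).mp hc
  subst hg
  exact ssReach_top_of_normal_zpowers g hPn hGP

/-- **Main induction.** -/
theorem ssReach_of_sHyp : ∀ (n : ℕ) (E : Subgroup G) (hEn : E.Normal), Nat.card E = n →
    (haveI := hEn; SSReach (⊤ : Subgroup (G ⧸ E))) → SHyp E → SSReach (⊤ : Subgroup G) := by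
  intro n
  induction n using Nat.strong_induction_on with
  | _ n ih =>
  intro E hEn hcard hGE hyp
  haveI := hEn
  by_cases hE : E = ⊥
  · have h1 := SSReach.comap (QuotientGroup.mk' E) (QuotientGroup.mk'_surjective E)
      (by rw [QuotientGroup.ker_mk', hE]; exact SSReach.bot) hGE
    rwa [Subgroup.comap_top] at h1
  have hE1 : Nat.card E ≠ 1 := fun h => hE (Subgroup.card_eq_one.mp h)
  obtain ⟨p, hpdef⟩ : ∃ p, p = (Nat.card E).minFac := ⟨_, rfl⟩
  have hpp : p.Prime := hpdef ▸ Nat.minFac_prime hE1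
  haveI : Fact p.Prime := ⟨hpp⟩
  have hpE : p ∣ Nat.card E := hpdef ▸ Nat.minFac_dvd _
  -- normal `p`-complement of `E`
  have hnpc : Cfsg.HasNormalPComplement p E := by
    obtain ⟨S⟩ : Nonempty (Sylow p E) := inferInstance
    apply Cfsg.Agent.S3031.result hpE
      (fun q hq hqE => hpdef ▸ Nat.minFac_le_of_dvd hq.two_le hqE) S
    have hScard : Nat.card ((S : Subgroup E).map E.subtype) = Nat.card (S : Subgroup E) :=
      Subgroup.card_map_of_injective E.subtype_injective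
    have hSE : (S : Subgroup E).map E.subtype ≤ E := by
      rintro _ ⟨s, -, rfl⟩; exact s.2
    rcases hyp p hpp with hcyc | ⟨d, hd, hdE, hHS⟩
    · left
      have h1 := hcyc _ hSE (S.2.map _)
      exact ((Subgroup.equivMapOfInjective (S : Subgroup E) E.subtype
        E.subtype_injective).isCyclic).mpr h1
    · right
      have hSd : p ^ (d + 1) ≤ Nat.card (S : Subgroup E) := by
        rw [S.card_eq_multiplicity]
        apply Nat.pow_le_pow_right hpp.pos
        exact (Nat.Prime.pow_dvd_iff_le_factorization hpp Nat.card_pos.ne').mp hdE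
      obtain ⟨D, -, hDS, hDcard⟩ := exists_between (p := p) (G := E) (C := ⊥)
        (S := (S : Subgroup E)) S.2 bot_le (m := d)
        (by rw [Subgroup.card_bot]; exact Nat.one_le_pow _ _ hpp.pos)
        (le_trans (Nat.pow_le_pow_right hpp.pos (Nat.le_succ d)) hSd)
      refine ⟨D, hDS, ?_, ?_, ?_⟩
      · rw [hDcard]
        calc 1 < p ^ 1 := by rw [pow_one]; exact hpp.one_lt
          _ ≤ p ^ d := Nat.pow_le_pow_right hpp.pos hd
      · rw [hDcard]
        exact lt_of_lt_of_le (Nat.pow_lt_pow_right hpp.one_lt (Nat.lt_succ_self d)) hSd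
      · intro E' hE'S hE'card
        apply HS_of_map
        apply hHS
        · rintro _ ⟨e, -, rfl⟩; exact e.2
        · rw [Subgroup.card_map_of_injective E.subtype_injective]
          rcases hE'card with h1 | ⟨h1, h2⟩
          · left; rw [h1, hDcard]
          · right; exact ⟨by rw [← hDcard, h1], h2⟩
  obtain ⟨K, P₀, hKn, hKE, hP₀E, hP₀, hpK, hsup, hcardE⟩ := exists_compl_data hEn hnpc
  haveI := hKn
  obtain ⟨k, hk⟩ := hP₀.exists_card_eq
  have hcopKP : Nat.Coprime (Nat.card K) (p ^ k) :=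
    ((Nat.Prime.coprime_iff_not_dvd hpp).2 hpK).symm.pow_right k
  have hP₀1 : 1 < Nat.card P₀ := by
    rcases Nat.lt_or_ge 1 (Nat.card P₀) with h | h
    · exact h
    · exfalso
      have h1 : Nat.card P₀ = 1 := le_antisymm h Nat.card_pos
      rw [h1, mul_one] at hcardE
      exact hpK (hcardE ▸ hpE)
  -- `G / K` is supersolvable
  have hsurj := QuotientGroup.mk'_surjective K
  have hmapE : E.map (QuotientGroup.mk' K) = P₀.map (QuotientGroup.mk' K) := by
    conv_lhs => rw [← hsup]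
    rw [Subgroup.map_sup, (Subgroup.map_eq_bot_iff _).mpr (by rw [QuotientGroup.ker_mk']),
      bot_sup_eq]
  have hEn' : (E.map (QuotientGroup.mk' K)).Normal := hEn.map _ hsurj
  have hEp' : IsPGroup p (E.map (QuotientGroup.mk' K)) := hmapE ▸ hP₀.map _
  have hcardE' : Nat.card (E.map (QuotientGroup.mk' K)) = Nat.card P₀ := by
    rw [← relIndex_eq_card_map hKE]
    have h2 := card_mul_relIndex_of_le hKE
    rw [hcardE] at h2
    exact Nat.eq_of_mul_eq_mul_left Nat.card_pos h2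
  have hGK : SSReach (⊤ : Subgroup (G ⧸ K)) := by
    rcases hyp p hpp with hcyc | ⟨d, hd, hdE, hHS⟩
    · have h1 : IsCyclic P₀ := hcyc P₀ hP₀E hP₀
      have h2 : IsCyclic (P₀.map (QuotientGroup.mk' K)) :=
        isCyclic_of_surjective ((QuotientGroup.mk' K).subgroupMap P₀)
          ((QuotientGroup.mk' K).subgroupMap_surjective P₀)
      exact ssReach_top_of_cyclic_normal hEn' (hmapE ▸ h2) (ssReach_quot_map hGE hEn')
    · have hdP : p ^ d < Nat.card (E.map (QuotientGroup.mk' K)) := by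
        rw [hcardE']
        have h1 : p ^ (d + 1) ∣ Nat.card P₀ := by
          rw [hcardE, hk] at hdE
          rw [hk]
          exact (Nat.Coprime.pow_left (d + 1)
            ((Nat.Prime.coprime_iff_not_dvd hpp).2 hpK)).dvd_of_dvd_mul_left hdE
        exact lt_of_lt_of_le (Nat.pow_lt_pow_right hpp.one_lt (Nat.lt_succ_self d))
          (Nat.le_of_dvd Nat.card_pos h1)
      apply ssReach_top_of_normal_subgroups hEn' hEp' hd hdP (ssReach_quot_map hGE hEn')
      intro F' hF'P hF'card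
      rcases hF'card with h1 | ⟨h1, h2⟩
      · exact normal_of_HS_lift hEn hKn hKE hP₀ hpK hsup
          (fun F hFE hFc => hHS F hFE (Or.inl hFc)) F' hF'P h1
      · exact normal_of_HS_lift hEn hKn hKE hP₀ hpK hsup
          (fun F hFE hFc => hHS F hFE (Or.inr ⟨h1, hFc⟩)) F' hF'P h2
  -- induction for `K`
  have hKlt : Nat.card K < n := by
    rw [← hcard, hcardE]
    have : 0 < Nat.card K := Nat.card_pos
    nlinarith
  apply ih (Nat.card K) hKlt K hKn rfl hGK
  intro r hr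
  by_cases hrp : r = p
  · left
    intro Q hQK hQ
    rw [hrp] at hQ
    obtain ⟨j, hj⟩ := hQ.exists_card_eq
    have h1 : Nat.card Q ∣ Nat.card K := Subgroup.card_dvd_of_le hQK
    have h2 : Nat.card Q = 1 := by
      rw [hj] at h1 ⊢
      exact Nat.eq_one_of_dvd_coprimes
        (Nat.Coprime.pow_left j ((Nat.Prime.coprime_iff_not_dvd hpp).2 hpK)) (dvd_refl _) h1
    have : Subsingleton Q := (Nat.card_eq_one_iff_unique.mp h2).1
    exact isCyclic_of_subsingleton
  · rcases hyp r hr with hcyc | ⟨d, hd, hdE, hHS⟩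
    · left
      intro Q hQK hQ
      exact hcyc Q (hQK.trans hKE) hQ
    · right
      refine ⟨d, hd, ?_, fun F hFK hFc => hHS F (hFK.trans hKE) hFc⟩
      rw [hcardE, hk] at hdE
      have hcop : Nat.Coprime (r ^ (d + 1)) (p ^ k) :=
        Nat.Coprime.pow _ _ ((Nat.coprime_primes hr hpp).mpr hrp)
      exact hcop.dvd_of_dvd_mul_right hdE

end Cfsg.Agent.Lib.H21.SCl
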