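/-
S4130 (lead architect), piece **E2**: if `G/F(G)` is abelian, a `q`-element centralising `O_r(G)` for all primes `r ≠ q`
lies in `F(G)`.  (No `SFClass` needed.)
Proof: `N = O_q(G)`, `B = ⨆_{r ≠ q} O_r(G)`, `F = N ⊔ B`; for `x : G` write `x g x⁻¹ g⁻¹ = a b` (`a ∈ N`, `b ∈ B`); `b` commutes with
`a` and `g`, has order prime to `q`, and `b = (x g x⁻¹)(a g)⁻¹` is a commuting product of `q`-elements: `b = 1`.  So
`N ⊔ ⟨g⟩` is a normal `q`-subgroup, hence inside `O_q(G)`.
-/
import Mathlib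
import Cfsg.Prelude.Def_Solvable
import Cfsg.Agent.Lib.H1.Fitting
import Cfsg.Agent.Lib.H22.PPrimeCore

set_option autoImplicit false

namespace Cfsg.Agent.Lib.H21.SF

open Cfsg.Agent.Lib.H1
open scoped commutatorElement

/-- the join of the `r`-cores, `r ≠ q` -/
def coreCompl (q : ℕ) (G : Type*) [Group G] : Subgroup G :=
  ⨆ r : {r : Nat.Primes // (r : ℕ) ≠ q}, Cfsg.pCore ((r : Nat.Primes) : ℕ) G

theorem coreCompl_le_pPrimeCore {G : Type*} [Group G] [Finite G] (q : ℕ) [hq : Fact q.Prime] :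
    coreCompl q G ≤ Cfsg.pPrimeCore q G := by
  apply iSup_le
  intro r
  have : Fact ((r : Nat.Primes) : ℕ).Prime := ⟨r.1.2⟩
  apply Cfsg.Agent.Lib.H22.le_pPrimeCore q _ (pCore_normal _ G)
  obtain ⟨k, hk⟩ := IsPGroup.iff_card.mp (pCore_isPGroup ((r : Nat.Primes) : ℕ) G)
  rw [hk]
  apply Nat.Coprime.pow_left
  exact (Nat.coprime_primes r.1.2 hq.out).2 r.2

theorem fittingSubgroup_le_sup {G : Type*} [Group G] [Finite G] (q : ℕ) :
    Cfsg.fittingSubgroup G ≤ Cfsg.pCore q G ⊔ coreCompl q G := by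
  rw [fittingSubgroup_eq_iSup_pCore]
  apply iSup_le
  intro p
  by_cases hp : (p : ℕ) = q
  · rw [hp]
    exact le_sup_left
  · exact le_trans (le_iSup (fun r : {r : Nat.Primes // (r : ℕ) ≠ q} =>
      Cfsg.pCore ((r : Nat.Primes) : ℕ) G) ⟨p, hp⟩) le_sup_right

/-- **S4130-E2**. -/
theorem mem_fittingSubgroup_of_centralizes_pCore {G : Type*} [Group G] [Finite G]
    (hGF : commutator G ≤ Cfsg.fittingSubgroup G) {q : ℕ} [Fact q.Prime] (g : G)
    (hg : ∃ k : ℕ, orderOf g = q ^ k)
    (hc : ∀ r : ℕ, r.Prime → r ≠ q → ∀ n ∈ Cfsg.pCore r G, g * n = n * g) :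
    g ∈ Cfsg.fittingSubgroup G := by
  classical
  obtain ⟨k, hk⟩ := hg
  set N : Subgroup G := Cfsg.pCore q G with hN
  have hNn : N.Normal := pCore_normal q G
  set B : Subgroup G := coreCompl q G with hB
  set Qg : Subgroup G := N ⊔ Subgroup.zpowers g with hQg
  -- `B` commutes with `g`
  have hBg : ∀ b ∈ B, g * b = b * g := by
    have hle : B ≤ Subgroup.centralizer ({g} : Set G) := by
      apply iSup_le
      intro r n hn
      rw [Subgroup.mem_centralizer_iff]
      intro y hy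
      rw [Set.mem_singleton_iff] at hy
      subst hy
      exact hc _ r.1.2 r.2 n hn
    intro b hb
    have := hle hb
    rw [Subgroup.mem_centralizer_iff] at this
    exact this g rfl
  -- `B` commutes with `N`
  have hBN : ∀ b ∈ B, ∀ a ∈ N, a * b = b * a := by
    intro b hb a ha
    have hle : B ≤ Subgroup.centralizer ({a} : Set G) := by
      apply iSup_le
      intro r n hn
      rw [Subgroup.mem_centralizer_iff]
      intro y hy
      rw [Set.mem_singleton_iff] at hy
      subst hy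
      have : Fact ((r : Nat.Primes) : ℕ).Prime := ⟨r.1.2⟩
      exact (pCore_commute (G := G) (p := q) (q := ((r : Nat.Primes) : ℕ)) (fun h => r.2 h.symm) y n ha hn).eq
    have := hle hb
    rw [Subgroup.mem_centralizer_iff] at this
    exact this a rfl
  -- elements of `B` have order prime to `q`
  have hBord : ∀ b ∈ B, (orderOf b).Coprime q := by
    intro b hb
    have h1 : orderOf b ∣ Nat.card (Cfsg.pPrimeCore q G) := by
      have hb' : b ∈ Cfsg.pPrimeCore q G := coreCompl_le_pPrimeCore q hb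
      have := Subgroup.orderOf_dvd_natCard (Cfsg.pPrimeCore q G) hb'
      exact this
    exact Nat.Coprime.coprime_dvd_left h1 (Cfsg.Agent.Lib.H22.card_pPrimeCore_coprime q)
  -- `Qg` is a `q`-group
  have hQp : IsPGroup q Qg := by
    have h1 : IsPGroup q N := pCore_isPGroup q G
    have h2 : IsPGroup q (Subgroup.zpowers g) := by
      apply IsPGroup.of_card (n := k)
      rw [Nat.card_zpowers, hk]
    exact IsPGroup.to_sup_of_normal_left h1 h2
  have hgQ : g ∈ Qg := (le_sup_right : Subgroup.zpowers g ≤ Qg) (Subgroup.mem_zpowers g)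
  -- every conjugate of `g` lies in `Qg`
  have hconj : ∀ x : G, x * g * x⁻¹ ∈ Qg := by
    intro x
    have hf : x * g * x⁻¹ * g⁻¹ ∈ N ⊔ B := by
      apply fittingSubgroup_le_sup q
      apply hGF
      have : x * g * x⁻¹ * g⁻¹ = ⁅x, g⁆ := rfl
      rw [this]
      exact Subgroup.commutator_mem_commutator (Subgroup.mem_top x) (Subgroup.mem_top g)
    have hf' : x * g * x⁻¹ * g⁻¹ ∈ ((N ⊔ B : Subgroup G) : Set G) := hf
    rw [Subgroup.normal_mul] at hf'
    obtain ⟨a, ha, b, hb, hab⟩ := Set.mem_mul.1 hf'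
    have ha' : a ∈ N := ha
    have hb' : b ∈ B := hb
    -- c = x g x⁻¹ = a * b * g = b * (a * g)
    have hc1 : x * g * x⁻¹ = b * (a * g) := by
      have h1 : x * g * x⁻¹ = (x * g * x⁻¹ * g⁻¹) * g := by group
      rw [h1, ← hab, hBN b hb' a ha', mul_assoc]
    have hagQ : a * g ∈ Qg := Qg.mul_mem ((le_sup_left : N ≤ Qg) ha') hgQ
    obtain ⟨j, hj⟩ := hQp ⟨a * g, hagQ⟩
    have hj' : (a * g) ^ q ^ j = 1 := by
      have := congrArg Subtype.val hj
      simpa using this
    have hcomm : Commute b (a * g) := by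
      show b * (a * g) = (a * g) * b
      rw [← mul_assoc, ← hBN b hb' a ha', mul_assoc, ← hBg b hb', mul_assoc]
    have hck : (x * g * x⁻¹) ^ q ^ k = 1 := by
      have h2 : (x * g * x⁻¹) ^ q ^ k = x * g ^ q ^ k * x⁻¹ := by
        rw [conj_pow]
      rw [h2, ← hk, pow_orderOf_eq_one, mul_one, mul_inv_cancel]
    have hbpow : b ^ (q ^ (j + k)) = 1 := by
      have h3 : (b * (a * g)) ^ (q ^ (j + k)) = b ^ (q ^ (j + k)) * (a * g) ^ (q ^ (j + k)) :=
        hcomm.mul_pow _
      have h4 : (a * g) ^ (q ^ (j + k)) = 1 := by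
        rw [pow_add, pow_mul, hj', one_pow]
      have h5 : (b * (a * g)) ^ (q ^ (j + k)) = 1 := by
        rw [← hc1, pow_add, mul_comm, pow_mul, hck, one_pow]
      rw [h5, h4, mul_one] at h3
      exact h3.symm
    have hb1 : b = 1 := by
      have h6 : orderOf b ∣ q ^ (j + k) := orderOf_dvd_of_pow_eq_one hbpow
      have h7 : (orderOf b).Coprime (q ^ (j + k)) := Nat.Coprime.pow_right _ (hBord b hb')
      have h8 : orderOf b = 1 := Nat.Coprime.eq_one_of_dvd h7 h6
      exact orderOf_eq_one_iff.1 h8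
    rw [hc1, hb1, one_mul]
    exact hagQ
  -- `Qg` is normal
  have hQn : Qg.Normal := by
    refine ⟨fun n hn x => ?_⟩
    have hmap : Qg.map (MulAut.conj x).toMonoidHom ≤ Qg := by
      rw [hQg, Subgroup.map_sup]
      apply sup_le
      · intro y hy
        obtain ⟨z, hz, rfl⟩ := Subgroup.mem_map.1 hy
        exact (le_sup_left : N ≤ N ⊔ Subgroup.zpowers g) (hNn.conj_mem z hz x)
      · rw [MonoidHom.map_zpowers]
        rw [Subgroup.zpowers_le]
        exact hconj x
    have : (MulAut.conj x).toMonoidHom n ∈ Qg := hmap (Subgroup.mem_map_of_mem _ hn)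
    simpa using this
  have hle : Qg ≤ Cfsg.pCore q G := le_pCore hQn hQp
  have hgN : g ∈ Cfsg.pCore q G := hle hgQ
  exact le_fittingSubgroup (pCore_normal q G) (pCore_isPGroup q G).isNilpotent hgN

end Cfsg.Agent.Lib.H21.SF
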