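/-
S4130 (lead architect), piece **E3**: in a group with squarefree class sizes some `a ∈ F(G)` has `C_G(a) ≤ F(G)`.
`a = ∏ a_r` (`a_r ∈ O_r(G)` from E1, built by induction over a finset of primes; each `a_r` is a power of `a`);
every prime-power part of `g ∈ C_G(a)` lies in `F(G)` by E2, and `g` is a product of powers of its prime-power parts.
-/
import Mathlib
import Cfsg.Prelude.Def_SolvableStructure
import Cfsg.Prelude.Def_Solvable
import Cfsg.Agent.Lib.L0.SFDefs
import Cfsg.Agent.Lib.H21.SFE2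
import Cfsg.Agent.Lib.H4.SFE1Core
import Cfsg.Agent.Lib.H26.SFA
import Cfsg.Agent.Lib.H3.SFC2
import Cfsg.Agent.Lib.H29.SFD1

set_option autoImplicit false

namespace Cfsg.Agent.Lib.H21.SF

open Cfsg.Agent.Lib.L0.SF
open Cfsg.Agent.Lib.H1

/-- A subgroup containing every prime-power-order element with property `P` (closed under powers) contains every
element with property `P`. -/
theorem mem_of_forall_prime_power_mem {G : Type*} [Group G] [Finite G] (F : Subgroup G) (P : G → Prop)
    (hPpow : ∀ (g : G) (k : ℕ), P g → P (g ^ k))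
    (hpp : ∀ g : G, P g → (∃ q k : ℕ, q.Prime ∧ orderOf g = q ^ k) → g ∈ F) :
    ∀ g : G, P g → g ∈ F := by
  intro g
  induction' hn : orderOf g using Nat.strong_induction_on with n ih generalizing g
  intro hP
  by_cases h1 : n = 1
  · have hg1 : g = 1 := orderOf_eq_one_iff.1 (hn.trans h1)
    rw [hg1]
    exact F.one_mem
  have hnpos : 0 < n := hn ▸ orderOf_pos g
  have hq : (n.minFac).Prime := Nat.minFac_prime h1
  obtain ⟨q, hqdef⟩ : ∃ q, q = n.minFac := ⟨_, rfl⟩
  rw [← hqdef] at hq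
  have hqn : q ∣ n := hqdef ▸ Nat.minFac_dvd n
  obtain ⟨e, he⟩ : ∃ e, e = n.factorization q := ⟨_, rfl⟩
  obtain ⟨m, hm⟩ : ∃ m, m = n / q ^ e := ⟨_, rfl⟩
  have hqem : q ^ e * m = n := by
    rw [hm, he]
    exact Nat.ordProj_mul_ordCompl_eq_self n q
  have hcop : Nat.Coprime (q ^ e) m := by
    rw [hm, he]
    exact Nat.Coprime.pow_left _ (Nat.coprime_ordCompl hq hnpos.ne')
  have hepos : 0 < e := by
    rw [he]
    exact hq.factorization_pos_of_dvd hnpos.ne' hqn
  have hqe1 : 1 < q ^ e := Nat.one_lt_pow hepos.ne' hq.one_lt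
  have hmpos : 0 < m := by
    rcases Nat.eq_zero_or_pos m with h0 | h0
    · rw [h0, mul_zero] at hqem
      omega
    · exact h0
  by_cases hm1 : m = 1
  · apply hpp g hP
    refine ⟨q, e, hq, ?_⟩
    rw [hn, ← hqem, hm1, mul_one]
  · have hm1' : 1 < m := by omega
    -- the two parts
    have ho1 : orderOf (g ^ m) = q ^ e := by
      rw [orderOf_pow_of_dvd hmpos.ne' (by rw [hn, ← hqem]; exact dvd_mul_left _ _), hn, ← hqem]
      exact Nat.mul_div_cancel _ hmpos
    have ho2 : orderOf (g ^ (q ^ e)) = m := by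
      rw [orderOf_pow_of_dvd (by positivity) (by rw [hn, ← hqem]; exact dvd_mul_right _ _), hn, ← hqem]
      exact Nat.mul_div_cancel_left _ (by positivity)
    have hlt1 : q ^ e < n := by
      rw [← hqem]
      calc q ^ e = q ^ e * 1 := (mul_one _).symm
        _ < q ^ e * m := Nat.mul_lt_mul_of_pos_left hm1' (by positivity)
    have hlt2 : m < n := by
      rw [← hqem]
      calc m = 1 * m := (one_mul _).symm
        _ < q ^ e * m := Nat.mul_lt_mul_of_pos_right hqe1 hmpos
    have hmem1 : g ^ m ∈ F := ih (q ^ e) hlt1 (g ^ m) ho1 (hPpow g m hP)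
    have hmem2 : g ^ (q ^ e) ∈ F := ih m hlt2 (g ^ (q ^ e)) ho2 (hPpow g _ hP)
    have hbez : ((Nat.gcd m (q ^ e) : ℕ) : ℤ) = (m : ℤ) * Nat.gcdA m (q ^ e) + ((q ^ e : ℕ) : ℤ) * Nat.gcdB m (q ^ e) :=
      Nat.gcd_eq_gcd_ab m (q ^ e)
    have hg1 : Nat.gcd m (q ^ e) = 1 := hcop.symm
    rw [hg1] at hbez
    have hgeq : g = (g ^ m) ^ (Nat.gcdA m (q ^ e)) * (g ^ (q ^ e)) ^ (Nat.gcdB m (q ^ e)) := by
      rw [← zpow_natCast g m, ← zpow_natCast g (q ^ e), ← zpow_mul, ← zpow_mul, ← zpow_add, ← hbez]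
      simp
    rw [hgeq]
    exact F.mul_mem (F.zpow_mem hmem1 _) (F.zpow_mem hmem2 _)

/-- elements of `coreCompl q G` have order prime to `q` -/
theorem orderOf_coprime_of_mem_coreCompl {G : Type*} [Group G] [Finite G] (q : ℕ) [Fact q.Prime] (b : G)
    (hb : b ∈ coreCompl q G) : (orderOf b).Coprime q := by
  have hb' : b ∈ Cfsg.pPrimeCore q G := coreCompl_le_pPrimeCore q hb
  have h1 : orderOf b ∣ Nat.card (Cfsg.pPrimeCore q G) :=
    Subgroup.orderOf_dvd_natCard (Cfsg.pPrimeCore q G) hb'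
  exact Nat.Coprime.coprime_dvd_left h1 (Cfsg.Agent.Lib.H22.card_pPrimeCore_coprime q)

/-- `O_q(G)` and `coreCompl q G` commute elementwise -/
theorem commute_of_mem_pCore_of_mem_coreCompl {G : Type*} [Group G] [Finite G] (q : ℕ) [Fact q.Prime] (a b : G)
    (ha : a ∈ Cfsg.pCore q G) (hb : b ∈ coreCompl q G) : Commute a b := by
  have hle : coreCompl q G ≤ Subgroup.centralizer ({a} : Set G) := by
    apply iSup_le
    intro r n hn
    rw [Subgroup.mem_centralizer_iff]
    intro y hy
    rw [Set.mem_singleton_iff] at hy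
    subst hy
    have : Fact ((r : Nat.Primes) : ℕ).Prime := ⟨r.1.2⟩
    exact (pCore_commute (G := G) (p := q) (q := ((r : Nat.Primes) : ℕ)) (fun h => r.2 h.symm) y n ha hn).eq
  have := hle hb
  rw [Subgroup.mem_centralizer_iff] at this
  exact this a rfl

/-- the join of the `s`-cores, `s ∈ T` -/
def coreSup (T : Finset Nat.Primes) (G : Type*) [Group G] : Subgroup G :=
  ⨆ s ∈ T, Cfsg.pCore ((s : Nat.Primes) : ℕ) G

theorem coreSup_le_coreCompl {G : Type*} [Group G] (T : Finset Nat.Primes) (r : Nat.Primes) (hr : r ∉ T) :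
    coreSup T G ≤ coreCompl (r : ℕ) G := by
  apply iSup₂_le
  intro s hs
  have hne : (s : ℕ) ≠ (r : ℕ) := by
    intro h
    apply hr
    have : s = r := Subtype.ext h
    rw [← this]
    exact hs
  exact le_iSup (fun r' : {r' : Nat.Primes // (r' : ℕ) ≠ (r : ℕ)} =>
      Cfsg.pCore ((r' : Nat.Primes) : ℕ) G) ⟨s, hne⟩

theorem coreSup_le_fittingSubgroup {G : Type*} [Group G] [Finite G] (T : Finset Nat.Primes) :
    coreSup T G ≤ Cfsg.fittingSubgroup G := by
  rw [fittingSubgroup_eq_iSup_pCore]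
  apply iSup₂_le
  intro s _
  exact le_iSup (fun p : Nat.Primes => Cfsg.pCore (p : ℕ) G) s

/-- two commuting elements of coprime orders are powers of their product, so the centraliser of the product is the
intersection of the centralisers -/
theorem commute_of_commute_mul {G : Type*} [Group G] [Finite G] (a b g : G) (hab : Commute a b)
    (hcop : (orderOf a).Coprime (orderOf b)) (hg : Commute g (a * b)) : Commute g a ∧ Commute g b := by
  constructor
  · -- `a = ((a*b)^(orderOf b))^v`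
    obtain ⟨v, hv⟩ := exists_pow_eq_self_of_coprime (x := a) (n := orderOf b) hcop.symm
    have h1 : (a * b) ^ orderOf b = a ^ orderOf b := by
      rw [hab.mul_pow, pow_orderOf_eq_one, mul_one]
    rw [← hv, ← h1]
    exact (hg.pow_right _).pow_right _
  · obtain ⟨v, hv⟩ := exists_pow_eq_self_of_coprime (x := b) (n := orderOf a) hcop
    have h1 : (a * b) ^ orderOf a = b ^ orderOf a := by
      rw [hab.mul_pow, pow_orderOf_eq_one, one_mul]
    rw [← hv, ← h1]
    exact (hg.pow_right _).pow_right _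

/-- E1 from helper4's core (`Lib/H4/SFE1Core`), A3/A4 (`Lib/H26/SFA`) and C2 (`Lib/H3/SFC2`). -/
theorem exists_mem_centralizer_coprime_aux {G : Type*} [Group G] [Finite G] (h : SFClass G) {r : ℕ}
    [Fact r.Prime] (N : Subgroup G) [N.Normal] (hN : IsPGroup r N) :
    ∃ a ∈ N, ∀ g : G, g * a = a * g → (orderOf g).Coprime r → ∀ n ∈ N, g * n = n * g := by
  refine Cfsg.Agent.Lib.H4.SF.exists_mem_centralizer_coprime_core ?_ ?_ N hN
  · intro N' hN'n hN'p x
    have := hN'n
    exact Cfsg.Agent.Lib.H26.SF.SFClass.relIndex_dvd_prime h N' hN'p x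
  · intro M _ U hUn hU hmin
    have := hUn
    exact Cfsg.Agent.Lib.H3.SF.SFClass.card_prime_of_minimal_normal
      (Cfsg.Agent.Lib.H26.SF.SFClass.quotient h M) U hU hmin

/-- **S4130-E3**. -/
theorem SFClass.exists_centralizer_le_fittingSubgroup {G : Type*} [Group G] [Finite G] (h : SFClass G) :
    ∃ a ∈ Cfsg.fittingSubgroup G,
      Subgroup.centralizer ({a} : Set G) ≤ Cfsg.fittingSubgroup G := by
  classical
  -- D1: `G' ≤ F(G)`
  have hGF : commutator G ≤ Cfsg.fittingSubgroup G :=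
    le_fittingSubgroup (by rw [commutator_def]; infer_instance)
      (Cfsg.Agent.Lib.H29.SF.SFClass.isNilpotent_commutator h)
  -- E1 for every prime
  have hE1 : ∀ r : Nat.Primes, ∃ a ∈ Cfsg.pCore (r : ℕ) G, ∀ g : G, g * a = a * g →
      (orderOf g).Coprime (r : ℕ) → ∀ n ∈ Cfsg.pCore (r : ℕ) G, g * n = n * g := by
    intro r
    have : Fact ((r : Nat.Primes) : ℕ).Prime := ⟨r.2⟩
    have : (Cfsg.pCore (r : ℕ) G).Normal := pCore_normal _ G
    exact exists_mem_centralizer_coprime_aux h (Cfsg.pCore (r : ℕ) G)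
      (pCore_isPGroup _ G)
  choose af haf1 haf2 using hE1
  -- the product, by induction over a finset of primes
  have hprod : ∀ T : Finset Nat.Primes, ∃ a ∈ coreSup T G,
      ∀ s ∈ T, ∀ g : G, Commute g a → Commute g (af s) := by
    intro T
    induction T using Finset.induction_on with
    | empty =>
      exact ⟨1, Subgroup.one_mem _, fun s hs => absurd hs (Finset.notMem_empty s)⟩
    | insert r T hr ih =>
      obtain ⟨a, haT, ha⟩ := ih
      have : Fact ((r : Nat.Primes) : ℕ).Prime := ⟨r.2⟩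
      have haC : a ∈ coreCompl (r : ℕ) G := coreSup_le_coreCompl T r hr haT
      have hcomm : Commute a (af r) :=
        (commute_of_mem_pCore_of_mem_coreCompl (r : ℕ) (af r) a (haf1 r) haC).symm
      have hcop : (orderOf a).Coprime (orderOf (af r)) := by
        obtain ⟨k, hk⟩ := (IsPGroup.iff_orderOf.1 (pCore_isPGroup (r : ℕ) G)) ⟨af r, haf1 r⟩
        rw [Subgroup.orderOf_mk] at hk
        rw [hk]
        exact Nat.Coprime.pow_right _ (orderOf_coprime_of_mem_coreCompl (r : ℕ) a haC)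
      refine ⟨a * af r, ?_, ?_⟩
      · rw [coreSup, Finset.iSup_insert]
        exact Subgroup.mul_mem _ (Subgroup.mem_sup_right haT) (Subgroup.mem_sup_left (haf1 r))
      · intro s hs g hg
        obtain ⟨hga, hgr⟩ := commute_of_commute_mul a (af r) g hcomm hcop hg
        rcases Finset.mem_insert.1 hs with rfl | hs'
        · exact hgr
        · exact ha s hs' g hga
  obtain ⟨T, hT⟩ : ∃ T : Finset Nat.Primes, T = (Nat.card G).primeFactors.subtype Nat.Prime := ⟨_, rfl⟩
  obtain ⟨a, haT, ha⟩ := hprod T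
  refine ⟨a, coreSup_le_fittingSubgroup T haT, ?_⟩
  intro g hg
  have hga : Commute g a := by
    rw [Subgroup.mem_centralizer_iff] at hg
    exact (hg a rfl).symm
  refine mem_of_forall_prime_power_mem (Cfsg.fittingSubgroup G) (fun g => Commute g a)
    (fun g k hg => hg.pow_left k) ?_ g hga
  rintro g hg ⟨q, k, hq, hk⟩
  have : Fact q.Prime := ⟨hq⟩
  apply mem_fittingSubgroup_of_centralizes_pCore hGF g ⟨k, hk⟩
  intro r hr hrq n hn
  by_cases hdvd : r ∣ Nat.card G
  · have hrT : (⟨r, hr⟩ : Nat.Primes) ∈ T := by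
      rw [hT]
      exact Finset.mem_subtype.2 (Nat.mem_primeFactors.2 ⟨hr, hdvd, Nat.card_pos.ne'⟩)
    have h1 : Commute g (af ⟨r, hr⟩) := ha _ hrT g hg
    have h2 : (orderOf g).Coprime r := by
      rw [hk]
      exact Nat.Coprime.pow_left _ ((Nat.coprime_primes hq hr).2 (Ne.symm hrq))
    exact haf2 ⟨r, hr⟩ g h1.eq h2 n hn
  · have : Fact r.Prime := ⟨hr⟩
    rw [pCore_eq_bot_of_not_dvd hdvd, Subgroup.mem_bot] at hn
    rw [hn, mul_one, one_mul]

end Cfsg.Agent.Lib.H21.SF
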