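/-
S4130 (lead architect), piece **E4**: for a group with squarefree class sizes, `G/F(G)` is cyclic of squarefree order.
`|G : F|` divides the class size of the element `a` of E3, and `G/F` is abelian (D1) of squarefree order, hence a
nilpotent Z-group, hence cyclic.
-/
import Mathlib
import Cfsg.Prelude.Def_SolvableStructure
import Cfsg.Prelude.Def_Solvable
import Cfsg.Agent.Lib.L0.SFDefs
import Cfsg.Agent.Lib.H21.SFE3

set_option autoImplicit false

namespace Cfsg.Agent.Lib.H21.SF

open Cfsg.Agent.Lib.L0.SF
open Cfsg.Agent.Lib.H1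

/-- a finite group whose commutator subgroup lies in the normal subgroup `N` of squarefree index has cyclic `G/N` -/
theorem isCyclic_quotient_of_commutator_le_of_squarefree_index {G : Type*} [Group G] [Finite G]
    (N : Subgroup G) [N.Normal] (hle : commutator G ≤ N) (hsf : Squarefree N.index) : IsCyclic (G ⧸ N) := by
  have hcomm : ∀ x y : G ⧸ N, x * y = y * x := by
    intro x y
    induction x using QuotientGroup.induction_on with
    | H x =>
      induction y using QuotientGroup.induction_on with
      | H y =>
        rw [← QuotientGroup.mk_mul, ← QuotientGroup.mk_mul, QuotientGroup.eq]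
        apply hle
        have h1 : (x * y)⁻¹ * (y * x) = y⁻¹ * x⁻¹ * y⁻¹⁻¹ * x⁻¹⁻¹ := by group
        rw [h1, commutator_def]
        exact Subgroup.commutator_mem_commutator (Subgroup.mem_top y⁻¹) (Subgroup.mem_top x⁻¹)
  let _ : CommGroup (G ⧸ N) := { (inferInstance : Group (G ⧸ N)) with mul_comm := hcomm }
  have : IsZGroup (G ⧸ N) := IsZGroup.of_squarefree (by rw [← Subgroup.index_eq_card]; exact hsf)
  have : Group.IsNilpotent (G ⧸ N) := CommGroup.isNilpotent
  infer_instance

/-- **S4130-E4**. -/
theorem SFClass.quotient_fittingSubgroup {G : Type*} [Group G] [Finite G] (h : SFClass G)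
    (hn : (Cfsg.fittingSubgroup G).Normal) :
    IsCyclic (G ⧸ Cfsg.fittingSubgroup G) ∧ Squarefree (Cfsg.fittingSubgroup G).index := by
  have hGF : commutator G ≤ Cfsg.fittingSubgroup G :=
    le_fittingSubgroup (by rw [commutator_def]; infer_instance)
      (Cfsg.Agent.Lib.H29.SF.SFClass.isNilpotent_commutator h)
  obtain ⟨a, _, hCa⟩ := SFClass.exists_centralizer_le_fittingSubgroup h
  have hsf : Squarefree (Cfsg.fittingSubgroup G).index :=
    Squarefree.squarefree_of_dvd (Subgroup.index_dvd_of_le hCa) (h a)
  exact ⟨isCyclic_quotient_of_commutator_le_of_squarefree_index _ hGF hsf, hsf⟩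

end Cfsg.Agent.Lib.H21.SF
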