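import Mathlib
import Cfsg.Prelude.Def_CaseTheorems
import Cfsg.Prelude.Def_Local
import Cfsg.Agent.Lib.H7.PComponent2
import Cfsg.Agent.Lib.H7.Quasisimple

/-!
# S2924, piece KEY1 (helper9's signature)

If `A ⊴ H` is central in a subnormal subgroup `L ≥ A` and `L / A` is quasisimple, then `⁅L, L⁆` is a
component of `H`.
-/

set_option autoImplicit false
open Cfsg
open scoped commutatorElement

namespace Cfsg.Agent.Lib.H21.SG

variable {H : Type*} [Group H]

theorem commutatorElement_mul_left_of_comm (x a y : H) (h : a * y = y * a) :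
    ⁅x * a, y⁆ = ⁅x, y⁆ := by
  rw [commutatorElement_def, commutatorElement_def]
  have h2 : a * y * a⁻¹ = y := by rw [h]; group
  calc x * a * y * (x * a)⁻¹ * y⁻¹ = x * (a * y * a⁻¹) * x⁻¹ * y⁻¹ := by group
    _ = x * y * x⁻¹ * y⁻¹ := by rw [h2]

theorem commutatorElement_mul_right_of_comm (x y b : H) (h : b * x = x * b) :
    ⁅x, y * b⁆ = ⁅x, y⁆ := by
  rw [commutatorElement_def, commutatorElement_def]
  have h2 : b * x⁻¹ * b⁻¹ = x⁻¹ := by
    have : b * x⁻¹ = x⁻¹ * b := by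
      calc b * x⁻¹ = x⁻¹ * (x * b) * x⁻¹ := by group
        _ = x⁻¹ * (b * x) * x⁻¹ := by rw [h]
        _ = x⁻¹ * b := by group
    rw [this]; group
  calc x * (y * b) * x⁻¹ * (y * b)⁻¹ = x * y * (b * x⁻¹ * b⁻¹) * y⁻¹ := by group
    _ = x * y * x⁻¹ * y⁻¹ := by rw [h2]

/-- If every element of `D` is a product of an element of `N` and a central element (central in a
subgroup `L` containing everything), then `⁅D, D⁆ ≤ N`. -/
theorem commutator_le_of_mul_central (A L D N : Subgroup H) (hAL : A ≤ L) (hNL : N ≤ L)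
    (hcent : ∀ a ∈ A, ∀ l ∈ L, a * l = l * a)
    (hD : ∀ d ∈ D, ∃ n ∈ N, ∃ a ∈ A, d = n * a) : ⁅D, D⁆ ≤ N := by
  rw [Subgroup.commutator_le]
  intro d₁ hd₁ d₂ hd₂
  obtain ⟨n₁, hn₁, a₁, ha₁, rfl⟩ := hD d₁ hd₁
  obtain ⟨n₂, hn₂, a₂, ha₂, rfl⟩ := hD d₂ hd₂
  have h1 : ⁅n₁ * a₁, n₂ * a₂⁆ = ⁅n₁, n₂ * a₂⁆ :=
    commutatorElement_mul_left_of_comm n₁ a₁ (n₂ * a₂)
      (hcent a₁ ha₁ (n₂ * a₂) (L.mul_mem (hNL hn₂) (hAL ha₂)))
  have h2 : ⁅n₁, n₂ * a₂⁆ = ⁅n₁, n₂⁆ :=
    commutatorElement_mul_right_of_comm n₁ n₂ a₂ (hcent a₂ ha₂ n₁ (hNL hn₁))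
  rw [h1, h2, commutatorElement_def]
  exact N.mul_mem (N.mul_mem (N.mul_mem hn₁ hn₂) (N.inv_mem hn₁)) (N.inv_mem hn₂)

variable [Finite H]

/-- KEY1. -/
theorem component_of_central_ext (A L : Subgroup H) [A.Normal] (hAL : A ≤ L)
    (hcent : L ≤ Subgroup.centralizer (A : Set H)) (hLs : L.IsSubnormal)
    (hq : Cfsg.IsQuasisimple ↥(L.map (QuotientGroup.mk' A))) : Cfsg.IsComponent ⁅L, L⁆ := by
  set π : H →* H ⧸ A := QuotientGroup.mk' A with hπ
  set Kb : Subgroup (H ⧸ A) := L.map π with hKb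
  set D : Subgroup H := ⁅L, L⁆ with hD
  have hcent' : ∀ a ∈ A, ∀ l ∈ L, a * l = l * a := by
    intro a ha l hl
    exact (Subgroup.mem_centralizer_iff.1 (hcent hl)) a ha
  have hDL : D ≤ L := by
    rw [hD, Subgroup.commutator_le]
    intro x hx y hy
    rw [commutatorElement_def]
    exact L.mul_mem (L.mul_mem (L.mul_mem hx hy) (L.inv_mem hx)) (L.inv_mem hy)
  -- `K̄` is perfect
  have hKperf : ⁅Kb, Kb⁆ = Kb := Subgroup.isPerfect_iff.1 hq.1
  have hDmap : D.map π = Kb := by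
    rw [hD, Subgroup.map_commutator, hKperf]
  -- every element of `L` is `d * a`
  have hLdec : ∀ l ∈ L, ∃ d ∈ D, ∃ a ∈ A, l = d * a := by
    intro l hl
    have h1 : π l ∈ D.map π := by rw [hDmap]; exact ⟨l, hl, rfl⟩
    obtain ⟨d, hd, hdl⟩ := h1
    refine ⟨d, hd, d⁻¹ * l, ?_, by group⟩
    have : π (d⁻¹ * l) = 1 := by rw [map_mul, map_inv, hdl]; group
    rwa [hπ, QuotientGroup.mk'_apply, QuotientGroup.eq_one_iff] at this
  -- `D` is perfect
  have hDperf : ⁅D, D⁆ = D := by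
    apply le_antisymm
    · rw [Subgroup.commutator_le]
      intro x hx y hy
      rw [commutatorElement_def]
      exact D.mul_mem (D.mul_mem (D.mul_mem hx hy) (D.inv_mem hx)) (D.inv_mem hy)
    · have h1 : ⁅L, L⁆ ≤ ⁅D, D⁆ := by
        have hD' : ⁅D, D⁆ ≤ L := le_trans (by
          rw [Subgroup.commutator_le]
          intro x hx y hy
          rw [commutatorElement_def]
          exact D.mul_mem (D.mul_mem (D.mul_mem hx hy) (D.inv_mem hx)) (D.inv_mem hy)) hDL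
        -- use the general lemma with `N = ⁅D, D⁆`... directly:
        rw [Subgroup.commutator_le]
        intro l₁ hl₁ l₂ hl₂
        obtain ⟨d₁, hd₁, a₁, ha₁, rfl⟩ := hLdec l₁ hl₁
        obtain ⟨d₂, hd₂, a₂, ha₂, rfl⟩ := hLdec l₂ hl₂
        have e1 : ⁅d₁ * a₁, d₂ * a₂⁆ = ⁅d₁, d₂ * a₂⁆ :=
          commutatorElement_mul_left_of_comm d₁ a₁ (d₂ * a₂)
            (hcent' a₁ ha₁ (d₂ * a₂) (L.mul_mem (hDL hd₂) (hAL ha₂)))
        have e2 : ⁅d₁, d₂ * a₂⁆ = ⁅d₁, d₂⁆ :=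
          commutatorElement_mul_right_of_comm d₁ d₂ a₂ (hcent' a₂ ha₂ d₁ (hDL hd₁))
        rw [e1, e2]
        exact Subgroup.commutator_mem_commutator hd₁ hd₂
      exact h1
  -- `D` is nontrivial
  have hDne : D ≠ ⊥ := by
    intro h0
    have hK0 : Kb = ⊥ := by rw [← hDmap, h0, Subgroup.map_bot]
    have hsimp := hq.2
    have hsub : Subsingleton ↥Kb := by
      rw [hK0]; infer_instance
    have : Subsingleton (↥Kb ⧸ Subgroup.center ↥Kb) := inferInstance
    exact not_subsingleton _ this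
  -- subnormality
  have hDsn : D.IsSubnormal := by
    refine Subgroup.IsSubnormal.step D L hDL hLs ?_
    constructor
    intro n hn g
    rw [Subgroup.mem_subgroupOf] at hn ⊢
    have : ((g * n * g⁻¹ : ↥L) : H) = (g : H) * (n : H) * (g : H)⁻¹ := by simp
    rw [this]
    have hnorm : ∀ x ∈ L, ∀ d ∈ D, x * d * x⁻¹ ∈ D := by
      intro x hx d hd
      have h1 : ⁅x, d⁆ ∈ D := Subgroup.commutator_mem_commutator hx (hDL hd)
      have h2 : x * d * x⁻¹ = ⁅x, d⁆ * d := by rw [commutatorElement_def]; group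
      rw [h2]
      exact D.mul_mem h1 hd
    exact hnorm g g.2 n hn
  refine ⟨hDsn, ?_⟩
  -- quasisimplicity of `↥D`
  have hperf : Group.IsPerfect ↥D := Subgroup.isPerfect_iff.2 hDperf
  have hnt : Nontrivial ↥D := by
    rw [Subgroup.nontrivial_iff_ne_bot]
    exact hDne
  apply Cfsg.Agent.Lib.H7.isQuasisimple_of_forall_normal hperf hnt
  intro N hN
  set N' : Subgroup H := N.map D.subtype with hN'
  have hN'D : N' ≤ D := by
    rintro _ ⟨n, _, rfl⟩
    exact n.2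
  have hN'norm : ∀ d ∈ D, ∀ n ∈ N', d * n * d⁻¹ ∈ N' := by
    rintro d hd _ ⟨n, hn, rfl⟩
    refine ⟨⟨d, hd⟩ * n * ⟨d, hd⟩⁻¹, hN.conj_mem n hn ⟨d, hd⟩, by simp⟩
  -- the image of `N'` in `K̄`
  set Mb : Subgroup ↥Kb := (N'.map π).subgroupOf Kb with hMb
  have hMbn : Mb.Normal := by
    constructor
    intro m hm k
    rw [hMb, Subgroup.mem_subgroupOf] at hm ⊢
    obtain ⟨n, hn, hnm⟩ := hm
    have hk : (k : H ⧸ A) ∈ D.map π := by rw [hDmap]; exact k.2
    obtain ⟨d, hd, hdk⟩ := hk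
    refine ⟨d * n * d⁻¹, hN'norm d hd n hn, ?_⟩
    simp only [map_mul, map_inv, hnm, hdk, Subgroup.coe_mul, Subgroup.coe_inv]
  rcases Cfsg.Agent.Lib.H7.quasisimple_normal hq Mb with htop | hcen
  · -- `N = ⊤`
    left
    have hK : Kb ≤ N'.map π := by
      rw [hMb, Subgroup.subgroupOf_eq_top] at htop
      exact htop
    have hdec : ∀ d ∈ D, ∃ n ∈ N', ∃ a ∈ A, d = n * a := by
      intro d hd
      have h1 : π d ∈ N'.map π := hK (by rw [← hDmap]; exact ⟨d, hd, rfl⟩)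
      obtain ⟨n, hn, hnd⟩ := h1
      refine ⟨n, hn, n⁻¹ * d, ?_, by group⟩
      have : π (n⁻¹ * d) = 1 := by rw [map_mul, map_inv, hnd]; group
      rwa [hπ, QuotientGroup.mk'_apply, QuotientGroup.eq_one_iff] at this
    have hDN : D ≤ N' := by
      have := commutator_le_of_mul_central A L D N' hAL (le_trans hN'D hDL) hcent' hdec
      rwa [hDperf] at this
    rw [eq_top_iff]
    intro x _
    obtain ⟨y, hy, hyx⟩ := hDN x.2
    have : y = x := Subtype.ext hyx
    rwa [this] at hy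
  · -- `N` central
    right
    have hcomm : ⁅N', D⁆ ≤ A := by
      rw [Subgroup.commutator_le]
      intro n hn d hd
      have hn' : π n ∈ Kb := by rw [← hDmap]; exact ⟨n, hN'D hn, rfl⟩
      have hd' : π d ∈ Kb := by rw [← hDmap]; exact ⟨d, hd, rfl⟩
      have hmem : (⟨π n, hn'⟩ : ↥Kb) ∈ Mb := by
        rw [hMb, Subgroup.mem_subgroupOf]
        exact ⟨n, hn, rfl⟩
      have hc := Subgroup.mem_center_iff.1 (hcen hmem) ⟨π d, hd'⟩
      have hc' : π d * π n = π n * π d := congrArg Subtype.val hc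
      have : π ⁅n, d⁆ = 1 := by
        rw [commutatorElement_def, map_mul, map_mul, map_mul, map_inv, map_inv, ← hc']
        group
      rwa [hπ, QuotientGroup.mk'_apply, QuotientGroup.eq_one_iff] at this
    have hAD : ⁅A, D⁆ = ⊥ := by
      rw [Subgroup.commutator_eq_bot_iff_le_centralizer]
      intro a ha
      rw [Subgroup.mem_centralizer_iff]
      intro d hd
      exact (hcent' a ha d (hDL hd)).symm
    have h1 : ⁅⁅N', D⁆, D⁆ = ⊥ := by
      rw [eq_bot_iff, ← hAD]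
      exact Subgroup.commutator_mono hcomm le_rfl
    have h2 : ⁅⁅D, N'⁆, D⁆ = ⊥ := by
      rw [Subgroup.commutator_comm D N']; exact h1
    have h3 : ⁅⁅D, D⁆, N'⁆ = ⊥ := Subgroup.commutator_commutator_eq_bot_of_rotate h2 h1
    rw [hDperf, Subgroup.commutator_eq_bot_iff_le_centralizer] at h3
    intro n hn
    rw [Subgroup.mem_center_iff]
    intro x
    have hx := Subgroup.mem_centralizer_iff.1 (h3 x.2) (n : H) ⟨n, hn, rfl⟩
    apply Subtype.ext
    simp only [Subgroup.coe_mul]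
    exact hx.symm

end Cfsg.Agent.Lib.H21.SG
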