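import Mathlib
import Cfsg.Prelude.Def_Characters
import Cfsg.Agent.Lib.L0.FiniteOrderEnd
import Cfsg.Agent.Lib.L0.CharBasic
import Cfsg.Agent.Lib.H17.SHINV2

/-!
# S3016 (Shult, odd `p`), CASE B with `|H| = 3`: helper26's LEMMA Q3 (pure representation theory)

`χ` a character of a finite group, `L` a subgroup, `a` normalising `L` with `χ (a l) = χ a` for all
`l ∈ L`.  Then `2 Re χ(a) - χ(1) ≤ Re χ(y)` for every `y ∈ L`.
(`E = ∑_{l ∈ L} ρ l` maps into `W = V^L`, `ρ a` preserves `W`, `tr (ρ a E) = |L| χ(a)` and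
`ρ a E = |L| ρ a` on `W`, so `χ(a) = tr (ρ a | W)`, `Re χ(a) ≤ dim W`; `y ∈ L` fixes `W` pointwise.)
-/

set_option autoImplicit false

namespace Cfsg.Agent.Lib.H21.SHQ3

open Module Cfsg.Agent.Lib.L0 Cfsg.Agent.Lib.H17.SH

section LinAlg

variable {G : Type*} [Group G] {V : Type*} [AddCommGroup V] [Module ℂ V]

/-- the fixed space `V^L` -/
def fixL (ρ : Representation ℂ G V) (L : Subgroup G) : Submodule ℂ V :=
  ⨅ l : L, Module.End.eigenspace (ρ (l : G)) 1

theorem mem_fixL (ρ : Representation ℂ G V) (L : Subgroup G) (v : V) :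
    v ∈ fixL ρ L ↔ ∀ l ∈ L, ρ l v = v := by
  simp [fixL, Submodule.mem_iInf]

variable [FiniteDimensional ℂ V]

theorem finrank_fixL_le (ρ : Representation ℂ G V) (L : Subgroup G) {y : G} (hy : y ∈ L) :
    finrank ℂ (fixL ρ L) ≤ finrank ℂ (Module.End.eigenspace (ρ y) 1) :=
  Submodule.finrank_mono (iInf_le (fun l : L => Module.End.eigenspace (ρ (l : G)) 1) ⟨y, hy⟩)

/-- `Re tr ρ(a) ≤ dim V^L` when `a` normalises `L` and `tr ρ(a l) = tr ρ(a)` on `L`. -/
theorem re_trace_le_finrank_fixL (ρ : Representation ℂ G V) (L : Subgroup G) [Fintype L] (a : G)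
    (n : ℕ) (hn : 0 < n) (han : a ^ n = 1) (hnorm : ∀ l ∈ L, a⁻¹ * l * a ∈ L)
    (hval : ∀ l ∈ L, LinearMap.trace ℂ V (ρ (a * l)) = LinearMap.trace ℂ V (ρ a)) :
    (LinearMap.trace ℂ V (ρ a)).re ≤ finrank ℂ (fixL ρ L) := by
  classical
  have hE : ∀ v, (∑ l : L, ρ (l : G)) v ∈ fixL ρ L := by
    intro v
    rw [mem_fixL]
    intro l' hl'
    simp only [LinearMap.sum_apply, map_sum]
    refine Fintype.sum_equiv (Equiv.mulLeft (⟨l', hl'⟩ : L)) _ _ ?_
    intro x
    simp [map_mul]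
  have hWa : ∀ w ∈ fixL ρ L, ρ a w ∈ fixL ρ L := by
    intro w hw
    rw [mem_fixL] at hw ⊢
    intro l hl
    have h1 : l * a = a * (a⁻¹ * l * a) := by group
    calc ρ l (ρ a w) = ρ (l * a) w := by rw [map_mul]; rfl
      _ = ρ a (ρ (a⁻¹ * l * a) w) := by rw [h1, map_mul]; rfl
      _ = ρ a w := by rw [hw _ (hnorm l hl)]
  have hEW : ∀ w ∈ fixL ρ L, (∑ l : L, ρ (l : G)) w = (Fintype.card L : ℂ) • w := by
    intro w hw
    rw [mem_fixL] at hw
    simp only [LinearMap.sum_apply]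
    rw [Finset.sum_congr rfl (fun (l : L) _ => hw (l : G) l.2), Finset.sum_const, Finset.card_univ,
      Nat.cast_smul_eq_nsmul]
  have hT : ∀ v, (ρ a * ∑ l : L, ρ (l : G)) v ∈ fixL ρ L := fun v => hWa _ (hE v)
  have htr := LinearMap.trace_restrict_eq_of_forall_mem (fixL ρ L) (ρ a * ∑ l : L, ρ (l : G)) hT
  have hres : (ρ a * ∑ l : L, ρ (l : G)).restrict (fun x _ => hT x) =
      (Fintype.card L : ℂ) • (ρ a).restrict hWa := by
    ext w
    simp only [LinearMap.coe_restrict_apply, Module.End.mul_apply, LinearMap.smul_apply,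
      Submodule.coe_smul]
    rw [hEW w w.2, map_smul]
  have htrT : LinearMap.trace ℂ V (ρ a * ∑ l : L, ρ (l : G)) =
      (Fintype.card L : ℂ) * LinearMap.trace ℂ V (ρ a) := by
    rw [Finset.mul_sum, map_sum]
    have h : ∀ l ∈ (Finset.univ : Finset L),
        LinearMap.trace ℂ V (ρ a * ρ (l : G)) = LinearMap.trace ℂ V (ρ a) := by
      intro l _
      rw [← map_mul]
      exact hval l l.2
    rw [Finset.sum_congr rfl h, Finset.sum_const, Finset.card_univ, nsmul_eq_mul]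
  have hcard : (Fintype.card L : ℂ) ≠ 0 := by exact_mod_cast Fintype.card_ne_zero
  have heq : LinearMap.trace ℂ V (ρ a) = LinearMap.trace ℂ (fixL ρ L) ((ρ a).restrict hWa) := by
    rw [hres, map_smul, htrT, smul_eq_mul] at htr
    exact (mul_left_cancel₀ hcard htr).symm
  have hpow : ((ρ a).restrict hWa) ^ n = 1 := by
    rw [Module.End.pow_restrict n hWa]
    ext w
    simp [← map_pow, han]
  have h2 := norm_trace_le hn hpow
  rw [heq]
  exact (Complex.re_le_norm _).trans h2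

end LinAlg

section Character

variable {G : Type*} [Group G] [Finite G]

/-- **LEMMA Q3**, value form. -/
theorem q3_rep_val (χ : G → ℂ) (hχ : Cfsg.IsCharacter G χ) (L : Subgroup G) (a : G)
    (hnorm : ∀ l ∈ L, a * l * a⁻¹ ∈ L) (hval : ∀ l ∈ L, χ (a * l) = χ a) (y : G) (hy : y ∈ L) :
    2 * (χ a).re - (χ 1).re ≤ (χ y).re := by
  classical
  obtain ⟨n, ρ, rfl⟩ := hχ
  let _ : Fintype L := Fintype.ofFinite L
  have ha : a ∈ Subgroup.normalizer (L : Set G) := Subgroup.mem_normalizer_fintype hnorm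
  have hnorm' : ∀ l ∈ L, a⁻¹ * l * a ∈ L := by
    intro l hl
    have h := (Subgroup.mem_normalizer_iff.1 (Subgroup.inv_mem _ ha) l).1 hl
    rwa [inv_inv] at h
  have h1 := re_trace_le_finrank_fixL ρ L a (orderOf a) (orderOf_pos a) (pow_orderOf_eq_one a)
    hnorm' hval
  have hy' : (ρ y) ^ orderOf y = 1 := by rw [← map_pow, pow_orderOf_eq_one, map_one]
  have h2 := re_trace_ge_of_pow_eq_one (ρ y) (orderOf y) (orderOf_pos y) hy'
  have h3 : (finrank ℂ (fixL ρ L) : ℝ) ≤ finrank ℂ (Module.End.eigenspace (ρ y) 1) := by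
    exact_mod_cast finrank_fixL_le ρ L hy
  have h4 : (ρ.character 1).re = (finrank ℂ (Fin n → ℂ) : ℝ) := by
    rw [Representation.char_one]
    simp
  simp only [Representation.character] at h4 ⊢
  linarith

/-- **LEMMA Q3**, conjugacy form (the output shape of helper23's `q3_glue`). -/
theorem q3_rep (χ : G → ℂ) (hχ : Cfsg.IsCharacter G χ) (L : Subgroup G) (a : G)
    (hnorm : ∀ l ∈ L, a * l * a⁻¹ ∈ L) (hconj : ∀ l ∈ L, IsConj (a * l) a) (y : G) (hy : y ∈ L) :
    2 * (χ a).re - (χ 1).re ≤ (χ y).re := by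
  refine q3_rep_val χ hχ L a hnorm ?_ y hy
  intro l hl
  obtain ⟨c, hc⟩ := isConj_iff.1 (hconj l hl)
  have h := isClassFunction_of_isCharacter hχ (a * l) c
  rw [hc] at h
  exact h.symm

end Character

end Cfsg.Agent.Lib.H21.SHQ3
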