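import Mathlib
import Cfsg.Agent.Lib.H21.DegQuot
import Cfsg.Agent.Lib.H12.SL2Count2
import Cfsg.Agent.Lib.H12.SL2Blocks
import Cfsg.Agent.Lib.H12.SL2Torus
import Cfsg.Agent.Lib.H12.SL2Ell
import Cfsg.Agent.S2434

/-!
# The character degrees of `SL₂(q)` and `PSL₂(q)`
-/

set_option autoImplicit false

namespace Cfsg.Agent.Lib.H21.Deg

open Cfsg Cfsg.Agent.Lib.H12 Cfsg.Agent.Lib.H24 Cfsg.Agent.Lib.L0

variable {F : Type*} [Field F] [Fintype F]

local notation "SL2" => Matrix.SpecialLinearGroup (Fin 2) F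
local notation "PSL2" => Matrix.ProjectiveSpecialLinearGroup (Fin 2) F

section list

variable [DecidableEq F]

/-- the possible degrees of irreducible characters of `SL₂(F)` -/
theorem charDegrees_sl2_cases {d : ℕ} (hd : d ∈ charDegrees SL2) :
    d = 1 ∨ d = Fintype.card F ∨ d = Fintype.card F + 1 ∨ d = Fintype.card F - 1 ∨
      d = (Fintype.card F + 1) / 2 ∨ d = (Fintype.card F - 1) / 2 := by
  obtain ⟨χ, rfl⟩ := hd
  have h := degN_mem_list χ
  rw [← charDegree_eq_degN] at h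
  simpa only [Finset.mem_insert, Finset.mem_singleton] using h

theorem charDegrees_sl2_cases_even (heven : Even (Fintype.card F)) {d : ℕ}
    (hd : d ∈ charDegrees SL2) :
    d = 1 ∨ d = Fintype.card F ∨ d = Fintype.card F + 1 ∨ d = Fintype.card F - 1 := by
  obtain ⟨χ, rfl⟩ := hd
  have h := degN_mem_list_even heven χ
  rw [← charDegree_eq_degN] at h
  simpa only [Finset.mem_insert, Finset.mem_singleton] using h

/-- `PSL₂` is the quotient of `SL₂` by its centre: its degrees are degrees of `SL₂` -/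
theorem charDegrees_psl2_subset : charDegrees PSL2 ⊆ charDegrees SL2 :=
  charDegrees_quotient_subset (Subgroup.center SL2)

theorem mem_charDegrees_psl2 {χ : SL2 → ℂ} (hχ : IsIrrCharacter SL2 χ) {d : ℕ}
    (hd : χ 1 = (d : ℂ)) (hz : χ negOneSL = χ 1) : d ∈ charDegrees PSL2 := by
  have h := mem_charDegrees_quotient (Subgroup.center SL2) ⟨χ, hχ⟩ (by
    intro n hn
    rcases sl2_center_cases n hn with rfl | rfl
    · rfl
    · rw [← negOneSL_eq_neg_one]; exact hz)
  rwa [Cfsg.Agent.Lib.H23.charDegree_eq_of_apply_one hd] at h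

theorem stCharSL_negOneSL : stCharSL (negOneSL : SL2) = stCharSL (1 : SL2) := by
  rw [stCharSL_one]
  unfold stCharSL
  rw [Pi.sub_apply, Pi.one_apply]
  have := psCharSL_one_neg_one (F := F)
  rw [show (negOneSL : SL2) = borelMkSL' ((-1 : Fˣ), (0 : F)) from rfl, this]
  ring

/-- `q` is a character degree of `PSL₂(q)` -/
theorem card_mem_charDegrees_psl2 : Fintype.card F ∈ charDegrees PSL2 :=
  mem_charDegrees_psl2 isIrrCharacter_stCharSL stCharSL_one stCharSL_negOneSL

theorem psCharSL_negOneSL (γ : MulChar F ℂ) :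
    psCharSL γ (negOneSL : SL2) = ((Fintype.card F : ℂ) + 1) * γ (-1) := by
  have h := psCharSL_borelMkSL γ (-1 : Fˣ) (0 : F)
  have h' : psCharSL γ (borelMkSL' ((-1 : Fˣ), (0 : F))) = _ := h
  rw [show (negOneSL : SL2) = borelMkSL' ((-1 : Fˣ), (0 : F)) from rfl, h']
  have hc : ∀ t : F, (((-1 : Fˣ) : F) * t + 0 = t * (((-1 : Fˣ)⁻¹ : Fˣ) : F)) := by
    intro t
    simp
  simp only [hc, if_true, Finset.sum_const, Finset.card_univ, nsmul_eq_mul]
  have : (((-1 : Fˣ)⁻¹ : Fˣ) : F) = -1 := by simp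
  rw [this]
  have : (((-1 : Fˣ) : Fˣ) : F) = -1 := by simp
  rw [this]
  ring

/-- a multiplicative character `γ` with `γ² ≠ 1` and `γ(-1) = 1` (`q ≥ 7`) -/
theorem exists_mulChar_even (hq : 7 ≤ Fintype.card F) :
    ∃ γ : MulChar F ℂ, γ ^ 2 ≠ 1 ∧ γ (-1) = 1 := by
  have hn0 : Fintype.card F - 1 ≠ 0 := by omega
  obtain ⟨χ, hχ⟩ := MulChar.exists_mulChar_orderOf F (n := Fintype.card F - 1) dvd_rfl
    (Complex.isPrimitiveRoot_exp _ hn0)
  refine ⟨χ ^ 2, ?_, ?_⟩
  · intro h
    rw [← pow_mul] at h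
    have := orderOf_dvd_of_pow_eq_one h
    rw [hχ] at this
    have := Nat.le_of_dvd (by norm_num) this
    omega
  · have h1 : (χ ^ 2) (((-1 : Fˣ) : Fˣ) : F) = χ (((-1 : Fˣ) : Fˣ) : F) ^ 2 :=
      MulChar.pow_apply_coe χ 2 (-1 : Fˣ)
    have h2 : (((-1 : Fˣ) : Fˣ) : F) = -1 := by simp
    rw [h2] at h1
    rw [h1, sq, ← map_mul]
    simp

/-- `q + 1` is a character degree of `PSL₂(q)`, `q ≥ 7` -/
theorem succ_mem_charDegrees_psl2 (hq : 7 ≤ Fintype.card F) :
    Fintype.card F + 1 ∈ charDegrees PSL2 := by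
  obtain ⟨γ, hγ, hγ1⟩ := exists_mulChar_even hq
  apply mem_charDegrees_psl2 (isIrrCharacter_psCharSL hγ)
  · rw [psCharSL_one_apply]; push_cast; ring
  · rw [psCharSL_negOneSL, hγ1, psCharSL_one_apply, mul_one]

/-- a homomorphism from a finite commutative group to `ℂˣ` separating a given element from `1` -/
theorem exists_hom_apply_ne_one {A : Type*} [Group A] [Finite A] (hcomm : ∀ a b : A, a * b = b * a)
    {a : A} (ha : a ≠ 1) : ∃ θ : A →* ℂˣ, θ a ≠ 1 := by
  let _ : CommGroup A := { (inferInstance : Group A) with mul_comm := hcomm }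
  exact CommGroup.exists_apply_ne_one_of_hasEnoughRootsOfUnity A ℂ ha

/-- `q - 1` is a character degree of `PSL₂(q)`, `q ≥ 7` odd -/
theorem pred_mem_charDegrees_psl2 (hodd : Odd (Fintype.card F)) (hq : 7 ≤ Fintype.card F) :
    Fintype.card F - 1 ∈ charDegrees PSL2 := by
  obtain ⟨t, ht⟩ := exists_noRoot (F := F)
  haveI := ht.fact
  set C : Subgroup SL2 := torusT t with hCdef
  have hcyc : IsCyclic C := isCyclic_torusT
  have hcard : Nat.card C = Fintype.card F + 1 := card_torusT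
  have hCt := isNonsplitTorus_of_cyclic hodd C hcyc hcard
  haveI : Finite C := Nat.finite_of_card_ne_zero (by rw [hcard]; omega)
  obtain ⟨g, hg⟩ := IsCyclic.exists_generator (α := C)
  have hord : orderOf g = Fintype.card F + 1 := by
    rw [orderOf_eq_card_of_forall_mem_zpowers hg, hcard]
  have hg4 : g ^ 4 ≠ 1 := by
    intro h
    have := orderOf_dvd_of_pow_eq_one h
    rw [hord] at this
    have := Nat.le_of_dvd (by norm_num) this
    omega
  have hcomm : ∀ a b : C, a * b = b * a := fun a b => Subtype.ext (hCt.comm a.2 b.2)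
  obtain ⟨φ, hφ⟩ := exists_hom_apply_ne_one hcomm hg4
  set θ : C →* ℂˣ := φ ^ 2 with hθ
  have hθc : ∃ c : C, θ c ^ 2 ≠ 1 := by
    refine ⟨g, ?_⟩
    rw [hθ, MonoidHom.pow_apply, ← pow_mul, ← map_pow]
    exact hφ
  obtain ⟨χ, hχ, hχ1, -, hcen, -, -⟩ := (Cfsg.Agent.S2434.result hodd C hcyc hcard).1 θ hθc
  apply mem_charDegrees_psl2 hχ (d := Fintype.card F - 1)
  · rw [hχ1]
    have : 1 ≤ Fintype.card F := by omega
    push_cast [this]
    ring
  · have hz : ((hCt.z : C) : SL2) = negOneSL := rfl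
    have h1 := hcen hCt.z (by rw [hz]; exact negOneSL_mem_center) 1
    rw [hz, mul_one] at h1
    rw [h1]
    have : θ hCt.z = 1 := by
      rw [hθ, MonoidHom.pow_apply, sq, ← map_mul]
      have : hCt.z * hCt.z = 1 := by
        apply Subtype.ext
        exact negOneSL_mul_self
      rw [this, map_one]
    rw [this, Units.val_one, one_mul]

/-! ### characteristic two -/

theorem negOneSL_eq_one_of_char_two [CharP F 2] : (negOneSL : SL2) = 1 := by
  rw [negOneSL_eq_neg_one]
  apply Subtype.ext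
  rw [Matrix.SpecialLinearGroup.coe_neg, Matrix.SpecialLinearGroup.coe_one]
  exact CharTwo.neg_eq _

theorem charDegrees_psl2_eq_of_char_two [CharP F 2] : charDegrees PSL2 = charDegrees SL2 := by
  apply Set.Subset.antisymm charDegrees_psl2_subset
  rintro d ⟨χ, rfl⟩
  exact mem_charDegrees_psl2 χ.2 (Cfsg.Agent.Lib.H23.apply_one_eq_charDegree _ χ.2)
    (by rw [negOneSL_eq_one_of_char_two])

theorem mem_charDegrees_of_natCard_pos {N : Type*} [Group N] [Finite N] {d : ℕ}
    (h : 0 < Nat.card {χ : IrrCharacter N // (χ : N → ℂ) 1 = ((d : ℕ) : ℂ)}) :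
    d ∈ charDegrees N := by
  haveI : Nonempty {χ : IrrCharacter N // (χ : N → ℂ) 1 = ((d : ℕ) : ℂ)} :=
    (Nat.card_pos_iff.mp h).1
  obtain ⟨χ, hχ⟩ := Classical.arbitrary {χ : IrrCharacter N // (χ : N → ℂ) 1 = ((d : ℕ) : ℂ)}
  exact ⟨χ, Cfsg.Agent.Lib.H23.charDegree_eq_of_apply_one hχ⟩

theorem card_mem_charDegrees_sl2 : Fintype.card F ∈ charDegrees SL2 :=
  charDegrees_psl2_subset card_mem_charDegrees_psl2

theorem succ_mem_charDegrees_sl2_even (heven : Even (Fintype.card F)) (hq : 4 ≤ Fintype.card F) :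
    Fintype.card F + 1 ∈ charDegrees SL2 := by
  classical
  have : Fintype (MulChar F ℂ) := Fintype.ofFinite _
  apply mem_charDegrees_of_natCard_pos
  have h := natCard_irr_deg_q_add_one (F := F)
  rw [card_mulChar_sq_ne_one_even heven] at h
  omega

theorem pred_mem_charDegrees_sl2_even [CharP F 2] (hq : 4 ≤ Fintype.card F) :
    Fintype.card F - 1 ∈ charDegrees SL2 := by
  apply mem_charDegrees_of_natCard_pos
  rw [natCard_irr_deg_cusp_even hq]
  omega

end list

end Cfsg.Agent.Lib.H21.Deg
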