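import Mathlib
import Cfsg.Agent.Lib.H21.SL2Deg

/-!
# The character degree graph of a group with degree set like `SL₂(q)`
-/

set_option autoImplicit false

namespace Cfsg.Agent.Lib.H21.Deg

open Cfsg

theorem sq_sub_one_eq (q : ℕ) (hq : 1 ≤ q) : q ^ 2 - 1 = (q - 1) * (q + 1) := by
  obtain ⟨m, rfl⟩ : ∃ m, q = m + 1 := ⟨q - 1, by omega⟩
  have : (m + 1) ^ 2 - 1 = m * (m + 2) := by
    have : (m + 1) ^ 2 = m * (m + 2) + 1 := by ring
    omega
  rw [this]
  rfl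

/-- arithmetic core: vertices and edges of the degree graph for a degree set
`D ⊆ {1, q} ∪ divisors(q+1) ∪ divisors(q-1)` containing `q`, `q + 1`, `q - 1`, `q = t^n` -/
theorem graph_core (S : Type*) [Group S] (q t n : ℕ) (ht : t.Prime) (hn : n ≠ 0) (hq : q = t ^ n)
    (hD : ∀ d ∈ charDegrees S, d = 1 ∨ d = q ∨ d ∣ q + 1 ∨ d ∣ q - 1)
    (h0 : q ∈ charDegrees S) (h1 : q + 1 ∈ charDegrees S) (h2 : q - 1 ∈ charDegrees S) :
    degreePrimes S = {r : ℕ | r.Prime ∧ r ∣ q * (q ^ 2 - 1)} ∧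
    ∀ r s : ℕ, (degreeGraph S).Adj r s ↔
      (r ≠ s ∧ r.Prime ∧ s.Prime ∧ ((r ∣ q + 1 ∧ s ∣ q + 1) ∨ (r ∣ q - 1 ∧ s ∣ q - 1))) := by
  have hq1 : 1 ≤ q := by rw [hq]; exact Nat.one_le_pow _ _ ht.pos
  have hfac := sq_sub_one_eq q hq1
  constructor
  · ext r
    rw [mem_degreePrimes_iff]
    simp only [Set.mem_ofPred_eq]
    constructor
    · rintro ⟨hr, d, hd, hrd⟩
      refine ⟨hr, ?_⟩
      rcases hD d hd with rfl | rfl | h | h
      · exact absurd (Nat.dvd_one.mp hrd) hr.one_lt.ne'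
      · exact Dvd.dvd.mul_right hrd _
      · rw [hfac]
        exact Dvd.dvd.mul_left (Dvd.dvd.mul_left (hrd.trans h) _) _
      · rw [hfac]
        exact Dvd.dvd.mul_left (Dvd.dvd.mul_right (hrd.trans h) _) _
    · rintro ⟨hr, hrd⟩
      refine ⟨hr, ?_⟩
      rcases (Nat.Prime.dvd_mul hr).mp hrd with h | h
      · exact ⟨q, h0, h⟩
      · rw [hfac] at h
        rcases (Nat.Prime.dvd_mul hr).mp h with h | h
        · exact ⟨q - 1, h2, h⟩
        · exact ⟨q + 1, h1, h⟩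
  · intro r s
    rw [degreeGraph_adj_iff]
    constructor
    · rintro ⟨hne, hr, hs, d, hd, hrs⟩
      refine ⟨hne, hr, hs, ?_⟩
      have hrd : r ∣ d := (Dvd.intro _ rfl).trans hrs
      have hsd : s ∣ d := (Dvd.intro_left _ rfl).trans hrs
      rcases hD d hd with rfl | rfl | h | h
      · exact absurd (Nat.dvd_one.mp hrd) hr.one_lt.ne'
      · exfalso
        rw [hq] at hrd hsd
        have e1 := (Nat.prime_dvd_prime_iff_eq hr ht).mp (hr.dvd_of_dvd_pow hrd)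
        have e2 := (Nat.prime_dvd_prime_iff_eq hs ht).mp (hs.dvd_of_dvd_pow hsd)
        exact hne (e1.trans e2.symm)
      · exact Or.inl ⟨hrd.trans h, hsd.trans h⟩
      · exact Or.inr ⟨hrd.trans h, hsd.trans h⟩
    · rintro ⟨hne, hr, hs, h | h⟩
      · exact ⟨hne, hr, hs, q + 1, h1,
          Nat.Coprime.mul_dvd_of_dvd_of_dvd ((Nat.coprime_primes hr hs).mpr hne) h.1 h.2⟩
      · exact ⟨hne, hr, hs, q - 1, h2,
          Nat.Coprime.mul_dvd_of_dvd_of_dvd ((Nat.coprime_primes hr hs).mpr hne) h.1 h.2⟩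

end Cfsg.Agent.Lib.H21.Deg
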