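import Mathlib
import Cfsg.Agent.Lib.H4.SLKDefs

set_option autoImplicit false
open Polynomial

/-!
# S2479 piece T1 (helper21), `_of` form: `det_eq_Dt_of` takes its five inputs as hypotheses
-/

namespace Cfsg.Agent.Lib.H21.SLK

open Cfsg.Agent.Lib.H12.Cls Cfsg.Agent.Lib.H4.SLK

universe u v
variable {F : Type u} [Field F]

/-- `sc` of a power of a monic polynomial, from multiplicativity -/
theorem sc_pow_of (hmul : ∀ g h : F[X], g.Monic → h.Monic → sc (g * h) = sc g * sc h)
    (φ : F[X]) (hφ : φ.Monic) (e : ℕ) : sc (φ ^ e) = sc φ ^ e := by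
  induction e with
  | zero =>
    rw [pow_zero, pow_zero]
    unfold sc
    simp
  | succ e ih =>
    rw [pow_succ, hmul _ _ (hφ.pow e) hφ, ih, pow_succ]

/-- T1, with the five inputs as hypotheses -/
theorem det_eq_Dt_of {n : ℕ} (A : GL (Fin n) F)
    (hX : ∀ g : F[X], g.Monic → nd (F := F) (F[X] ⧸ (F[X] ∙ g)) (X : F[X]) = sc g)
    (hmul : ∀ g h : F[X], g.Monic → h.Monic → sc (g * h) = sc g * sc h)
    (hdet : LinearMap.det (Matrix.toLin' (A : Matrix (Fin n) (Fin n) F)) =
      nd (F := F) (Module.AEval' (Matrix.toLin' (A : Matrix (Fin n) (Fin n) F))) (X : F[X]))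
    (hprod : nd (F := F) (Module.AEval' (Matrix.toLin' (A : Matrix (Fin n) (Fin n) F))) (X : F[X]) =
      ∏ i, nd (F := F) (Cyc F ((dataOf A).c i)) (X : F[X]))
    (hsc : ∏ i, sc (((dataOf A).c i).1) ^ ((dataOf A).c i).2 =
      ∏ j ∈ Finset.range (Module.finrank F (Fin n → F) + 1), sc ((dataOf A).gpoly j) ^ j) :
    (A : Matrix (Fin n) (Fin n) F).det = Dt (tupleOf A) := by
  rw [← LinearMap.det_toLin', hdet, hprod]
  have h1 : ∀ i, nd (F := F) (Cyc F ((dataOf A).c i)) (X : F[X]) = sc (((dataOf A).c i).1) ^ ((dataOf A).c i).2 := by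
    intro i
    have := hX ((((dataOf A).c i).1) ^ (((dataOf A).c i).2)) (((dataOf A).monic i).pow _)
    rw [sc_pow_of hmul _ ((dataOf A).monic i)] at this
    exact this
  rw [Finset.prod_congr rfl (fun i _ => h1 i), hsc, Module.finrank_fin_fun,
    Finset.prod_range_succ', pow_zero, mul_one, Finset.prod_range]
  rfl

end Cfsg.Agent.Lib.H21.SLK
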