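import Mathlib
import Cfsg.Agent.Lib.H4.SLKDefs
import Cfsg.Agent.Lib.H21.SLKP09of
import Cfsg.Agent.Lib.H24.SLKP01
import Cfsg.Agent.Lib.H24.SLKP05
import Cfsg.Agent.Lib.H24.SLKP07
import Cfsg.Agent.Lib.H9.SLKP08

set_option autoImplicit false
open Polynomial

/-!
# S2479 piece T1 (helper21): the determinant of an invertible matrix from its tuple of polynomials
-/

namespace Cfsg.Agent.Lib.H21.SLK

open Cfsg.Agent.Lib.H12.Cls Cfsg.Agent.Lib.H4.SLK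

universe u
variable {F : Type u} [Field F]

/-- **T1** -/
theorem det_eq_Dt {n : ℕ} (A : GL (Fin n) F) :
    (A : Matrix (Fin n) (Fin n) F).det = Dt (tupleOf A) :=
  det_eq_Dt_of A Cfsg.Agent.Lib.H24.SLK.nd_quot_X Cfsg.Agent.Lib.H24.SLK.sc_mul
    (Cfsg.Agent.Lib.H24.SLK.det_eq_nd_X _) (Cfsg.Agent.Lib.H9.SLK.nd_aeval_eq_prod _ _)
    (Cfsg.Agent.Lib.H24.SLK.prod_sc_eq _)

end Cfsg.Agent.Lib.H21.SLK
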