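import Mathlib
import Cfsg.Agent.Lib.H4.SLKDefs

set_option autoImplicit false
open Polynomial

/-!
# S2479 piece T2 (helper21), `_of` form: `exists_commute_det_of` takes its four inputs as hypotheses
-/

namespace Cfsg.Agent.Lib.H21.SLK

open Cfsg.Agent.Lib.H12.Cls Cfsg.Agent.Lib.H4.SLK

universe u v
variable {F : Type u} [Field F]

/-- an endomorphism commuting with `toLin' A`, with non-zero determinant `d`, gives an element of the
centraliser of `A` in `GL` with determinant `d` -/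
theorem exists_GL_of_end {n : ℕ} (A : GL (Fin n) F) (y : Module.End F (Fin n → F))
    (hy : y * Matrix.toLin' (A : Matrix (Fin n) (Fin n) F) =
      Matrix.toLin' (A : Matrix (Fin n) (Fin n) F) * y) (d : Fˣ) (hd : LinearMap.det y = (d : F)) :
    ∃ g : GL (Fin n) F, Commute g A ∧ Matrix.GeneralLinearGroup.det g = d := by
  have hdet : (LinearMap.toMatrix' y).det = (d : F) := by
    rw [LinearMap.det_toMatrix', hd]
  have hne : (LinearMap.toMatrix' y).det ≠ 0 := by
    rw [hdet]; exact d.ne_zero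
  refine ⟨Matrix.GeneralLinearGroup.mkOfDetNeZero (LinearMap.toMatrix' y) hne, ?_, ?_⟩
  · apply Units.ext
    show LinearMap.toMatrix' y * (A : Matrix (Fin n) (Fin n) F) =
      (A : Matrix (Fin n) (Fin n) F) * LinearMap.toMatrix' y
    have h := congrArg LinearMap.toMatrix' hy
    rw [LinearMap.toMatrix'_mul, LinearMap.toMatrix'_mul, LinearMap.toMatrix'_toLin'] at h
    exact h
  · apply Units.ext
    rw [Matrix.GeneralLinearGroup.val_det_apply]
    exact hdet

/-- T2, with the four inputs as hypotheses -/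
theorem exists_commute_det_of {n : ℕ} (A : GL (Fin n) F) (j : Fin n) (a : Fˣ)
    (hblock : ∃ i : (dataOf A).ι, ((dataOf A).c i).2 = (j : ℕ) + 1)
    (hnorm : ∀ φ : F[X], Irreducible φ → ∃ p : F[X], nd (F := F) (Cyc F (φ, 1)) p = (a : F))
    (hpow : ∀ (φ : F[X]) (_ : φ.Monic) (e : ℕ) (p : F[X]),
      nd (F := F) (Cyc F (φ, e)) p = nd (F := F) (Cyc F (φ, 1)) p ^ e)
    (hend : ∀ (i : (dataOf A).ι) (p : F[X]), ∃ y : Module.End F (Fin n → F),
      y * Matrix.toLin' (A : Matrix (Fin n) (Fin n) F) =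
        Matrix.toLin' (A : Matrix (Fin n) (Fin n) F) * y ∧
      LinearMap.det y = nd (F := F) (Cyc F ((dataOf A).c i)) p) :
    ∃ y : GL (Fin n) F, Commute y A ∧ Matrix.GeneralLinearGroup.det y = a ^ ((j : ℕ) + 1) := by
  obtain ⟨i, hi⟩ := hblock
  obtain ⟨p, hp⟩ := hnorm ((dataOf A).c i).1 ((dataOf A).irr i)
  obtain ⟨y, hy, hdet⟩ := hend i p
  have h1 : nd (F := F) (Cyc F ((dataOf A).c i)) p = ((a ^ ((j : ℕ) + 1) : Fˣ) : F) := by
    have h2 : nd (F := F) (Cyc F ((dataOf A).c i)) p =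
        nd (F := F) (Cyc F (((dataOf A).c i).1, 1)) p ^ ((dataOf A).c i).2 :=
      hpow ((dataOf A).c i).1 ((dataOf A).monic i) ((dataOf A).c i).2 p
    rw [h2, hp, hi, Units.val_pow_eq_pow_val]
  exact exists_GL_of_end A y hy (a ^ ((j : ℕ) + 1)) (hdet.trans h1)

end Cfsg.Agent.Lib.H21.SLK
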