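import Mathlib
import Cfsg.Agent.Lib.H4.SLKDefs
import Cfsg.Agent.Lib.H21.SLKP11of
import Cfsg.Agent.Lib.H8.SLKP04
import Cfsg.Agent.Lib.H8.SLKP06
import Cfsg.Agent.Lib.H18.SLKP10

set_option autoImplicit false
open Polynomial

/-!
# S2479 piece T2 (helper21): elements of the centraliser of a matrix with prescribed determinant `a ^ (j + 1)`,
for every block size `j + 1` that occurs
-/

namespace Cfsg.Agent.Lib.H21.SLK

open Cfsg.Agent.Lib.H12.Cls Cfsg.Agent.Lib.H4.SLK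

universe u
variable {F : Type u} [Field F]

/-- **T2** -/
theorem exists_commute_det [Finite F] {n : ℕ} (A : GL (Fin n) F) (j : Fin n)
    (hj : tupleOf A j ≠ 1) (a : Fˣ) :
    ∃ y : GL (Fin n) F, Commute y A ∧ Matrix.GeneralLinearGroup.det y = a ^ ((j : ℕ) + 1) :=
  exists_commute_det_of A j a (Cfsg.Agent.Lib.H8.SLK.exists_block A j hj)
    (fun φ hφ => Cfsg.Agent.Lib.H8.SLK.exists_nd_eq φ hφ (a : F)) Cfsg.Agent.Lib.H8.SLK.nd_cyc_pow
    (fun i p => Cfsg.Agent.Lib.H18.SLK.exists_commuting_end (dataOf A) i p)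

end Cfsg.Agent.Lib.H21.SLK
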