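import Mathlib
import Cfsg.Agent.Lib.H4.SLKDefs

set_option autoImplicit false
open Polynomial

/-!
# S2479 piece SP3 (helper21), `_of` form: `card_fiber_SL_le_of` takes SP1 and SP2 as hypotheses
-/

namespace Cfsg.Agent.Lib.H21.SLK

open Cfsg.Agent.Lib.H12.Cls Cfsg.Agent.Lib.H4.SLK

universe u
variable {F : Type u} [Field F]

/-- the range of `SL → GL` is the kernel of the determinant -/
theorem range_toGL_eq_ker_det {n : ℕ} :
    (Matrix.SpecialLinearGroup.toGL (n := Fin n) (R := F)).range =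
      (Matrix.GeneralLinearGroup.det (n := Fin n) (R := F)).ker := by
  ext g
  constructor
  · rintro ⟨s, rfl⟩
    rw [MonoidHom.mem_ker]
    apply Units.ext
    rw [Matrix.GeneralLinearGroup.val_det_apply]
    exact s.2
  · intro hg
    rw [MonoidHom.mem_ker] at hg
    have hdet : (g : Matrix (Fin n) (Fin n) F).det = 1 := by
      have := congrArg Units.val hg
      rwa [Matrix.GeneralLinearGroup.val_det_apply] at this
    refine ⟨⟨(g : Matrix (Fin n) (Fin n) F), hdet⟩, ?_⟩
    apply Units.ext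
    rfl

/-- SP3, with the two inputs as hypotheses -/
theorem card_fiber_SL_le_of [Fintype F] {n : ℕ}
    (hSP1 : ∀ (x : Matrix.SpecialLinearGroup (Fin n) F) (D : Subgroup Fˣ),
      (∀ a ∈ D, ∃ y : GL (Fin n) F, Commute y (Matrix.SpecialLinearGroup.toGL x) ∧
        Matrix.GeneralLinearGroup.det y = a) →
      Nat.card {c : ConjClasses (Matrix.SpecialLinearGroup (Fin n) F) //
        ConjClasses.map (Matrix.SpecialLinearGroup.toGL (n := Fin n) (R := F)) c =
          ConjClasses.mk (Matrix.SpecialLinearGroup.toGL x)} ≤ D.index)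
    (hSP2 : ∀ (J : Finset ℕ) (D : Subgroup Fˣ), (∀ j ∈ J, ∀ a : Fˣ, a ^ j ∈ D) →
      D.index ∣ Nat.gcd (Nat.card Fˣ) (J.gcd id))
    (x : Matrix.SpecialLinearGroup (Fin n) F) (J : Finset ℕ)
    (hJ : ∀ j ∈ J, ∀ a : Fˣ, ∃ y : GL (Fin n) F,
      Commute y (Matrix.SpecialLinearGroup.toGL x) ∧ Matrix.GeneralLinearGroup.det y = a ^ j) :
    Nat.card {c : ConjClasses (Matrix.SpecialLinearGroup (Fin n) F) //
      ConjClasses.map (Matrix.SpecialLinearGroup.toGL (n := Fin n) (R := F)) c =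
        ConjClasses.mk (Matrix.SpecialLinearGroup.toGL x)} ≤
      Nat.gcd (Fintype.card F - 1) (J.gcd id) := by
  classical
  -- the determinants of the centraliser
  let D : Subgroup Fˣ :=
    (Subgroup.centralizer ({Matrix.SpecialLinearGroup.toGL x} : Set (GL (Fin n) F))).map
      (Matrix.GeneralLinearGroup.det (n := Fin n) (R := F))
  have hD : ∀ a ∈ D, ∃ y : GL (Fin n) F, Commute y (Matrix.SpecialLinearGroup.toGL x) ∧
      Matrix.GeneralLinearGroup.det y = a := by
    rintro a ⟨y, hy, rfl⟩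
    refine ⟨y, ?_, rfl⟩
    exact Subgroup.mem_centralizer_singleton_iff.mp hy
  have hD' : ∀ j ∈ J, ∀ a : Fˣ, a ^ j ∈ D := by
    intro j hj a
    obtain ⟨y, hy, hdet⟩ := hJ j hj a
    refine ⟨y, ?_, hdet⟩
    exact Subgroup.mem_centralizer_singleton_iff.mpr hy.eq
  have h1 := hSP1 x D hD
  have h2 := hSP2 J D hD'
  have hcard : Nat.card Fˣ = Fintype.card F - 1 := by
    rw [Nat.card_eq_fintype_card, Fintype.card_units]
  rw [hcard] at h2
  have hq : 1 < Fintype.card F := Fintype.one_lt_card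
  have hpos : 0 < Nat.gcd (Fintype.card F - 1) (J.gcd id) :=
    Nat.gcd_pos_of_pos_left _ (by omega)
  exact h1.trans (Nat.le_of_dvd hpos h2)

end Cfsg.Agent.Lib.H21.SLK
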