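import Mathlib
import Cfsg.Agent.Lib.H4.SLKDefs
import Cfsg.Agent.Lib.H21.SLKP14of
import Cfsg.Agent.Lib.H5.SLKP12
import Cfsg.Agent.Lib.H5.SLKP13

set_option autoImplicit false
open Polynomial

/-!
# S2479 piece SP3 (helper21): a `GL`-class splits into at most `gcd (q - 1, gcd J)` classes of `SL`
-/

namespace Cfsg.Agent.Lib.H21.SLK

open Cfsg.Agent.Lib.H12.Cls Cfsg.Agent.Lib.H4.SLK

universe u
variable {F : Type u} [Field F]

/-- **SP3** -/
theorem card_fiber_SL_le [Fintype F] {n : ℕ} (x : Matrix.SpecialLinearGroup (Fin n) F)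
    (J : Finset ℕ)
    (hJ : ∀ j ∈ J, ∀ a : Fˣ, ∃ y : GL (Fin n) F,
      Commute y (Matrix.SpecialLinearGroup.toGL x) ∧ Matrix.GeneralLinearGroup.det y = a ^ j) :
    Nat.card {c : ConjClasses (Matrix.SpecialLinearGroup (Fin n) F) //
      ConjClasses.map (Matrix.SpecialLinearGroup.toGL (n := Fin n) (R := F)) c =
        ConjClasses.mk (Matrix.SpecialLinearGroup.toGL x)} ≤
      Nat.gcd (Fintype.card F - 1) (J.gcd id) :=
  card_fiber_SL_le_of
    (fun x D hD => Cfsg.Agent.Lib.H5.SLK.card_fiber_le_index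
      (Matrix.SpecialLinearGroup.toGL (n := Fin n) (R := F))
      Matrix.SpecialLinearGroup.toGL_injective (Matrix.GeneralLinearGroup.det (n := Fin n) (R := F))
      range_toGL_eq_ker_det x D hD)
    (fun J D hD => Cfsg.Agent.Lib.H5.SLK.index_dvd_gcd J D hD) x J hJ

end Cfsg.Agent.Lib.H21.SLK
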