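import Mathlib
import Cfsg.Agent.S4072

/-!
# S4073 piece CA2 (architect helper23), tools: Bezout on exponents, the structure of a solvable
non-nilpotent SN-subgroup in terms of elements of the ambient group, centralizers in minimal
non-abelian `p`-groups, cyclic Sylow subgroups.
-/

set_option autoImplicit false

namespace Cfsg.Agent.Lib.H21.SNS

open Cfsg.Agent.S4072 (SN)

/-- Bezout on exponents. -/
theorem ca2_coprime_pow_mem {G : Type*} [Group G] {H : Subgroup G} {g : G} {a b : ℕ}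
    (hab : a.Coprime b) (ha : g ^ a ∈ H) (hb : g ^ b ∈ H) : g ∈ H := by
  have hg : Nat.gcd a b = 1 := hab
  have h1 : (1 : ℤ) = a * a.gcdA b + b * a.gcdB b := by
    have := Nat.gcd_eq_gcd_ab a b
    rw [hg] at this
    exact_mod_cast this
  have h2 : g = (g ^ a) ^ (a.gcdA b) * (g ^ b) ^ (a.gcdB b) := by
    rw [← zpow_natCast, ← zpow_natCast, ← zpow_mul, ← zpow_mul, ← zpow_add, ← h1, zpow_one]
  rw [h2]
  exact H.mul_mem (H.zpow_mem ha _) (H.zpow_mem hb _)

/-- L3 (local copy): centralizers of non-central elements in a minimal non-abelian `p`-group. -/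
theorem ca2_minnonab_centralizer {S : Type*} [Group S] [Finite S] (p : ℕ) [Fact p.Prime]
    (hS : IsPGroup p S) (hmin : ∀ H : Subgroup S, H ≠ ⊤ → IsMulCommutative H) (w : S)
    (hw : w ∉ Subgroup.center S) :
    (Subgroup.centralizer ({w} : Set S)).index = p ∧
      ∀ H : Subgroup S, H ≠ ⊤ → w ∈ H → H ≤ Subgroup.centralizer ({w} : Set S) := by
  have hp := (Fact.out : p.Prime)
  have hsub : ∀ H : Subgroup S, H ≠ ⊤ → w ∈ H → H ≤ Subgroup.centralizer ({w} : Set S) := by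
    intro H hH hwH g hg
    rw [Subgroup.mem_centralizer_singleton_iff]
    have h1 := (hmin H hH).is_comm.comm ⟨g, hg⟩ ⟨w, hwH⟩
    exact congrArg Subtype.val h1
  refine ⟨?_, hsub⟩
  obtain ⟨Cw, hCw⟩ : ∃ Cw, Cw = Subgroup.centralizer ({w} : Set S) := ⟨_, rfl⟩
  rw [← hCw]
  have hwC : w ∈ Cw := by
    rw [hCw, Subgroup.mem_centralizer_singleton_iff]
  have hCne : Cw ≠ ⊤ := by
    intro h
    apply hw
    rw [Subgroup.mem_center_iff]
    intro g
    have h1 : g ∈ Cw := by rw [h]; trivial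
    rw [hCw, Subgroup.mem_centralizer_singleton_iff] at h1
    exact h1
  obtain ⟨n, hn⟩ := IsPGroup.iff_card.1 hS
  obtain ⟨j, hj⟩ := IsPGroup.iff_card.1 (hS.to_subgroup Cw)
  have hjn : j < n := by
    by_contra hge
    push Not at hge
    apply hCne
    apply Subgroup.eq_top_of_card_eq
    rw [hj, hn]
    apply le_antisymm
    · have h1 := Subgroup.card_le_card_group Cw
      rw [hj, hn] at h1
      exact h1
    · exact Nat.pow_le_pow_right hp.pos hge
  obtain ⟨K, hK, hCK⟩ := Sylow.exists_subgroup_card_pow_prime_le p (n := j) (m := n - 1)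
    (by rw [hn]; exact pow_dvd_pow p (by omega)) Cw hj (by omega)
  have hKne : K ≠ ⊤ := by
    intro h
    rw [h, Subgroup.card_top, hn] at hK
    have h2 : n = n - 1 := Nat.pow_right_injective hp.two_le hK
    omega
  have hKeq : K = Cw := le_antisymm (by rw [hCw]; exact hsub K hKne (hCK hwC)) hCK
  have h3 := Subgroup.card_mul_index Cw
  rw [← hKeq, hK, hn] at h3
  have h4 : p ^ n = p ^ (n - 1) * p := by
    rw [← pow_succ]
    congr 1
    omega
  rw [h4] at h3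
  rw [← hKeq]
  exact Nat.eq_of_mul_eq_mul_left (pow_pos hp.pos _) h3

/-- the structure of a solvable non-nilpotent SN-subgroup `K = ⟨y⟩ ⋉ A`, in terms of elements of
the ambient group. -/
theorem ca2_fw {G : Type*} [Group G] [Finite G] (K : Subgroup G) (hSN : SN ↥K)
    (hsol : Group.IsSolvable ↥K) (hnn : ¬ Group.IsNilpotent ↥K) :
    ∃ (y : G) (A : Subgroup G) (p k : ℕ), p.Prime ∧ y ∈ K ∧ A ≤ K ∧
      (∀ g ∈ K, ∀ a ∈ A, g * a * g⁻¹ ∈ A) ∧ (∀ a ∈ A, ∀ b ∈ A, a * b = b * a) ∧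
      orderOf y = p ^ k ∧ ¬ p ∣ Nat.card A ∧ Nat.card K = p ^ k * Nat.card A ∧
      (∀ g ∈ K, ∃ n : ℕ, ∃ a ∈ A, g = y ^ n * a) ∧ (∀ g ∈ K, y ^ p * g = g * y ^ p) ∧
      (∀ a ∈ A, a ≠ 1 → y * a * y⁻¹ ≠ a) := by
  haveI := hsol
  obtain ⟨x, A, p, hp, hAn, hAc, ⟨k, hk⟩, hpA, hcompl, hz, hfpf⟩ :=
    Cfsg.Agent.S4071.forward hnn hSN
  have hcardA : Nat.card (A.map K.subtype) = Nat.card A :=
    Subgroup.card_map_of_injective K.subtype_injective
  refine ⟨(x : G), A.map K.subtype, p, k, hp, x.2, Subgroup.map_subtype_le A, ?_, ?_, ?_, ?_, ?_,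
    ?_, ?_, ?_⟩
  · rintro g hg _ ⟨a, ha, rfl⟩
    exact ⟨⟨g, hg⟩ * a * ⟨g, hg⟩⁻¹, hAn.conj_mem a ha _, rfl⟩
  · rintro _ ⟨a, ha, rfl⟩ _ ⟨b, hb, rfl⟩
    have h1 := hAc.is_comm.comm ⟨a, ha⟩ ⟨b, hb⟩
    have h2 := congrArg Subtype.val h1
    exact congrArg Subtype.val h2
  · rw [Subgroup.orderOf_coe]; exact hk
  · rw [hcardA]; exact hpA
  · rw [hcardA, ← hcompl.card_mul_card, Nat.card_zpowers, hk]
  · intro g hg
    obtain ⟨⟨⟨s, hs⟩, ⟨t, ht⟩⟩, hst⟩ := hcompl.2 ⟨g, hg⟩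
    have hs' := ((isOfFinOrder_of_finite x).mem_powers_iff_mem_zpowers).2 hs
    obtain ⟨n, hn⟩ := (Submonoid.mem_powers_iff s x).1 hs'
    refine ⟨n, (t : G), ⟨t, ht, rfl⟩, ?_⟩
    have h1 : (⟨g, hg⟩ : K) = x ^ n * t := by rw [hn]; exact hst.symm
    have h2 := congrArg Subtype.val h1
    simpa using h2
  · intro g hg
    have h1 := Subgroup.mem_center_iff.1 hz ⟨g, hg⟩
    have h2 := congrArg Subtype.val h1
    simpa using h2.symm
  · rintro _ ⟨a, ha, rfl⟩ ha1 h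
    apply hfpf a ha
    · intro h1
      apply ha1
      rw [h1]
      rfl
    · apply Subtype.ext
      simpa using h

end Cfsg.Agent.Lib.H21.SNS
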