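import Mathlib
import Cfsg.Agent.S4072
import Cfsg.Agent.Lib.H21.SNSCA2a

/-!
# S4073 piece CA2 (architect helper23): in a simple non-abelian SN-group no centralizer of a
non-identity element is solvable and non-nilpotent.
-/

set_option autoImplicit false
set_option linter.style.haveILetI false

namespace Cfsg.Agent.Lib.H21.SNS

open Cfsg.Agent.S4072 (SN)

theorem ca2_nilpotent_of_comm {G : Type*} [Group G] (C : Subgroup G)
    (hcomm : ∀ g₁ ∈ C, ∀ g₂ ∈ C, g₁ * g₂ = g₂ * g₁) : Group.IsNilpotent ↥C := by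
  letI : CommGroup ↥C :=
    { (inferInstance : Group ↥C) with
      mul_comm := fun a b => Subtype.ext (hcomm a a.2 b b.2) }
  exact CommGroup.isNilpotent

/-- a proper subgroup of a `p`-group lies in a normal subgroup of index `p`. -/
theorem ca2_exists_max {S : Type*} [Group S] [Finite S] (p : ℕ) [Fact p.Prime]
    (hS : IsPGroup p S) (H : Subgroup S) (hH : H ≠ ⊤) :
    ∃ K : Subgroup S, H ≤ K ∧ K ≠ ⊤ ∧ K.index = p ∧ K.Normal := by
  have hp := (Fact.out : p.Prime)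
  obtain ⟨n, hn⟩ := IsPGroup.iff_card.1 hS
  obtain ⟨j, hj⟩ := IsPGroup.iff_card.1 (hS.to_subgroup H)
  have hjn : j < n := by
    by_contra hge
    push Not at hge
    apply hH
    apply Subgroup.eq_top_of_card_eq
    rw [hj, hn]
    apply le_antisymm
    · have h1 := Subgroup.card_le_card_group H
      rw [hj, hn] at h1
      exact h1
    · exact Nat.pow_le_pow_right hp.pos hge
  obtain ⟨K, hK, hHK⟩ := Sylow.exists_subgroup_card_pow_prime_le p (n := j) (m := n - 1)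
    (by rw [hn]; exact pow_dvd_pow p (by omega)) H hj (by omega)
  have hKne : K ≠ ⊤ := by
    intro h
    rw [h, Subgroup.card_top, hn] at hK
    have h2 : n = n - 1 := Nat.pow_right_injective hp.two_le hK
    omega
  have hidx : K.index = p := by
    have h3 := Subgroup.card_mul_index K
    rw [hK, hn] at h3
    have h4 : p ^ n = p ^ (n - 1) * p := by
      rw [← pow_succ]
      congr 1
      omega
    rw [h4] at h3
    exact Nat.eq_of_mul_eq_mul_left (pow_pos hp.pos _) h3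
  refine ⟨K, hHK, hKne, hidx, ?_⟩
  apply Subgroup.normal_of_index_eq_minFac_card
  rw [hidx, hn, Nat.Prime.pow_minFac hp (by omega)]

/-- (b): a `p`-group `S` which is an SN-group, with `C_S(x) = ⟨y⟩` and `x ∈ ⟨y^p⟩`, is `⟨y⟩`. -/
theorem ca2_sylow_cyclic {S : Type*} [Group S] [Finite S] (p : ℕ) [Fact p.Prime]
    (hS : IsPGroup p S) (hsn : SN S) (x y : S) (hx : x ∈ Subgroup.zpowers (y ^ p))
    (hC : Subgroup.centralizer ({x} : Set S) = Subgroup.zpowers y) :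
    Subgroup.zpowers y = ⊤ := by
  haveI : Group.IsNilpotent S := hS.isNilpotent
  rcases (Cfsg.Agent.S4075.result (G := S)).1 hsn with hab | ⟨-, hna, hmin⟩
  · rw [← hC, eq_top_iff]
    intro g _
    rw [Subgroup.mem_centralizer_singleton_iff]
    exact hab.is_comm.comm g x
  · by_contra hne
    have hxc : x ∉ Subgroup.center S := by
      intro hxc
      apply hne
      rw [← hC, eq_top_iff]
      intro g _
      rw [Subgroup.mem_centralizer_singleton_iff]
      exact Subgroup.mem_center_iff.1 hxc g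
    obtain ⟨-, hsub⟩ := ca2_minnonab_centralizer p hS hmin x hxc
    rw [hC] at hsub
    obtain ⟨s, hs⟩ : ∃ s, s ∉ Subgroup.zpowers y := by
      by_contra h
      push Not at h
      exact hne (eq_top_iff.2 fun g _ => h g)
    have hsne : Subgroup.zpowers s ≠ ⊤ := by
      intro h
      apply hna
      refine ⟨⟨fun a b => ?_⟩⟩
      have ha : a ∈ Subgroup.zpowers s := by rw [h]; trivial
      have hb : b ∈ Subgroup.zpowers s := by rw [h]; trivial
      obtain ⟨i, rfl⟩ := Subgroup.mem_zpowers_iff.1 ha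
      obtain ⟨j, rfl⟩ := Subgroup.mem_zpowers_iff.1 hb
      rw [← zpow_add, ← zpow_add, add_comm]
    obtain ⟨K, hsK, hKne, hKidx, hKn⟩ := ca2_exists_max p hS _ hsne
    haveI := hKn
    have hyp : y ^ p ∈ K := by
      have h1 := Subgroup.pow_index_mem K y
      rwa [hKidx] at h1
    have hxK : x ∈ K := (Subgroup.zpowers_le.2 hyp) hx
    exact hs (hsub K hKne hxK (hsK (Subgroup.mem_zpowers s)))

section decomp

variable {G : Type*} [Group G] {K A : Subgroup G} {y : G}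

/-- products in `K = ⟨y⟩ A`. -/
theorem ca2_prod (hyK : y ∈ K) (hAn : ∀ g ∈ K, ∀ a ∈ A, g * a * g⁻¹ ∈ A)
    {n₁ n₂ : ℕ} {a₁ a₂ : G} (ha₁ : a₁ ∈ A) (ha₂ : a₂ ∈ A) :
    ∃ a ∈ A, (y ^ n₁ * a₁) * (y ^ n₂ * a₂) = y ^ (n₁ + n₂) * a := by
  refine ⟨(y ^ n₂)⁻¹ * a₁ * ((y ^ n₂)⁻¹)⁻¹ * a₂,
    A.mul_mem (hAn _ (K.inv_mem (K.pow_mem hyK _)) _ ha₁) ha₂, ?_⟩
  rw [pow_add]
  group

theorem ca2_pow (hyK : y ∈ K) (hAn : ∀ g ∈ K, ∀ a ∈ A, g * a * g⁻¹ ∈ A)
    {n : ℕ} {a : G} (ha : a ∈ A) (m : ℕ) :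
    ∃ a' ∈ A, (y ^ n * a) ^ m = y ^ (n * m) * a' := by
  induction m with
  | zero => exact ⟨1, A.one_mem, by simp⟩
  | succ m ih =>
    obtain ⟨a', ha', h1⟩ := ih
    obtain ⟨a'', ha'', h2⟩ := ca2_prod hyK hAn (n₁ := n * m) (n₂ := n) ha' ha
    refine ⟨a'', ha'', ?_⟩
    rw [pow_succ, h1, h2, Nat.mul_succ]

/-- `g ^ |y| ∈ A` for `g ∈ K = ⟨y⟩ A`. -/
theorem ca2_pow_mem (hyK : y ∈ K) (hAn : ∀ g ∈ K, ∀ a ∈ A, g * a * g⁻¹ ∈ A)
    (hdec : ∀ g ∈ K, ∃ n : ℕ, ∃ a ∈ A, g = y ^ n * a) {N : ℕ} (hN : y ^ N = 1)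
    {g : G} (hg : g ∈ K) : g ^ N ∈ A := by
  obtain ⟨n, a, ha, rfl⟩ := hdec g hg
  obtain ⟨a', ha', h1⟩ := ca2_pow hyK hAn (n := n) ha N
  rw [h1, mul_comm n N, pow_mul, hN, one_pow, one_mul]
  exact ha'

/-- commutators of `K = ⟨y⟩ A` lie in `A`. -/
theorem ca2_comm_mem (hyK : y ∈ K) (hAn : ∀ g ∈ K, ∀ a ∈ A, g * a * g⁻¹ ∈ A)
    (hdec : ∀ g ∈ K, ∃ n : ℕ, ∃ a ∈ A, g = y ^ n * a)
    {g₁ g₂ : G} (h₁ : g₁ ∈ K) (h₂ : g₂ ∈ K) : g₁ * g₂ * g₁⁻¹ * g₂⁻¹ ∈ A := by
  obtain ⟨n₁, a₁, ha₁, rfl⟩ := hdec g₁ h₁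
  obtain ⟨n₂, a₂, ha₂, rfl⟩ := hdec g₂ h₂
  obtain ⟨b, hb, e1⟩ := ca2_prod hyK hAn (n₁ := n₁) (n₂ := n₂) ha₁ ha₂
  obtain ⟨b', hb', e2⟩ := ca2_prod hyK hAn (n₁ := n₂) (n₂ := n₁) ha₂ ha₁
  have h3 : (y ^ n₁ * a₁) * (y ^ n₂ * a₂) * (y ^ n₁ * a₁)⁻¹ * (y ^ n₂ * a₂)⁻¹
      = ((y ^ n₁ * a₁) * (y ^ n₂ * a₂)) * ((y ^ n₂ * a₂) * (y ^ n₁ * a₁))⁻¹ := by group
  rw [h3, e1, e2, add_comm n₂ n₁]
  have h4 : y ^ (n₁ + n₂) * b * (y ^ (n₁ + n₂) * b')⁻¹
      = y ^ (n₁ + n₂) * (b * b'⁻¹) * (y ^ (n₁ + n₂))⁻¹ := by group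
  rw [h4]
  exact hAn _ (K.pow_mem hyK _) _ (A.mul_mem hb (A.inv_mem hb'))

end decomp

/-- CA2 (solvable non-nilpotent centralizer is impossible). -/
theorem ca2 {G : Type*} [Group G] [Finite G] [IsSimpleGroup G] (hna : ¬ IsMulCommutative G)
    (h : SN G) (x : G) (hx : x ≠ 1)
    (hsol : Group.IsSolvable ↥(Subgroup.centralizer ({x} : Set G)))
    (hnn : ¬ Group.IsNilpotent ↥(Subgroup.centralizer ({x} : Set G))) : False := by
  classical
  obtain ⟨C, hCdef⟩ : ∃ C, C = Subgroup.centralizer ({x} : Set G) := ⟨_, rfl⟩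
  rw [← hCdef] at hsol hnn
  have hmemC : ∀ g, g ∈ C ↔ g * x = x * g := by
    intro g
    rw [hCdef, Subgroup.mem_centralizer_singleton_iff]
  obtain ⟨y, A, p, k, hp, hyC, hAC, hAn, hAc, hyo, hpA, hcardC, hdec, hyp, hfpf⟩ :=
    ca2_fw C (h.subgroup C) hsol hnn
  haveI : Fact p.Prime := ⟨hp⟩
  have hyk : y ^ (p ^ k) = 1 := by rw [← hyo, pow_orderOf_eq_one]
  -- `A ≠ 1`
  have hA1 : ∃ a ∈ A, a ≠ 1 := by
    by_contra hno
    push Not at hno
    apply hnn
    apply ca2_nilpotent_of_comm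
    intro g₁ h₁ g₂ h₂
    obtain ⟨n₁, a₁, ha₁, rfl⟩ := hdec g₁ h₁
    obtain ⟨n₂, a₂, ha₂, rfl⟩ := hdec g₂ h₂
    rw [hno a₁ ha₁, hno a₂ ha₂, mul_one, mul_one, ← pow_add, ← pow_add, add_comm]
  obtain ⟨a₀, ha₀, ha₀1⟩ := hA1
  -- elements of `A` commuting with `y` are trivial
  have hfpf' : ∀ a ∈ A, a * y = y * a → a = 1 := by
    intro a ha hc
    by_contra hne
    apply hfpf a ha hne
    rw [← hc]
    group
  -- `⟨y⟩ ∩ A' = 1` for every subgroup `A'` of order prime to `p`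
  have hmeet : ∀ (B : Subgroup G), ¬ p ∣ Nat.card B → ∀ c, c ∈ Subgroup.zpowers y → c ∈ B →
      c = 1 := by
    intro B hpB c hc1 hc2
    have h1 : c ^ (p ^ k) = 1 := by
      obtain ⟨i, rfl⟩ := Subgroup.mem_zpowers_iff.1 hc1
      rw [← zpow_natCast, ← zpow_mul, mul_comm, zpow_mul, zpow_natCast, hyk, one_zpow]
    have h2 : c ^ (Nat.card B) = 1 := by
      have h3 := pow_card_eq_one' (G := B) (x := ⟨c, hc2⟩)
      have h4 := congrArg Subtype.val h3
      rw [Subgroup.coe_pow, Subgroup.coe_one] at h4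
      exact h4
    have hcop : (p ^ k).Coprime (Nat.card B) :=
      Nat.Coprime.pow_left k ((Nat.Prime.coprime_iff_not_dvd hp).2 hpB)
    have h5 := ca2_coprime_pow_mem (H := ⊥) hcop (by rw [h1]; exact Subgroup.mem_bot.2 rfl)
      (by rw [h2]; exact Subgroup.mem_bot.2 rfl)
    exact Subgroup.mem_bot.1 h5
  -- (a): `x ∈ ⟨y ^ p⟩`
  have hxC : x ∈ C := (hmemC x).2 rfl
  have hxa : x ∈ Subgroup.zpowers (y ^ p) := by
    obtain ⟨n, a, ha, hxe⟩ := hdec x hxC
    have hyx : y * x = x * y := (hmemC y).1 hyC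
    have ha1 : a = 1 := by
      apply hfpf' a ha
      have h1 : y * (y ^ n * a) = (y ^ n * a) * y := by rw [← hxe]; exact hyx
      have h2 : y ^ n * (y * a) = y ^ n * (a * y) := by
        calc y ^ n * (y * a) = y * (y ^ n * a) := by
              rw [← mul_assoc, ← mul_assoc, ← pow_succ, ← pow_succ']
          _ = (y ^ n * a) * y := h1
          _ = y ^ n * (a * y) := by rw [mul_assoc]
      exact (mul_left_cancel h2).symm
    rw [ha1, mul_one] at hxe
    by_cases hpn : p ∣ n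
    · obtain ⟨m, rfl⟩ := hpn
      rw [hxe, pow_mul]
      exact Subgroup.pow_mem _ (Subgroup.mem_zpowers _) m
    · exfalso
      have hcop : n.Coprime (p ^ k) :=
        Nat.Coprime.pow_right k ((Nat.Prime.coprime_iff_not_dvd hp).2 hpn).symm
      have hyx' : y ∈ Subgroup.zpowers x :=
        ca2_coprime_pow_mem hcop (by rw [← hxe]; exact Subgroup.mem_zpowers x)
          (by rw [hyk]; exact one_mem _)
      obtain ⟨i, hi⟩ := Subgroup.mem_zpowers_iff.1 hyx'
      have h1 : a₀ * x = x * a₀ := (hmemC a₀).1 (hAC ha₀)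
      have h2 : a₀ * y = y * a₀ := by
        rw [← hi]
        exact ((Commute.zpow_right (show Commute a₀ x from h1) i)).eq
      exact ha₀1 (hfpf' a₀ ha₀ h2)
  have hxy : x ∈ Subgroup.zpowers y :=
    (Subgroup.zpowers_le.2 (Subgroup.pow_mem _ (Subgroup.mem_zpowers y) p)) hxa
  -- (b): a Sylow `p`-subgroup containing `y` is `⟨y⟩`
  have hzy : IsPGroup p (Subgroup.zpowers y) :=
    IsPGroup.of_card (n := k) (by rw [Nat.card_zpowers, hyo])
  obtain ⟨S, hS⟩ := hzy.exists_le_sylow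
  have hyS : y ∈ (S : Subgroup G) := hS (Subgroup.mem_zpowers y)
  have hxS : x ∈ (S : Subgroup G) := hS hxy
  have hSC : (S : Subgroup G) ⊓ C = Subgroup.zpowers y := by
    symm
    apply Subgroup.eq_of_le_of_card_ge (le_inf hS (Subgroup.zpowers_le.2 hyC))
    obtain ⟨j, hj⟩ := IsPGroup.iff_card.1 (S.isPGroup'.to_le (inf_le_left : (S : Subgroup G) ⊓ C ≤ S))
    have h1 : Nat.card ↥((S : Subgroup G) ⊓ C) ∣ Nat.card C :=
      Subgroup.card_dvd_of_le inf_le_right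
    rw [hj, hcardC] at h1
    have hcop : (p ^ j).Coprime (Nat.card A) :=
      Nat.Coprime.pow_left j ((Nat.Prime.coprime_iff_not_dvd hp).2 hpA)
    have h2 : p ^ j ∣ p ^ k := hcop.dvd_of_dvd_mul_right h1
    rw [hj, Nat.card_zpowers, hyo]
    exact Nat.le_of_dvd (pow_pos hp.pos _) h2
  have hSeq : ∀ g, g ∈ (S : Subgroup G) → g ∈ Subgroup.zpowers y := by
    have h1 := ca2_sylow_cyclic (S := ↥(S : Subgroup G)) p S.isPGroup' (h.subgroup _)
      ⟨x, hxS⟩ ⟨y, hyS⟩ ?_ ?_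
    · intro g hg
      have h2 : (⟨g, hg⟩ : ↥(S : Subgroup G)) ∈ Subgroup.zpowers (⟨y, hyS⟩ : ↥(S : Subgroup G)) := by
        rw [h1]; trivial
      obtain ⟨i, hi⟩ := Subgroup.mem_zpowers_iff.1 h2
      refine Subgroup.mem_zpowers_iff.2 ⟨i, ?_⟩
      have h3 := congrArg Subtype.val hi
      simpa using h3
    · obtain ⟨i, hi⟩ := Subgroup.mem_zpowers_iff.1 hxa
      refine Subgroup.mem_zpowers_iff.2 ⟨i, ?_⟩
      apply Subtype.ext
      simpa using hi
    · ext g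
      rw [Subgroup.mem_centralizer_singleton_iff]
      constructor
      · intro hg
        have h2 : (g : G) * x = x * g := by
          have h3 := congrArg Subtype.val hg
          simpa using h3
        have h3 : (g : G) ∈ (S : Subgroup G) ⊓ C := ⟨g.2, (hmemC _).2 h2⟩
        rw [hSC] at h3
        obtain ⟨i, hi⟩ := Subgroup.mem_zpowers_iff.1 h3
        refine Subgroup.mem_zpowers_iff.2 ⟨i, ?_⟩
        apply Subtype.ext
        simpa using hi
      · intro hg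
        obtain ⟨i, hi⟩ := Subgroup.mem_zpowers_iff.1 hg
        apply Subtype.ext
        have h2 : (g : G) = y ^ i := by
          rw [← hi]; simp
        have h3 : y * x = x * y := (hmemC y).1 hyC
        show (g : G) * x = x * (g : G)
        rw [h2]
        exact ((Commute.zpow_left (show Commute y x from h3) i)).eq
  -- (c): Burnside transfer
  have hw : ∃ w, w ∈ Subgroup.normalizer ((S : Subgroup G) : Set G) ∧ w * y ≠ y * w := by
    by_contra hno
    push Not at hno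
    have hNC : Subgroup.normalizer ((S : Subgroup G) : Set G) ≤
        Subgroup.centralizer ((S : Subgroup G) : Set G) := by
      intro w hw
      rw [Subgroup.mem_centralizer_iff]
      intro g hg
      obtain ⟨i, rfl⟩ := Subgroup.mem_zpowers_iff.1 (hSeq g hg)
      exact ((Commute.zpow_left (show Commute y w from (hno w hw).symm) i)).eq
    have hcomp := MonoidHom.ker_transferSylow_isComplement' S hNC
    rcases (MonoidHom.normal_ker (MonoidHom.transferSylow S hNC)).eq_bot_or_eq_top with hb | ht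
    · rw [hb, Subgroup.isComplement'_bot_left] at hcomp
      apply hna
      refine ⟨⟨fun a b => ?_⟩⟩
      have ha : a ∈ (S : Subgroup G) := by rw [hcomp]; trivial
      have hb' : b ∈ (S : Subgroup G) := by rw [hcomp]; trivial
      obtain ⟨i, rfl⟩ := Subgroup.mem_zpowers_iff.1 (hSeq a ha)
      obtain ⟨j, rfl⟩ := Subgroup.mem_zpowers_iff.1 (hSeq b hb')
      rw [← zpow_add, ← zpow_add, add_comm]
    · rw [ht, Subgroup.isComplement'_top_left] at hcomp
      have hy1 : y = 1 := by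
        have : y ∈ (S : Subgroup G) := hyS
        rw [hcomp] at this
        exact Subgroup.mem_bot.1 this
      apply ha₀1
      apply hfpf' a₀ ha₀
      rw [hy1, mul_one, one_mul]
  obtain ⟨w, hwN, hwy⟩ := hw
  -- (d): `L = N_G(⟨x⟩)`
  obtain ⟨L, hLdef⟩ : ∃ L, L = Subgroup.normalizer ((Subgroup.zpowers x : Subgroup G) : Set G) :=
    ⟨_, rfl⟩
  have hCL : C ≤ L := by
    intro g hg
    rw [hLdef]
    apply Subgroup.mem_normalizer_fintype
    intro n hn
    obtain ⟨i, rfl⟩ := Subgroup.mem_zpowers_iff.1 hn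
    have h1 : g * x = x * g := (hmemC g).1 hg
    have h2 : g * x ^ i = x ^ i * g := ((Commute.zpow_right (show Commute g x from h1) i)).eq
    rw [h2, mul_inv_cancel_right]
    exact hn
  have hwyS : w * y * w⁻¹ ∈ Subgroup.zpowers y :=
    hSeq _ ((Subgroup.mem_normalizer_iff.1 hwN y).1 hyS)
  have hwL : w ∈ L := by
    rw [hLdef]
    apply Subgroup.mem_normalizer_fintype
    intro n hn
    obtain ⟨i, rfl⟩ := Subgroup.mem_zpowers_iff.1 hn
    obtain ⟨m, hm⟩ := Subgroup.mem_zpowers_iff.1 hxy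
    obtain ⟨t, ht⟩ := Subgroup.mem_zpowers_iff.1 hwyS
    have h1 : w * x * w⁻¹ = x ^ t := by
      rw [← hm, ← conj_zpow, ← ht, ← zpow_mul, ← zpow_mul, mul_comm]
    have h2 : w * x ^ i * w⁻¹ = (x ^ t) ^ i := by rw [← h1, conj_zpow]
    rw [h2]
    exact Subgroup.zpow_mem _ (Subgroup.zpow_mem _ (Subgroup.mem_zpowers x) t) i
  have hLnn : ¬ Group.IsNilpotent ↥L := by
    intro hL
    apply hnn
    haveI := hL
    exact Group.nilpotent_of_mulEquiv (Subgroup.subgroupOfEquivOfLe hCL)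
  have hxL : x ∈ L := hCL hxC
  have hLsol : Group.IsSolvable ↥L := by
    rcases Cfsg.Agent.S4072.result (h.subgroup L) with hs | hsimp
    · exact hs
    · exfalso
      haveI := hsimp
      have hNn : ((Subgroup.zpowers x).subgroupOf L).Normal := by
        rw [hLdef]
        exact Subgroup.normal_in_normalizer
      rcases hNn.eq_bot_or_eq_top with hb | ht
      · have h1 : (⟨x, hxL⟩ : L) ∈ (Subgroup.zpowers x).subgroupOf L := by
          rw [Subgroup.mem_subgroupOf]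
          exact Subgroup.mem_zpowers x
        rw [hb, Subgroup.mem_bot] at h1
        exact hx (congrArg Subtype.val h1)
      · apply hnn
        apply ca2_nilpotent_of_comm
        intro g₁ h₁ g₂ h₂
        have e1 : (⟨g₁, hCL h₁⟩ : L) ∈ (Subgroup.zpowers x).subgroupOf L := by rw [ht]; trivial
        have e2 : (⟨g₂, hCL h₂⟩ : L) ∈ (Subgroup.zpowers x).subgroupOf L := by rw [ht]; trivial
        rw [Subgroup.mem_subgroupOf] at e1 e2
        obtain ⟨i, hi⟩ := Subgroup.mem_zpowers_iff.1 e1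
        obtain ⟨j, hj⟩ := Subgroup.mem_zpowers_iff.1 e2
        simp only at hi hj
        rw [← hi, ← hj, ← zpow_add, ← zpow_add, add_comm]
  obtain ⟨v, B, r, m, hr, hvL, hBL, hBn, hBc, hvo, hrB, hcardL, hdecL, hvr, hfpfL⟩ :=
    ca2_fw L (h.subgroup L) hLsol hLnn
  have hvm : v ^ (r ^ m) = 1 := by rw [← hvo, pow_orderOf_eq_one]
  have hyL : y ∈ L := hCL hyC
  by_cases hrp : r = p
  · -- `r = p`
    have hc1 : w * y * w⁻¹ * y⁻¹ ∈ B := ca2_comm_mem hvL hBn hdecL hwL hyL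
    have hc2 : w * y * w⁻¹ * y⁻¹ ∈ Subgroup.zpowers y :=
      Subgroup.mul_mem _ hwyS (Subgroup.inv_mem _ (Subgroup.mem_zpowers y))
    have hc3 := hmeet B (by rw [← hrp]; exact hrB) _ hc2 hc1
    apply hwy
    have h5 : w * y = (w * y * w⁻¹ * y⁻¹) * (y * w) := by group
    rw [h5, hc3, one_mul]
  · -- `r ≠ p`
    have hyB : y ∈ B := by
      have h1 : y ^ (r ^ m) ∈ B := ca2_pow_mem hvL hBn hdecL hvm hyL
      have hcop : (r ^ m).Coprime (p ^ k) :=
        Nat.Coprime.pow _ _ ((Nat.coprime_primes hr hp).2 hrp)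
      exact ca2_coprime_pow_mem hcop h1 (by rw [hyk]; exact one_mem _)
    have hc1 : a₀ * y * a₀⁻¹ * y⁻¹ ∈ B :=
      B.mul_mem (hBn a₀ (hCL (hAC ha₀)) y hyB) (B.inv_mem hyB)
    have hc2 : a₀ * y * a₀⁻¹ * y⁻¹ ∈ A := by
      have h5 : a₀ * y * a₀⁻¹ * y⁻¹ = a₀ * (y * a₀⁻¹ * y⁻¹) := by group
      rw [h5]
      exact A.mul_mem ha₀ (hAn y hyC _ (A.inv_mem ha₀))
    have hc3 : a₀ * y * a₀⁻¹ * y⁻¹ = 1 := hfpf' _ hc2 (hBc _ hc1 _ hyB)
    apply ha₀1
    apply hfpf' a₀ ha₀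
    have h5 : a₀ * y = (a₀ * y * a₀⁻¹ * y⁻¹) * (y * a₀) := by group
    rw [h5, hc3, one_mul]

end Cfsg.Agent.Lib.H21.SNS
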