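import Mathlib
import Cfsg.Agent.Lib.H22.TwoGroupAb4

set_option autoImplicit false

/-!
# Towards: 2-groups of sectional rank two containing `D₈` or `Q₈` have maximal class

Part A: groups of order 8 and 16.
-/

namespace Cfsg.Agent.Lib.H21.SecRank2

open scoped commutatorElement

/-- A nonabelian group of order `8` has derived subgroup of order `2`, equal to the centre. -/
theorem card_eight_facts {X : Type*} [Group X] [Finite X] (h8 : Nat.card X = 8)
    (hna : ∃ a b : X, a * b ≠ b * a) :
    Nat.card (commutator X) = 2 ∧ commutator X = Subgroup.center X := by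
  haveI : Fact (Nat.Prime 2) := ⟨Nat.prime_two⟩
  have hX : IsPGroup 2 X := IsPGroup.of_card (n := 3) (by rw [h8]; norm_num)
  have hnt : Nontrivial X := by
    rw [← Finite.one_lt_card_iff_nontrivial, h8]; norm_num
  have hZnt := hX.center_nontrivial
  have hZ1 : 1 < Nat.card (Subgroup.center X) := Finite.one_lt_card_iff_nontrivial.mpr hZnt
  have hmul := Subgroup.card_mul_index (Subgroup.center X)
  rw [h8] at hmul
  have hcomm_of : (∀ a b : X, a * b = b * a) → False := by
    intro h
    obtain ⟨a, b, hab⟩ := hna
    exact hab (h a b)
  have hidx : (Subgroup.center X).index = 4 := by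
    have hdvd : (Subgroup.center X).index ∣ 8 := ⟨_, by rw [mul_comm]; exact hmul.symm⟩
    have hle : (Subgroup.center X).index ≤ 8 := Nat.le_of_dvd (by norm_num) hdvd
    have h1 : (Subgroup.center X).index ≠ 1 := by
      intro h
      rw [Subgroup.index_eq_one] at h
      apply hcomm_of
      intro a b
      have : b ∈ Subgroup.center X := h ▸ Subgroup.mem_top b
      exact Subgroup.mem_center_iff.mp this a
    have h2 : (Subgroup.center X).index ≠ 2 := by
      intro h
      have hc : Nat.card (X ⧸ Subgroup.center X) = 2 := by
        rw [← Subgroup.index_eq_card]; exact h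
      haveI : IsCyclic (X ⧸ Subgroup.center X) := isCyclic_of_prime_card hc
      apply hcomm_of
      exact commutative_of_cyclic_center_quotient (QuotientGroup.mk' (Subgroup.center X))
        (by rw [QuotientGroup.ker_mk'])
    have h8' : (Subgroup.center X).index ≠ 8 := by
      intro h
      rw [h] at hmul
      omega
    interval_cases h : (Subgroup.center X).index <;> simp_all
  have hcZ : Nat.card (Subgroup.center X) = 2 := by
    rw [hidx] at hmul; omega
  have hq : Nat.card (X ⧸ Subgroup.center X) = 2 ^ 2 := by
    rw [← Subgroup.index_eq_card, hidx]; norm_num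
  have hqc := IsPGroup.commutative_of_card_eq_prime_sq hq
  have hle : commutator X ≤ Subgroup.center X := by
    rw [commutator_def, Subgroup.commutator_le]
    intro a _ b _
    rw [← QuotientGroup.eq_one_iff, commutatorElement_def]
    simp only [QuotientGroup.mk_mul, QuotientGroup.mk_inv]
    rw [hqc (a : X ⧸ Subgroup.center X) b]
    group
  have hne : commutator X ≠ ⊥ := by
    intro h
    apply hcomm_of
    intro a b
    have hm : ⁅a, b⁆ ∈ commutator X := by
      rw [commutator_def]
      exact Subgroup.commutator_mem_commutator (Subgroup.mem_top a) (Subgroup.mem_top b)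
    rw [h, Subgroup.mem_bot, commutatorElement_def] at hm
    calc a * b = (a * b * a⁻¹ * b⁻¹) * (b * a) := by group
      _ = b * a := by rw [hm, one_mul]
  have hcdvd : Nat.card (commutator X) ∣ 2 := hcZ ▸ Subgroup.card_dvd_of_le hle
  have hc1 : Nat.card (commutator X) ≠ 1 := by
    intro h
    exact hne (Subgroup.card_eq_one.mp h)
  have hc2 : Nat.card (commutator X) = 2 := by
    rcases (Nat.dvd_prime Nat.prime_two).mp hcdvd with h | h
    · exact absurd h hc1
    · exact h
  exact ⟨hc2, Subgroup.eq_of_le_of_card_ge hle (by rw [hc2, hcZ])⟩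

/-- If `c = [x, h]` commutes with `x` and `c² = 1` then `x²` commutes with `h`. -/
theorem sq_comm_of_comm {Q : Type*} [Group Q] (x h c : Q) (hc : x * h * x⁻¹ * h⁻¹ = c)
    (hcx : c * x = x * c) (hc2 : c * c = 1) : x * x * h = h * (x * x) := by
  have e1 : x * h = c * h * x := by rw [← hc]; group
  calc x * x * h = x * (x * h) := by group
    _ = x * (c * h * x) := by rw [e1]
    _ = (x * c) * h * x := by group
    _ = (c * x) * h * x := by rw [hcx]
    _ = c * (x * h) * x := by group
    _ = c * (c * h * x) * x := by rw [e1]
    _ = (c * c) * h * (x * x) := by group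
    _ = h * (x * x) := by rw [hc2, one_mul]

end Cfsg.Agent.Lib.H21.SecRank2
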