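import Mathlib
import Cfsg.Agent.Lib.H21.SecRank2A

set_option autoImplicit false

/-!
# Part B: the order 16 step
-/

namespace Cfsg.Agent.Lib.H21.SecRank2

open scoped commutatorElement

/-- A normal subgroup of order two is central. -/
theorem central_of_normal_card_two {Q : Type*} [Group Q] (C : Subgroup Q) [hC : C.Normal]
    (h2 : Nat.card C = 2) (c : Q) (hc : c ∈ C) (x : Q) : c * x = x * c := by
  by_cases hc1 : c = 1
  · rw [hc1, one_mul, mul_one]
  obtain ⟨y, -, hy⟩ := (Nat.card_eq_two_iff' (1 : C)).mp h2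
  have h1 : (⟨c, hc⟩ : C) = y := hy _ (fun h => hc1 (congrArg Subtype.val h))
  have hm : x * c * x⁻¹ ∈ C := hC.conj_mem c hc x
  have h2' : (⟨x * c * x⁻¹, hm⟩ : C) = y := by
    apply hy
    intro h
    have : x * c * x⁻¹ = 1 := congrArg Subtype.val h
    apply hc1
    calc c = x⁻¹ * (x * c * x⁻¹) * x := by group
      _ = 1 := by rw [this]; group
  have : x * c * x⁻¹ = c := congrArg Subtype.val (h2'.trans h1.symm)
  calc c * x = (x * c * x⁻¹) * x := by rw [this]
    _ = x * c := by group

/-- A group of order `8` has `|R : R'| ≥ 4`. -/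
theorem four_le_index_commutator_of_card_eight {R : Type*} [Group R] [Finite R]
    (h8 : Nat.card R = 8) : 4 ≤ (commutator R).index := by
  by_cases hc : ∀ a b : R, a * b = b * a
  · rw [Cfsg.Agent.Lib.H22.commutator_eq_bot_of_comm hc, Subgroup.index_bot, h8]
    norm_num
  · push Not at hc
    obtain ⟨a, b, hab⟩ := hc
    obtain ⟨h2, -⟩ := card_eight_facts h8 ⟨a, b, hab⟩
    have := Subgroup.card_mul_index (commutator R)
    rw [h2, h8] at this
    omega

/-- The order 16 step. -/
theorem index_commutator_of_card_sixteen {Q : Type*} [Group Q] [Finite Q] (h16 : Nat.card Q = 16)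
    (M : Subgroup Q) (hM : M.index = 2) (hna : ∃ a ∈ M, ∃ b ∈ M, a * b ≠ b * a)
    (hno : ∀ N : Subgroup Q, N.Normal → (∀ x : Q, x ^ 2 ∈ N) → N.index ≤ 4) :
    (commutator Q).index = 4 := by
  have hMn : M.Normal := Subgroup.normal_of_index_eq_two hM
  have hcM : Nat.card M = 8 := by
    have := Subgroup.card_mul_index M
    rw [hM, h16] at this
    omega
  obtain ⟨a, ha, b, hb, hab⟩ := hna
  obtain ⟨hM2, hMZ⟩ := card_eight_facts hcM ⟨⟨a, ha⟩, ⟨b, hb⟩, fun h => hab (congrArg Subtype.val h)⟩
  have hmap : (commutator M).map M.subtype = ⁅M, M⁆ := Subgroup.map_subtype_commutator M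
  have hMc2 : Nat.card ↥(⁅M, M⁆) = 2 := by
    rw [← hmap, Subgroup.card_map_of_injective M.subtype_injective, hM2]
  have hMcn : (⁅M, M⁆).Normal := Subgroup.commutator_normal M M
  have hMcC : ⁅M, M⁆ ≤ commutator Q := by
    rw [commutator_def]; exact Subgroup.commutator_mono le_top le_top
  have hMcidx : (⁅M, M⁆).index = 8 := by
    have := Subgroup.card_mul_index (⁅M, M⁆)
    rw [hMc2, h16] at this
    omega
  have hdvd : (commutator Q).index ∣ 8 := hMcidx ▸ Subgroup.index_dvd_of_le hMcC
  have hge : 4 ≤ (commutator Q).index := by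
    rw [← Cfsg.Agent.Lib.H22.index_commutator_quotient (⁅M, M⁆) hMcC]
    apply four_le_index_commutator_of_card_eight
    rw [← Subgroup.index_eq_card, hMcidx]
  have hle : (commutator Q).index ≤ 8 := Nat.le_of_dvd (by norm_num) hdvd
  by_contra hne
  have h8 : (commutator Q).index = 8 := by
    interval_cases h : (commutator Q).index <;> simp_all
  -- C = ⁅M, M⁆
  have hcC : Nat.card (commutator Q) = 2 := by
    have := Subgroup.card_mul_index (commutator Q)
    rw [h8, h16] at this
    omega
  have hCeq : ⁅M, M⁆ = commutator Q :=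
    Subgroup.eq_of_le_of_card_ge hMcC (by rw [hcC, hMc2])
  have hCn : (commutator Q).Normal := inferInstance
  -- there is x with x^2 ∉ C
  have hex : ∃ x : Q, x ^ 2 ∉ commutator Q := by
    by_contra hall
    push Not at hall
    have := hno (commutator Q) hCn hall
    omega
  obtain ⟨x, hx⟩ := hex
  have hxM : x ^ 2 ∈ M := Subgroup.sq_mem_of_index_two hM x
  apply hx
  rw [← hCeq, ← hmap]
  refine ⟨⟨x ^ 2, hxM⟩, ?_, rfl⟩
  rw [SetLike.mem_coe, hMZ, Subgroup.mem_center_iff]
  rintro ⟨h, hh⟩
  apply Subtype.ext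
  simp only [Subgroup.coe_mul]
  -- c = ⁅x, h⁆
  have hcmem : x * h * x⁻¹ * h⁻¹ ∈ commutator Q := by
    rw [commutator_def, ← commutatorElement_def]
    exact Subgroup.commutator_mem_commutator (Subgroup.mem_top x) (Subgroup.mem_top h)
  have hcx := central_of_normal_card_two (commutator Q) hcC _ hcmem x
  have hc2 : (x * h * x⁻¹ * h⁻¹) * (x * h * x⁻¹ * h⁻¹) = 1 := by
    have := pow_card_eq_one' (G := commutator Q) (x := ⟨_, hcmem⟩)
    rw [hcC] at this
    have := congrArg Subtype.val this
    simpa [pow_two] using this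
  have := sq_comm_of_comm x h _ rfl hcx hc2
  rw [pow_two]
  exact this.symm

end Cfsg.Agent.Lib.H21.SecRank2
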