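import Mathlib
import Cfsg.Agent.Lib.H21.SecRank2B

set_option autoImplicit false

/-!
# Part C: the general step
-/

namespace Cfsg.Agent.Lib.H21.SecRank2

open scoped commutatorElement

universe u

/-- In a finite `p`-group a nontrivial normal subgroup `N` contains a normal subgroup of the
whole group of index `p` in `N`. -/
theorem exists_normal_relIndex_prime_aux {p : ℕ} [hp : Fact p.Prime] :
    ∀ (n : ℕ) (G : Type u) [Group G] [Finite G], Nat.card G = n → IsPGroup p G →
      ∀ (N : Subgroup G), N.Normal → N ≠ ⊥ →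
        ∃ K : Subgroup G, K.Normal ∧ K ≤ N ∧ K.relIndex N = p := by
  intro n
  induction n using Nat.strong_induction_on with
  | _ n ih =>
    intro G _ _ hn hG N hN hN1
    obtain ⟨z, hzN, hzc, hzo⟩ := Cfsg.Agent.Lib.H22.exists_central_orderOf_eq_prime hG N hN1
    set Z := Subgroup.zpowers z with hZ
    have hZc : Z ≤ Subgroup.center G := by
      rw [hZ, Subgroup.zpowers_le]; exact hzc
    have hZn : Z.Normal := by
      constructor
      intro a ha g
      have : g * a * g⁻¹ = a := by
        have := Subgroup.mem_center_iff.mp (hZc ha) g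
        calc g * a * g⁻¹ = a * g * g⁻¹ := by rw [this]
          _ = a := by group
      rw [this]; exact ha
    have hZN : Z ≤ N := by rw [hZ, Subgroup.zpowers_le]; exact hzN
    have hZcard : Nat.card Z = p := by rw [hZ, Nat.card_zpowers, hzo]
    by_cases hNZ : N = Z
    · refine ⟨⊥, inferInstance, bot_le, ?_⟩
      rw [Subgroup.relIndex_bot_left, hNZ, hZcard]
    · -- pass to the quotient
      have hlt : Nat.card (G ⧸ Z) < n := by
        have h1 := Subgroup.card_mul_index Z
        rw [hn, hZcard] at h1
        rw [← Subgroup.index_eq_card]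
        have hpos : 0 < Z.index := Nat.pos_of_ne_zero Subgroup.index_ne_zero_of_finite
        have : 2 ≤ p := hp.out.two_le
        nlinarith
      have hGq : IsPGroup p (G ⧸ Z) := hG.to_quotient Z
      have hNq : (N.map (QuotientGroup.mk' Z)).Normal :=
        hN.map _ (QuotientGroup.mk'_surjective Z)
      have hNq1 : N.map (QuotientGroup.mk' Z) ≠ ⊥ := by
        intro h
        have h1 := (Subgroup.map_eq_bot_iff _).mp h
        rw [QuotientGroup.ker_mk'] at h1
        exact hNZ (le_antisymm h1 hZN)
      obtain ⟨Kq, hKqn, hKqN, hKqi⟩ := ih _ hlt (G ⧸ Z) rfl hGq _ hNq hNq1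
      refine ⟨Kq.comap (QuotientGroup.mk' Z), hKqn.comap _, ?_, ?_⟩
      · intro g hg
        rw [Subgroup.mem_comap] at hg
        obtain ⟨m, hm, hmg⟩ := hKqN hg
        have : m⁻¹ * g ∈ Z := by
          rw [← QuotientGroup.eq_one_iff]
          have hmg' : (QuotientGroup.mk' Z) m = (QuotientGroup.mk' Z) g := hmg
          simp only [QuotientGroup.mk'_apply] at hmg'
          rw [QuotientGroup.mk_mul, QuotientGroup.mk_inv, hmg']
          group
        have : g = m * (m⁻¹ * g) := by group
        rw [this]
        exact N.mul_mem hm (hZN ‹_›)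
      · rw [Subgroup.relIndex_comap, hKqi]

theorem exists_normal_relIndex_prime {p : ℕ} [hp : Fact p.Prime] {G : Type u} [Group G] [Finite G]
    (hG : IsPGroup p G) (N : Subgroup G) (hN : N.Normal) (hN1 : N ≠ ⊥) :
    ∃ K : Subgroup G, K.Normal ∧ K ≤ N ∧ K.relIndex N = p :=
  exists_normal_relIndex_prime_aux _ G rfl hG N hN hN1


/-- **The step**: a maximal subgroup of maximal class in a 2-group without elementary abelian
quotients of order 8 forces maximal class. -/
theorem step {G : Type u} [Group G] [Finite G] (hG : IsPGroup 2 G) (H : Subgroup G)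
    (hH : H.index = 2) (hHc : (commutator H).index = 4) (hH8 : 8 ≤ Nat.card H)
    (hno : ∀ N : Subgroup G, N.Normal → (∀ x : G, x ^ 2 ∈ N) → N.index ≤ 4) :
    (commutator G).index = 4 := by
  haveI : Fact (Nat.Prime 2) := ⟨Nat.prime_two⟩
  have hHn : H.Normal := Subgroup.normal_of_index_eq_two hH
  have hmap : (commutator H).map H.subtype = ⁅H, H⁆ := Subgroup.map_subtype_commutator H
  have hH'idx : (⁅H, H⁆).index = 8 := by
    rw [← hmap, Subgroup.index_map_subtype, hHc, hH]
  have hH'n : (⁅H, H⁆).Normal := Subgroup.commutator_normal H H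
  have hcG : Nat.card H * 2 = Nat.card G := by
    have := Subgroup.card_mul_index H
    rwa [hH] at this
  have hH'1 : ⁅H, H⁆ ≠ ⊥ := by
    intro h
    rw [h, Subgroup.index_bot] at hH'idx
    omega
  have hH'H : ⁅H, H⁆ ≤ H := Subgroup.commutator_le_left H H
  have hH'C : ⁅H, H⁆ ≤ commutator G := by
    rw [commutator_def]; exact Subgroup.commutator_mono le_top le_top
  obtain ⟨K, hKn, hKH', hKi⟩ := exists_normal_relIndex_prime hG _ hH'n hH'1
  have hKC : K ≤ commutator G := le_trans hKH' hH'C
  have hKidx : K.index = 16 := by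
    rw [← Subgroup.relIndex_mul_index hKH', hKi, hH'idx]
  have hQ16 : Nat.card (G ⧸ K) = 16 := by
    rw [← Subgroup.index_eq_card, hKidx]
  have hM : (H.map (QuotientGroup.mk' K)).index = 2 := by
    rw [Subgroup.index_map_eq _ (QuotientGroup.mk'_surjective K), hH]
    rw [QuotientGroup.ker_mk']
    exact le_trans hKH' hH'H
  have hnle : ¬ ⁅H, H⁆ ≤ K := by
    intro h
    rw [← Subgroup.relIndex_eq_one] at h
    omega
  have hna : ∃ a ∈ H.map (QuotientGroup.mk' K), ∃ b ∈ H.map (QuotientGroup.mk' K),
      a * b ≠ b * a := by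
    rw [Subgroup.commutator_le] at hnle
    push Not at hnle
    obtain ⟨a, ha, b, hb, hab⟩ := hnle
    refine ⟨_, Subgroup.mem_map_of_mem _ ha, _, Subgroup.mem_map_of_mem _ hb, ?_⟩
    intro hcomm
    apply hab
    rw [← QuotientGroup.eq_one_iff, commutatorElement_def]
    simp only [QuotientGroup.mk'_apply] at hcomm
    simp only [QuotientGroup.mk_mul, QuotientGroup.mk_inv]
    rw [hcomm]
    group
  have hnoQ : ∀ N : Subgroup (G ⧸ K), N.Normal → (∀ x : G ⧸ K, x ^ 2 ∈ N) → N.index ≤ 4 := by
    intro N hN hsq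
    rw [← Subgroup.index_comap_of_surjective N (QuotientGroup.mk'_surjective K)]
    apply hno _ (hN.comap _)
    intro x
    rw [Subgroup.mem_comap, map_pow]
    exact hsq _
  have h4 := index_commutator_of_card_sixteen hQ16 _ hM hna hnoQ
  rw [← Cfsg.Agent.Lib.H22.index_commutator_quotient K hKC]
  exact h4

end Cfsg.Agent.Lib.H21.SecRank2
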