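import Mathlib
import Cfsg.Prelude.Def_CaseTheorems
import Cfsg.Agent.Lib.H21.SecRank2C

set_option autoImplicit false

/-!
# Part D: 2-groups of sectional rank two containing a nonabelian subgroup of order 8
have `|S : S'| = 4`
-/

namespace Cfsg.Agent.Lib.H21.SecRank2

open scoped commutatorElement

universe u

theorem index_commutator_congr {A B : Type*} [Group A] [Group B] (e : A ≃* B) :
    (commutator A).index = (commutator B).index := by
  have h1 : commutator B = (commutator A).map e.toMonoidHom := by
    rw [commutator_def, commutator_def, Subgroup.map_commutator,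
      Subgroup.map_top_of_surjective _ e.surjective]
  rw [h1]
  symm
  apply Subgroup.index_map_eq _ e.surjective
  rw [(MonoidHom.ker_eq_bot_iff e.toMonoidHom).mpr e.injective]
  exact bot_le

theorem index_le_four_of_sectional {S : Type*} [Group S] (hr : Cfsg.SectionalPRankLE 2 2 S)
    (G : Subgroup S) (N : Subgroup G) (hN : N.Normal) (hsq : ∀ x : G, x ^ 2 ∈ N) :
    N.index ≤ 4 := by
  have hq : ∀ a : G ⧸ N, a ^ 2 = 1 := by
    intro a
    induction a using QuotientGroup.induction_on with
    | H x =>
      rw [← QuotientGroup.mk_pow, QuotientGroup.eq_one_iff]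
      exact hsq x
  have h := hr G N ⊤ ?_ ?_
  · rw [Subgroup.card_top] at h
    rw [Subgroup.index_eq_card]
    simpa using h
  · refine ⟨⟨?_⟩⟩
    rintro ⟨a, _⟩ ⟨b, _⟩
    apply Subtype.ext
    exact Cfsg.Agent.Lib.H22.mul_comm_of_sq_eq_one hq a b
  · intro a _
    exact hq a

theorem index_commutator_eq_four_aux {S : Type u} [Group S] [Finite S] (h2 : IsPGroup 2 S)
    (hr : Cfsg.SectionalPRankLE 2 2 S) :
    ∀ (k : ℕ) (T : Subgroup S), 8 ≤ Nat.card T → (commutator T).index = 4 →
      Nat.card S - Nat.card T = k → (commutator S).index = 4 := by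
  haveI : Fact (Nat.Prime 2) := ⟨Nat.prime_two⟩
  intro k
  induction k using Nat.strong_induction_on with
  | _ k ih =>
    intro T hT8 hTc hk
    by_cases hTtop : T = ⊤
    · subst hTtop
      rw [← index_commutator_congr (Subgroup.topEquiv (G := S))]
      exact hTc
    · obtain ⟨m, hm⟩ := (IsPGroup.iff_card).mp h2
      obtain ⟨n, hn⟩ := (IsPGroup.iff_card).mp (h2.to_subgroup T)
      have hlt : Nat.card T < Nat.card S := by
        rcases lt_or_eq_of_le (Subgroup.card_le_card_group T) with h | h
        · exact h
        · exact absurd (Subgroup.card_eq_iff_eq_top T |>.mp h) hTtop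
      have hnm : n < m := by
        rw [hn, hm] at hlt
        exact (Nat.pow_lt_pow_iff_right (by norm_num)).mp hlt
      have hdvd : 2 ^ (n + 1) ∣ Nat.card S := by
        rw [hm]; exact pow_dvd_pow 2 hnm
      obtain ⟨G, hGc, hTG⟩ := Sylow.exists_subgroup_card_pow_succ hdvd hn
      -- apply the step inside G
      have hcTG : Nat.card (T.subgroupOf G) = Nat.card T :=
        Nat.card_congr (Subgroup.subgroupOfEquivOfLe hTG).toEquiv
      have hidx : (T.subgroupOf G).index = 2 := by
        have := Subgroup.card_mul_index (T.subgroupOf G)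
        rw [hcTG, hn, hGc, pow_succ] at this
        exact Nat.eq_of_mul_eq_mul_left (pow_pos two_pos n) this
      have hc4 : (commutator (T.subgroupOf G)).index = 4 := by
        rw [index_commutator_congr (Subgroup.subgroupOfEquivOfLe hTG)]
        exact hTc
      have hG4 : (commutator G).index = 4 :=
        step (h2.to_subgroup G) (T.subgroupOf G) hidx hc4 (by rw [hcTG]; exact hT8)
          (fun N hN hsq => index_le_four_of_sectional hr G N hN hsq)
      have hG8 : 8 ≤ Nat.card G := le_trans hT8 (Subgroup.card_le_of_le hTG)
      have hGT : Nat.card T < Nat.card G := by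
        rw [hn, hGc]; exact Nat.pow_lt_pow_right (by norm_num) (Nat.lt_succ_self n)
      have hGS : Nat.card G ≤ Nat.card S := Subgroup.card_le_card_group G
      exact ih (Nat.card S - Nat.card G) (by omega) G hG8 hG4 rfl

/-- A finite 2-group of sectional rank at most two which contains a nonabelian subgroup
of order 8 satisfies `|S : S'| = 4`. -/
theorem index_commutator_eq_four {S : Type u} [Group S] [Finite S] (h2 : IsPGroup 2 S)
    (hr : Cfsg.SectionalPRankLE 2 2 S) (D : Subgroup S) (hD8 : Nat.card D = 8)
    (hDna : ∃ a b : D, a * b ≠ b * a) : (commutator S).index = 4 := by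
  obtain ⟨hc2, -⟩ := card_eight_facts hD8 hDna
  have hDc : (commutator D).index = 4 := by
    have := Subgroup.card_mul_index (commutator D)
    rw [hc2, hD8] at this
    omega
  exact index_commutator_eq_four_aux h2 hr _ D (by rw [hD8]) hDc rfl

end Cfsg.Agent.Lib.H21.SecRank2
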