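import Mathlib
import Cfsg.Prelude.Def_OddOrderLocal
import Cfsg.Agent.Lib.H22.UniqueOrderP

set_option autoImplicit false

/-!
# Part F: abelian 2-groups of rank at most two are metacyclic
-/

namespace Cfsg.Agent.Lib.H21.SecRank2

universe u

/-- a subgroup of order two is generated by any of its nonidentity elements, which is an
involution. -/
theorem exists_gen_of_card_two {Q : Type*} [Group Q] (H : Subgroup Q) (h2 : Nat.card H = 2) :
    ∃ h : Q, h ≠ 1 ∧ h ^ 2 = 1 ∧ H = Subgroup.zpowers h := by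
  haveI : Finite H := Nat.finite_of_card_ne_zero (by rw [h2]; norm_num)
  obtain ⟨y, hy1, -⟩ := (Nat.card_eq_two_iff' (1 : H)).mp h2
  have hy2 : y ^ 2 = 1 := by
    have := pow_card_eq_one' (G := H) (x := y)
    rwa [h2] at this
  have hyne : (y : Q) ≠ 1 := fun h => hy1 (Subtype.ext h)
  have hy2' : (y : Q) ^ 2 = 1 := by
    have := congrArg Subtype.val hy2
    simpa using this
  refine ⟨y, hyne, hy2', ?_⟩
  symm
  apply Subgroup.eq_of_le_of_card_ge
  · rw [Subgroup.zpowers_le]; exact y.2
  · rw [h2, Nat.card_zpowers]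
    have hord : orderOf (y : Q) = 2 := orderOf_eq_prime hy2' hyne
    rw [hord]

theorem isMetacyclic_of_comm {S : Type u} [Group S] [Finite S] (h2 : IsPGroup 2 S)
    (hE : ∀ E : Subgroup S, (∀ x ∈ E, ∀ y ∈ E, x * y = y * x) → (∀ x ∈ E, x ^ 2 = 1) →
      Nat.card E ≤ 4)
    (hc : ∀ x y : S, x * y = y * x) : Cfsg.IsMetacyclic S := by
  haveI : Fact (Nat.Prime 2) := ⟨Nat.prime_two⟩
  obtain ⟨a, ha⟩ := Finite.exists_max (fun x : S => orderOf x)
  have hAn : (Subgroup.zpowers a).Normal := by
    constructor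
    intro n hn g
    rw [hc g n, mul_inv_cancel_right]; exact hn
  refine ⟨Subgroup.zpowers a, hAn, inferInstance, ?_⟩
  obtain ⟨m, hm⟩ : ∃ m, orderOf a = 2 ^ m := by
    obtain ⟨k, hk⟩ := h2 a
    obtain ⟨m, -, hm⟩ := (Nat.dvd_prime_pow Nat.prime_two).mp (orderOf_dvd_of_pow_eq_one hk)
    exact ⟨m, hm⟩
  have hpow : ∀ x : S, x ^ (2 ^ m) = 1 := by
    intro x
    obtain ⟨k, hk⟩ := h2 x
    obtain ⟨j, -, hj⟩ := (Nat.dvd_prime_pow Nat.prime_two).mp (orderOf_dvd_of_pow_eq_one hk)
    have hle : orderOf x ≤ orderOf a := ha x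
    rw [hj, hm] at hle
    have hjm : j ≤ m := (Nat.pow_le_pow_iff_right (by norm_num)).mp hle
    apply orderOf_dvd_iff_pow_eq_one.mp
    rw [hj]; exact pow_dvd_pow 2 hjm
  -- the quotient is commutative
  have hqc : ∀ x y : S ⧸ Subgroup.zpowers a, x * y = y * x := by
    intro x y
    induction x using QuotientGroup.induction_on with
    | H x =>
    induction y using QuotientGroup.induction_on with
    | H y =>
      rw [← QuotientGroup.mk_mul, ← QuotientGroup.mk_mul, hc x y]
  apply Cfsg.Agent.Lib.H22.isCyclic_of_comm_of_atMostOne (p := 2) (h2.to_quotient _) _ hqc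
  -- the subgroup of involutions
  let E : Subgroup S :=
    { carrier := {g | g ^ 2 = 1}
      one_mem' := by simp
      mul_mem' := by
        intro x y hx hy
        simp only [Set.mem_setOf_eq] at *
        rw [(show Commute x y from hc x y).mul_pow, hx, hy, one_mul]
      inv_mem' := by
        intro x hx
        simp only [Set.mem_setOf_eq] at *
        rw [inv_pow, hx, inv_one] }
  have hEmem : ∀ g : S, g ∈ E ↔ g ^ 2 = 1 := fun g => Iff.rfl
  have hE4 : Nat.card E ≤ 4 := hE E (fun x _ y _ => hc x y) (fun x hx => hx)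
  -- lifting involutions of the quotient
  have lift : ∀ xq : S ⧸ Subgroup.zpowers a, xq ≠ 1 → xq ^ 2 = 1 →
      ∃ x' : S, x' ^ 2 = 1 ∧ (x' : S ⧸ Subgroup.zpowers a) = xq := by
    intro xq hx1 hx2
    induction xq using QuotientGroup.induction_on with
    | H x =>
      rw [← QuotientGroup.mk_pow, QuotientGroup.eq_one_iff] at hx2
      obtain ⟨j, hj⟩ := Subgroup.mem_zpowers_iff.mp hx2
      have hm0 : m ≠ 0 := by
        rintro rfl
        rw [pow_zero, orderOf_eq_one_iff] at hm
        have := hpow x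
        rw [pow_zero, pow_one] at this
        apply hx1
        rw [this]; rfl
      obtain ⟨m', rfl⟩ := Nat.exists_eq_succ_of_ne_zero hm0
      have h1 : a ^ (j * (2 ^ m' : ℕ)) = 1 := by
        rw [zpow_mul, hj, zpow_natCast, ← pow_mul, ← pow_succ']
        exact hpow x
      have h2' := orderOf_dvd_iff_zpow_eq_one.mpr h1
      rw [hm] at h2'
      have hjeven : (2 : ℤ) ∣ j := by
        have e : ((2 ^ (m' + 1) : ℕ) : ℤ) = 2 * (2 ^ m' : ℕ) := by push_cast; ring
        rw [e] at h2'
        have hne : ((2 ^ m' : ℕ) : ℤ) ≠ 0 := by positivity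
        exact (mul_dvd_mul_iff_right hne).mp h2'
      obtain ⟨t, rfl⟩ := hjeven
      refine ⟨x * a ^ (-t), ?_, ?_⟩
      · rw [(show Commute x (a ^ (-t)) from hc _ _).mul_pow, ← hj, ← zpow_natCast (a ^ (-t)) 2,
          ← zpow_mul, ← zpow_add]
        have : 2 * t + -t * ((2 : ℕ) : ℤ) = 0 := by push_cast; ring
        rw [this, zpow_zero]
      · rw [QuotientGroup.mk_mul]
        have : ((a ^ (-t) : S) : S ⧸ Subgroup.zpowers a) = 1 := by
          rw [QuotientGroup.eq_one_iff]
          exact Subgroup.zpow_mem _ (Subgroup.mem_zpowers a) _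
        rw [this, mul_one]
  intro H K hH hK
  obtain ⟨h, hh1, hh2, hHeq⟩ := exists_gen_of_card_two H hH
  obtain ⟨k, hk1, hk2, hKeq⟩ := exists_gen_of_card_two K hK
  obtain ⟨x', hx'2, hx'⟩ := lift h hh1 hh2
  obtain ⟨y', hy'2, hy'⟩ := lift k hk1 hk2
  have hx'A : x' ∉ Subgroup.zpowers a := by
    intro hmem
    apply hh1
    rw [← hx', QuotientGroup.eq_one_iff]; exact hmem
  have hy'A : y' ∉ Subgroup.zpowers a := by
    intro hmem
    apply hk1
    rw [← hy', QuotientGroup.eq_one_iff]; exact hmem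
  -- a ≠ 1
  have ha1 : a ≠ 1 := by
    intro h1
    apply hx'A
    have := ha x'
    rw [h1, orderOf_one] at this
    have hpos : 0 < orderOf x' := orderOf_pos x'
    have : orderOf x' = 1 := by omega
    rw [orderOf_eq_one_iff] at this
    rw [this]; exact Subgroup.one_mem _
  have hm0 : m ≠ 0 := by
    rintro rfl
    rw [pow_zero, orderOf_eq_one_iff] at hm
    exact ha1 hm
  obtain ⟨m', rfl⟩ := Nat.exists_eq_succ_of_ne_zero hm0
  set u := a ^ (2 ^ m') with hu
  have hu1 : u ≠ 1 := by
    apply pow_ne_one_of_lt_orderOf (pow_ne_zero _ two_ne_zero)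
    rw [hm]; exact Nat.pow_lt_pow_right (by norm_num) (Nat.lt_succ_self m')
  have hu2 : u ^ 2 = 1 := by
    rw [hu, ← pow_mul, ← pow_succ, ← hm]; exact pow_orderOf_eq_one a
  -- the subgroup K0 = A ∩ E of E
  set K0 := (Subgroup.zpowers a).subgroupOf E with hK0
  have hK0ne : K0 ≠ ⊥ := by
    intro hbot
    have : (⟨u, hu2⟩ : E) ∈ K0 := by
      rw [hK0, Subgroup.mem_subgroupOf]
      exact Subgroup.pow_mem _ (Subgroup.mem_zpowers a) _
    rw [hbot, Subgroup.mem_bot] at this
    exact hu1 (congrArg Subtype.val this)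
  have hK0card : 1 < Nat.card K0 := by
    by_contra hle
    have hpos : 0 < Nat.card K0 := Nat.card_pos
    have : Nat.card K0 = 1 := by omega
    exact hK0ne (Subgroup.card_eq_one.mp this)
  have hmul := Subgroup.card_mul_index K0
  have hidx1 : K0.index ≠ 1 := by
    intro h
    rw [Subgroup.index_eq_one] at h
    have : (⟨x', hx'2⟩ : E) ∈ K0 := h ▸ Subgroup.mem_top _
    rw [hK0, Subgroup.mem_subgroupOf] at this
    exact hx'A this
  have hidx0 : K0.index ≠ 0 := Subgroup.index_ne_zero_of_finite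
  have hidx : K0.index = 2 := by
    have h4 : Nat.card K0 * K0.index ≤ 4 := hmul ▸ hE4
    have h2i : 2 ≤ K0.index := by omega
    have h2c : 2 ≤ Nat.card K0 := hK0card
    nlinarith
  have hxy : (⟨x', hx'2⟩ : E) * ⟨y', hy'2⟩ ∈ K0 := by
    rw [Subgroup.mul_mem_iff_of_index_two hidx]
    constructor
    · intro h
      rw [hK0, Subgroup.mem_subgroupOf] at h
      exact absurd h hx'A
    · intro h
      rw [hK0, Subgroup.mem_subgroupOf] at h
      exact absurd h hy'A
  rw [hK0, Subgroup.mem_subgroupOf] at hxy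
  have hhk : h * k = 1 := by
    rw [← hx', ← hy', ← QuotientGroup.mk_mul, QuotientGroup.eq_one_iff]
    exact hxy
  have hkk : k * k = 1 := by rw [← pow_two]; exact hk2
  have : h = k := by
    calc h = h * (k * k) := by rw [hkk, mul_one]
      _ = (h * k) * k := by group
      _ = k := by rw [hhk, one_mul]
  rw [hHeq, hKeq, this]

end Cfsg.Agent.Lib.H21.SecRank2
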