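import Mathlib
import Cfsg.Prelude.Def_OddOrderLocal
import Cfsg.Agent.Lib.H21.SecRank2A
import Cfsg.Agent.Lib.H21.SecRank2E

set_option autoImplicit false

/-!
# Part G: the Rédei case: `S = ⟨x, y⟩` with all commutators in `{1, z}`, `z` a central involution
-/

namespace Cfsg.Agent.Lib.H21.SecRank2

universe u

section

variable {S : Type u} [Group S]

/-- a generating pair with `⟨x⟩` normal gives metacyclicity -/
theorem isMetacyclic_of_pair (x y : S) (hgen : Subgroup.closure ({x, y} : Set S) = ⊤)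
    (hn : (Subgroup.zpowers x).Normal) : Cfsg.IsMetacyclic S := by
  refine ⟨Subgroup.zpowers x, hn, inferInstance, ?_⟩
  rw [isCyclic_iff_exists_zpowers_eq_top]
  refine ⟨((y : S) : S ⧸ Subgroup.zpowers x), ?_⟩
  rw [eq_top_iff]
  have h1 : (⊤ : Subgroup (S ⧸ Subgroup.zpowers x)) =
      (Subgroup.closure ({x, y} : Set S)).map (QuotientGroup.mk' (Subgroup.zpowers x)) := by
    rw [hgen, Subgroup.map_top_of_surjective _ (QuotientGroup.mk'_surjective _)]
  rw [h1, MonoidHom.map_closure, Subgroup.closure_le]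
  rintro _ ⟨g, hg, rfl⟩
  rcases hg with rfl | rfl
  · have : (QuotientGroup.mk' (Subgroup.zpowers g)) g = 1 := by
      rw [QuotientGroup.mk'_apply, QuotientGroup.eq_one_iff]
      exact Subgroup.mem_zpowers g
    rw [this]; exact Subgroup.one_mem _
  · exact Subgroup.mem_zpowers _

variable (z : S) (hzc : z ∈ Subgroup.center S) (hz2 : z * z = 1)
  (hcomm : ∀ x y : S, x * y * x⁻¹ * y⁻¹ = 1 ∨ x * y * x⁻¹ * y⁻¹ = z)

include hzc hz2 hcomm

theorem sq_mem_center (x : S) : x * x ∈ Subgroup.center S := by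
  rw [Subgroup.mem_center_iff]
  intro g
  have hc : x * g * x⁻¹ * g⁻¹ * x = x * (x * g * x⁻¹ * g⁻¹) := by
    rcases hcomm x g with h | h
    · rw [h, one_mul, mul_one]
    · rw [h]; exact (Subgroup.mem_center_iff.mp hzc x).symm
  have hc2 : x * g * x⁻¹ * g⁻¹ * (x * g * x⁻¹ * g⁻¹) = 1 := by
    rcases hcomm x g with h | h
    · rw [h, one_mul]
    · rw [h]; exact hz2
  exact (sq_comm_of_comm x g _ rfl hc hc2).symm

theorem pow_two_pow_mem_center (x : S) (e : ℕ) (he : 1 ≤ e) : x ^ (2 ^ e) ∈ Subgroup.center S := by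
  obtain ⟨e', rfl⟩ : ∃ e', e = e' + 1 := ⟨e - 1, by omega⟩
  rw [pow_succ', pow_mul, pow_two]
  exact Subgroup.pow_mem _ (sq_mem_center z hzc hz2 hcomm x) _

theorem zpowers_normal_of_mem (x : S) (hx : z ∈ Subgroup.zpowers x) :
    (Subgroup.zpowers x).Normal := by
  constructor
  intro n hn g
  obtain ⟨k, rfl⟩ := Subgroup.mem_zpowers_iff.mp hn
  have h1 : g * x * g⁻¹ ∈ Subgroup.zpowers x := by
    have : g * x * g⁻¹ = (g * x * g⁻¹ * x⁻¹) * x := by group
    rw [this]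
    apply Subgroup.mul_mem _ _ (Subgroup.mem_zpowers x)
    rcases hcomm g x with h | h
    · rw [h]; exact Subgroup.one_mem _
    · rw [h]; exact hx
  have : g * x ^ k * g⁻¹ = (g * x * g⁻¹) ^ k := by
    simp [conj_zpow]
  rw [this]
  exact Subgroup.zpow_mem _ h1 _

theorem mul_sq (x y : S) : (x * y) ^ 2 = (y * x * y⁻¹ * x⁻¹) * (x * x) * (y * y) := by
  set c := y * x * y⁻¹ * x⁻¹ with hc
  have hcc : c ∈ Subgroup.center S := by
    rcases hcomm y x with h | h
    · rw [hc, h]; exact Subgroup.one_mem _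
    · rw [hc, h]; exact hzc
  have e1 : y * x = c * (x * y) := by rw [hc]; group
  have hcx : c * x = x * c := (Subgroup.mem_center_iff.mp hcc x).symm
  calc (x * y) ^ 2 = x * (y * x) * y := by rw [pow_two]; group
    _ = x * (c * (x * y)) * y := by rw [e1]
    _ = (x * c) * x * y * y := by group
    _ = (c * x) * x * y * y := by rw [hcx]
    _ = c * (x * x) * (y * y) := by group

theorem mul_pow_two_pow (x y : S) (e : ℕ) (he : 1 ≤ e) :
    ∃ w : S, (w = 1 ∨ w = z) ∧ (x * y) ^ (2 ^ e) = w * x ^ (2 ^ e) * y ^ (2 ^ e) := by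
  induction e, he using Nat.le_induction with
  | base =>
    refine ⟨y * x * y⁻¹ * x⁻¹, hcomm y x, ?_⟩
    rw [pow_one, mul_sq z hzc hz2 hcomm x y, pow_two, pow_two]
  | succ e he ih =>
    obtain ⟨w, hw, hpow⟩ := ih
    refine ⟨1, Or.inl rfl, ?_⟩
    have hwc : w ∈ Subgroup.center S := by
      rcases hw with rfl | rfl
      · exact Subgroup.one_mem _
      · exact hzc
    have hw2 : w * w = 1 := by
      rcases hw with rfl | rfl
      · simp
      · exact hz2
    have hxc := pow_two_pow_mem_center z hzc hz2 hcomm x e he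
    have hyc := pow_two_pow_mem_center z hzc hz2 hcomm y e he
    have c1 : ∀ g : S, g * w = w * g := fun g => Subgroup.mem_center_iff.mp hwc g
    have c2 : ∀ g : S, g * x ^ 2 ^ e = x ^ 2 ^ e * g := fun g => Subgroup.mem_center_iff.mp hxc g
    rw [pow_succ, pow_mul, hpow, one_mul, pow_two, pow_mul, pow_mul, pow_two, pow_two]
    calc w * x ^ 2 ^ e * y ^ 2 ^ e * (w * x ^ 2 ^ e * y ^ 2 ^ e)
        = w * x ^ 2 ^ e * (y ^ 2 ^ e * w) * x ^ 2 ^ e * y ^ 2 ^ e := by group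
      _ = w * x ^ 2 ^ e * (w * y ^ 2 ^ e) * x ^ 2 ^ e * y ^ 2 ^ e := by rw [c1 (y ^ 2 ^ e)]
      _ = w * (x ^ 2 ^ e * w) * (y ^ 2 ^ e * x ^ 2 ^ e) * y ^ 2 ^ e := by group
      _ = w * (w * x ^ 2 ^ e) * (x ^ 2 ^ e * y ^ 2 ^ e) * y ^ 2 ^ e := by
        rw [c1 (x ^ 2 ^ e), c2 (y ^ 2 ^ e)]
      _ = (w * w) * (x ^ 2 ^ e * x ^ 2 ^ e) * (y ^ 2 ^ e * y ^ 2 ^ e) := by group
      _ = x ^ 2 ^ e * x ^ 2 ^ e * (y ^ 2 ^ e * y ^ 2 ^ e) := by rw [hw2, one_mul]

end

end Cfsg.Agent.Lib.H21.SecRank2
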