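import Mathlib
import Cfsg.Prelude.Def_OddOrderLocal
import Cfsg.Agent.Lib.H21.SecRank2G

set_option autoImplicit false

/-!
# Part H: the Rédei case, main induction
-/

namespace Cfsg.Agent.Lib.H21.SecRank2

universe u

section

variable {S : Type u} [Group S]

theorem closure_pair_mul (x y : S) (k : ℕ) (h : Subgroup.closure ({x, y} : Set S) = ⊤) :
    Subgroup.closure ({x * y ^ k, y} : Set S) = ⊤ := by
  rw [eq_top_iff, ← h, Subgroup.closure_le]
  have hy : y ∈ Subgroup.closure ({x * y ^ k, y} : Set S) :=
    Subgroup.subset_closure (by simp)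
  have hxy : x * y ^ k ∈ Subgroup.closure ({x * y ^ k, y} : Set S) :=
    Subgroup.subset_closure (by simp)
  rintro g (rfl | rfl)
  · have hmem := Subgroup.mul_mem _ hxy (Subgroup.inv_mem _ (Subgroup.pow_mem _ hy k))
    have e : (g * y ^ k) * (y ^ k)⁻¹ = g := by group
    rw [e] at hmem
    exact hmem
  · exact hy

theorem elemAb_closure (T : Set S) (hc : ∀ a ∈ T, ∀ b ∈ T, a * b = b * a)
    (h2 : ∀ a ∈ T, a ^ 2 = 1) :
    (∀ a ∈ Subgroup.closure T, ∀ b ∈ Subgroup.closure T, a * b = b * a) ∧
      (∀ a ∈ Subgroup.closure T, a ^ 2 = 1) := by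
  have hcomm : ∀ a ∈ Subgroup.closure T, ∀ b ∈ Subgroup.closure T, a * b = b * a := by
    intro a ha b hb
    letI inst := Subgroup.closureCommGroupOfComm hc
    have := mul_comm (⟨a, ha⟩ : Subgroup.closure T) ⟨b, hb⟩
    exact congrArg Subtype.val this
  refine ⟨hcomm, ?_⟩
  intro a ha
  induction ha using Subgroup.closure_induction with
  | mem t ht => exact h2 t ht
  | one => simp
  | mul a b ha hb iha ihb =>
    rw [(show Commute a b from hcomm a ha b hb).mul_pow, iha, ihb, one_mul]
  | inv a _ iha => rw [inv_pow, iha, inv_one]

theorem two_mul_card_le_of_ne {A B : Subgroup S} [Finite B] (h : A ≤ B) (g : S) (hgB : g ∈ B)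
    (hgA : g ∉ A) : 2 * Nat.card A ≤ Nat.card B := by
  have hdvd : Nat.card A ∣ Nat.card B := Subgroup.card_dvd_of_le h
  obtain ⟨k, hk⟩ := hdvd
  have hpos : 0 < Nat.card B := Nat.card_pos
  have hk0 : k ≠ 0 := by rintro rfl; omega
  have hk1 : k ≠ 1 := by
    rintro rfl
    rw [mul_one] at hk
    have := Subgroup.eq_of_le_of_card_ge h (le_of_eq hk)
    exact hgA (this ▸ hgB)
  have : 2 ≤ k := by omega
  rw [hk, mul_comm]
  exact Nat.mul_le_mul_left _ this

end

theorem redei_aux {S : Type u} [Group S] [Finite S] (h2 : IsPGroup 2 S)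
    (hE : ∀ E : Subgroup S, (∀ x ∈ E, ∀ y ∈ E, x * y = y * x) → (∀ x ∈ E, x ^ 2 = 1) →
      Nat.card E ≤ 4)
    (z : S) (hzc : z ∈ Subgroup.center S) (hz2 : z * z = 1) (hz1 : z ≠ 1)
    (hcomm : ∀ x y : S, x * y * x⁻¹ * y⁻¹ = 1 ∨ x * y * x⁻¹ * y⁻¹ = z) :
    ∀ (n : ℕ) (x y : S), Subgroup.closure ({x, y} : Set S) = ⊤ → orderOf x + orderOf y = n →
      Cfsg.IsMetacyclic S := by
  have hzo : orderOf z = 2 := orderOf_eq_prime (by rw [pow_two]; exact hz2) hz1
  have hzmem : ∀ g ∈ Subgroup.zpowers z, g = 1 ∨ g = z := fun g hg =>
    Cfsg.Agent.Lib.H22.eq_one_or_eq_of_mem_zpowers_of_orderOf_two hzo hg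
  have hzinv : z⁻¹ = z := by
    rw [inv_eq_iff_mul_eq_one]; exact hz2
  have hpow2 : ∀ g : S, ∃ m, orderOf g = 2 ^ m := by
    intro g
    obtain ⟨k, hk⟩ := h2 g
    obtain ⟨m, -, hm⟩ := (Nat.dvd_prime_pow Nat.prime_two).mp (orderOf_dvd_of_pow_eq_one hk)
    exact ⟨m, hm⟩
  intro n
  induction n using Nat.strong_induction_on with
  | _ n ih =>
    intro x y hgen hn
    by_cases hzx : z ∈ Subgroup.zpowers x
    · exact isMetacyclic_of_pair x y hgen (zpowers_normal_of_mem z hzc hz2 hcomm x hzx)
    by_cases hzy : z ∈ Subgroup.zpowers y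
    · exact isMetacyclic_of_pair y x (by rw [Set.pair_comm]; exact hgen)
        (zpowers_normal_of_mem z hzc hz2 hcomm y hzy)
    rcases hcomm x y with hc | hc
    · -- commutative case
      have hall : ∀ a b : S, a * b * a⁻¹ * b⁻¹ ∈ (⊥ : Subgroup S) := by
        apply comm_mem_of_gens ⊥ {x, y} hgen
        have hc' : y * x * y⁻¹ * x⁻¹ = 1 := by
          have : y * x * y⁻¹ * x⁻¹ = (x * y * x⁻¹ * y⁻¹)⁻¹ := by group
          rw [this, hc, inv_one]
        rintro s (rfl | rfl) t (rfl | rfl)
        · simp
        · rw [hc]; exact Subgroup.one_mem _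
        · rw [hc']; exact Subgroup.one_mem _
        · simp
      apply isMetacyclic_of_pair x y hgen
      constructor
      intro a ha g
      have := hall g a
      rw [Subgroup.mem_bot] at this
      have e : g * a * g⁻¹ = (g * a * g⁻¹ * a⁻¹) * a := by group
      rw [e, this, one_mul]
      exact ha
    · -- c = z
      wlog hle : orderOf x ≤ orderOf y generalizing x y
      · apply this y x (by rw [Set.pair_comm]; exact hgen) (by omega) hzy hzx
        · have : y * x * y⁻¹ * x⁻¹ = (x * y * x⁻¹ * y⁻¹)⁻¹ := by group
          rw [this, hc, hzinv]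
        · omega
      obtain ⟨m, hm⟩ := hpow2 x
      obtain ⟨n', hn'⟩ := hpow2 y
      have hmn : m ≤ n' := by
        rw [hm, hn'] at hle
        exact (Nat.pow_le_pow_iff_right (by norm_num)).mp hle
      have hx1 : x ≠ 1 := by
        rintro rfl
        apply hz1
        rw [← hc]; group
      have hm0 : m ≠ 0 := by
        rintro rfl
        rw [pow_zero, orderOf_eq_one_iff] at hm
        exact hx1 hm
      have hc' : y * x * y⁻¹ * x⁻¹ = z := by
        have : y * x * y⁻¹ * x⁻¹ = (x * y * x⁻¹ * y⁻¹)⁻¹ := by group
        rw [this, hc, hzinv]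
      have hxnc : x ∉ Subgroup.center S := by
        intro hxc
        apply hz1
        rw [← hc]
        have := Subgroup.mem_center_iff.mp hxc y
        calc x * y * x⁻¹ * y⁻¹ = (y * x) * x⁻¹ * y⁻¹ := by rw [this]
          _ = 1 := by group
      -- v
      have hn0 : n' ≠ 0 := by omega
      obtain ⟨n1, rfl⟩ := Nat.exists_eq_succ_of_ne_zero hn0
      obtain ⟨m1, rfl⟩ := Nat.exists_eq_succ_of_ne_zero hm0
      set v := y ^ (2 ^ n1) with hv
      have hv1 : v ≠ 1 := by
        apply pow_ne_one_of_lt_orderOf (pow_ne_zero _ two_ne_zero)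
        rw [hn']; exact Nat.pow_lt_pow_right (by norm_num) (Nat.lt_succ_self n1)
      have hv2 : v ^ 2 = 1 := by
        rw [hv, ← pow_mul, ← pow_succ, ← hn']; exact pow_orderOf_eq_one y
      have hvz : v ∉ Subgroup.zpowers z := by
        intro hmem
        rcases hzmem v hmem with h | h
        · exact hv1 h
        · apply hzy
          rw [← h, hv]
          exact Subgroup.pow_mem _ (Subgroup.mem_zpowers y) _
      set u := x ^ (2 ^ m1) with hu
      have hu1 : u ≠ 1 := by
        apply pow_ne_one_of_lt_orderOf (pow_ne_zero _ two_ne_zero)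
        rw [hm]; exact Nat.pow_lt_pow_right (by norm_num) (Nat.lt_succ_self m1)
      have hu2 : u ^ 2 = 1 := by
        rw [hu, ← pow_mul, ← pow_succ, ← hm]; exact pow_orderOf_eq_one x
      have huz : u ∉ Subgroup.zpowers z := by
        intro hmem
        rcases hzmem u hmem with h | h
        · exact hu1 h
        · apply hzx
          rw [← h, hu]
          exact Subgroup.pow_mem _ (Subgroup.mem_zpowers x) _
      have hzsq : z ^ 2 = 1 := by rw [pow_two]; exact hz2
      have hcard0 : Nat.card (Subgroup.zpowers z) = 2 := by rw [Nat.card_zpowers, hzo]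
      by_cases hm1 : m1 = 0
      · subst hm1
        -- x is an involution
        have hxx : x * x = 1 := by
          have := hu2
          rw [hu, pow_zero, pow_one, pow_two] at this
          exact this
        by_cases hn1 : n1 = 0
        · subst hn1
          have hyy : y * y = 1 := by
            have := hv2
            rw [hv, pow_zero, pow_one, pow_two] at this
            exact this
          have hsq := mul_sq z hzc hz2 hcomm x y
          rw [hc', hxx, hyy, mul_one, mul_one] at hsq
          have hzmem' : z ∈ Subgroup.zpowers (x * y) := by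
            rw [← hsq]; exact Subgroup.pow_mem _ (Subgroup.mem_zpowers _) _
          have hgen' := closure_pair_mul x y 1 hgen
          rw [pow_one] at hgen'
          exact isMetacyclic_of_pair (x * y) y hgen' (zpowers_normal_of_mem z hzc hz2 hcomm _ hzmem')
        · exfalso
          have hvc : v ∈ Subgroup.center S :=
            pow_two_pow_mem_center z hzc hz2 hcomm y n1 (by omega)
          -- E2 = closure {z, v, x}
          have hT : ∀ a ∈ ({z, v, x} : Set S), ∀ b ∈ ({z, v, x} : Set S), a * b = b * a := by
            have cz : ∀ g : S, g * z = z * g := fun g => Subgroup.mem_center_iff.mp hzc g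
            have cv : ∀ g : S, g * v = v * g := fun g => Subgroup.mem_center_iff.mp hvc g
            rintro a (rfl | rfl | rfl) b (rfl | rfl | rfl)
            · rfl
            · exact (cz _).symm
            · exact (cz _).symm
            · exact cz _
            · rfl
            · exact (cv _).symm
            · exact cz _
            · exact cv _
            · rfl
          have hT2 : ∀ a ∈ ({z, v, x} : Set S), a ^ 2 = 1 := by
            rintro a (rfl | rfl | rfl)
            · exact hzsq
            · exact hv2
            · rw [pow_two]; exact hxx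
          obtain ⟨hEc, hEe⟩ := elemAb_closure _ hT hT2
          have h4 := hE _ hEc hEe
          have hE1c : Subgroup.closure ({z, v} : Set S) ≤ Subgroup.center S := by
            rw [Subgroup.closure_le]
            rintro g (rfl | rfl)
            · exact hzc
            · exact hvc
          have h01 : Subgroup.zpowers z ≤ Subgroup.closure ({z, v} : Set S) := by
            rw [Subgroup.zpowers_le]; exact Subgroup.subset_closure (by simp)
          have h12 : Subgroup.closure ({z, v} : Set S) ≤ Subgroup.closure ({z, v, x} : Set S) := by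
            apply Subgroup.closure_mono
            intro g hg
            rcases hg with rfl | rfl
            · simp
            · simp
          have c1 := two_mul_card_le_of_ne h01 v (Subgroup.subset_closure (by simp)) hvz
          have c2 := two_mul_card_le_of_ne h12 x (Subgroup.subset_closure (by simp))
            (fun h => hxnc (hE1c h))
          rw [hcard0] at c1
          omega
      · -- m ≥ 2
        have huc : u ∈ Subgroup.center S :=
          pow_two_pow_mem_center z hzc hz2 hcomm x m1 (by omega)
        have hvc : v ∈ Subgroup.center S :=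
          pow_two_pow_mem_center z hzc hz2 hcomm y n1 (by omega)
        have hT : ∀ a ∈ ({z, u, v} : Set S), ∀ b ∈ ({z, u, v} : Set S), a * b = b * a := by
          have cz : ∀ g : S, g * z = z * g := fun g => Subgroup.mem_center_iff.mp hzc g
          have cu : ∀ g : S, g * u = u * g := fun g => Subgroup.mem_center_iff.mp huc g
          rintro a (rfl | rfl | rfl) b (rfl | rfl | rfl)
          · rfl
          · exact (cz _).symm
          · exact (cz _).symm
          · exact cz _
          · rfl
          · exact (cu _).symm
          · exact cz _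
          · exact cu _
          · rfl
        have hT2 : ∀ a ∈ ({z, u, v} : Set S), a ^ 2 = 1 := by
          rintro a (rfl | rfl | rfl)
          · exact hzsq
          · exact hu2
          · exact hv2
        obtain ⟨hEc, hEe⟩ := elemAb_closure _ hT hT2
        have h4 := hE _ hEc hEe
        set E := Subgroup.closure ({z, u, v} : Set S) with hEdef
        have hzE : Subgroup.zpowers z ≤ E := by
          rw [Subgroup.zpowers_le]; exact Subgroup.subset_closure (by simp)
        have huE : u ∈ E := Subgroup.subset_closure (by simp)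
        have hvE : v ∈ E := Subgroup.subset_closure (by simp)
        set K0 := (Subgroup.zpowers z).subgroupOf E with hK0
        have hK0c : Nat.card K0 = 2 := by
          rw [hK0, Nat.card_congr (Subgroup.subgroupOfEquivOfLe hzE).toEquiv, hcard0]
        have hmul := Subgroup.card_mul_index K0
        have hidx1 : K0.index ≠ 1 := by
          intro h
          rw [Subgroup.index_eq_one] at h
          have : (⟨u, huE⟩ : E) ∈ K0 := h ▸ Subgroup.mem_top _
          rw [hK0, Subgroup.mem_subgroupOf] at this
          exact huz this
        have hidx0 : K0.index ≠ 0 := Subgroup.index_ne_zero_of_finite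
        have hidx : K0.index = 2 := by
          rw [hK0c] at hmul
          omega
        have huv : (⟨u, huE⟩ : E) * ⟨v, hvE⟩ ∈ K0 := by
          rw [Subgroup.mul_mem_iff_of_index_two hidx]
          constructor
          · intro h
            rw [hK0, Subgroup.mem_subgroupOf] at h
            exact absurd h huz
          · intro h
            rw [hK0, Subgroup.mem_subgroupOf] at h
            exact absurd h hvz
        rw [hK0, Subgroup.mem_subgroupOf] at huv
        have huv' : u * v = 1 ∨ u * v = z := hzmem _ huv
        -- x' = x * y ^ (2 ^ (n1 - m1))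
        obtain ⟨w, hw, hpw⟩ := mul_pow_two_pow z hzc hz2 hcomm x (y ^ (2 ^ (n1 - m1))) m1 (by omega)
        have hyv : (y ^ (2 ^ (n1 - m1))) ^ (2 ^ m1) = v := by
          rw [← pow_mul, ← pow_add, hv]
          congr 2
          omega
        rw [hyv, ← hu] at hpw
        have hcases : (x * y ^ (2 ^ (n1 - m1))) ^ (2 ^ m1) = 1 ∨
            (x * y ^ (2 ^ (n1 - m1))) ^ (2 ^ m1) = z := by
          rw [hpw, mul_assoc]
          rcases hw with rfl | rfl <;> rcases huv' with h | h <;> rw [h]
          · left; simp
          · right; simp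
          · right; simp
          · left; exact hz2
        have hgen' := closure_pair_mul x y (2 ^ (n1 - m1)) hgen
        rcases hcases with h1 | hz'
        · -- smaller order
          have hord : orderOf (x * y ^ (2 ^ (n1 - m1))) ≤ 2 ^ m1 :=
            Nat.le_of_dvd (pow_pos two_pos _) (orderOf_dvd_of_pow_eq_one h1)
          have hlt : 2 ^ m1 < orderOf x := by
            rw [hm]; exact Nat.pow_lt_pow_right (by norm_num) (Nat.lt_succ_self m1)
          exact ih _ (by omega) _ y hgen' rfl
        · have hzmem' : z ∈ Subgroup.zpowers (x * y ^ (2 ^ (n1 - m1))) := by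
            rw [← hz']; exact Subgroup.pow_mem _ (Subgroup.mem_zpowers _) _
          exact isMetacyclic_of_pair _ y hgen' (zpowers_normal_of_mem z hzc hz2 hcomm _ hzmem')

end Cfsg.Agent.Lib.H21.SecRank2
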