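import Mathlib
import Cfsg.Prelude.Def_OddOrderLocal
import Cfsg.Prelude.Def_CaseTheorems
import Cfsg.Agent.Lib.H21.SecRank2F
import Cfsg.Agent.Lib.H21.SecRank2H

set_option autoImplicit false

/-!
# Part I: 2-groups of sectional rank at most two are metacyclic
-/

namespace Cfsg.Agent.Lib.H21.SecRank2

universe u

theorem mem_normalizer_of_conj_mem' {G : Type*} [Group G] [Finite G] (H : Subgroup G) (g : G)
    (h : ∀ x ∈ H, g * x * g⁻¹ ∈ H) : g ∈ Subgroup.normalizer (H : Set G) := by
  rw [Subgroup.mem_normalizer_iff]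
  intro y
  refine ⟨h y, fun hy => ?_⟩
  let f : H → H := fun x => ⟨g * x * g⁻¹, h x x.2⟩
  have hinj : Function.Injective f := by
    intro a b hab
    have : g * (a : G) * g⁻¹ = g * (b : G) * g⁻¹ := congrArg Subtype.val hab
    apply Subtype.ext
    simpa using this
  obtain ⟨x, hx⟩ := (Finite.injective_iff_surjective.mp hinj) ⟨g * y * g⁻¹, hy⟩
  have : g * (x : G) * g⁻¹ = g * y * g⁻¹ := congrArg Subtype.val hx
  have hxy : (x : G) = y := by simpa using this
  rw [← hxy]; exact x.2

/-- powers of an involution -/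
theorem zpow_involution {G : Type*} [Group G] (z : G) (hz2 : z * z = 1) (l : ℤ) :
    (Even l → z ^ l = 1) ∧ (Odd l → z ^ l = z) := by
  have hsq : z ^ (2 : ℤ) = 1 := by
    rw [zpow_ofNat, pow_two]; exact hz2
  constructor
  · rintro ⟨q, rfl⟩
    rw [← two_mul, zpow_mul, hsq, one_zpow]
  · rintro ⟨q, rfl⟩
    rw [zpow_add, zpow_mul, hsq, one_zpow, one_mul, zpow_one]

/-- The Blackburn step: in the situation below, either `z ∈ ⟨a⟩` or `[a, b] = z`. -/
theorem blackburn_step {S : Type u} [Group S] [Finite S] (h2 : IsPGroup 2 S)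
    (z : S) (hzc : z ∈ Subgroup.center S) (hz2 : z * z = 1) (hz1 : z ≠ 1)
    (hzcomm : z ∈ commutator S) (a b : S)
    (hgen : Subgroup.closure ({a, b, z} : Set S) = ⊤)
    (hc : ∃ i l : ℤ, a * b * a⁻¹ * b⁻¹ = a ^ i * z ^ l)
    (hza : z ∉ Subgroup.zpowers a) : a * b * a⁻¹ * b⁻¹ = z := by
  obtain ⟨i, l, hc⟩ := hc
  set c := a * b * a⁻¹ * b⁻¹ with hcdef
  have cz : ∀ g : S, g * z = z * g := fun g => Subgroup.mem_center_iff.mp hzc g
  have czl : ∀ g : S, g * z ^ l = z ^ l * g := fun g =>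
    Subgroup.mem_center_iff.mp (Subgroup.zpow_mem _ hzc l) g
  have hac : a * c = c * a := by
    rw [hc]
    calc a * (a ^ i * z ^ l) = a ^ i * (a * z ^ l) := by
          rw [← mul_assoc, ← mul_assoc, (Commute.self_zpow a i).eq]
      _ = a ^ i * (z ^ l * a) := by rw [czl a]
      _ = a ^ i * z ^ l * a := by group
  -- b c b⁻¹ = c ^ (1 - i)
  have hbab : b * a * b⁻¹ = c⁻¹ * a := by rw [hcdef]; group
  have hbc : b * c * b⁻¹ = c ^ (1 - i) := by
    have h1 : b * a ^ i * b⁻¹ = (c⁻¹ * a) ^ i := by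
      rw [← hbab]; simp [conj_zpow]
    have hcomm' : Commute c⁻¹ a := by
      have : Commute c a := hac.symm
      exact this.inv_left
    rw [hcomm'.mul_zpow] at h1
    calc b * c * b⁻¹ = b * (a ^ i * z ^ l) * b⁻¹ := by rw [← hc]
      _ = (b * a ^ i * b⁻¹) * (b * z ^ l) * b⁻¹ := by group
      _ = (c⁻¹ ^ i * a ^ i) * (z ^ l * b) * b⁻¹ := by rw [h1, czl b]
      _ = c⁻¹ ^ i * (a ^ i * z ^ l) := by group
      _ = c⁻¹ ^ i * c := by rw [← hc]
      _ = c ^ (1 - i) := by
          rw [inv_zpow', sub_eq_add_neg, zpow_add, zpow_one]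
          exact ((Commute.refl c).zpow_left (-i)).eq
  -- zpowers c is normal
  have hnorm : (Subgroup.zpowers c).Normal := by
    have hN : Subgroup.normalizer ((Subgroup.zpowers c : Subgroup S) : Set S) = ⊤ := by
      rw [eq_top_iff, ← hgen, Subgroup.closure_le]
      have conj_ok : ∀ g : S, g * c * g⁻¹ ∈ Subgroup.zpowers c →
          g ∈ Subgroup.normalizer ((Subgroup.zpowers c : Subgroup S) : Set S) := by
        intro g hg
        apply mem_normalizer_of_conj_mem'
        intro x hx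
        obtain ⟨k, rfl⟩ := Subgroup.mem_zpowers_iff.mp hx
        have : g * c ^ k * g⁻¹ = (g * c * g⁻¹) ^ k := by simp [conj_zpow]
        rw [this]
        exact Subgroup.zpow_mem _ hg _
      rintro g (rfl | rfl | rfl)
      · apply conj_ok
        rw [hac, mul_inv_cancel_right]
        exact Subgroup.mem_zpowers c
      · apply conj_ok
        rw [hbc]
        exact Subgroup.zpow_mem _ (Subgroup.mem_zpowers c) _
      · apply conj_ok
        rw [← cz c, mul_inv_cancel_right]
        exact Subgroup.mem_zpowers c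
    exact Subgroup.normalizer_eq_top_iff.mp hN
  -- all commutators lie in zpowers c
  have hall : ∀ x y : S, x * y * x⁻¹ * y⁻¹ ∈ Subgroup.zpowers c := by
    apply comm_mem_of_gens (Subgroup.zpowers c) {a, b, z} hgen
    have hzg : ∀ g : S, g * z * g⁻¹ * z⁻¹ = 1 := by
      intro g; rw [cz g]; group
    have hgz : ∀ g : S, z * g * z⁻¹ * g⁻¹ = 1 := by
      intro g; rw [← cz g]; group
    rintro s (rfl | rfl | rfl) t (rfl | rfl | rfl)
    · simp
    · exact Subgroup.mem_zpowers c
    · rw [hzg]; exact Subgroup.one_mem _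
    · have : s * t * s⁻¹ * t⁻¹ = c⁻¹ := by rw [hcdef]; group
      rw [this]; exact Subgroup.inv_mem _ (Subgroup.mem_zpowers c)
    · simp
    · rw [hzg]; exact Subgroup.one_mem _
    · rw [hgz]; exact Subgroup.one_mem _
    · rw [hgz]; exact Subgroup.one_mem _
    · simp
  have hzc' : z ∈ Subgroup.zpowers c := by
    have hle : commutator S ≤ Subgroup.zpowers c := by
      rw [commutator_def, Subgroup.commutator_le]
      intro x _ y _
      rw [commutatorElement_def]
      exact hall x y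
    exact hle hzcomm
  obtain ⟨s, hs⟩ := Subgroup.mem_zpowers_iff.mp hzc'
  -- z = a^(i s) z^(l s)
  have hcomm_az : Commute (a ^ i) (z ^ l) := (czl (a ^ i))
  rw [hc, hcomm_az.mul_zpow, ← zpow_mul, ← zpow_mul] at hs
  have hzp := zpow_involution z hz2
  have hzmem : ∀ g ∈ Subgroup.zpowers z, g = 1 ∨ g = z := by
    intro g hg
    obtain ⟨k, rfl⟩ := Subgroup.mem_zpowers_iff.mp hg
    rcases Int.even_or_odd k with h | h
    · left; exact (hzp k).1 h
    · right; exact (hzp k).2 h
  have ha_is : a ^ (i * s) = z * (z ^ (l * s))⁻¹ := eq_mul_inv_of_mul_eq hs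
  have hmemz : a ^ (i * s) ∈ Subgroup.zpowers z := by
    rw [ha_is]
    exact Subgroup.mul_mem _ (Subgroup.mem_zpowers z)
      (Subgroup.inv_mem _ (Subgroup.zpow_mem _ (Subgroup.mem_zpowers z) _))
  have ha1 : a ^ (i * s) = 1 := by
    rcases hzmem _ hmemz with h | h
    · exact h
    · exfalso
      apply hza
      rw [← h]
      exact Subgroup.zpow_mem _ (Subgroup.mem_zpowers a) _
  rw [ha1, one_mul] at hs
  have hodd : Odd (l * s) := by
    rcases Int.even_or_odd (l * s) with h | h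
    · exfalso
      rw [(hzp _).1 h] at hs
      exact hz1 hs.symm
    · exact h
  have hlodd : Odd l := (Int.odd_mul.mp hodd).1
  have hsodd : Odd s := (Int.odd_mul.mp hodd).2
  -- a ^ i = 1
  have hai : a ^ i = 1 := by
    obtain ⟨k, hk⟩ := h2 (a ^ i)
    obtain ⟨t, -, ht⟩ := (Nat.dvd_prime_pow Nat.prime_two).mp (orderOf_dvd_of_pow_eq_one hk)
    have h1 : (a ^ i) ^ s = 1 := by rw [← zpow_mul]; exact ha1
    have hdvd := orderOf_dvd_iff_zpow_eq_one.mpr h1
    rw [ht] at hdvd
    by_cases ht0 : t = 0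
    · rw [ht0, pow_zero, orderOf_eq_one_iff] at ht
      exact ht
    · exfalso
      obtain ⟨t', rfl⟩ := Nat.exists_eq_succ_of_ne_zero ht0
      have : (2 : ℤ) ∣ s := by
        refine dvd_trans ?_ hdvd
        push_cast
        exact ⟨2 ^ t', by rw [Nat.succ_eq_add_one, pow_succ]; ring⟩
      exact (Int.not_even_iff_odd.mpr hsodd) (even_iff_two_dvd.mpr this)
  rw [hc, hai, one_mul]
  exact (hzp l).2 hlodd

end Cfsg.Agent.Lib.H21.SecRank2
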