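import Mathlib
import Cfsg.Prelude.Def_OddOrderLocal
import Cfsg.Prelude.Def_CaseTheorems
import Cfsg.Agent.Lib.H22.TwoGroupAb4
import Cfsg.Agent.Lib.H21.SecRank2I

set_option autoImplicit false

/-!
# Part J: 2-groups of sectional rank at most two are metacyclic: main induction
-/

namespace Cfsg.Agent.Lib.H21.SecRank2

universe u

open scoped commutatorElement

theorem isMetacyclic_aux : ∀ (n : ℕ) (S : Type u) [Group S] [Finite S], Nat.card S = n →
    IsPGroup 2 S → Cfsg.SectionalPRankLE 2 2 S → Cfsg.IsMetacyclic S := by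
  haveI : Fact (Nat.Prime 2) := ⟨Nat.prime_two⟩
  intro n
  induction n using Nat.strong_induction_on with
  | _ n ih =>
    intro S _ _ hn h2 hr
    have hE : ∀ E : Subgroup S, (∀ x ∈ E, ∀ y ∈ E, x * y = y * x) → (∀ x ∈ E, x ^ 2 = 1) →
        Nat.card E ≤ 4 := by
      intro E hc he
      have := card_le_of_sectional hr E hc he
      simpa using this
    by_cases hab : ∀ x y : S, x * y = y * x
    · exact isMetacyclic_of_comm h2 hE hab
    have hne : commutator S ≠ ⊥ := by
      intro h
      apply hab
      intro x y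
      have hm : ⁅x, y⁆ ∈ commutator S := by
        rw [commutator_def]
        exact Subgroup.commutator_mem_commutator (Subgroup.mem_top x) (Subgroup.mem_top y)
      rw [h, Subgroup.mem_bot, commutatorElement_def] at hm
      calc x * y = (x * y * x⁻¹ * y⁻¹) * (y * x) := by group
        _ = y * x := by rw [hm, one_mul]
    obtain ⟨z, hzcomm, hzc, hzo⟩ :=
      Cfsg.Agent.Lib.H22.exists_central_orderOf_eq_prime h2 (commutator S) hne
    have hz1 : z ≠ 1 := by
      intro h
      rw [h, orderOf_one] at hzo
      norm_num at hzo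
    have hz2 : z * z = 1 := by
      rw [← pow_two, ← hzo]; exact pow_orderOf_eq_one z
    have cz : ∀ g : S, g * z = z * g := fun g => Subgroup.mem_center_iff.mp hzc g
    set N := Subgroup.zpowers z with hN
    have hNn : N.Normal := by
      constructor
      intro x hx g
      have hxc : x ∈ Subgroup.center S := by
        have : N ≤ Subgroup.center S := by rw [hN, Subgroup.zpowers_le]; exact hzc
        exact this hx
      have := Subgroup.mem_center_iff.mp hxc g
      rw [this, mul_inv_cancel_right]
      exact hx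
    have hNc : Nat.card N = 2 := by rw [hN, Nat.card_zpowers, hzo]
    have hlt : Nat.card (S ⧸ N) < n := by
      have h1 := Subgroup.card_mul_index N
      rw [hn, hNc] at h1
      rw [← Subgroup.index_eq_card]
      have hpos : 0 < N.index := Nat.pos_of_ne_zero Subgroup.index_ne_zero_of_finite
      omega
    obtain ⟨A, hAn, hAc, hQc⟩ := ih _ hlt (S ⧸ N) rfl (h2.to_quotient N)
      (sectionalPRankLE_quotient hr N)
    obtain ⟨⟨aq, haq⟩, hgA⟩ := IsCyclic.exists_generator (α := A)
    obtain ⟨a, rfl⟩ := QuotientGroup.mk'_surjective N aq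
    obtain ⟨gq, hgq⟩ := IsCyclic.exists_generator (α := (S ⧸ N) ⧸ A)
    obtain ⟨bq, rfl⟩ := QuotientGroup.mk'_surjective A gq
    obtain ⟨b, rfl⟩ := QuotientGroup.mk'_surjective N bq
    -- F0
    have F0 : ∀ y : S, (QuotientGroup.mk' N y) ∈ A → ∃ k l : ℤ, y = a ^ k * z ^ l := by
      intro y hy
      obtain ⟨k, hk⟩ := Subgroup.mem_zpowers_iff.mp (hgA ⟨_, hy⟩)
      have hk' : (QuotientGroup.mk' N a) ^ k = QuotientGroup.mk' N y := by
        have := congrArg Subtype.val hk
        simpa using this
      rw [← map_zpow, QuotientGroup.mk'_apply, QuotientGroup.mk'_apply, QuotientGroup.eq] at hk'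
      obtain ⟨l, hl⟩ := Subgroup.mem_zpowers_iff.mp hk'
      refine ⟨k, l, ?_⟩
      rw [hl]; group
    -- F1
    have F1 : ∀ x : S, ∃ j k l : ℤ, x = b ^ j * a ^ k * z ^ l := by
      intro x
      obtain ⟨j, hj⟩ := Subgroup.mem_zpowers_iff.mp
        (hgq (QuotientGroup.mk' A (QuotientGroup.mk' N x)))
      rw [← map_zpow, QuotientGroup.mk'_apply, QuotientGroup.mk'_apply (N := A),
        QuotientGroup.eq] at hj
      have hmem : QuotientGroup.mk' N (b ^ (-j) * x) ∈ A := by
        rw [map_mul, map_zpow, zpow_neg]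
        exact hj
      obtain ⟨k, l, hkl⟩ := F0 _ hmem
      refine ⟨j, k, l, ?_⟩
      calc x = b ^ j * (b ^ (-j) * x) := by group
        _ = b ^ j * (a ^ k * z ^ l) := by rw [hkl]
        _ = b ^ j * a ^ k * z ^ l := by group
    have hgen : Subgroup.closure ({a, b, z} : Set S) = ⊤ := by
      rw [eq_top_iff]
      intro x _
      obtain ⟨j, k, l, rfl⟩ := F1 x
      have ha' : a ∈ Subgroup.closure ({a, b, z} : Set S) := Subgroup.subset_closure (by simp)
      have hb' : b ∈ Subgroup.closure ({a, b, z} : Set S) := Subgroup.subset_closure (by simp)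
      have hz' : z ∈ Subgroup.closure ({a, b, z} : Set S) := Subgroup.subset_closure (by simp)
      exact Subgroup.mul_mem _ (Subgroup.mul_mem _ (Subgroup.zpow_mem _ hb' _)
        (Subgroup.zpow_mem _ ha' _)) (Subgroup.zpow_mem _ hz' _)
    by_cases hza : z ∈ Subgroup.zpowers a
    · -- zpowers a is the preimage of A
      have hAeq : Subgroup.zpowers a = A.comap (QuotientGroup.mk' N) := by
        ext y
        rw [Subgroup.mem_comap]
        constructor
        · intro hy
          obtain ⟨k, rfl⟩ := Subgroup.mem_zpowers_iff.mp hy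
          rw [map_zpow]
          exact Subgroup.zpow_mem _ haq _
        · intro hy
          obtain ⟨k, l, rfl⟩ := F0 y hy
          exact Subgroup.mul_mem _ (Subgroup.zpow_mem _ (Subgroup.mem_zpowers a) _)
            (Subgroup.zpow_mem _ hza _)
      have hnorm : (Subgroup.zpowers a).Normal := by
        rw [hAeq]; exact hAn.comap _
      refine ⟨Subgroup.zpowers a, hnorm, inferInstance, ?_⟩
      rw [isCyclic_iff_exists_zpowers_eq_top]
      refine ⟨((b : S) : S ⧸ Subgroup.zpowers a), ?_⟩
      rw [eq_top_iff]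
      intro q _
      induction q using QuotientGroup.induction_on with
      | H x =>
        obtain ⟨j, k, l, rfl⟩ := F1 x
        rw [Subgroup.mem_zpowers_iff]
        refine ⟨j, ?_⟩
        rw [← QuotientGroup.mk_zpow, QuotientGroup.eq]
        have : (b ^ j)⁻¹ * (b ^ j * a ^ k * z ^ l) = a ^ k * z ^ l := by group
        rw [this]
        exact Subgroup.mul_mem _ (Subgroup.zpow_mem _ (Subgroup.mem_zpowers a) _)
          (Subgroup.zpow_mem _ hza _)
    · -- Blackburn step
      have hcA : QuotientGroup.mk' N (a * b * a⁻¹ * b⁻¹) ∈ A := by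
        have : QuotientGroup.mk' N (a * b * a⁻¹ * b⁻¹) =
            QuotientGroup.mk' N a * (QuotientGroup.mk' N b * (QuotientGroup.mk' N a)⁻¹ *
              (QuotientGroup.mk' N b)⁻¹) := by
          simp only [map_mul, map_inv]; group
        rw [this]
        exact A.mul_mem haq (hAn.conj_mem _ (A.inv_mem haq) _)
      have hcz := blackburn_step h2 z hzc hz2 hz1 hzcomm a b hgen (F0 _ hcA) hza
      have hgen2 : Subgroup.closure ({a, b} : Set S) = ⊤ := by
        rw [eq_top_iff, ← hgen, Subgroup.closure_le]
        have ha' : a ∈ Subgroup.closure ({a, b} : Set S) := Subgroup.subset_closure (by simp)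
        have hb' : b ∈ Subgroup.closure ({a, b} : Set S) := Subgroup.subset_closure (by simp)
        rintro g (rfl | rfl | rfl)
        · exact ha'
        · exact hb'
        · rw [← hcz]
          exact Subgroup.mul_mem _ (Subgroup.mul_mem _ (Subgroup.mul_mem _ ha' hb')
            (Subgroup.inv_mem _ ha')) (Subgroup.inv_mem _ hb')
      have hzinv : z⁻¹ = z := by rw [inv_eq_iff_mul_eq_one]; exact hz2
      have hall : ∀ x y : S, x * y * x⁻¹ * y⁻¹ ∈ N := by
        apply comm_mem_of_gens N {a, b} hgen2
        rintro s (rfl | rfl) t (rfl | rfl)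
        · simp
        · rw [hcz]; exact Subgroup.mem_zpowers z
        · have : s * t * s⁻¹ * t⁻¹ = (t * s * t⁻¹ * s⁻¹)⁻¹ := by group
          rw [this, hcz]
          exact Subgroup.inv_mem _ (Subgroup.mem_zpowers z)
        · simp
      have hcomm : ∀ x y : S, x * y * x⁻¹ * y⁻¹ = 1 ∨ x * y * x⁻¹ * y⁻¹ = z := fun x y =>
        Cfsg.Agent.Lib.H22.eq_one_or_eq_of_mem_zpowers_of_orderOf_two hzo (hall x y)
      exact redei_aux h2 hE z hzc hz2 hz1 hcomm _ a b hgen2 rfl

/-- **Blackburn**: a finite 2-group of sectional rank at most two is metacyclic. -/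
theorem isMetacyclic_of_sectional {S : Type u} [Group S] [Finite S] (h2 : IsPGroup 2 S)
    (hr : Cfsg.SectionalPRankLE 2 2 S) : Cfsg.IsMetacyclic S :=
  isMetacyclic_aux _ S rfl h2 hr

end Cfsg.Agent.Lib.H21.SecRank2
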