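import Cfsg.Agent.Lib.H21.SimsL3ADefs

/-!
# S3685, piece (L3A1) = (9a) of `tools/blueprints/S3685.md`
-/

set_option autoImplicit false

namespace Cfsg.Agent.Lib.H21.Sims

open scoped Pointwise
open Cfsg.Agent.Lib.H5.Sims

variable {G : Type*} [Group G]

theorem isSyl_succ' [Finite G] (S : Setup G) {j k : ℤ} (h : k + 1 = j) : S.IsSyl j (S.Tj k) := by
  subst h; exact S.isSyl_Tj_succ k

theorem bent' (S : Setup G) (hL : S.Loc) {j k : ℤ} (h : k + 1 = j) : S.Tj k ≠ S.Tj j := by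
  subst h
  have := hL.bent (k + 1)
  rwa [add_sub_cancel_right] at this

theorem card_Yj [Finite G] (S : Setup G) (j : ℤ) : Nat.card (S.Yj j) = Nat.card (S.Yj 0) := by
  have := S.conj_Yj j 0
  rw [add_zero] at this
  rw [← this]; exact Setup.card_conj_smul _ _

theorem Z_le_P (S : Setup G) (hl : S.Ell 3) {i j : ℤ} (h1 : i - 2 ≤ j) (h2 : j ≤ i + 3) :
    S.Zj i ≤ S.Pj j := by
  refine hl.le i j ?_ ?_ <;> push_cast <;> omega

theorem Z_le_T (S : Setup G) (hl : S.Ell 3) {i j : ℤ} (h1 : i - 2 ≤ j) (h2 : j ≤ i + 2) :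
    S.Zj i ≤ S.Tj j :=
  le_inf (Z_le_P S hl h1 (by omega)) (Z_le_P S hl (by omega) (by omega))

theorem Q_le_P_pred (S : Setup G) {j k : ℤ} (h : k + 1 = j) : S.Qj j ≤ S.Pj k := by
  subst h
  have := (S.Qj_le_left (k + 1)).trans (S.Tj_le_left _)
  rwa [add_sub_cancel_right] at this

theorem Q_le_P_succ (S : Setup G) (j : ℤ) : S.Qj j ≤ S.Pj (j + 1) :=
  (S.Qj_le_right j).trans (S.Tj_le_right _)

/-- the heart of (9a), at a general index -/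
theorem commZZ [Finite G] (S : Setup G) (hL : S.Loc) (hC : S.Con) (hM : S.Mod) (hl : S.Ell 3) (i : ℤ) :
    ⁅S.Zj i, S.Zj (i + 3)⁆ = ⁅S.Vj (i + 3), S.Tj (i + 2)⁆ ∧
    ⁅S.Zj i, S.Zj (i + 3)⁆ = ⁅S.Vj (i + 1), S.Tj (i + 1)⁆ ∧
    ⁅S.Zj i, S.Zj (i + 3)⁆ ≤ S.Yj (i + 2) := by
  have syl32 : S.IsSyl (i + 3) (S.Tj (i + 2)) := isSyl_succ' S (by ring)
  have syl33 : S.IsSyl (i + 3) (S.Tj (i + 3)) := S.isSyl_Tj _
  have syl11 : S.IsSyl (i + 1) (S.Tj (i + 1)) := S.isSyl_Tj _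
  have syl10 : S.IsSyl (i + 1) (S.Tj i) := S.isSyl_Tj_succ i
  have ne3 : S.Tj (i + 2) ≠ S.Tj (i + 3) := bent' S hL (by ring)
  have ne1 : S.Tj (i + 1) ≠ S.Tj i := (bent' S hL rfl).symm
  -- inclusions `≤`
  have hA1 : ⁅S.Zj i, S.Zj (i + 3)⁆ ≤ ⁅S.Vj (i + 3), S.Tj (i + 2)⁆ := by
    rw [Subgroup.commutator_comm]
    exact Subgroup.commutator_mono (hC.Z_le_V (i + 3) _ syl33) (Z_le_T S hl (by omega) (by omega))
  have hA2 : ⁅S.Zj i, S.Zj (i + 3)⁆ ≤ ⁅S.Vj (i + 1), S.Tj (i + 1)⁆ :=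
    Subgroup.commutator_mono (hC.Z_le_V (i + 1) _ syl10) (Z_le_T S hl (by omega) (by omega))
  -- inclusions `≥`
  have hB1 : ⁅S.Vj (i + 3), S.Tj (i + 2)⁆ ≤ ⁅S.Zj i, S.Zj (i + 3)⁆ := by
    obtain ⟨s, hs, hsP⟩ : ∃ s ∈ S.Zj i, s ∉ S.Pj (i + 3 + 1) := by
      have := hl.not_le_right i
      rw [SetLike.not_le_iff_exists] at this
      simpa using this
    have hsT : s ∈ S.Tj (i + 2) := Z_le_T S hl (by omega) (by omega) hs
    have hsQ : s ∉ S.Qj (i + 3) := fun h => hsP (Q_le_P_succ S _ h)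
    intro x hx
    obtain ⟨z, hz, rfl⟩ := hM.comm_eq (i + 3) _ _ syl32 syl33 ne3 s hsT hsQ x hx
    rw [Subgroup.commutator_comm]
    have := Subgroup.commutator_mem_commutator (H₁ := S.Zj (i + 3)) (H₂ := S.Zj i) hz hs
    rwa [commutatorElement_def] at this
  have hB2 : ⁅S.Vj (i + 1), S.Tj (i + 1)⁆ ≤ ⁅S.Zj i, S.Zj (i + 3)⁆ := by
    obtain ⟨s, hs, hsP⟩ : ∃ s ∈ S.Zj (i + 3), s ∉ S.Pj i := by
      have := hl.not_le_left (i + 3)
      rw [SetLike.not_le_iff_exists] at this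
      simpa using this
    have hsT : s ∈ S.Tj (i + 1) := Z_le_T S hl (by omega) (by omega) hs
    have hsQ : s ∉ S.Qj (i + 1) := fun h => hsP (Q_le_P_pred S rfl h)
    intro x hx
    obtain ⟨z, hz, rfl⟩ := hM.comm_eq (i + 1) _ _ syl11 syl10 ne1 s hsT hsQ x hx
    have := Subgroup.commutator_mem_commutator (H₁ := S.Zj i) (H₂ := S.Zj (i + 3)) hz hs
    rwa [commutatorElement_def] at this
  refine ⟨le_antisymm hA1 hB1, le_antisymm hA2 hB2, ?_⟩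
  have h1 : ⁅S.Zj i, S.Zj (i + 3)⁆ ≤ S.Zj (i + 2) := hA1.trans (hM.comm_le (i + 3) _ syl32)
  have h2 : ⁅S.Zj i, S.Zj (i + 3)⁆ ≤ S.Zj (i + 1) := hA2.trans (hM.comm_le (i + 1) _ syl11)
  have h3 : S.Zj (i + 1) ⊓ S.Zj (i + 2) = S.Yj (i + 2) :=
    hM.Z_inf (i + 2) (S.Tj (i + 1)) (S.Tj (i + 2)) (isSyl_succ' S (by ring)) (S.isSyl_Tj _)
      (bent' S hL (by ring))
  rw [← h3]
  exact le_inf h2 h1

theorem commZZ_eq_Y [Finite G] (S : Setup G) (hL : S.Loc) (hC : S.Con) (hM : S.Mod) (hl : S.Ell 3) (i : ℤ) :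
    ⁅S.Zj i, S.Zj (i + 3)⁆ = S.Yj (i + 2) := by
  obtain ⟨-, h2, h3⟩ := commZZ S hL hC hM hl i
  apply Subgroup.eq_of_le_of_card_ge h3
  rw [card_Yj, h2, hM.card_comm (i + 1) _ (S.isSyl_Tj _)]
  exact hM.card_Y_le

/-- (L3A1) = (9a) -/
theorem l3a1 [Finite G] (S : Setup G) (hb : S.Bent) (hL : S.Loc) (hC : S.Con) (hM : S.Mod) (hl : S.Ell 3) :
    Y3a S := by
  have hout : ∀ j : ℤ, ⁅S.Vj j, S.Tj j⁆ = S.Yj (j + 1) := by
    intro j
    obtain ⟨i, rfl⟩ : ∃ i, j = i + 1 := ⟨j - 1, by ring⟩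
    rw [show i + 1 + 1 = i + 2 by ring, ← commZZ_eq_Y S hL hC hM hl i]
    exact (commZZ S hL hC hM hl i).2.1.symm
  refine ⟨hout, ?_, commZZ_eq_Y S hL hC hM hl, ?_, ?_⟩
  · intro j
    obtain ⟨i, rfl⟩ : ∃ i, j = i + 2 := ⟨j - 2, by ring⟩
    rw [show i + 2 + 1 = i + 3 by ring, ← commZZ_eq_Y S hL hC hM hl i]
    exact (commZZ S hL hC hM hl i).1.symm
  · intro j
    obtain ⟨i, rfl⟩ : ∃ i, j = i + 2 := ⟨j - 2, by ring⟩
    rw [← commZZ_eq_Y S hL hC hM hl i]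
    intro h0
    apply hl.nc i
    rw [Subgroup.commutator_eq_bot_iff_le_centralizer] at h0
    intro a ha b hb'
    have := h0 ha
    rw [Subgroup.mem_centralizer_iff] at this
    have hb3 : b ∈ S.Zj (i + 3) := by simpa using hb'
    exact (this b hb3).symm
  · intro j
    have := hM.Z_eq j _ (S.isSyl_Tj j)
    rw [hout j] at this
    exact this

end Cfsg.Agent.Lib.H21.Sims
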