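import Cfsg.Agent.Lib.H5.Sims.Defs

/-!
# S3685, piece (L3A): the interface between the sub-pieces (9a), (9b), (9c)

Blueprint: `tools/blueprints/S3685.md`, section 9.
-/

set_option autoImplicit false

namespace Cfsg.Agent.Lib.H21.Sims

open scoped Pointwise
open Cfsg.Agent.Lib.H5.Sims

variable {G : Type*} [Group G]

/-- the outcome of (9a): `(In)`, `(Out)`, `[Z_j, Z_(j+3)] = Y_(j+2)`, `Z_j = Y_j Y_(j+1)` -/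
structure Y3a (S : Setup G) : Prop where
  comm_out : ∀ j : ℤ, ⁅S.Vj j, S.Tj j⁆ = S.Yj (j + 1)
  comm_in : ∀ j : ℤ, ⁅S.Vj (j + 1), S.Tj j⁆ = S.Yj j
  comm_ZZ : ∀ j : ℤ, ⁅S.Zj j, S.Zj (j + 3)⁆ = S.Yj (j + 2)
  Y_ne_bot : ∀ j : ℤ, S.Yj j ≠ ⊥
  Z_eq : ∀ j : ℤ, S.Zj j = S.Yj j ⊔ S.Yj (j + 1)

end Cfsg.Agent.Lib.H21.Sims
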