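import Cfsg.Agent.Lib.H5.Sims.L3A
import Cfsg.Agent.Lib.H24.SimsMODX
import Cfsg.Agent.Lib.H8.SimsL3C
import Cfsg.Agent.Lib.H10.SimsLOC3

/-!
# S3685, piece (MOD): the six fields `comm_le`, `Z_eq`, `Y_disj`, `Z_inf`, `Z_sup`, `comm_eq` of `Setup.Mod`,
directly from `Bent`, `Loc`, `Con` by Sylow-permutation arguments (helper21)
-/

set_option autoImplicit false

namespace Cfsg.Agent.Lib.H21.Sims.M6

open scoped Pointwise
open Cfsg.Agent.Lib.H5.Sims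

variable {G : Type*} [Group G]

/-- `γ_s(v) = v · (s v s⁻¹)`, which is `[v, s]` for `v` of order at most 2 -/
def cm (s v : G) : G := v * (s * v * s⁻¹)

/-- the hypotheses of the "module calculus": `V` abelian of exponent 2, normalised by `s`, centralised by `s²` -/
structure Quad (V : Subgroup G) (s : G) : Prop where
  comm : ∀ a ∈ V, ∀ b ∈ V, a * b = b * a
  sq : ∀ a ∈ V, a * a = 1
  norm : ∀ a ∈ V, s * a * s⁻¹ ∈ V
  sq_cent : ∀ a ∈ V, s * (s * a * s⁻¹) * s⁻¹ = a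

namespace Quad

variable {V : Subgroup G} {s : G} (h : Quad V s)
include h

theorem inv_eq {a : G} (ha : a ∈ V) : a⁻¹ = a := inv_eq_of_mul_eq_one_right (h.sq a ha)

theorem cm_mem {v : G} (hv : v ∈ V) : cm s v ∈ V := V.mul_mem hv (h.norm v hv)

theorem comm_eq_cm {v : G} (hv : v ∈ V) : v * s * v⁻¹ * s⁻¹ = cm s v := by
  rw [h.inv_eq hv]; simp [cm, mul_assoc]

theorem cm_mul {a b : G} (ha : a ∈ V) (hb : b ∈ V) : cm s (a * b) = cm s a * cm s b := by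
  have e : s * (a * b) * s⁻¹ = (s * a * s⁻¹) * (s * b * s⁻¹) := by group
  have hc := h.comm b hb _ (h.norm a ha)
  unfold cm
  rw [e]
  calc a * b * (s * a * s⁻¹ * (s * b * s⁻¹)) = a * (b * (s * a * s⁻¹)) * (s * b * s⁻¹) := by
        simp only [mul_assoc]
    _ = a * ((s * a * s⁻¹) * b) * (s * b * s⁻¹) := by rw [hc]
    _ = a * (s * a * s⁻¹) * (b * (s * b * s⁻¹)) := by simp only [mul_assoc]

theorem cm_conj {v : G} (hv : v ∈ V) : s * cm s v * s⁻¹ = cm s v := by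
  have e : s * cm s v * s⁻¹ = (s * v * s⁻¹) * (s * (s * v * s⁻¹) * s⁻¹) := by unfold cm; group
  rw [e, h.sq_cent v hv]
  exact h.comm _ (h.norm v hv) _ hv

theorem self_eq {v : G} (hv : v ∈ V) : v = cm s v * (s * v * s⁻¹) := by
  unfold cm
  rw [mul_assoc, h.sq _ (h.norm v hv), mul_one]

theorem cm_of_fix {a : G} (ha : a ∈ V) (hf : s * a * s⁻¹ = a) : cm s a = 1 := by
  unfold cm; rw [hf]; exact h.sq a ha

theorem cm_mul_of_fix {a b : G} (ha : a ∈ V) (hb : b ∈ V) (hf : s * a * s⁻¹ = a) :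
    cm s (a * b) = cm s b := by
  rw [h.cm_mul ha hb, h.cm_of_fix ha hf, one_mul]

theorem cm_sq {v : G} (hv : v ∈ V) : cm s v * cm s v = 1 := h.sq _ (h.cm_mem hv)

end Quad

section setup

open Cfsg.Agent.Lib.H24.Sims (conj_mem_of_le_normalizer conj_smul_self exists_mul_of_mem_sup)

variable [Finite G] (S : Setup G)

theorem inv_not_mem {H : Subgroup G} {s : G} (h : s ∉ H) : s⁻¹ ∉ H := fun h' => h (by simpa using H.inv_mem h')

theorem quad (hb : S.Bent) (hC : S.Con) {j : ℤ} {X : Subgroup G} (hX : S.IsSyl j X) {s : G}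
    (hs : s ∈ X) (hsQ : s ∉ S.Qj j) : Quad (S.Vj j) s := by
  obtain ⟨-, -, hmul, -⟩ := Cfsg.Agent.Lib.H10.Sims.loc_extra S hb
  refine ⟨fun a ha b hb' => hC.V_comm_Q j a ha b (hC.V_le_Q j hb'), fun a ha => ?_, fun a ha => ?_,
    fun a ha => ?_⟩
  · have := hC.V_sq j a ha
    rwa [pow_two] at this
  · exact conj_mem_of_le_normalizer (hC.V_norm j) (hX.1 hs) ha
  · have hss : s * s ∈ S.Qj j := hmul j X hX s hs s hs hsQ hsQ
    have hc : a * (s * s) = (s * s) * a := hC.V_comm_Q j a ha _ hss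
    calc s * (s * a * s⁻¹) * s⁻¹ = (s * s) * a * s⁻¹ * s⁻¹ := by group
      _ = a * (s * s) * s⁻¹ * s⁻¹ := by rw [hc]
      _ = a := by group

theorem mem_zOf_iff (hb : S.Bent) (hC : S.Con) {j : ℤ} {X : Subgroup G} (hX : S.IsSyl j X) {s : G}
    (hs : s ∈ X) (hsQ : s ∉ S.Qj j) {v : G} (hv : v ∈ S.Vj j) :
    v ∈ zOf X ↔ s * v * s⁻¹ = v := by
  obtain ⟨hQle, -, hmul, -⟩ := Cfsg.Agent.Lib.H10.Sims.loc_extra S hb
  constructor
  · intro hz
    have := (mem_zOf.1 hz).2.2 s hs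
    rw [this, mul_inv_cancel_right]
  · intro hf
    have hsv : s * v = v * s := by
      calc s * v = s * v * s⁻¹ * s := by group
        _ = v * s := by rw [hf]
    refine mem_zOf.2 ⟨hQle j X hX (hC.V_le_Q j hv), hC.V_sq j v hv, fun x hx => ?_⟩
    by_cases hxQ : x ∈ S.Qj j
    · exact (hC.V_comm_Q j v hv x hxQ).symm
    · have hq : x * s⁻¹ ∈ S.Qj j := hmul j X hX x hx s⁻¹ (inv_mem hs) hxQ (inv_not_mem hsQ)
      have hc := hC.V_comm_Q j v hv _ hq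
      calc x * v = (x * s⁻¹) * (s * v) := by group
        _ = (x * s⁻¹) * (v * s) := by rw [hsv]
        _ = ((x * s⁻¹) * v) * s := by group
        _ = (v * (x * s⁻¹)) * s := by rw [hc]
        _ = v * x := by group

theorem mem_comm_iff (hb : S.Bent) (hC : S.Con) {j : ℤ} {X : Subgroup G} (hX : S.IsSyl j X) {s : G}
    (hs : s ∈ X) (hsQ : s ∉ S.Qj j) {x : G} :
    x ∈ ⁅S.Vj j, X⁆ ↔ ∃ v ∈ S.Vj j, x = cm s v := by
  have hq := quad S hb hC hX hs hsQ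
  obtain ⟨-, -, hmul, -⟩ := Cfsg.Agent.Lib.H10.Sims.loc_extra S hb
  constructor
  · intro hx
    let K : Subgroup G :=
      { carrier := {x | ∃ v ∈ S.Vj j, x = cm s v}
        one_mem' := ⟨1, (S.Vj j).one_mem, by simp [cm]⟩
        mul_mem' := by
          rintro _ _ ⟨a, ha, rfl⟩ ⟨b, hb', rfl⟩
          exact ⟨a * b, (S.Vj j).mul_mem ha hb', (hq.cm_mul ha hb').symm⟩
        inv_mem' := by
          rintro _ ⟨a, ha, rfl⟩
          exact ⟨a, ha, hq.inv_eq (hq.cm_mem ha)⟩ }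
    have hle : ⁅S.Vj j, X⁆ ≤ K := by
      rw [Subgroup.commutator_le]
      intro v hv y hy
      rw [commutatorElement_def]
      by_cases hyQ : y ∈ S.Qj j
      · have hc := hC.V_comm_Q j v hv y hyQ
        refine ⟨1, (S.Vj j).one_mem, ?_⟩
        rw [hc]; simp [cm]
      · have hqy : y * s⁻¹ ∈ S.Qj j := hmul j X hX y hy s⁻¹ (inv_mem hs) hyQ (inv_not_mem hsQ)
        refine ⟨v, hv, ?_⟩
        have hcq : v * (y * s⁻¹) = (y * s⁻¹) * v := hC.V_comm_Q j v hv _ hqy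
        have hcq' : cm s v * (y * s⁻¹) = (y * s⁻¹) * cm s v := hC.V_comm_Q j _ (hq.cm_mem hv) _ hqy
        calc v * y * v⁻¹ * y⁻¹ = (v * (y * s⁻¹)) * (s * v⁻¹ * s⁻¹) * (y * s⁻¹)⁻¹ := by group
          _ = ((y * s⁻¹) * v) * (s * v⁻¹ * s⁻¹) * (y * s⁻¹)⁻¹ := by rw [hcq]
          _ = (y * s⁻¹) * (v * s * v⁻¹ * s⁻¹) * (y * s⁻¹)⁻¹ := by group
          _ = (y * s⁻¹) * cm s v * (y * s⁻¹)⁻¹ := by rw [hq.comm_eq_cm hv]
          _ = cm s v * (y * s⁻¹) * (y * s⁻¹)⁻¹ := by rw [hcq']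
          _ = cm s v := by group
    exact hle hx
  · rintro ⟨v, hv, rfl⟩
    rw [← hq.comm_eq_cm hv]
    have := Subgroup.commutator_mem_commutator (H₁ := S.Vj j) (H₂ := X) hv hs
    rwa [commutatorElement_def] at this

/-- field `comm_le` -/
theorem comm_le (hb : S.Bent) (hC : S.Con) {j : ℤ} {X : Subgroup G} (hX : S.IsSyl j X) :
    ⁅S.Vj j, X⁆ ≤ zOf X := by
  obtain ⟨-, hex, -, -⟩ := Cfsg.Agent.Lib.H10.Sims.loc_extra S hb
  obtain ⟨s, hs, hsQ⟩ := hex j X hX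
  have hq := quad S hb hC hX hs hsQ
  intro x hx
  obtain ⟨v, hv, rfl⟩ := (mem_comm_iff S hb hC hX hs hsQ).1 hx
  exact (mem_zOf_iff S hb hC hX hs hsQ (hq.cm_mem hv)).2 (hq.cm_conj hv)

/-- field `Z_inf` -/
theorem Z_inf (hL : S.Loc) (hC : S.Con) {j : ℤ} {X X' : Subgroup G} (hX : S.IsSyl j X)
    (hX' : S.IsSyl j X') (hne : X ≠ X') : zOf X ⊓ zOf X' = S.Yj j := by
  apply le_antisymm
  · rintro x ⟨hx, hx'⟩
    have hsup := hL.syl_sup j X X' hX hX' hne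
    refine mem_zOf.2 ⟨hX.1 (zOf_le _ hx), (mem_zOf.1 hx).2.1, ?_⟩
    have h1 : X ≤ Subgroup.centralizer {x} := fun y hy => by
      rw [Subgroup.mem_centralizer_iff]
      intro z hz
      rw [Set.mem_singleton_iff] at hz
      subst hz
      exact ((mem_zOf.1 hx).2.2 y hy).symm
    have h2 : X' ≤ Subgroup.centralizer {x} := fun y hy => by
      rw [Subgroup.mem_centralizer_iff]
      intro z hz
      rw [Set.mem_singleton_iff] at hz
      subst hz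
      exact ((mem_zOf.1 hx').2.2 y hy).symm
    intro y hy
    rw [← hsup] at hy
    have := (sup_le h1 h2) hy
    rw [Subgroup.mem_centralizer_iff] at this
    exact (this x rfl).symm
  · exact le_inf (hC.Y_le_Z j X hX) (hC.Y_le_Z j X' hX')

theorem relIndex_syl {j : ℤ} {X : Subgroup G} (hX : S.IsSyl j X) :
    (S.Pj j ⊓ X).relIndex (S.Pj j) = 3 := by
  rw [Subgroup.inf_relIndex_left, Subgroup.relIndex]
  have h1 := Subgroup.card_mul_index (X.subgroupOf (S.Pj j))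
  have h2 : Nat.card ↥(X.subgroupOf (S.Pj j)) = Nat.card X :=
    Nat.card_congr (Subgroup.subgroupOfEquivOfLe hX.1).toEquiv
  rw [h2, S.card_Pj_eq j, hX.2] at h1
  have hpos : 0 < Nat.card (S.Tj 0) := Nat.card_pos
  have : Nat.card (S.Tj 0) * (X.subgroupOf (S.Pj j)).index = Nat.card (S.Tj 0) * 3 := by rw [h1]; ring
  exact Nat.eq_of_mul_eq_mul_left hpos this

theorem smul_ne (hL : S.Loc) {j : ℤ} {X X' : Subgroup G} (hX : S.IsSyl j X) (hX' : S.IsSyl j X')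
    (hne : X ≠ X') {s : G} (hs : s ∈ X) (hsQ : s ∉ S.Qj j) :
    MulAut.conj s • X' ≠ X' ∧ MulAut.conj s • X' ≠ X := by
  constructor
  · intro h
    have hs' : s ∈ X' := hL.syl_selfnorm j X' hX' s (hX.1 hs) h
    have : s ∈ X ⊓ X' := ⟨hs, hs'⟩
    rw [hL.syl_inf j X X' hX hX' hne] at this
    exact hsQ this
  · intro h
    have h2 : MulAut.conj s • X = X := conj_smul_self hs
    have h3 : MulAut.conj s • X' = MulAut.conj s • X := h.trans h2.symm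
    exact hne (smul_left_cancel _ h3).symm

theorem third (hL : S.Loc) {j : ℤ} {X X' X₃ : Subgroup G} (hX : S.IsSyl j X) (hX' : S.IsSyl j X')
    (hX₃ : S.IsSyl j X₃) (hne : X ≠ X') {s : G} (hs : s ∈ X) (hsQ : s ∉ S.Qj j) :
    X₃ = X ∨ X₃ = X' ∨ X₃ = MulAut.conj s • X' := by
  obtain ⟨p', hp', e'⟩ := hL.syl_conj j X X' hX hX'
  obtain ⟨p₃, hp₃, e₃⟩ := hL.syl_conj j X X₃ hX hX₃
  have hidx := relIndex_syl S hX
  have h1 : MulAut.conj (1 : G) • X = X := by simp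
  have e'' : MulAut.conj (s * p') • X = MulAut.conj s • X' := by rw [map_mul, mul_smul, e']
  obtain ⟨hn1, hn2⟩ := smul_ne S hL hX hX' hne hs hsQ
  have := Cfsg.Agent.Lib.H8.Sims.conj_pigeon hidx (x₁ := 1) (x₂ := p') (x₃ := s * p') (x₄ := p₃)
    (one_mem _) hp' (mul_mem (hX.1 hs) hp') hp₃ (by rw [h1, e']; exact hne)
    (by rw [h1, e'']; exact hn2.symm) (by rw [e', e'']; exact hn1.symm)
  rw [e₃, h1, e', e''] at this
  exact this

theorem smul_smul_self (hb : S.Bent) {j : ℤ} {X X' : Subgroup G} (hX : S.IsSyl j X)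
    (hX' : S.IsSyl j X') {s : G} (hs : s ∈ X) (hsQ : s ∉ S.Qj j) :
    MulAut.conj s • (MulAut.conj s • X') = X' := by
  obtain ⟨hQle, -, hmul, -⟩ := Cfsg.Agent.Lib.H10.Sims.loc_extra S hb
  rw [smul_smul, ← map_mul]
  exact conj_smul_self (hQle j X' hX' (hmul j X hX s hs s hs hsQ hsQ))

theorem conj_mem_zOf {X' : Subgroup G} {z : G} (hz : z ∈ zOf X') (s : G) :
    s * z * s⁻¹ ∈ zOf (MulAut.conj s • X') := by
  rw [zOf_conj_smul]; exact conj_mem_conj_smul hz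

theorem exists_other (hL : S.Loc) {j : ℤ} {X : Subgroup G} :
    ∃ X', S.IsSyl j X' ∧ X ≠ X' := by
  by_cases h : X = S.Tj j
  · exact ⟨S.Tj (j - 1), S.isSyl_Tj_pred j, by rw [h]; exact (hL.bent j).symm⟩
  · exact ⟨S.Tj j, S.isSyl_Tj j, h⟩

/-- field `Z_sup` -/
theorem Z_sup (hb : S.Bent) (hL : S.Loc) (hC : S.Con) {j : ℤ} {X X' : Subgroup G} (hX : S.IsSyl j X)
    (hX' : S.IsSyl j X') (hne : X ≠ X') : zOf X ⊔ zOf X' = S.Vj j := by
  apply le_antisymm (sup_le (hC.Z_le_V j X hX) (hC.Z_le_V j X' hX'))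
  obtain ⟨-, hex, -, -⟩ := Cfsg.Agent.Lib.H10.Sims.loc_extra S hb
  obtain ⟨s, hs, hsQ⟩ := hex j X hX
  have hq := quad S hb hC hX hs hsQ
  have key : ∀ X₃, S.IsSyl j X₃ → zOf X₃ ≤ zOf X ⊔ zOf X' := by
    intro X₃ hX₃
    rcases third S hL hX hX' hX₃ hne hs hsQ with h | h | h
    · rw [h]; exact le_sup_left
    · rw [h]; exact le_sup_right
    · intro v hv
      have hvV : v ∈ S.Vj j := hC.Z_le_V j _ hX₃ hv
      rw [hq.self_eq hvV]
      apply Subgroup.mul_mem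
      · apply Subgroup.mem_sup_left
        exact comm_le S hb hC hX ((mem_comm_iff S hb hC hX hs hsQ).2 ⟨v, hvV, rfl⟩)
      · apply Subgroup.mem_sup_right
        have := conj_mem_zOf hv s
        rw [h, smul_smul_self S hb hX hX' hs hsQ] at this
        exact this
  unfold Setup.Vj
  apply iSup_le
  intro g
  have : MulAut.conj (g : G) • S.Zj j = zOf (MulAut.conj (g : G) • S.Tj j) := (zOf_conj_smul _ _).symm
  rw [this]
  exact key _ (Cfsg.Agent.Lib.H24.Sims.Con.isSyl_conj S (S.isSyl_Tj j) g.2)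

theorem comm_zOf_zOf (hC : S.Con) {j : ℤ} {X X' : Subgroup G} (hX : S.IsSyl j X)
    (hX' : S.IsSyl j X') : Comm (zOf X) (zOf X') :=
  fun a ha b hb' => hC.V_comm_Q j a (hC.Z_le_V j X hX ha) b (hC.V_le_Q j (hC.Z_le_V j X' hX' hb'))

/-- field `comm_eq` -/
theorem comm_eq (hb : S.Bent) (hL : S.Loc) (hC : S.Con) {j : ℤ} {X X' : Subgroup G} (hX : S.IsSyl j X)
    (hX' : S.IsSyl j X') (hne : X ≠ X') {s : G} (hs : s ∈ X) (hsQ : s ∉ S.Qj j) {x : G}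
    (hx : x ∈ ⁅S.Vj j, X⁆) : ∃ z ∈ zOf X', x = z * s * z⁻¹ * s⁻¹ := by
  have hq := quad S hb hC hX hs hsQ
  obtain ⟨v, hv, rfl⟩ := (mem_comm_iff S hb hC hX hs hsQ).1 hx
  rw [← Z_sup S hb hL hC hX hX' hne] at hv
  obtain ⟨a, ha, b, hb', rfl⟩ := exists_mul_of_mem_sup (comm_zOf_zOf S hC hX hX') hv
  have haV := hC.Z_le_V j X hX ha
  have hbV := hC.Z_le_V j X' hX' hb'
  have hfa : s * a * s⁻¹ = a := (mem_zOf_iff S hb hC hX hs hsQ haV).1 ha
  refine ⟨b, hb', ?_⟩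
  rw [hq.cm_mul_of_fix haV hbV hfa, hq.comm_eq_cm hbV]

/-- field `Y_disj` -/
theorem Y_disj (hb : S.Bent) (hL : S.Loc) (hC : S.Con) {j : ℤ} {X : Subgroup G} (hX : S.IsSyl j X) :
    S.Yj j ⊓ ⁅S.Vj j, X⁆ = ⊥ := by
  obtain ⟨X', hX', hne⟩ := exists_other S hL (j := j) (X := X)
  obtain ⟨-, hex, -, -⟩ := Cfsg.Agent.Lib.H10.Sims.loc_extra S hb
  obtain ⟨s, hs, hsQ⟩ := hex j X hX
  have hq := quad S hb hC hX hs hsQ
  have hX'' : S.IsSyl j (MulAut.conj s • X') := Cfsg.Agent.Lib.H24.Sims.Con.isSyl_conj S hX' (hX.1 hs)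
  obtain ⟨hn1, -⟩ := smul_ne S hL hX hX' hne hs hsQ
  rw [eq_bot_iff]
  rintro y ⟨hyY, hyC⟩
  obtain ⟨b, hbZ, hyb⟩ := comm_eq S hb hL hC hX hX' hne hs hsQ hyC
  have hbV := hC.Z_le_V j X' hX' hbZ
  rw [hq.comm_eq_cm hbV] at hyb
  -- `b' := s b s⁻¹`
  have hb'Z : s * b * s⁻¹ ∈ zOf (MulAut.conj s • X') := conj_mem_zOf hbZ s
  have hb'eq : s * b * s⁻¹ = b * y := by
    rw [hyb]; unfold cm; rw [← mul_assoc, hq.sq b hbV, one_mul]
  have hb'Z' : s * b * s⁻¹ ∈ zOf X' := by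
    rw [hb'eq]; exact (zOf X').mul_mem hbZ (hC.Y_le_Z j X' hX' hyY)
  have hb'Y : s * b * s⁻¹ ∈ S.Yj j := by
    rw [← Z_inf S hL hC hX' hX'' hn1.symm]; exact ⟨hb'Z', hb'Z⟩
  have hcen : s * (s * b * s⁻¹) = (s * b * s⁻¹) * s := (mem_zOf.1 hb'Y).2.2 s (hX.1 hs)
  have hbb' : s * b * s⁻¹ = b := by
    calc s * b * s⁻¹ = s⁻¹ * (s * (s * b * s⁻¹)) := by group
      _ = s⁻¹ * ((s * b * s⁻¹) * s) := by rw [hcen]
      _ = b := by group
  rw [Subgroup.mem_bot, hyb]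
  unfold cm
  rw [hbb']
  exact hq.sq b hbV

/-- field `Z_eq` -/
theorem Z_eq (hb : S.Bent) (hL : S.Loc) (hC : S.Con) {j : ℤ} {X : Subgroup G} (hX : S.IsSyl j X) :
    zOf X = S.Yj j ⊔ ⁅S.Vj j, X⁆ := by
  apply le_antisymm _ (sup_le (hC.Y_le_Z j X hX) (comm_le S hb hC hX))
  obtain ⟨X', hX', hne⟩ := exists_other S hL (j := j) (X := X)
  obtain ⟨-, hex, -, -⟩ := Cfsg.Agent.Lib.H10.Sims.loc_extra S hb
  obtain ⟨s, hs, hsQ⟩ := hex j X hX
  have hq := quad S hb hC hX hs hsQ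
  have hX'' : S.IsSyl j (MulAut.conj s • X') := Cfsg.Agent.Lib.H24.Sims.Con.isSyl_conj S hX' (hX.1 hs)
  obtain ⟨hn1, hn2⟩ := smul_ne S hL hX hX' hne hs hsQ
  intro v hv
  have hvV := hC.Z_le_V j X hX hv
  have hv' := hvV
  rw [← Z_sup S hb hL hC hX' hX'' hn1.symm] at hv'
  obtain ⟨b, hbZ, c, hcZ, rfl⟩ := exists_mul_of_mem_sup (comm_zOf_zOf S hC hX' hX'') hv'
  have hbV := hC.Z_le_V j X' hX' hbZ
  have hcV := hC.Z_le_V j _ hX'' hcZ
  have hy1 : b * c * cm s b = c * (s * b * s⁻¹) := by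
    unfold cm
    calc b * c * (b * (s * b * s⁻¹)) = (b * c) * b * (s * b * s⁻¹) := by group
      _ = (c * b) * b * (s * b * s⁻¹) := by rw [hq.comm b hbV c hcV]
      _ = c * (b * b) * (s * b * s⁻¹) := by group
      _ = c * (s * b * s⁻¹) := by rw [hq.sq b hbV, mul_one]
  have hyZ'' : b * c * cm s b ∈ zOf (MulAut.conj s • X') := by
    rw [hy1]; exact Subgroup.mul_mem _ hcZ (conj_mem_zOf hbZ s)
  have hyV : b * c * cm s b ∈ S.Vj j := Subgroup.mul_mem _ hvV (hq.cm_mem hbV)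
  have hyfix : s * (b * c * cm s b) * s⁻¹ = b * c * cm s b := by
    have e : s * (b * c * cm s b) * s⁻¹ = (s * (b * c) * s⁻¹) * (s * cm s b * s⁻¹) := by group
    rw [e, (mem_zOf_iff S hb hC hX hs hsQ hvV).1 hv, hq.cm_conj hbV]
  have hyZ : b * c * cm s b ∈ zOf X := (mem_zOf_iff S hb hC hX hs hsQ hyV).2 hyfix
  have hyY : b * c * cm s b ∈ S.Yj j := by
    rw [← Z_inf S hL hC hX hX'' hn2.symm]; exact ⟨hyZ, hyZ''⟩
  have e : b * c = (b * c * cm s b) * cm s b := by rw [mul_assoc, hq.cm_sq hbV, mul_one]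
  rw [e]
  exact Subgroup.mul_mem _ (Subgroup.mem_sup_left hyY)
    (Subgroup.mem_sup_right ((mem_comm_iff S hb hC hX hs hsQ).2 ⟨b, hbV, rfl⟩))

/-- the six non-`t`, non-cardinality fields of `Setup.Mod` -/
theorem mod_six (S : Setup G) (hb : S.Bent) (hL : S.Loc) (hC : S.Con) :
    (∀ (j : ℤ) (X : Subgroup G), S.IsSyl j X → ⁅S.Vj j, X⁆ ≤ zOf X) ∧
    (∀ (j : ℤ) (X : Subgroup G), S.IsSyl j X → zOf X = S.Yj j ⊔ ⁅S.Vj j, X⁆) ∧
    (∀ (j : ℤ) (X : Subgroup G), S.IsSyl j X → S.Yj j ⊓ ⁅S.Vj j, X⁆ = ⊥) ∧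
    (∀ (j : ℤ) (X X' : Subgroup G), S.IsSyl j X → S.IsSyl j X' → X ≠ X' → zOf X ⊓ zOf X' = S.Yj j) ∧
    (∀ (j : ℤ) (X X' : Subgroup G), S.IsSyl j X → S.IsSyl j X' → X ≠ X' → zOf X ⊔ zOf X' = S.Vj j) ∧
    (∀ (j : ℤ) (X X' : Subgroup G), S.IsSyl j X → S.IsSyl j X' → X ≠ X' →
      ∀ s ∈ X, s ∉ S.Qj j → ∀ x ∈ ⁅S.Vj j, X⁆, ∃ z ∈ zOf X', x = z * s * z⁻¹ * s⁻¹) :=
  ⟨fun _ _ hX => comm_le S hb hC hX, fun _ _ hX => Z_eq S hb hL hC hX,
   fun _ _ hX => Y_disj S hb hL hC hX, fun _ _ _ hX hX' hne => Z_inf S hL hC hX hX' hne,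
   fun _ _ _ hX hX' hne => Z_sup S hb hL hC hX hX' hne,
   fun _ _ _ hX hX' hne _ hs hsQ _ hx => comm_eq S hb hL hC hX hX' hne hs hsQ hx⟩

end setup

end Cfsg.Agent.Lib.H21.Sims.M6
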