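import Cfsg.Agent.Lib.H11.SpSubV6

/-!
# S5789 farm-out, piece BOOT: one non-zero rational vector in `Scl H` gives `H = Sp`
-/

set_option autoImplicit false
set_option linter.unusedSimpArgs false
set_option linter.unusedSectionVars false
set_option linter.unusedVariables false

namespace Cfsg.Agent.Lib.H21.Sp4Sub

open Matrix
open Cfsg.Agent.Lib.H11.SubspMax
open Cfsg.Agent.Lib.H15.SpSub
open Cfsg.Agent.Lib.H4 (sympForm_self sympForm_add_left sympForm_add_right sympForm_smul_left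
  sympForm_smul_right sympForm_swap)

variable {F : Type*} [Field F] {m : ℕ} {F₀ : Subfield F}
variable {H : Subgroup (GL (Fin m ⊕ Fin m) F)}

local notation "VV" => (Fin m ⊕ Fin m → F)
local notation "GG" => GL (Fin m ⊕ Fin m) F
local notation "MM" => Matrix (Fin m ⊕ Fin m) (Fin m ⊕ Fin m) F
local notation "BB" => Cfsg.sympForm m F

/-- moving along a non-perpendicular rational pair -/
theorem boot_step (hM : M0 m F₀ ≤ H) (hH : H ≤ Cfsg.spGL m F) {x z : VV}
    (hx : IsRat F₀ x) (hz : IsRat F₀ z) (hxS : x ∈ Scl H) (hne : BB x z ≠ 0) : z ∈ Scl H := by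
  have hb : BB x z ∈ F₀ := hx.symp hz
  have hc : 1 / BB x z ∈ F₀ := F₀.div_mem F₀.one_mem hb
  have hg : stv z (1 / BB x z) ∈ H := hM (stv_mem_M0 hz hc)
  have h1 : x + z ∈ Scl H := by
    have := Scl_inv hH hg hxS
    rw [stv_mulVec, one_div, inv_mul_cancel₀ hne, one_smul] at this
    exact this
  have hne2 : BB (x + z) x ≠ 0 := by
    rw [sympForm_add_left, sympForm_self, zero_add]
    exact sympForm_ne_swap hne
  have h2 := Scl_add hH hxS h1 hne2 (-1)
  have e : x + z + (-1 : F) • x = z := by module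
  rwa [e] at h2

/-- a non-zero vector is non-perpendicular to some basis vector -/
theorem exists_eb_ne {x : VV} (hx : x ≠ 0) : ∃ a : Fin m ⊕ Fin m, BB x (eb a) ≠ 0 := by
  obtain ⟨a, ha⟩ : ∃ a, x a ≠ 0 := by
    by_contra hcon
    push Not at hcon
    exact hx (funext hcon)
  refine ⟨a.swap, ?_⟩
  rw [B_eb, Sum.swap_swap]
  exact mul_ne_zero (sg_ne_zero _) ha

/-- two non-zero vectors are joined by a rational vector -/
theorem exists_rat_join {x x' : VV} (hx : x ≠ 0) (hx' : x' ≠ 0) :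
    ∃ z : VV, IsRat F₀ z ∧ BB x z ≠ 0 ∧ BB z x' ≠ 0 := by
  obtain ⟨a, ha⟩ := exists_eb_ne hx
  obtain ⟨b, hb⟩ := exists_eb_ne hx'
  by_cases h1 : BB x' (eb a) = 0
  · by_cases h2 : BB x (eb b) = 0
    · refine ⟨eb a + eb b, (eb_rat a).add (eb_rat b), ?_, ?_⟩
      · rw [sympForm_add_right, h2, add_zero]; exact ha
      · apply sympForm_ne_swap
        rw [sympForm_add_right, h1, zero_add]; exact hb
    · exact ⟨eb b, eb_rat b, h2, sympForm_ne_swap hb⟩
  · exact ⟨eb a, eb_rat a, ha, sympForm_ne_swap h1⟩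

/-- all non-zero rational vectors are in `Scl H` -/
theorem boot_all (hM : M0 m F₀ ≤ H) (hH : H ≤ Cfsg.spGL m F)
    {u : VV} (hu : IsRat F₀ u) (hu0 : u ≠ 0) (hS : u ∈ Scl H) {x : VV} (hx : IsRat F₀ x)
    (hx0 : x ≠ 0) : x ∈ Scl H := by
  obtain ⟨z, hz, h1, h2⟩ := exists_rat_join (F₀ := F₀) hu0 hx0
  exact boot_step hM hH hz hx (boot_step hM hH hu hz hS h1) h2

/-- **S5789-BOOT** one non-zero rational vector all of whose transvections lie in `H` gives everything -/
theorem eq_spGL_of_rat_mem_Scl [Fintype F] (hM : M0 m F₀ ≤ H) (hH : H ≤ Cfsg.spGL m F) (hm : 2 ≤ m)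
    {u : VV} (hu : IsRat F₀ u) (hu0 : u ≠ 0) (hS : u ∈ Scl H) : H = Cfsg.spGL m F := by
  apply Cfsg.Agent.Lib.H11.SpSub.eq_spGL_of_Lam_top hM hH hm
  intro t a c hac
  have hane : (eb a : VV) + eb c ≠ 0 := by
    intro h
    have := congrFun h a
    rw [Pi.add_apply, eb_apply_self, eb_apply_ne (ne_of_pl_ne hac), add_zero] at this
    exact one_ne_zero this
  have h1 := boot_all hM hH hu hu0 hS ((eb_rat (F₀ := F₀) a).add (eb_rat c)) hane
  have h2 := boot_all hM hH hu hu0 hS (eb_rat (F₀ := F₀) a) (eb_ne_zero a)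
  have h3 := boot_all hM hH hu hu0 hS (eb_rat (F₀ := F₀) c) (eb_ne_zero c)
  unfold sr
  exact H.mul_mem (H.mul_mem (h1 t) (h2 (-t))) (h3 (-t))

end Cfsg.Agent.Lib.H21.Sp4Sub
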