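import Mathlib
import Cfsg.Prelude.Def_CaseTheorems
import Cfsg.Agent.Lib.H10.SylowIn
import Cfsg.Agent.Lib.H16.BGk

/-!
# Sylow intersections of 2-rank at most one pass to the quotient by a normal subgroup of odd order
(helper21)
-/

set_option autoImplicit false

namespace Cfsg.Agent.Lib.H21.SylInterQuot

open Cfsg
open scoped Pointwise

theorem prank_inter_quotient {G : Type*} [Group G] [Finite G] (N : Subgroup G) [N.Normal]
    (hN : (Nat.card N).Coprime 2)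
    (hI : ∀ S T : Sylow 2 G, S ≠ T →
      Cfsg.PRankLE 2 1 ↥((S : Subgroup G) ⊓ (T : Subgroup G)))
    (S' T' : Sylow 2 (G ⧸ N)) (hne : S' ≠ T') :
    Cfsg.PRankLE 2 1 ↥((S' : Subgroup (G ⧸ N)) ⊓ (T' : Subgroup (G ⧸ N))) := by
  haveI : Fact (Nat.Prime 2) := ⟨Nat.prime_two⟩
  intro A hAc hAe
  set π : G →* G ⧸ N := QuotientGroup.mk' N with hπ
  have hsurj : Function.Surjective π := QuotientGroup.mk'_surjective N
  have hker : ∀ x : G, π x = 1 ↔ x ∈ N := fun x => QuotientGroup.eq_one_iff x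
  obtain ⟨S, hS⟩ := Sylow.mapSurjective_surjective hsurj 2 S'
  obtain ⟨T, hT⟩ := Sylow.mapSurjective_surjective hsurj 2 T'
  have hSmap : (S' : Subgroup (G ⧸ N)) = (S : Subgroup G).map π := by rw [← hS]; rfl
  have hTmap : (T' : Subgroup (G ⧸ N)) = (T : Subgroup G).map π := by rw [← hT]; rfl
  -- the image of `A` in `G ⧸ N`
  set Ab : Subgroup (G ⧸ N) :=
    A.map ((S' : Subgroup (G ⧸ N)) ⊓ (T' : Subgroup (G ⧸ N))).subtype with hAb
  have hAbST : Ab ≤ (S' : Subgroup (G ⧸ N)) ⊓ (T' : Subgroup (G ⧸ N)) := Subgroup.map_subtype_le A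
  have hAbcomm : ∀ x ∈ Ab, ∀ y ∈ Ab, x * y = y * x := by
    rintro _ ⟨x, hx, rfl⟩ _ ⟨y, hy, rfl⟩
    have := hAc.is_comm.comm ⟨x, hx⟩ ⟨y, hy⟩
    have h2 : x * y = y * x := congrArg Subtype.val this
    rw [← map_mul, ← map_mul, h2]
  have hAbexp : ∀ x ∈ Ab, x ^ 2 = 1 := by
    rintro _ ⟨x, hx, rfl⟩
    rw [← map_pow, hAe x hx, map_one]
  have hcardA : Nat.card A = Nat.card Ab :=
    (Subgroup.card_map_of_injective (Subgroup.subtype_injective _)).symm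
  -- the lift of `Ab` inside `T`
  set A2 : Subgroup G := (T : Subgroup G) ⊓ Ab.comap π with hA2
  have hA2T : A2 ≤ (T : Subgroup G) := inf_le_left
  have hdisj : N ⊓ (T : Subgroup G) = ⊥ := by
    apply Subgroup.inf_eq_bot_of_coprime
    obtain ⟨j, hj⟩ := IsPGroup.iff_card.mp T.2
    rw [hj]
    exact Nat.Coprime.pow_right j hN
  have hinjT : ∀ x ∈ (T : Subgroup G), ∀ y ∈ (T : Subgroup G), π x = π y → x = y := by
    intro x hx y hy hxy
    have h1 : π (x⁻¹ * y) = 1 := by rw [map_mul, map_inv, hxy, inv_mul_cancel]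
    have h2 : x⁻¹ * y ∈ N ⊓ (T : Subgroup G) :=
      ⟨(hker _).mp h1, Subgroup.mul_mem _ (Subgroup.inv_mem _ hx) hy⟩
    rw [hdisj, Subgroup.mem_bot] at h2
    exact (inv_mul_eq_one.mp h2)
  -- `A2` surjects onto `Ab`
  have hA2surj : ∀ y ∈ Ab, ∃ x ∈ A2, π x = y := by
    intro y hy
    have hyT : y ∈ (T : Subgroup G).map π := by rw [← hTmap]; exact (hAbST hy).2
    obtain ⟨x, hx, rfl⟩ := hyT
    exact ⟨x, ⟨hx, hy⟩, rfl⟩
  have hcard2 : Nat.card Ab ≤ Nat.card A2 := by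
    let f : A2 → Ab := fun x => ⟨π x, x.2.2⟩
    have hf : Function.Surjective f := by
      rintro ⟨y, hy⟩
      obtain ⟨x, hx, hxy⟩ := hA2surj y hy
      exact ⟨⟨x, hx⟩, Subtype.ext hxy⟩
    exact Nat.card_le_card_of_surjective f hf
  -- `A2` lies in `S ⊔ N`
  have hA2L : A2 ≤ (S : Subgroup G) ⊔ N := by
    intro x hx
    have hxS : π x ∈ (S : Subgroup G).map π := by rw [← hSmap]; exact (hAbST hx.2).1
    obtain ⟨s, hs, hsx⟩ := hxS
    have h1 : s⁻¹ * x ∈ N := by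
      rw [← hker, map_mul, map_inv, hsx, inv_mul_cancel]
    have : x = s * (s⁻¹ * x) := by group
    rw [this]
    exact Subgroup.mul_mem _ (Subgroup.mem_sup_left hs) (Subgroup.mem_sup_right h1)
  have hA2p : IsPGroup 2 A2 := T.2.to_le hA2T
  obtain ⟨m, hmL, hm⟩ := Cfsg.Agent.Lib.H10.exists_mem_map_conj_le_of_sylowIn S.2
    (le_sup_left : (S : Subgroup G) ≤ (S : Subgroup G) ⊔ N)
    (Cfsg.Agent.Lib.H10.not_dvd_relIndex_of_sylow_le S le_sup_left) hA2p hA2L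
  -- write `m = s * n`
  obtain ⟨s, hs, n, hn, rfl⟩ : ∃ s ∈ (S : Subgroup G), ∃ n ∈ N, s * n = m := by
    have : m ∈ ((S : Subgroup G) : Set G) * (N : Set G) := by
      rw [← Subgroup.mul_normal]; exact hmL
    obtain ⟨s, hs, n, hn, h⟩ := Set.mem_mul.mp this
    exact ⟨s, hs, n, hn, h⟩
  -- `A2 ≤ n⁻¹ • S`
  have hA2S : A2 ≤ ((n⁻¹ • S : Sylow 2 G) : Subgroup G) := by
    intro x hx
    rw [Cfsg.Agent.Lib.H10.mem_smul_sylow, inv_inv]
    have h1 : (s * n) * x * (s * n)⁻¹ ∈ (S : Subgroup G) := by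
      apply hm
      exact ⟨x, hx, by rw [MulEquiv.coe_toMonoidHom, MulAut.conj_apply]⟩
    have h2 : n * x * n⁻¹ = s⁻¹ * ((s * n) * x * (s * n)⁻¹) * s := by group
    rw [h2]
    exact Subgroup.mul_mem _ (Subgroup.mul_mem _ (Subgroup.inv_mem _ hs) h1) hs
  have hne2 : (n⁻¹ • S : Sylow 2 G) ≠ T := by
    intro h
    apply hne
    apply Sylow.ext
    rw [hSmap, hTmap, ← h]
    ext y
    constructor
    · rintro ⟨x, hx, rfl⟩
      refine ⟨n⁻¹ * x * n⁻¹⁻¹, ?_, ?_⟩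
      · apply (Cfsg.Agent.Lib.H10.mem_smul_sylow _ _ _).mpr
        have : n⁻¹⁻¹ * (n⁻¹ * x * n⁻¹⁻¹) * n⁻¹ = x := by group
        rw [this]; exact hx
      · have h1 : π n = 1 := (hker n).mpr hn
        rw [map_mul, map_mul, map_inv, map_inv, map_inv, h1]
        simp
    · rintro ⟨x, hx, rfl⟩
      have hx := (Cfsg.Agent.Lib.H10.mem_smul_sylow _ _ _).mp hx
      refine ⟨_, hx, ?_⟩
      have h1 : π n = 1 := (hker n).mpr hn
      rw [map_mul, map_mul, map_inv, map_inv, h1]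
      simp
  have hr := hI (n⁻¹ • S) T hne2
  have hr2 : Cfsg.PRankLE 2 1 ↥A2 :=
    Cfsg.Agent.Lib.H16.BG.pRankLE_of_le (le_inf hA2S hA2T) hr
  have hle := hr2 ⊤ ?_ ?_
  · rw [hcardA]
    calc Nat.card Ab ≤ Nat.card A2 := hcard2
      _ = Nat.card (⊤ : Subgroup A2) := (Subgroup.card_top).symm
      _ ≤ 2 ^ 1 := hle
  · refine ⟨⟨?_⟩⟩
    rintro ⟨⟨x, hx⟩, -⟩ ⟨⟨y, hy⟩, -⟩
    apply Subtype.ext
    apply Subtype.ext
    show x * y = y * x
    apply hinjT _ (Subgroup.mul_mem _ hx.1 hy.1) _ (Subgroup.mul_mem _ hy.1 hx.1)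
    rw [map_mul, map_mul]
    exact hAbcomm _ hx.2 _ hy.2
  · rintro ⟨x, hx⟩ -
    apply Subtype.ext
    show x ^ 2 = 1
    apply hinjT _ (Subgroup.pow_mem _ hx.1 2) _ (Subgroup.one_mem _)
    rw [map_pow, map_one]
    exact hAbexp _ hx.2

end Cfsg.Agent.Lib.H21.SylInterQuot
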