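import Mathlib
import Cfsg.Agent.Lib.H7.Coprime
import Cfsg.Agent.Lib.H7.CoprimeGen

/-!
# S1874, piece Y1 (helper7 architect): an element of order `p` outside `A`, central modulo `A`
-/

set_option autoImplicit false

namespace Cfsg.Agent.Lib.H21.SympBY1

universe u
variable {G : Type u} [Group G]

/-- `[g, h] ^ n = [g ^ n, h]` when `[g, h]` commutes with `g`. -/
theorem y1_comm_pow (g h : G) (hc : (g * h * g⁻¹ * h⁻¹) * g = g * (g * h * g⁻¹ * h⁻¹)) (n : ℕ) :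
    (g * h * g⁻¹ * h⁻¹) ^ n = g ^ n * h * (g ^ n)⁻¹ * h⁻¹ := by
  induction n with
  | zero => simp
  | succ n ih =>
    have h1 : g ^ (n + 1) * h * (g ^ (n + 1))⁻¹ * h⁻¹ =
        g * (g ^ n * h * (g ^ n)⁻¹ * h⁻¹) * g⁻¹ * (g * h * g⁻¹ * h⁻¹) := by
      rw [pow_succ']; group
    rw [h1, ← ih]
    have hcomm : Commute (g * h * g⁻¹ * h⁻¹) g := hc
    have h2 : g * (g * h * g⁻¹ * h⁻¹) ^ n * g⁻¹ = (g * h * g⁻¹ * h⁻¹) ^ n := by
      rw [mul_inv_eq_iff_eq_mul]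
      exact ((hcomm.pow_left n).eq).symm
    rw [h2, pow_succ]

/-- an element with `c ^ 2 = 1` and `c ^ p = 1`, `p` odd, is trivial -/
theorem y1_eq_one_of_sq (p : ℕ) [Fact p.Prime] (hp2 : p ≠ 2) (c : G) (h2 : c ^ 2 = 1)
    (hp : c ^ p = 1) : c = 1 := by
  have h1 : orderOf c ∣ 2 := orderOf_dvd_of_pow_eq_one h2
  have h3 : orderOf c ∣ p := orderOf_dvd_of_pow_eq_one hp
  have hcop : Nat.Coprime 2 p := by
    rw [Nat.coprime_primes Nat.prime_two (Fact.out : p.Prime)]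
    exact fun h => hp2 h.symm
  have := Nat.dvd_gcd h1 h3
  rw [hcop.gcd_eq_one, Nat.dvd_one] at this
  exact orderOf_eq_one_iff.mp this

theorem exists_central_mod [Finite G] (p : ℕ) [Fact p.Prime] (A : Subgroup G) (x₁ x₂ w₁ w₂ : G)
    (hp2 : p ≠ 2)
    (hAc : ∀ a ∈ A, ∀ b ∈ A, a * b = b * a) (hAp : ∀ a ∈ A, a ^ p = 1)
    (hH : IsPGroup p ↥(A ⊔ Subgroup.closure {x₁, x₂}))
    (hAx₁ : ∀ a ∈ A, a * x₁ = x₁ * a) (hAx₂ : ∀ a ∈ A, a * x₂ = x₂ * a)
    (hx₁ : x₁ ^ p = 1) (hx₂ : x₂ ^ p = 1) (hx₁1 : x₁ ≠ 1) (hx₂1 : x₂ ≠ 1)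
    (hw₁ : w₁ ^ 2 = 1) (hw₂ : w₂ ^ 2 = 1)
    (hw₁A : ∀ a ∈ A, w₁ * a = a * w₁) (hw₂A : ∀ a ∈ A, w₂ * a = a * w₂)
    (h11 : w₁ * x₁ * w₁⁻¹ = x₁⁻¹) (h12 : w₁ * x₂ * w₁⁻¹ = x₂)
    (h21 : w₂ * x₁ * w₂⁻¹ = x₁) (h22 : w₂ * x₂ * w₂⁻¹ = x₂⁻¹)
    (hnc : x₁ * x₂ ≠ x₂ * x₁)
    (hR : ∀ x ∈ A ⊔ Subgroup.closure {x₁, x₂}, ∀ y ∈ A ⊔ Subgroup.closure {x₁, x₂},
      x ^ p = 1 → y ^ p = 1 → x * y = y * x → x ∉ A → ∃ a ∈ A, ∃ k : ℕ, y = a * x ^ k) :
    ∃ y ∈ A ⊔ Subgroup.closure {x₁, x₂}, y ^ p = 1 ∧ y ∉ A ∧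
      ∀ h ∈ A ⊔ Subgroup.closure {x₁, x₂}, y * h * y⁻¹ * h⁻¹ ∈ A := by
  classical
  set H : Subgroup G := A ⊔ Subgroup.closure {x₁, x₂} with hHdef
  by_contra hcon
  have hstar : ∀ y ∈ H, y ^ p = 1 → (∀ h ∈ H, y * h * y⁻¹ * h⁻¹ ∈ A) → y ∈ A := by
    intro y hy hyp hyc
    by_contra hyA
    exact hcon ⟨y, hy, hyp, hyA, hyc⟩
  have hAH : A ≤ H := le_sup_left
  have hx₁H : x₁ ∈ H := (le_sup_right : Subgroup.closure {x₁, x₂} ≤ H)
    (Subgroup.subset_closure (by simp))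
  have hx₂H : x₂ ∈ H := (le_sup_right : Subgroup.closure {x₁, x₂} ≤ H)
    (Subgroup.subset_closure (by simp))
  -- a criterion for centralizing `H`
  have hcentH : ∀ u : G, (∀ a ∈ A, u * a = a * u) → u * x₁ = x₁ * u → u * x₂ = x₂ * u →
      ∀ h ∈ H, u * h = h * u := by
    intro u hA h1 h2
    have hle : H ≤ Subgroup.centralizer ({u} : Set G) := by
      apply sup_le
      · intro a ha
        rw [Subgroup.mem_centralizer_singleton_iff]
        exact (hA a ha).symm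
      · rw [Subgroup.closure_le]
        intro x hx
        rcases hx with rfl | hx
        · exact Subgroup.mem_centralizer_singleton_iff.mpr h1.symm
        · rw [Set.mem_singleton_iff] at hx
          subst hx
          exact Subgroup.mem_centralizer_singleton_iff.mpr h2.symm
    intro h hh
    exact (Subgroup.mem_centralizer_singleton_iff.mp (hle hh)).symm
  -- `A` is central in `H`
  have hAcent : ∀ a ∈ A, ∀ h ∈ H, a * h = h * a := fun a ha =>
    hcentH a (fun b hb => hAc a ha b hb) (hAx₁ a ha) (hAx₂ a ha)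
  -- conjugation by `w` preserves `H`
  have hwH : ∀ w : G, (∀ a ∈ A, w * a = a * w) → (w * x₁ * w⁻¹ ∈ H) → (w * x₂ * w⁻¹ ∈ H) →
      ∀ h ∈ H, w * h * w⁻¹ ∈ H := by
    intro w hwA hw1 hw2
    have hle : H ≤ H.comap (MulAut.conj w).toMonoidHom := by
      apply sup_le
      · intro a ha
        rw [Subgroup.mem_comap]
        show w * a * w⁻¹ ∈ H
        rw [hwA a ha, mul_inv_cancel_right]
        exact hAH ha
      · rw [Subgroup.closure_le]
        intro x hx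
        rcases hx with rfl | hx
        · exact hw1
        · rw [Set.mem_singleton_iff] at hx
          subst hx
          exact hw2
    intro h hh
    exact hle hh
  have hw₁H : ∀ h ∈ H, w₁ * h * w₁⁻¹ ∈ H :=
    hwH w₁ hw₁A (by rw [h11]; exact H.inv_mem hx₁H) (by rw [h12]; exact hx₂H)
  have hw₂H : ∀ h ∈ H, w₂ * h * w₂⁻¹ ∈ H :=
    hwH w₂ hw₂A (by rw [h21]; exact hx₁H) (by rw [h22]; exact H.inv_mem hx₂H)
  -- the subgroup `U'`
  let U' : Subgroup G :=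
    { carrier := {u | u ∈ H ∧ ∀ h ∈ H, u * h * u⁻¹ * h⁻¹ ∈ A}
      one_mem' := ⟨H.one_mem, fun h _ => by simp⟩
      mul_mem' := by
        rintro u v ⟨hu, hu'⟩ ⟨hv, hv'⟩
        refine ⟨H.mul_mem hu hv, fun h hh => ?_⟩
        have ha := hv' h hh
        have e : u * v * h * (u * v)⁻¹ * h⁻¹ =
            u * (v * h * v⁻¹ * h⁻¹) * u⁻¹ * (u * h * u⁻¹ * h⁻¹) := by group
        rw [e]
        have e2 : u * (v * h * v⁻¹ * h⁻¹) * u⁻¹ = v * h * v⁻¹ * h⁻¹ := by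
          rw [mul_inv_eq_iff_eq_mul]
          exact (hAcent _ ha u hu).symm
        rw [e2]
        exact A.mul_mem ha (hu' h hh)
      inv_mem' := by
        rintro u ⟨hu, hu'⟩
        refine ⟨H.inv_mem hu, fun h hh => ?_⟩
        have ha := A.inv_mem (hu' h hh)
        have e : u⁻¹ * h * u⁻¹⁻¹ * h⁻¹ = u⁻¹ * (u * h * u⁻¹ * h⁻¹)⁻¹ * u := by group
        rw [e]
        have e2 : u⁻¹ * (u * h * u⁻¹ * h⁻¹)⁻¹ * u = (u * h * u⁻¹ * h⁻¹)⁻¹ := by
          have := hAcent _ ha u hu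
          rw [mul_assoc, this, ← mul_assoc, inv_mul_cancel, one_mul]
        rw [e2]
        exact ha }
  have hU'mem : ∀ u, u ∈ U' ↔ u ∈ H ∧ ∀ h ∈ H, u * h * u⁻¹ * h⁻¹ ∈ A := fun u => Iff.rfl
  have hU'H : U' ≤ H := fun u hu => hu.1
  have hU'p : IsPGroup p ↥U' := hH.to_le hU'H
  -- `Ω₁(U') ≤ A`
  have hom : ∀ u ∈ U', u ^ p = 1 → u ∈ A := fun u hu hup => hstar u hu.1 hup hu.2
  -- (a) an involution `w` normalizing `H`, centralizing `A`, centralizes `U'`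
  have ha : ∀ w : G, w ^ 2 = 1 → (∀ a ∈ A, w * a = a * w) → (∀ h ∈ H, w * h * w⁻¹ ∈ H) →
      ∀ u ∈ U', w * u * w⁻¹ = u := by
    intro w hw2 hwA hwH' u hu
    have hwinv : w⁻¹ = w := by
      rw [inv_eq_iff_mul_eq_one, ← pow_two, hw2]
    -- `U'` is `w`-invariant
    have hinvU : ∀ v ∈ U', w * v * w⁻¹ ∈ U' := by
      intro v hv
      refine ⟨hwH' v hv.1, fun h hh => ?_⟩
      have hh' : w⁻¹ * h * w ∈ H := by
        have := hwH' h hh
        rw [hwinv] at this ⊢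
        exact this
      have ha := hv.2 _ hh'
      have e : w * v * w⁻¹ * h * (w * v * w⁻¹)⁻¹ * h⁻¹ =
          w * (v * (w⁻¹ * h * w) * v⁻¹ * (w⁻¹ * h * w)⁻¹) * w⁻¹ := by group
      rw [e, hwA _ ha, mul_inv_cancel_right]
      exact ha
    by_contra hne
    set t := u⁻¹ * (w * u * w⁻¹) with ht
    have htU : t ∈ U' := U'.mul_mem (U'.inv_mem hu) (hinvU u hu)
    have ht1 : t ≠ 1 := by
      intro h1
      apply hne
      rw [ht, inv_mul_eq_one] at h1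
      exact h1.symm
    have htinv : w * t * w⁻¹ = t⁻¹ := by
      have e : w * t * w⁻¹ = (w * u * w⁻¹)⁻¹ * (w * w * u * (w * w)⁻¹) := by
        rw [ht]; group
      rw [e, ← pow_two, hw2, ht]
      group
    obtain ⟨j, hj⟩ := (IsPGroup.iff_orderOf.mp hU'p) ⟨t, htU⟩
    rw [Subgroup.orderOf_mk] at hj
    have hj0 : j ≠ 0 := by
      rintro rfl
      rw [pow_zero, orderOf_eq_one_iff] at hj
      exact ht1 hj
    set x := t ^ (p ^ (j - 1)) with hx
    have hxU : x ∈ U' := U'.pow_mem htU _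
    have hxp : x ^ p = 1 := by
      rw [hx, ← pow_mul, ← pow_succ, Nat.sub_add_cancel (Nat.pos_of_ne_zero hj0), ← hj,
        pow_orderOf_eq_one]
    have hx1 : x ≠ 1 := by
      intro h1
      have hdvd : orderOf t ∣ p ^ (j - 1) := orderOf_dvd_of_pow_eq_one h1
      rw [hj] at hdvd
      have hle := Nat.le_of_dvd (pow_pos (Fact.out : p.Prime).pos _) hdvd
      have hlt : p ^ (j - 1) < p ^ j :=
        Nat.pow_lt_pow_right (Fact.out : p.Prime).one_lt (Nat.sub_lt (Nat.pos_of_ne_zero hj0) one_pos)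
      omega
    have hxinv : w * x * w⁻¹ = x⁻¹ := by
      have e : w * x * w⁻¹ = (w * t * w⁻¹) ^ (p ^ (j - 1)) := by
        rw [hx, conj_pow]
      rw [e, htinv, inv_pow]
    have hxA : x ∈ A := hom x hxU hxp
    have hfix : w * x * w⁻¹ = x := by
      rw [hwA x hxA, mul_inv_cancel_right]
    have hsq : x ^ 2 = 1 := by
      rw [pow_two]
      have : x = x⁻¹ := hfix.symm.trans hxinv
      nth_rewrite 1 [this]
      exact inv_mul_cancel x
    exact hx1 (y1_eq_one_of_sq p hp2 x hsq hxp)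
  have ha₁ := ha w₁ hw₁ hw₁A hw₁H
  have ha₂ := ha w₂ hw₂ hw₂A hw₂H
  -- (b) `U'` commutes with `x₁` and `x₂`
  have hb : ∀ (w x : G), (∀ a ∈ A, w * a = a * w) → (∀ u ∈ U', w * u * w⁻¹ = u) →
      x ∈ H → (∀ a ∈ A, a * x = x * a) → w * x * w⁻¹ = x⁻¹ → ∀ u ∈ U', u * x = x * u := by
    intro w x hwA hwU hxH hAx hwx u hu
    set c := u * x * u⁻¹ * x⁻¹ with hc
    have hcA : c ∈ A := hu.2 x hxH
    have h1 : w * c * w⁻¹ = c := by rw [hwA c hcA, mul_inv_cancel_right]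
    have h2 : w * c * w⁻¹ = u * x⁻¹ * u⁻¹ * x := by
      have e : w * c * w⁻¹ =
          (w * u * w⁻¹) * (w * x * w⁻¹) * (w * u * w⁻¹)⁻¹ * (w * x * w⁻¹)⁻¹ := by
        rw [hc]; group
      rw [e, hwU u hu, hwx, inv_inv]
    have h3 : u * x⁻¹ * u⁻¹ * x = c⁻¹ := by
      have e : u * x⁻¹ * u⁻¹ * x = x⁻¹ * c⁻¹ * x := by rw [hc]; group
      rw [e, mul_assoc, hAx _ (A.inv_mem hcA), ← mul_assoc, inv_mul_cancel, one_mul]
    have hcc : c = c⁻¹ := h1.symm.trans (h2.trans h3)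
    have hsq : c ^ 2 = 1 := by
      rw [pow_two]
      nth_rewrite 1 [hcc]
      exact inv_mul_cancel c
    have hc1 : c = 1 := y1_eq_one_of_sq p hp2 c hsq (hAp c hcA)
    have : u * x * u⁻¹ * x⁻¹ = 1 := hc1
    rw [mul_inv_eq_one, mul_inv_eq_iff_eq_mul] at this
    exact this
  have hb₁ := hb w₁ x₁ hw₁A ha₁ hx₁H hAx₁ h11
  have hb₂ := hb w₂ x₂ hw₂A ha₂ hx₂H hAx₂ h22
  -- so `U'` is central in `H`
  have hU'cent : ∀ u ∈ U', ∀ h ∈ H, u * h = h * u := fun u hu =>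
    hcentH u (fun a ha => (hAcent a ha u hu.1).symm) (hb₁ u hu) (hb₂ u hu)
  -- (d) an element of the second centre
  have hncH : ¬ (Subgroup.center ↥H = ⊤) := by
    intro htop
    have : (⟨x₁, hx₁H⟩ : ↥H) ∈ Subgroup.center ↥H := by rw [htop]; trivial
    rw [Subgroup.mem_center_iff] at this
    have h := this ⟨x₂, hx₂H⟩
    apply hnc
    have := congrArg Subtype.val h
    simpa using this.symm
  have hQnt : Nontrivial (↥H ⧸ Subgroup.center ↥H) := by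
    by_contra hnt
    rw [not_nontrivial_iff_subsingleton] at hnt
    exact hncH (QuotientGroup.subgroup_eq_top_of_subsingleton _ hnt)
  have hQp : IsPGroup p (↥H ⧸ Subgroup.center ↥H) := hH.to_quotient _
  have hZnt : Nontrivial (Subgroup.center (↥H ⧸ Subgroup.center ↥H)) := hQp.center_nontrivial
  obtain ⟨⟨z, hz⟩, hz1⟩ := exists_ne (1 : Subgroup.center (↥H ⧸ Subgroup.center ↥H))
  have hz1' : z ≠ 1 := fun h => hz1 (Subtype.ext h)
  obtain ⟨j, hj⟩ := (IsPGroup.iff_orderOf.mp hQp) z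
  have hj0 : j ≠ 0 := by
    rintro rfl
    rw [pow_zero, orderOf_eq_one_iff] at hj
    exact hz1' hj
  set gb := z ^ (p ^ (j - 1)) with hgb
  have hgbc : gb ∈ Subgroup.center (↥H ⧸ Subgroup.center ↥H) := Subgroup.pow_mem _ hz _
  have hgbp : gb ^ p = 1 := by
    rw [hgb, ← pow_mul, ← pow_succ, Nat.sub_add_cancel (Nat.pos_of_ne_zero hj0), ← hj,
      pow_orderOf_eq_one]
  have hgb1 : gb ≠ 1 := by
    intro h1
    have hdvd : orderOf z ∣ p ^ (j - 1) := orderOf_dvd_of_pow_eq_one h1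
    rw [hj] at hdvd
    have hle := Nat.le_of_dvd (pow_pos (Fact.out : p.Prime).pos _) hdvd
    have hlt : p ^ (j - 1) < p ^ j :=
      Nat.pow_lt_pow_right (Fact.out : p.Prime).one_lt (Nat.sub_lt (Nat.pos_of_ne_zero hj0) one_pos)
    omega
  obtain ⟨g', hg'⟩ := QuotientGroup.mk_surjective gb
  -- properties of `g = (g' : G)`
  have hg1 : g' ∉ Subgroup.center ↥H := by
    intro h
    apply hgb1
    rw [← hg']
    exact (QuotientGroup.eq_one_iff g').mpr h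
  have hg2 : g' ^ p ∈ Subgroup.center ↥H := by
    rw [← QuotientGroup.eq_one_iff, QuotientGroup.mk_pow, hg', hgbp]
  have hg3 : ∀ k : ↥H, g' * k * g'⁻¹ * k⁻¹ ∈ Subgroup.center ↥H := by
    intro k
    rw [← QuotientGroup.eq_one_iff]
    have hc := (Subgroup.mem_center_iff.mp hgbc) (QuotientGroup.mk k)
    rw [QuotientGroup.mk_mul, QuotientGroup.mk_mul, QuotientGroup.mk_mul, QuotientGroup.mk_inv,
      QuotientGroup.mk_inv, hg', ← hc]
    group
  -- `g' ∈ U'`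
  have hgU : (g' : G) ∈ U' := by
    refine ⟨g'.2, fun h hh => ?_⟩
    set c := (g' : G) * h * (g' : G)⁻¹ * h⁻¹ with hc
    have hcc := hg3 ⟨h, hh⟩
    rw [Subgroup.mem_center_iff] at hcc
    have hcH : c ∈ H := H.mul_mem (H.mul_mem (H.mul_mem g'.2 hh) (H.inv_mem g'.2)) (H.inv_mem hh)
    have hccent : ∀ k ∈ H, k * c = c * k := by
      intro k hk
      have := congrArg Subtype.val (hcc ⟨k, hk⟩)
      simpa using this
    have hcp : c ^ p = 1 := by
      rw [hc, y1_comm_pow (g' : G) h (hccent _ g'.2).symm p]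
      have h5 := Subgroup.mem_center_iff.mp hg2 ⟨h, hh⟩
      have h6 : h * (g' : G) ^ p = (g' : G) ^ p * h := by
        have := congrArg Subtype.val h5
        simpa using this
      rw [← h6]
      group
    apply hstar c hcH hcp
    intro k hk
    have : c * k * c⁻¹ * k⁻¹ = 1 := by
      rw [← hccent k hk]; group
    rw [this]
    exact A.one_mem
  apply hg1
  rw [Subgroup.mem_center_iff]
  intro k
  apply Subtype.ext
  have := hU'cent (g' : G) hgU (k : G) k.2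
  simpa using this.symm

end Cfsg.Agent.Lib.H21.SympBY1
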