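import Mathlib
import Cfsg.Agent.Lib.H25.TpDefs

/-!
# S5637, piece T5: a matrix mapping every `B`-line `A ⊗ z` into a `B`-line is a Kronecker product
-/

set_option autoImplicit false

namespace Cfsg.Agent.Lib.H21.Tp

open Matrix Kronecker Module
open Cfsg.Geo
open Cfsg.Agent.Lib.H29.Tensor (pt kron_pt)
open Cfsg.Agent.Lib.H28 (tvGL tvGL_mulVec)
open Cfsg.Agent.Lib.H25.Tp

variable {F : Type*} [Field F] {a b : ℕ}

theorem t5_gl_inj {ι : Type*} [Fintype ι] [DecidableEq ι] (y : GL ι F) (v : ι → F)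
    (h : y.val *ᵥ v = 0) : v = 0 := by
  have h1 : y⁻¹.val *ᵥ (y.val *ᵥ v) = v := by
    rw [Matrix.mulVec_mulVec, ← Units.val_mul, inv_mul_cancel, Units.val_one, Matrix.one_mulVec]
  rw [h, Matrix.mulVec_zero] at h1
  exact h1.symm

/-- entries form of the hypothesis -/
theorem t5_entries (y : Matrix (Fin a × Fin b) (Fin a × Fin b) F) (z w : Fin b → F)
    (h : ∀ u : Fin a → F, y *ᵥ pt u z ∈ Lv w) :
    ∃ A : Matrix (Fin a) (Fin a) F, ∀ i j k, ∑ l, y (i, j) (k, l) * z l = A i k * w j := by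
  have h' : ∀ k : Fin a, ∃ u' : Fin a → F, pt u' w = y *ᵥ pt (Pi.single k 1) z :=
    fun k => mem_Lv.1 (h _)
  choose u' hu' using h'
  refine ⟨Matrix.of fun i k => u' k i, fun i j k => ?_⟩
  have := congrFun (hu' k) (i, j)
  simp only [pt, Matrix.mulVec, dotProduct, Fintype.sum_prod_type] at this
  rw [Matrix.of_apply, this, Finset.sum_eq_single k]
  · simp
  · intro k' _ hk'; simp [hk']
  · simp

theorem t5_col (y : Matrix (Fin a × Fin b) (Fin a × Fin b) F) (l : Fin b) (w : Fin b → F)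
    (h : ∀ u : Fin a → F, y *ᵥ pt u (Pi.single l 1) ∈ Lv w) :
    ∃ A : Matrix (Fin a) (Fin a) F, ∀ i j k, y (i, j) (k, l) = A i k * w j := by
  obtain ⟨A, hA⟩ := t5_entries y _ w h
  refine ⟨A, fun i j k => ?_⟩
  rw [← hA i j k]
  simp [Pi.single_apply]

theorem t5_col2 (y : Matrix (Fin a × Fin b) (Fin a × Fin b) F) (l l' : Fin b) (w : Fin b → F)
    (h : ∀ u : Fin a → F, y *ᵥ pt u (Pi.single l 1 + Pi.single l' 1) ∈ Lv w) :
    ∃ A : Matrix (Fin a) (Fin a) F, ∀ i j k, y (i, j) (k, l) + y (i, j) (k, l') = A i k * w j := by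
  obtain ⟨A, hA⟩ := t5_entries y _ w h
  refine ⟨A, fun i j k => ?_⟩
  rw [← hA i j k]
  simp [Pi.single_apply, mul_add, Finset.sum_add_distrib]

theorem t5_col_ne (y : GL (Fin a × Fin b) F) (k : Fin a) (l : Fin b) :
    ∃ i j, y.val (i, j) (k, l) ≠ 0 := by
  by_contra hall
  push Not at hall
  have h1 : y.val *ᵥ (Pi.single (k, l) 1) = 0 := by
    funext ⟨i, j⟩
    simp [Matrix.mulVec, dotProduct, Pi.single_apply, hall]
  have h2 := congrFun (t5_gl_inj y _ h1) (k, l)
  simp at h2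

theorem t5_indep (ha : 1 ≤ a) (y : GL (Fin a × Fin b) F) (l l' : Fin b) (hne : l ≠ l')
    (A A' : Matrix (Fin a) (Fin a) F) (w w' : Fin b → F)
    (hA : ∀ i j k, y.val (i, j) (k, l) = A i k * w j)
    (hA' : ∀ i j k, y.val (i, j) (k, l') = A' i k * w' j) :
    ∃ j j', w j * w' j' - w j' * w' j ≠ 0 := by
  by_contra hall
  push Not at hall
  obtain ⟨i₀, j₀, h0⟩ := t5_col_ne y (⟨0, ha⟩ : Fin a) l'
  rw [hA'] at h0
  have hw' : w' j₀ ≠ 0 := right_ne_zero_of_mul h0
  set c := w j₀ / w' j₀ with hc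
  have hwc : ∀ j, w j = c * w' j := by
    intro j
    have := hall j j₀
    rw [hc]; field_simp; linear_combination this
  let Φ : ((Fin a → F) × (Fin a → F)) →ₗ[F] (Fin a → F) :=
    (c • A).mulVecLin.coprod A'.mulVecLin
  have hinj : Function.Injective Φ := by
    rw [← LinearMap.ker_eq_bot, Submodule.eq_bot_iff]
    rintro ⟨u, u'⟩ hu
    rw [LinearMap.mem_ker] at hu
    have hu1 : ∀ i, ∑ k, (c * A i k * u k + A' i k * u' k) = 0 := by
      intro i
      have := congrFun hu i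
      simpa [Φ, Matrix.mulVec, dotProduct, Finset.sum_add_distrib, Finset.mul_sum, mul_assoc]
        using this
    have hm : y.val *ᵥ (pt u (Pi.single l 1) + pt u' (Pi.single l' 1)) = 0 := by
      funext ⟨i, j⟩
      simp only [Matrix.mulVec, dotProduct, Fintype.sum_prod_type, Pi.add_apply, pt,
        Pi.zero_apply]
      have : ∀ k, ∑ l'', y.val (i, j) (k, l'') * (u k * (Pi.single l 1 : Fin b → F) l'' +
          u' k * (Pi.single l' 1 : Fin b → F) l'') =
          w' j * (c * A i k * u k + A' i k * u' k) := by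
        intro k
        simp only [mul_add, Finset.sum_add_distrib, Pi.single_apply, mul_ite, mul_one, mul_zero,
          Finset.sum_ite_eq', Finset.mem_univ, if_true]
        rw [hA, hA', hwc j]; ring
      rw [Finset.sum_congr rfl (fun k _ => this k), ← Finset.mul_sum, hu1 i, mul_zero]
    have hm0 := t5_gl_inj y _ hm
    have hu0 : u = 0 := by
      funext k
      have := congrFun hm0 (k, l)
      simpa [pt, hne] using this
    have hu0' : u' = 0 := by
      funext k
      have := congrFun hm0 (k, l')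
      simpa [pt, hne.symm] using this
    rw [hu0, hu0']; rfl
  have := LinearMap.finrank_le_finrank_of_injective hinj
  rw [Module.finrank_prod, Module.finrank_fin_fun] at this
  omega

/-- **T5.**  Basis `f_j` of `B`: `y (pt u f_j) = pt (α_j u) v_j`; looking at `f_i + f_j` gives `α_j = c_j α_1`;
`y = α_1 ⊗ g₂` with `g₂ f_j = c_j v_j`.  Invertibility of `α_1`, `g₂` from that of `y`. -/
theorem mem_kron_of_blines (ha : 2 ≤ a) (hb : 3 ≤ b) (y : GL (Fin a × Fin b) F)
    (h : ∀ z : Fin b → F, z ≠ 0 → ∃ w : Fin b → F, ∀ u : Fin a → F, y.val *ᵥ pt u z ∈ Lv w) :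
    y ∈ kroneckerSubgroup a b F := by
  classical
  have hsingle : ∀ l : Fin b, (Pi.single l 1 : Fin b → F) ≠ 0 := fun l hl => by
    have := congrFun hl l; simp at this
  have F1 : ∀ l : Fin b, ∃ (w : Fin b → F) (A : Matrix (Fin a) (Fin a) F),
      ∀ i j k, y.val (i, j) (k, l) = A i k * w j := by
    intro l
    obtain ⟨w, hw⟩ := h _ (hsingle l)
    exact ⟨w, t5_col y.val l w hw⟩
  choose w A hA using F1
  have F2 : ∀ l l' : Fin b, l ≠ l' → ∃ c : F, ∀ i k, A l' i k = c * A l i k := by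
    intro l l' hne
    have hz : (Pi.single l 1 + Pi.single l' 1 : Fin b → F) ≠ 0 := by
      intro hz
      have := congrFun hz l
      simp [hne] at this
    obtain ⟨w2, hw2⟩ := h _ hz
    obtain ⟨A2, hA2⟩ := t5_col2 y.val l l' w2 hw2
    obtain ⟨j, j', hD⟩ := t5_indep (by omega) y l l' hne (A l) (A l') (w l) (w l') (hA l) (hA l')
    have hP : ∀ i k, A l i k * (w l j * w l' j' - w l j' * w l' j) =
        A2 i k * (w2 j * w l' j' - w2 j' * w l' j) := by
      intro i k
      have e1 := hA2 i j k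
      have e2 := hA2 i j' k
      rw [hA l, hA l'] at e1 e2
      linear_combination (w l' j') * e1 - (w l' j) * e2
    have hQ : ∀ i k, A l' i k * (w l j * w l' j' - w l j' * w l' j) =
        A2 i k * (w2 j' * w l j - w2 j * w l j') := by
      intro i k
      have e1 := hA2 i j k
      have e2 := hA2 i j' k
      rw [hA l, hA l'] at e1 e2
      linear_combination (w l j) * e2 - (w l j') * e1
    obtain ⟨i₀, j₀, h0⟩ := t5_col_ne y (⟨0, by omega⟩ : Fin a) l
    rw [hA l] at h0
    have hA0 := left_ne_zero_of_mul h0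
    have hP0 : w2 j * w l' j' - w2 j' * w l' j ≠ 0 := by
      intro hP0
      have := hP i₀ ⟨0, by omega⟩
      rw [hP0, mul_zero] at this
      exact (mul_ne_zero hA0 hD) this
    refine ⟨(w2 j' * w l j - w2 j * w l j') / (w2 j * w l' j' - w2 j' * w l' j), fun i k => ?_⟩
    have e1 := hP i k
    have e2 := hQ i k
    rw [div_mul_eq_mul_div, eq_div_iff hP0]
    apply mul_right_cancel₀ hD
    linear_combination (w2 j * w l' j' - w2 j' * w l' j) * e2 -
      (w2 j' * w l j - w2 j * w l j') * e1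
  have hb0 : 0 < b := by omega
  have F3 : ∀ l, ∃ c : F, ∀ i k, A l i k = c * A ⟨0, hb0⟩ i k := by
    intro l
    by_cases hl : l = ⟨0, hb0⟩
    · exact ⟨1, fun i k => by rw [hl, one_mul]⟩
    · exact F2 ⟨0, hb0⟩ l (Ne.symm hl)
  choose c hc using F3
  have hy : y.val = A ⟨0, hb0⟩ ⊗ₖ (Matrix.of fun j l => c l * w l j) := by
    ext ⟨i, j⟩ ⟨k, l⟩
    rw [kroneckerMap_apply, hA l, hc l, Matrix.of_apply]
    ring
  have hdet : IsUnit (y.val.det) := (Matrix.isUnit_iff_isUnit_det _).1 y.isUnit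
  rw [hy, Matrix.det_kronecker] at hdet
  simp only [Fintype.card_fin] at hdet
  have hα : IsUnit (A ⟨0, hb0⟩).det :=
    (isUnit_pow_iff (by omega)).1 (IsUnit.mul_iff.1 hdet).1
  have hβ : IsUnit (Matrix.of fun j l => c l * w l j : Matrix (Fin b) (Fin b) F).det :=
    (isUnit_pow_iff (by omega)).1 (IsUnit.mul_iff.1 hdet).2
  exact ⟨Matrix.GeneralLinearGroup.mk'' _ hα, Matrix.GeneralLinearGroup.mk'' _ hβ, hy⟩

end Cfsg.Agent.Lib.H21.Tp
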