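import Cfsg.Agent.Lib.L0.FrobTIAbelian
import Cfsg.Agent.Lib.H21.W2P.Defs

/-!
# S0720 piece EXC (helper21): exceptional characters force the degrees in `X` to be `|N(⟨x⟩) : ⟨x⟩|`
-/

set_option autoImplicit false

namespace Cfsg.Agent.Lib.H21.W2P

open Cfsg Cfsg.Agent.Lib.H4.CentRing Cfsg.Agent.Lib.L0
open scoped ComplexConjugate

section Cyc

variable {L : Type*} [Group L]

/-- A non-identity element of a cyclic group of prime order generates it. -/
theorem mem_zpowers_of_prime {p : ℕ} (hp : p.Prime) {x k : L} (hox : orderOf x = p)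
    (hk : k ∈ Subgroup.zpowers x) (hk1 : k ≠ 1) : x ∈ Subgroup.zpowers k := by
  haveI : Fact p.Prime := ⟨hp⟩
  have hcard : Nat.card (Subgroup.zpowers x) = p := by rw [Nat.card_zpowers, hox]
  have h1 : Subgroup.zpowers k ≤ Subgroup.zpowers x := by
    rw [Subgroup.zpowers_le]; exact hk
  have h2 : Nat.card (Subgroup.zpowers k) ∣ p := by
    rw [← hcard]; exact Subgroup.card_dvd_of_le h1
  have h3 : Nat.card (Subgroup.zpowers k) ≠ 1 := by
    rw [Nat.card_zpowers]
    intro h
    exact hk1 (orderOf_eq_one_iff.mp h)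
  have h4 : Nat.card (Subgroup.zpowers k) = p := by
    rcases (Nat.dvd_prime hp).mp h2 with h | h
    · exact absurd h h3
    · exact h
  have hfin : Finite (Subgroup.zpowers x) := Nat.finite_of_card_ne_zero (by rw [hcard]; exact hp.ne_zero)
  have h5 : Subgroup.zpowers k = Subgroup.zpowers x :=
    Subgroup.eq_of_le_of_card_ge h1 (by rw [hcard, h4])
  rw [h5]
  exact Subgroup.mem_zpowers x

/-- Conjugating a generator into `⟨x⟩` puts the conjugating element in the normaliser. -/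
theorem mem_normalizer_of_conj_mem {p : ℕ} (hp : p.Prime) {x : L} (hox : orderOf x = p) {g k : L}
    (hk : k ∈ Subgroup.zpowers x) (hk1 : k ≠ 1) (hg : g * k * g⁻¹ ∈ Subgroup.zpowers x) :
    g ∈ Subgroup.normalizer ((Subgroup.zpowers x : Subgroup L) : Set L) := by
  have hk' : g * k * g⁻¹ ≠ 1 := by
    intro h
    apply hk1
    have : k = g⁻¹ * (g * k * g⁻¹) * g := by group
    rw [this, h]; group
  have hxk := mem_zpowers_of_prime hp hox hk hk1
  have hxk' := mem_zpowers_of_prime hp hox hg hk'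
  rw [Subgroup.mem_normalizer_iff]
  intro h
  constructor
  · intro hh
    obtain ⟨j, rfl⟩ := Subgroup.mem_zpowers_iff.mp hh
    obtain ⟨i, hi⟩ := Subgroup.mem_zpowers_iff.mp hxk
    have : g * x ^ j * g⁻¹ = (g * k * g⁻¹) ^ (i * j) := by
      rw [← hi, ← zpow_mul, conj_zpow]
    rw [this]
    exact Subgroup.zpow_mem _ hg _
  · intro hh
    obtain ⟨j, hj⟩ := Subgroup.mem_zpowers_iff.mp hh
    obtain ⟨i, hi⟩ := Subgroup.mem_zpowers_iff.mp hxk'
    -- `g h g⁻¹ = x^j = (g k g⁻¹)^(i j) = g k^(i j) g⁻¹`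
    have h1 : g * h * g⁻¹ = g * k ^ (i * j) * g⁻¹ := by
      rw [← hj, ← hi, ← zpow_mul, conj_zpow]
    have h2 : h = k ^ (i * j) := by
      have := congrArg (fun y => g⁻¹ * y * g) h1
      simpa [mul_assoc] using this
    rw [h2]
    exact Subgroup.zpow_mem _ hk _

/-- `⟨x⟩` of prime order with `C(x) = ⟨x⟩` is a T.I. subgroup with Frobenius normaliser. -/
theorem frobTI_zpowers {p : ℕ} (hp : p.Prime) {x : L} (hox : orderOf x = p)
    (hcent : ∀ c : L, c * x = x * c → c ∈ Subgroup.zpowers x) :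
    FrobTI (Subgroup.zpowers x) := by
  refine ⟨?_, ?_⟩
  · intro g hg k hk hgk
    by_contra hk1
    exact hg (mem_normalizer_of_conj_mem hp hox hk hk1 hgk)
  · intro k hk hk1 c hc
    apply hcent
    rw [Subgroup.mem_centralizer_singleton_iff] at hc
    obtain ⟨i, hi⟩ := Subgroup.mem_zpowers_iff.mp (mem_zpowers_of_prime hp hox hk hk1)
    rw [← hi]
    have h1 : Commute c k := hc
    exact (h1.zpow_right i).eq

theorem zpowers_lt_normalizer {p : ℕ} (hp : p.Prime) {x : L} (hox : orderOf x = p)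
    (hN : ∃ n : L, n * x * n⁻¹ ∈ Subgroup.zpowers x ∧ n ∉ Subgroup.zpowers x) :
    Subgroup.zpowers x < Subgroup.normalizer ((Subgroup.zpowers x : Subgroup L) : Set L) := by
  obtain ⟨n, hn, hn'⟩ := hN
  have hx1 : x ≠ 1 := by
    intro h
    rw [h, orderOf_one] at hox
    exact hp.one_lt.ne hox
  refine lt_of_le_of_ne Subgroup.le_normalizer ?_
  intro h
  apply hn'
  rw [h]
  exact mem_normalizer_of_conj_mem hp hox (Subgroup.mem_zpowers x) hx1 hn

end Cyc

section Sums

variable {L : Type*} [Group L] [Fintype L]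

/-- Sums over `⟨x⟩` (inside a subgroup `N`) as sums over the exponents. -/
theorem sum_subgroupOf_zpowers {p : ℕ} (hp : p.Prime) {x : L} (hox : orderOf x = p) (N : Subgroup L)
    [Fintype N] (hle : Subgroup.zpowers x ≤ N) [Fintype ((Subgroup.zpowers x).subgroupOf N)]
    (F : L → ℂ) :
    ∑ y : (Subgroup.zpowers x).subgroupOf N, F ((y : N) : L) = ∑ k ∈ Finset.range p, F (x ^ k) := by
  classical
  have hfin : IsOfFinOrder x := isOfFinOrder_of_finite x
  have e1 : Fin (orderOf x) ≃ Subgroup.zpowers x := finEquivZPowers hfin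
  have e2 : (Subgroup.zpowers x).subgroupOf N ≃ Subgroup.zpowers x :=
    (Subgroup.subgroupOfEquivOfLe hle).toEquiv
  haveI : Fintype (Subgroup.zpowers x) := Fintype.ofFinite _
  have h1 : ∑ y : (Subgroup.zpowers x).subgroupOf N, F ((y : N) : L)
      = ∑ z : Subgroup.zpowers x, F (z : L) := by
    refine Fintype.sum_equiv (Subgroup.subgroupOfEquivOfLe hle).toEquiv _ _ fun y => ?_
    rfl
  have h2 : ∑ z : Subgroup.zpowers x, F (z : L) = ∑ i : Fin (orderOf x), F (x ^ (i : ℕ)) := by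
    symm
    refine Fintype.sum_equiv (finEquivZPowers hfin) _ _ fun i => ?_
    rw [finEquivZPowers_apply]
  rw [h1, h2, Fin.sum_univ_eq_sum_range (fun k => F (x ^ k)), hox]

end Sums

section Perm

variable {L : Type*} [Group L] [Fintype L] {Ω : Type*} [Fintype Ω] [DecidableEq Ω] [MulAction L Ω]

theorem permCh_one_eq : permCh L Ω 1 = (Fintype.card Ω : ℂ) := by
  rw [permCh]
  congr 1
  rw [← Nat.card_eq_fintype_card]
  apply Nat.card_congr
  refine ⟨fun y => y.1, fun y => ⟨y, ?_⟩, fun y => rfl, fun y => rfl⟩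
  simp

theorem permCh_eq_zero_of_fpf {g : L} (hg : ∀ a : Ω, g • a ≠ a) : permCh L Ω g = 0 := by
  rw [permCh]
  have : IsEmpty (MulAction.fixedBy Ω g) := ⟨fun y => hg y.1 y.2⟩
  rw [Nat.card_of_isEmpty]
  simp

/-- Non-identity elements of `⟨x⟩` have no fixed points. -/
theorem fpf_of_mem_zpowers {p : ℕ} (hp : p.Prime) {x : L} (hox : orderOf x = p)
    (hfpf : ∀ a : Ω, x • a ≠ a) {y : L} (hy : y ∈ Subgroup.zpowers x) (hy1 : y ≠ 1) (a : Ω) :
    y • a ≠ a := by
  intro h
  obtain ⟨i, hi⟩ := Subgroup.mem_zpowers_iff.mp (mem_zpowers_of_prime hp hox hy hy1)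
  apply hfpf a
  rw [← hi]
  have : y ∈ MulAction.stabilizer L a := h
  exact (MulAction.stabilizer L a).zpow_mem this i

/-- The values of `∑_{ψ ∈ X} ψ` on `⟨x⟩`. -/
theorem sumX_apply_one {p : ℕ} (hΩ : Fintype.card Ω = 2 * p) {x : L}
    {χ₁ : L → ℂ} {X : Finset (IrrCharacter L)} (hD : Dec L Ω p x χ₁ X) :
    ∑ ψ ∈ X, (ψ : L → ℂ) 1 = (p : ℂ) - 1 := by
  have h1 := congrFun hD.eq 1
  rw [permCh_one_eq, hΩ, hD.deg₁] at h1
  push_cast at h1
  linear_combination -h1

theorem sumX_apply_ne_one {p : ℕ} (hp : p.Prime) {x : L}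
    (hox : orderOf x = p) (hfpf : ∀ a : Ω, x • a ≠ a) {χ₁ : L → ℂ} {X : Finset (IrrCharacter L)}
    (hD : Dec L Ω p x χ₁ X) {y : L} (hy : y ∈ Subgroup.zpowers x) (hy1 : y ≠ 1) :
    ∑ ψ ∈ X, (ψ : L → ℂ) y = -1 := by
  have h1 := congrFun hD.eq y
  rw [permCh_eq_zero_of_fpf (fpf_of_mem_zpowers hp hox hfpf hy hy1)] at h1
  obtain ⟨k, rfl⟩ := Subgroup.mem_zpowers_iff.mp hy
  -- reduce to a natural exponent
  have hk : x ^ k = x ^ (k % (p : ℤ)).toNat := by
    have hpos : (0 : ℤ) ≤ k % (p : ℤ) := Int.emod_nonneg _ (by exact_mod_cast hp.ne_zero)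
    rw [← zpow_natCast, Int.toNat_of_nonneg hpos, ← hox, zpow_mod_orderOf]
  have hnd : ¬ p ∣ (k % (p : ℤ)).toNat := by
    intro hdvd
    apply hy1
    rw [hk]
    obtain ⟨c, hc⟩ := hdvd
    rw [hc, pow_mul, ← hox, pow_orderOf_eq_one, one_pow]
  rw [hk, hD.van₁ _ hnd] at h1
  rw [hk]
  linear_combination -h1

end Perm

section Main

variable {L : Type*} [Group L] [Fintype L] {Ω : Type*} [Fintype Ω] [DecidableEq Ω] [MulAction L Ω]

/-- Restriction of a class function to a subgroup is a class function. -/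
theorem isClassFunction_restrict (N : Subgroup L) {η : L → ℂ} (hη : IsClassFunction L η) :
    IsClassFunction N (fun n : N => η n) := by
  intro g h
  exact hη g h

/-- The induced trivial character of a normal subgroup is constant on the subgroup. -/
theorem indFun_one_apply_mem {H : Type*} [Group H] [Fintype H] (M : Subgroup H) [M.Normal]
    {k : H} (hk : k ∈ M) :
    indFun M (fun _ => (1 : ℂ)) k = indFun M (fun _ => (1 : ℂ)) 1 := by
  rw [indFun_apply, indFun_apply]
  congr 1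
  refine Finset.sum_congr rfl fun y _ => ?_
  have h1 : y⁻¹ * k * y ∈ M := by
    have := (inferInstance : M.Normal).conj_mem k hk y⁻¹
    simpa using this
  have h2 : y⁻¹ * 1 * y ∈ M := by simp
  rw [extendByZero_apply_of_mem M _ h1, extendByZero_apply_of_mem M _ h2]

theorem card_subgroupOf_zpowers {p : ℕ} {x : L} (hox : orderOf x = p) (N : Subgroup L)
    (hle : Subgroup.zpowers x ≤ N) : Nat.card ((Subgroup.zpowers x).subgroupOf N) = p := by
  rw [Nat.card_congr (Subgroup.subgroupOfEquivOfLe hle).toEquiv, Nat.card_zpowers, hox]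

/-- Fact B: a relevant irreducible character of `N` has inner product `1` with `(∑_{ψ ∈ X} ψ)|_N`. -/
theorem classInner_rel_sumX {p : ℕ} (hp : p.Prime) (hΩ : Fintype.card Ω = 2 * p) {x : L}
    (hox : orderOf x = p) (hfpf : ∀ a : Ω, x • a ≠ a)
    (hcent : ∀ c : L, c * x = x * c → c ∈ Subgroup.zpowers x)
    {χ₁ : L → ℂ} {X : Finset (IrrCharacter L)} (hD : Dec L Ω p x χ₁ X)
    [Fintype (Subgroup.normalizer ((Subgroup.zpowers x : Subgroup L) : Set L))]
    (Λ : Subgroup.normalizer ((Subgroup.zpowers x : Subgroup L) : Set L) → ℂ)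
    (hΛ : IsIrrCharacter (Subgroup.normalizer ((Subgroup.zpowers x : Subgroup L) : Set L)) Λ)
    (hrel : FrobTI.Rel (Subgroup.zpowers x) Λ) :
    classInner Λ (fun n : Subgroup.normalizer ((Subgroup.zpowers x : Subgroup L) : Set L) =>
      ∑ ψ ∈ X, (ψ : L → ℂ) n) = 1 := by
  classical
  have hF : FrobTI (Subgroup.zpowers x) := frobTI_zpowers hp hox hcent
  have hle : Subgroup.zpowers x ≤ Subgroup.normalizer ((Subgroup.zpowers x : Subgroup L) : Set L) :=
    Subgroup.le_normalizer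
  obtain ⟨φ, hφ, hΛφ⟩ := hF.exists_ind hΛ hrel
  haveI : Fintype ((Subgroup.zpowers x).subgroupOf
    (Subgroup.normalizer ((Subgroup.zpowers x : Subgroup L) : Set L))) := Fintype.ofFinite _
  have hcard := card_subgroupOf_zpowers hox _ hle
  have hpne : (p : ℂ) ≠ 0 := by exact_mod_cast hp.ne_zero
  -- `φ` is not trivial
  have hφne : φ ≠ fun _ => 1 := by
    intro h
    obtain ⟨k, hk, hne⟩ := hrel
    apply hne
    rw [hΛφ, h]
    exact indFun_one_apply_mem _ (Subgroup.mem_subgroupOf.mpr hk)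
  have hφ1 : φ 1 = 1 := by
    apply irr_apply_one_of_comm _ hφ
    intro a b
    apply Subtype.ext
    apply Subtype.ext
    obtain ⟨i, hi⟩ := Subgroup.mem_zpowers_iff.mp (Subgroup.mem_subgroupOf.mp a.2)
    obtain ⟨j, hj⟩ := Subgroup.mem_zpowers_iff.mp (Subgroup.mem_subgroupOf.mp b.2)
    show (a.1.1 : L) * b.1.1 = b.1.1 * a.1.1
    have hi : x ^ i = a.1.1 := hi
    have hj : x ^ j = b.1.1 := hj
    rw [← hi, ← hj, ← zpow_add, ← zpow_add, add_comm]
  have hsum0 : ∑ y : (Subgroup.zpowers x).subgroupOf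
      (Subgroup.normalizer ((Subgroup.zpowers x : Subgroup L) : Set L)), φ y = 0 := by
    have h0 := irr_classInner_ne hφ Cfsg.Agent.Lib.H24.isIrrCharacter_one hφne
    rw [classInner, hcard] at h0
    have h1 := (mul_eq_zero.mp h0).resolve_left (inv_ne_zero hpne)
    rw [← h1]
    refine Finset.sum_congr rfl fun y _ => ?_
    simp
  -- the class function `η`
  have hηcf : IsClassFunction (Subgroup.normalizer ((Subgroup.zpowers x : Subgroup L) : Set L))
      (fun n => ∑ ψ ∈ X, (ψ : L → ℂ) n) := by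
    apply isClassFunction_restrict _ (η := fun g => ∑ ψ ∈ X, (ψ : L → ℂ) g)
    intro g h
    refine Finset.sum_congr rfl fun ψ _ => ?_
    exact Cfsg.Agent.Lib.H24.irr_isClassFunction ψ g h
  rw [hΛφ, frobenius_reciprocity _ φ _ hηcf, classInner, hcard]
  have hterm : ∀ y : (Subgroup.zpowers x).subgroupOf
      (Subgroup.normalizer ((Subgroup.zpowers x : Subgroup L) : Set L)),
      φ y * conj (∑ ψ ∈ X, (ψ : L → ℂ) (y.1.1 : L))
        = (if y = 1 then (p : ℂ) else 0) - φ y := by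
    intro y
    have hy : (y.1.1 : L) ∈ Subgroup.zpowers x := Subgroup.mem_subgroupOf.mp y.2
    by_cases hy1 : y = 1
    · subst hy1
      rw [if_pos rfl]
      have : ∑ ψ ∈ X, (ψ : L → ℂ) ((1 : (Subgroup.zpowers x).subgroupOf
          (Subgroup.normalizer ((Subgroup.zpowers x : Subgroup L) : Set L))).1.1 : L)
            = (p : ℂ) - 1 := sumX_apply_one hΩ hD
      rw [this, hφ1]
      simp
    · rw [if_neg hy1]
      have hy1' : (y.1.1 : L) ≠ 1 := by
        intro h
        apply hy1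
        apply Subtype.ext
        apply Subtype.ext
        exact h
      rw [sumX_apply_ne_one hp hox hfpf hD hy hy1']
      simp
  rw [Finset.sum_congr rfl fun y _ => hterm y, Finset.sum_sub_distrib, hsum0, sub_zero,
    Finset.sum_ite_eq' Finset.univ (1 : (Subgroup.zpowers x).subgroupOf
      (Subgroup.normalizer ((Subgroup.zpowers x : Subgroup L) : Set L))) (fun _ => (p : ℂ))]
  simp [hpne]

/-- Fact C: a character of `L` without trivial constituent on `⟨x⟩` has degree `e` times the number of its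
relevant constituents on `N`. -/
theorem degree_eq_mul_sum {p : ℕ} (hp : p.Prime) {x : L} (hox : orderOf x = p)
    (hcent : ∀ c : L, c * x = x * c → c ∈ Subgroup.zpowers x) (e : ℕ)
    (he : Nat.card (Subgroup.normalizer ((Subgroup.zpowers x : Subgroup L) : Set L)) = p * e)
    [Fintype (Subgroup.normalizer ((Subgroup.zpowers x : Subgroup L) : Set L))]
    (ψ : L → ℂ) (hψ : IsCharacter L ψ) (hsum : ∑ k ∈ Finset.range p, ψ (x ^ k) = 0)
    [Fintype {χ : IrrCharacter (Subgroup.normalizer ((Subgroup.zpowers x : Subgroup L) : Set L)) //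
      ∃ k : Subgroup.normalizer ((Subgroup.zpowers x : Subgroup L) : Set L),
        (k : L) ∈ Subgroup.zpowers x ∧
        (χ : Subgroup.normalizer ((Subgroup.zpowers x : Subgroup L) : Set L) → ℂ) k ≠
          (χ : Subgroup.normalizer ((Subgroup.zpowers x : Subgroup L) : Set L) → ℂ) 1}] :
    ψ 1 = (e : ℂ) * ∑ Λ : {χ : IrrCharacter (Subgroup.normalizer
        ((Subgroup.zpowers x : Subgroup L) : Set L)) //
      ∃ k : Subgroup.normalizer ((Subgroup.zpowers x : Subgroup L) : Set L),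
        (k : L) ∈ Subgroup.zpowers x ∧
        (χ : Subgroup.normalizer ((Subgroup.zpowers x : Subgroup L) : Set L) → ℂ) k ≠
          (χ : Subgroup.normalizer ((Subgroup.zpowers x : Subgroup L) : Set L) → ℂ) 1},
      classInner (fun n : Subgroup.normalizer ((Subgroup.zpowers x : Subgroup L) : Set L) => ψ n)
        (Λ.1 : Subgroup.normalizer ((Subgroup.zpowers x : Subgroup L) : Set L) → ℂ) := by
  classical
  have hF : FrobTI (Subgroup.zpowers x) := frobTI_zpowers hp hox hcent
  have hle : Subgroup.zpowers x ≤ Subgroup.normalizer ((Subgroup.zpowers x : Subgroup L) : Set L) :=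
    Subgroup.le_normalizer
  have hab : ∀ a ∈ Subgroup.zpowers x, ∀ b ∈ Subgroup.zpowers x, a * b = b * a := by
    intro a ha b hb
    obtain ⟨i, rfl⟩ := Subgroup.mem_zpowers_iff.mp ha
    obtain ⟨j, rfl⟩ := Subgroup.mem_zpowers_iff.mp hb
    rw [← zpow_add, ← zpow_add, add_comm]
  haveI : Fintype (IrrCharacter (Subgroup.normalizer ((Subgroup.zpowers x : Subgroup L) : Set L))) :=
    Fintype.ofFinite _
  haveI : Fintype ((Subgroup.zpowers x).subgroupOf
    (Subgroup.normalizer ((Subgroup.zpowers x : Subgroup L) : Set L))) := Fintype.ofFinite _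
  have hcard := card_subgroupOf_zpowers hox _ hle
  have hpne : (p : ℂ) ≠ 0 := by exact_mod_cast hp.ne_zero
  -- the index
  have hidx : ((Subgroup.zpowers x).subgroupOf
      (Subgroup.normalizer ((Subgroup.zpowers x : Subgroup L) : Set L))).index = e := by
    have h1 := ((Subgroup.zpowers x).subgroupOf
      (Subgroup.normalizer ((Subgroup.zpowers x : Subgroup L) : Set L))).card_mul_index
    rw [hcard, he] at h1
    exact Nat.eq_of_mul_eq_mul_left hp.pos h1
  -- the restriction and its coefficients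
  have hψN : IsCharacter (Subgroup.normalizer ((Subgroup.zpowers x : Subgroup L) : Set L))
      (fun n => ψ n) := isCharacter_restrict _ hψ
  have hcf := isClassFunction_of_isCharacter hψN
  have hexp := Cfsg.Agent.Lib.H24.classFunction_expansion _ hcf
  choose c hc using fun Λ : IrrCharacter (Subgroup.normalizer
    ((Subgroup.zpowers x : Subgroup L) : Set L)) => classInner_char_irr_nat hψN Λ.2
  -- multiplicities of the trivial character of `P'`
  have hm : ∀ Λ : IrrCharacter (Subgroup.normalizer ((Subgroup.zpowers x : Subgroup L) : Set L)),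
      ∃ m : ℕ, ∑ y : (Subgroup.zpowers x).subgroupOf
        (Subgroup.normalizer ((Subgroup.zpowers x : Subgroup L) : Set L)),
        (Λ : Subgroup.normalizer ((Subgroup.zpowers x : Subgroup L) : Set L) → ℂ) y.1
          = (p : ℂ) * m := by
    intro Λ
    obtain ⟨m, hm⟩ := classInner_char_irr_nat
      (isCharacter_restrict ((Subgroup.zpowers x).subgroupOf
        (Subgroup.normalizer ((Subgroup.zpowers x : Subgroup L) : Set L)))
        (isCharacter_of_irr Λ.2)) Cfsg.Agent.Lib.H24.isIrrCharacter_one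
    refine ⟨m, ?_⟩
    rw [classInner, hcard] at hm
    have h2 : ∑ y : (Subgroup.zpowers x).subgroupOf
        (Subgroup.normalizer ((Subgroup.zpowers x : Subgroup L) : Set L)),
        (Λ : Subgroup.normalizer ((Subgroup.zpowers x : Subgroup L) : Set L) → ℂ) y.1 * conj (1 : ℂ)
          = (p : ℂ) * m := by
      rw [← hm, ← mul_assoc, mul_inv_cancel₀ hpne, one_mul]
    rw [← h2]
    refine Finset.sum_congr rfl fun y _ => ?_
    simp
  choose m hm using hm
  -- the sum of `ψ` over `P'` vanishes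
  have hS : ∑ y : (Subgroup.zpowers x).subgroupOf
      (Subgroup.normalizer ((Subgroup.zpowers x : Subgroup L) : Set L)), ψ (y.1.1 : L) = 0 := by
    rw [← hsum]
    exact sum_subgroupOf_zpowers hp hox _ hle ψ
  have hval : ∀ n : Subgroup.normalizer ((Subgroup.zpowers x : Subgroup L) : Set L),
      ψ n = ∑ Λ : IrrCharacter (Subgroup.normalizer ((Subgroup.zpowers x : Subgroup L) : Set L)),
        (c Λ : ℂ) * (Λ : Subgroup.normalizer ((Subgroup.zpowers x : Subgroup L) : Set L) → ℂ) n := by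
    intro n
    have := congrFun hexp n
    simp only [Finset.sum_apply, Pi.smul_apply, smul_eq_mul] at this
    rw [this]
    refine Finset.sum_congr rfl fun Λ _ => ?_
    rw [hc Λ]
  have hzero : ∑ Λ : IrrCharacter (Subgroup.normalizer ((Subgroup.zpowers x : Subgroup L) : Set L)),
      c Λ * (p * m Λ) = 0 := by
    have h1 : ((∑ Λ : IrrCharacter (Subgroup.normalizer
        ((Subgroup.zpowers x : Subgroup L) : Set L)), c Λ * (p * m Λ) : ℕ) : ℂ) = 0 := by
      rw [← hS, Nat.cast_sum]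
      symm
      rw [Finset.sum_congr rfl fun y _ => hval y.1, Finset.sum_comm]
      refine Finset.sum_congr rfl fun Λ _ => ?_
      rw [← Finset.mul_sum, hm Λ, Nat.cast_mul, Nat.cast_mul]
    exact_mod_cast h1
  have hnr : ∀ Λ : IrrCharacter (Subgroup.normalizer ((Subgroup.zpowers x : Subgroup L) : Set L)),
      ¬ FrobTI.Rel (Subgroup.zpowers x)
        (Λ : Subgroup.normalizer ((Subgroup.zpowers x : Subgroup L) : Set L) → ℂ) → c Λ = 0 := by
    intro Λ hΛ
    have h1 := (Finset.sum_eq_zero_iff.mp hzero) Λ (Finset.mem_univ _)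
    rcases Nat.mul_eq_zero.mp h1 with h | h
    · exact h
    · exfalso
      rcases Nat.mul_eq_zero.mp h with h | h
      · exact hp.ne_zero h
      · have h2 := hm Λ
        rw [h, Nat.cast_zero, mul_zero] at h2
        have h3 : ∑ y : (Subgroup.zpowers x).subgroupOf
            (Subgroup.normalizer ((Subgroup.zpowers x : Subgroup L) : Set L)),
            (Λ : Subgroup.normalizer ((Subgroup.zpowers x : Subgroup L) : Set L) → ℂ) y.1
            = (p : ℂ) * (Λ : Subgroup.normalizer ((Subgroup.zpowers x : Subgroup L) : Set L) → ℂ) 1 := by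
          rw [Finset.sum_congr rfl fun y _ =>
            FrobTI.not_rel_apply hΛ y.1 (Subgroup.mem_subgroupOf.mp y.2), Finset.sum_const,
            Finset.card_univ, ← Nat.card_eq_fintype_card, hcard, nsmul_eq_mul]
        rw [h3] at h2
        rcases mul_eq_zero.mp h2 with h4 | h4
        · exact hpne h4
        · exact Cfsg.Agent.Lib.H24.irr_one_ne_zero Λ h4
  -- evaluate at `1`
  have h1 := hval 1
  have h2 : ψ ((1 : Subgroup.normalizer ((Subgroup.zpowers x : Subgroup L) : Set L)) : L) = ψ 1 := rfl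
  rw [h2] at h1
  rw [h1, Finset.mul_sum]
  have hsplit : ∀ Λ : IrrCharacter (Subgroup.normalizer ((Subgroup.zpowers x : Subgroup L) : Set L)),
      (c Λ : ℂ) * (Λ : Subgroup.normalizer ((Subgroup.zpowers x : Subgroup L) : Set L) → ℂ) 1
        = if FrobTI.Rel (Subgroup.zpowers x)
            (Λ : Subgroup.normalizer ((Subgroup.zpowers x : Subgroup L) : Set L) → ℂ)
          then (e : ℂ) * c Λ else 0 := by
    intro Λ
    split_ifs with hΛ
    · rw [hF.rel_degree hab Λ.2 hΛ, hidx]; ring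
    · rw [hnr Λ hΛ]; simp
  rw [Finset.sum_congr rfl fun Λ _ => hsplit Λ, ← Finset.sum_filter]
  rw [Finset.sum_subtype (Finset.univ.filter (fun Λ : IrrCharacter (Subgroup.normalizer
    ((Subgroup.zpowers x : Subgroup L) : Set L)) => FrobTI.Rel (Subgroup.zpowers x)
      (Λ : Subgroup.normalizer ((Subgroup.zpowers x : Subgroup L) : Set L) → ℂ)))
    (p := fun χ : IrrCharacter (Subgroup.normalizer
        ((Subgroup.zpowers x : Subgroup L) : Set L)) =>
      ∃ k : Subgroup.normalizer ((Subgroup.zpowers x : Subgroup L) : Set L),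
        (k : L) ∈ Subgroup.zpowers x ∧
        (χ : Subgroup.normalizer ((Subgroup.zpowers x : Subgroup L) : Set L) → ℂ) k ≠
          (χ : Subgroup.normalizer ((Subgroup.zpowers x : Subgroup L) : Set L) → ℂ) 1)
    (by intro Λ; simp [FrobTI.Rel])]
  refine Finset.sum_congr rfl fun Λ _ => ?_
  rw [hc Λ.1]

/-- EXC: exceptional characters: with at least two members in `X`, each has degree
`e = |N(⟨x⟩) : ⟨x⟩|`. -/
theorem exc_degree {p : ℕ} (hp : p.Prime) (hΩ : Fintype.card Ω = 2 * p) (x : L)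
    (hox : orderOf x = p) (hfpf : ∀ a : Ω, x • a ≠ a)
    (hcent : ∀ c : L, c * x = x * c → c ∈ Subgroup.zpowers x)
    (hN : ∃ n : L, n * x * n⁻¹ ∈ Subgroup.zpowers x ∧ n ∉ Subgroup.zpowers x) (e : ℕ)
    (he : Nat.card (Subgroup.normalizer ((Subgroup.zpowers x : Subgroup L) : Set L)) = p * e)
    (χ₁ : L → ℂ) (X : Finset (IrrCharacter L)) (hD : Dec L Ω p x χ₁ X) (hX : 2 ≤ X.card) :
    ∀ ψ ∈ X, (ψ : L → ℂ) 1 = (e : ℂ) := by
  classical
  haveI : Fintype (Subgroup.normalizer ((Subgroup.zpowers x : Subgroup L) : Set L)) :=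
    Fintype.ofFinite _
  have hF : FrobTI (Subgroup.zpowers x) := frobTI_zpowers hp hox hcent
  have hlt := zpowers_lt_normalizer hp hox hN
  have hab : ∀ a ∈ Subgroup.zpowers x, ∀ b ∈ Subgroup.zpowers x, a * b = b * a := by
    intro a ha b hb
    obtain ⟨i, rfl⟩ := Subgroup.mem_zpowers_iff.mp ha
    obtain ⟨j, rfl⟩ := Subgroup.mem_zpowers_iff.mp hb
    rw [← zpow_add, ← zpow_add, add_comm]
  obtain ⟨ε, f, hε, hfinj, hf⟩ := hF.exists_exceptional hlt hab
  haveI : Fintype {χ : IrrCharacter (Subgroup.normalizer ((Subgroup.zpowers x : Subgroup L) : Set L)) //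
      ∃ k : Subgroup.normalizer ((Subgroup.zpowers x : Subgroup L) : Set L),
        (k : L) ∈ Subgroup.zpowers x ∧
        (χ : Subgroup.normalizer ((Subgroup.zpowers x : Subgroup L) : Set L) → ℂ) k ≠
          (χ : Subgroup.normalizer ((Subgroup.zpowers x : Subgroup L) : Set L) → ℂ) 1} :=
    Fintype.ofFinite _
  -- the multiplicities `a ψ Λ`
  have hres : ∀ ψ : IrrCharacter L, IsCharacter
      (Subgroup.normalizer ((Subgroup.zpowers x : Subgroup L) : Set L))
      (fun n => (ψ : L → ℂ) n) := fun ψ => isCharacter_restrict _ (isCharacter_of_irr ψ.2)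
  choose a ha using fun (ψ : IrrCharacter L) (Λ : {χ : IrrCharacter (Subgroup.normalizer
      ((Subgroup.zpowers x : Subgroup L) : Set L)) //
      ∃ k : Subgroup.normalizer ((Subgroup.zpowers x : Subgroup L) : Set L),
        (k : L) ∈ Subgroup.zpowers x ∧
        (χ : Subgroup.normalizer ((Subgroup.zpowers x : Subgroup L) : Set L) → ℂ) k ≠
          (χ : Subgroup.normalizer ((Subgroup.zpowers x : Subgroup L) : Set L) → ℂ) 1}) =>
    classInner_char_irr_nat (hres ψ) Λ.1.2
  have ha' : ∀ (ψ : IrrCharacter L) (Λ : {χ : IrrCharacter (Subgroup.normalizer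
      ((Subgroup.zpowers x : Subgroup L) : Set L)) //
      ∃ k : Subgroup.normalizer ((Subgroup.zpowers x : Subgroup L) : Set L),
        (k : L) ∈ Subgroup.zpowers x ∧
        (χ : Subgroup.normalizer ((Subgroup.zpowers x : Subgroup L) : Set L) → ℂ) k ≠
          (χ : Subgroup.normalizer ((Subgroup.zpowers x : Subgroup L) : Set L) → ℂ) 1}),
      classInner (Λ.1 : Subgroup.normalizer
      ((Subgroup.zpowers x : Subgroup L) : Set L) → ℂ) (fun n => (ψ : L → ℂ) n) = a ψ Λ := by
    intro ψ Λ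
    rw [← classInner_conj_symm, ha ψ Λ, Complex.conj_natCast]
  -- Fact A
  have hA : ∀ (ψ : IrrCharacter L) (Λ Λ' : _), ((a ψ Λ : ℂ) - a ψ Λ')
      = ε * ((if f Λ = ψ then 1 else 0) - (if f Λ' = ψ then 1 else 0)) := by
    intro ψ Λ Λ'
    have h1 := congrArg (fun F => classInner F (ψ : L → ℂ)) (hf Λ Λ')
    beta_reduce at h1
    rw [frobenius_reciprocity _ _ _ (Cfsg.Agent.Lib.H24.irr_isClassFunction ψ),
      classInner_sub_left, ha' ψ Λ, ha' ψ Λ', classInner_smul_left, classInner_sub_left,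
      irr_classInner_eq (f Λ).2 ψ.2, irr_classInner_eq (f Λ').2 ψ.2] at h1
    rw [h1]
    congr 2
    · by_cases h : f Λ = ψ
      · rw [if_pos h, if_pos (congrArg Subtype.val h)]
      · rw [if_neg h, if_neg (fun h' => h (Subtype.ext h'))]
    · by_cases h : f Λ' = ψ
      · rw [if_pos h, if_pos (congrArg Subtype.val h)]
      · rw [if_neg h, if_neg (fun h' => h (Subtype.ext h'))]
  -- Fact B
  have hB : ∀ Λ, ∑ ψ ∈ X, a ψ Λ = 1 := by
    intro Λ
    have h1 := classInner_rel_sumX hp hΩ hox hfpf hcent hD Λ.1.1 Λ.1.2 Λ.2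
    have h2 : (fun n : Subgroup.normalizer ((Subgroup.zpowers x : Subgroup L) : Set L) =>
        ∑ ψ ∈ X, (ψ : L → ℂ) n) = ∑ ψ ∈ X, fun n : Subgroup.normalizer
          ((Subgroup.zpowers x : Subgroup L) : Set L) => (ψ : L → ℂ) n := by
      funext n
      rw [Finset.sum_apply]
    rw [h2, classInner_sum_right, Finset.sum_congr rfl fun ψ _ => ha' ψ Λ] at h1
    exact_mod_cast h1
  -- Fact C
  have hC : ∀ ψ ∈ X, (ψ : L → ℂ) 1 = (e : ℂ) * ((∑ Λ, a ψ Λ : ℕ) : ℂ) := by
    intro ψ hψ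
    rw [degree_eq_mul_sum hp hox hcent e he (ψ : L → ℂ) (isCharacter_of_irr ψ.2) (hD.sumP ψ hψ)]
    congr 1
    rw [Nat.cast_sum]
    exact Finset.sum_congr rfl fun Λ _ => ha ψ Λ
  -- uniqueness from Fact B
  have hB0 : ∀ Λ, ∀ ψ ∈ X, ∀ ψ' ∈ X, ψ ≠ ψ' → a ψ Λ ≠ 0 → a ψ' Λ = 0 := by
    intro Λ ψ hψ ψ' hψ' hne h0
    by_contra h1
    have h2 := hB Λ
    have h3 : a ψ Λ + a ψ' Λ ≤ ∑ ψ ∈ X, a ψ Λ := by
      rw [← Finset.sum_pair (f := fun φ => a φ Λ) hne]
      apply Finset.sum_le_sum_of_subset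
      intro z hz
      rcases Finset.mem_insert.mp hz with rfl | hz
      · exact hψ
      · rw [Finset.mem_singleton.mp hz]; exact hψ'
    omega
  have hB1 : ∀ Λ, ∀ ψ ∈ X, a ψ Λ ≤ 1 := by
    intro Λ ψ hψ
    rw [← hB Λ]
    exact Finset.single_le_sum (f := fun ψ => a ψ Λ) (fun _ _ => Nat.zero_le _) hψ
  -- the main argument
  intro ψ hψ
  obtain ⟨ψ', hψ', hne⟩ : ∃ ψ' ∈ X, ψ ≠ ψ' := by
    by_contra hcon
    push Not at hcon
    have : X.card ≤ 1 := Finset.card_le_one.mpr fun u hu v hv => by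
      rw [← hcon u hu, ← hcon v hv]
    omega
  -- each member of `X` has some relevant constituent
  have hex : ∀ φ ∈ X, ∃ Λ, a φ Λ ≠ 0 := by
    intro φ hφ
    by_contra hcon
    push Not at hcon
    have h1 := hC φ hφ
    rw [Finset.sum_congr rfl fun Λ _ => hcon Λ, Finset.sum_const_zero, Nat.cast_zero,
      mul_zero] at h1
    exact Cfsg.Agent.Lib.H24.irr_one_ne_zero φ h1
  obtain ⟨Λ₁, hΛ₁⟩ := hex ψ hψ
  obtain ⟨Λ', hΛ'⟩ := hex ψ' hψ'
  have hone : ∀ φ ∈ X, ∀ Λ, a φ Λ ≠ 0 → a φ Λ = 1 := by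
    intro φ hφ Λ h0
    have := hB1 Λ φ hφ
    omega
  -- at most one relevant constituent
  have huniq : ∀ Λ₂, a ψ Λ₂ ≠ 0 → Λ₂ = Λ₁ := by
    intro Λ₂ hΛ₂
    by_contra hne12
    have e1 := hA ψ Λ₁ Λ'
    have e2 := hA ψ Λ₂ Λ'
    have e3 := hA ψ' Λ' Λ₁
    have e4 := hA ψ' Λ' Λ₂
    rw [hone ψ hψ Λ₁ hΛ₁, hB0 Λ' ψ' hψ' ψ hψ (Ne.symm hne) hΛ'] at e1
    rw [hone ψ hψ Λ₂ hΛ₂, hB0 Λ' ψ' hψ' ψ hψ (Ne.symm hne) hΛ'] at e2
    rw [hone ψ' hψ' Λ' hΛ', hB0 Λ₁ ψ hψ ψ' hψ' hne hΛ₁] at e3
    rw [hone ψ' hψ' Λ' hΛ', hB0 Λ₂ ψ hψ ψ' hψ' hne hΛ₂] at e4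
    rcases hε with rfl | rfl
    · -- `ε = 1`: `f Λ₁ = ψ = f Λ₂`
      have h1 : f Λ₁ = ψ := by
        by_contra h
        rw [if_neg h] at e1
        split_ifs at e1 <;> norm_num at e1
      have h2 : f Λ₂ = ψ := by
        by_contra h
        rw [if_neg h] at e2
        split_ifs at e2 <;> norm_num at e2
      exact hne12 (hfinj (h2.trans h1.symm))
    · -- `ε = -1`: `f Λ₁ = ψ' = f Λ₂`
      have h1 : f Λ₁ = ψ' := by
        by_contra h
        rw [if_neg h] at e3
        split_ifs at e3 <;> norm_num at e3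
      have h2 : f Λ₂ = ψ' := by
        by_contra h
        rw [if_neg h] at e4
        split_ifs at e4 <;> norm_num at e4
      exact hne12 (hfinj (h2.trans h1.symm))
  rw [hC ψ hψ]
  have hsum : ∑ Λ, a ψ Λ = 1 := by
    rw [Finset.sum_eq_single Λ₁]
    · exact hone ψ hψ Λ₁ hΛ₁
    · intro Λ₂ _ h2
      by_contra h0
      exact h2 (huniq Λ₂ h0)
    · intro h
      exact absurd (Finset.mem_univ _) h
  rw [hsum]
  simp

end Main

end Cfsg.Agent.Lib.H21.W2P
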